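import Cfsg.Agent.Lib.Classical.Linear
import Cfsg.Agent.Lib.CharP.Basic

/-!
The automorphism group of a group of order eight and exponent two, and splitting off a centreless
normal section.
-/

set_option autoImplicit false

namespace Cfsg.Agent.LargeExtra.Fischer

open Matrix

/-- The triples over two elements. -/
abbrev V3 := Multiplicative (Fin 3 → ZMod 2)

/-- The action of the special linear group. -/
noncomputable def sl3Aut : SpecialLinearGroup (Fin 3) (ZMod 2) →* MulAut V3 :=
  MonoidHom.mk' (fun A => AddEquiv.toMultiplicative (SpecialLinearGroup.toLin' A).toAddEquiv) fun A B => by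
    refine MulEquiv.ext fun v => ?_
    show Multiplicative.ofAdd (SpecialLinearGroup.toLin' (A * B) v.toAdd) = _
    rw [map_mul]
    rfl

theorem sl3Aut_bijective : Function.Bijective sl3Aut := by
  refine ⟨fun A B h => ?_, fun φ => ?_⟩
  · refine Subtype.ext (Matrix.ext_of_mulVec_single fun i => ?_)
    have h' := congrArg Multiplicative.toAdd (DFunLike.congr_fun h (Multiplicative.ofAdd (Pi.single i 1)))
    exact h'
  · let f : (Fin 3 → ZMod 2) →+ (Fin 3 → ZMod 2) :=
      AddMonoidHom.mk' (fun v => (φ (Multiplicative.ofAdd v)).toAdd) fun u v => by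
        rw [ofAdd_add, map_mul, toAdd_mul]
    let l : (Fin 3 → ZMod 2) →ₗ[ZMod 2] (Fin 3 → ZMod 2) := f.toZModLinearMap 2
    set A := LinearMap.toMatrix' l with hA
    have hl : ∀ v, A *ᵥ v = (φ (Multiplicative.ofAdd v)).toAdd := fun v => LinearMap.toMatrix'_mulVec l v
    have hinj : Function.Injective fun v => A *ᵥ v := fun u v h => by
      simp only [hl] at h
      exact Multiplicative.ofAdd.injective (φ.injective (Multiplicative.toAdd.injective h))
    have hdet : A.det = 1 := by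
      have h0 : A.det ≠ 0 := fun h0 => by
        obtain ⟨v, hv, hv0⟩ := Matrix.exists_mulVec_eq_zero_iff.2 h0
        exact hv (hinj (by simpa using hv0))
      revert h0
      generalize A.det = d
      revert d
      decide
    refine ⟨⟨A, hdet⟩, MulEquiv.ext fun v => ?_⟩
    show Multiplicative.ofAdd (A *ᵥ v.toAdd) = φ v
    rw [hl]
    rfl

theorem zmod2_cube : ∀ r : ZMod 2, r ^ 3 = 1 → r = 1 := by decide

theorem sl3_simple : IsSimpleGroup (SpecialLinearGroup (Fin 3) (ZMod 2)) := by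
  haveI : Fact (Nat.Prime 2) := ⟨Nat.prime_two⟩
  have h := Cfsg.Agent.Classical.Linear.isSimpleGroup_PSL (n := Fin 3) (F := ZMod 2) (by simp)
  have hc : Subgroup.center (SpecialLinearGroup (Fin 3) (ZMod 2)) = ⊥ := by
    refine (Subgroup.eq_bot_iff_forall _).2 fun A hA => ?_
    obtain ⟨r, hr, hA'⟩ := Matrix.SpecialLinearGroup.mem_center_iff.1 hA
    refine Subtype.ext (hA'.symm.trans ?_)
    rw [show r = 1 from zmod2_cube r (by simpa using hr)]
    simp
  exact ((QuotientGroup.quotientMulEquivOfEq hc).trans QuotientGroup.quotientBot).symm.isSimpleGroup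

/-- A group of order eight and exponent two. -/
theorem equiv_V3 {P : Type*} [Group P] [Finite P] (hc : Nat.card P = 8) (hsq : ∀ x : P, x * x = 1) :
    Nonempty (P ≃* V3) := by
  haveI : Fact (Nat.Prime 2) := ⟨Nat.prime_two⟩
  have hcomm : ∀ a b : P, a * b = b * a := fun a b => by
    calc a * b = (a * b)⁻¹ := eq_inv_of_mul_eq_one_left (hsq _)
      _ = b⁻¹ * a⁻¹ := _root_.mul_inv_rev a b
      _ = b * a := by rw [inv_eq_of_mul_eq_one_right (hsq a), inv_eq_of_mul_eq_one_right (hsq b)]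
  letI : CommGroup P := { (inferInstance : Group P) with mul_comm := hcomm }
  letI : Module (ZMod 2) (Additive P) := AddCommGroup.zmodModule (n := 2) fun x => by
    rw [two_nsmul]; exact congrArg Additive.ofMul (hsq x.toMul)
  have hr : Module.finrank (ZMod 2) (Additive P) = 3 := by
    have h : Nat.card (Additive P) = Nat.card (ZMod 2) ^ Module.finrank (ZMod 2) (Additive P) := Module.natCard_eq_pow_finrank
    rw [Nat.card_congr Additive.toMul, hc, Nat.card_zmod, show 8 = 2 ^ 3 from rfl] at h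
    exact (Nat.pow_right_injective le_rfl h).symm
  let b := (Module.finBasisOfFinrankEq (ZMod 2) (Additive P) hr).equivFun.toAddEquiv
  exact ⟨{ toFun := fun p => Multiplicative.ofAdd (b (Additive.ofMul p))
           invFun := fun v => (b.symm v.toAdd).toMul
           left_inv := fun p => by simp
           right_inv := fun v => by simp
           map_mul' := fun p q => by rw [← ofAdd_add, ← map_add]; rfl }⟩

/-- Splitting off a centreless section on which everything acts by inner automorphisms. -/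
theorem split_quotient {L P A : Type*} [Group L] [Group P] [Group A] [IsSimpleGroup P] (ρ : L →* P)
    (hρ : Function.Surjective ρ) (θ : ρ.ker →* A) (hθ : Function.Surjective θ)
    (hA : Subgroup.center A = ⊥) (R : Subgroup L) [R.Normal]
    (hR : ∀ l, l ∈ R ↔ ∃ h : l ∈ ρ.ker, θ ⟨l, h⟩ = 1)
    (q : L) (hq : ρ q ≠ 1) (hqR : ∀ c ∈ ρ.ker, q * c * q⁻¹ * c⁻¹ ∈ R) :
    Nonempty (L ⧸ R ≃* P × A) := by
  have hRker : ∀ r ∈ R, r ∈ ρ.ker := fun r hr => ((hR r).1 hr).1
  -- the elements inducing inner automorphisms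
  let K : ρ.ker →* L := ρ.ker.subtype
  let W : Subgroup L :=
    { carrier := {l | ∃ a : A, ∀ c : ρ.ker, θ (MulAut.conjNormal l c) = a * θ c * a⁻¹}
      one_mem' := ⟨1, fun c => by simp⟩
      mul_mem' := fun ⟨a, ha⟩ ⟨b, hb⟩ => ⟨a * b, fun c => by
        rw [map_mul, MulAut.mul_apply, ha, hb]; group⟩
      inv_mem' := fun {l} ⟨a, ha⟩ => ⟨a⁻¹, fun c => by
        have h := ha (MulAut.conjNormal l⁻¹ c)
        rw [← MulAut.mul_apply, ← map_mul, mul_inv_cancel, map_one, MulAut.one_apply] at h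
        rw [h]; group⟩ }
  have hθc : ∀ d c : ρ.ker, θ (MulAut.conjNormal (d : L) c) = θ d * θ c * (θ d)⁻¹ := fun d c => by
    rw [← map_inv, ← map_mul, ← map_mul]
    congr 1
  haveI : W.Normal := ⟨fun w ⟨a, ha⟩ l => by
    -- conjugates
    obtain ⟨d, hd⟩ := hθ a
    refine ⟨θ (MulAut.conjNormal l d), fun c => ?_⟩
    rw [map_mul, map_mul, MulAut.mul_apply, MulAut.mul_apply]
    set c' := MulAut.conjNormal l⁻¹ c
    have h1 : θ (MulAut.conjNormal w c') = θ (MulAut.conjNormal (d : L) c') := by rw [ha, hθc, hd]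
    have h2 : ∀ u v : ρ.ker, θ u = θ v → θ (MulAut.conjNormal l u) = θ (MulAut.conjNormal l v) := by
      intro u v huv
      have hr : ((u⁻¹ * v : ρ.ker) : L) ∈ R := (hR _).2 ⟨(u⁻¹ * v).2, by
        show θ (u⁻¹ * v) = 1
        rw [map_mul, map_inv, huv, inv_mul_cancel]⟩
      obtain ⟨h, he⟩ := (hR _).1 ((inferInstance : R.Normal).conj_mem _ hr l)
      have : θ (MulAut.conjNormal l (u⁻¹ * v)) = 1 := by
        rw [← he]; congr 1
      rwa [map_mul, map_inv, map_mul, map_inv, inv_mul_eq_one] at this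
    rw [h2 _ _ h1, ← hθc]
    congr 1
    refine Subtype.ext ?_
    simp only [c', MulAut.conjNormal_apply, inv_inv]
    group⟩
  have hkW : ρ.ker ≤ W := fun d hd => ⟨θ ⟨d, hd⟩, fun c => hθc ⟨d, hd⟩ c⟩
  have hqW : q ∈ W := ⟨1, fun c => by
    rw [one_mul, inv_one, mul_one]
    obtain ⟨h, he⟩ := (hR _).1 (hqR c c.2)
    have : θ (MulAut.conjNormal q c * c⁻¹) = 1 := by rw [← he]; congr 1
    rwa [map_mul, map_inv, mul_inv_eq_one] at this⟩
  have hW : W = ⊤ := by
    rcases IsSimpleGroup.eq_bot_or_eq_top_of_normal (W.map ρ) (Subgroup.Normal.map inferInstance ρ hρ) with h | h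
    · exact absurd (Subgroup.mem_bot.1 (h ▸ ⟨q, hqW, rfl⟩ : ρ q ∈ (⊥ : Subgroup P))) hq
    · refine eq_top_iff.2 fun l _ => ?_
      obtain ⟨w, hw, he⟩ : ρ l ∈ W.map ρ := h ▸ Subgroup.mem_top _
      have : w⁻¹ * l ∈ W := hkW (by rw [MonoidHom.mem_ker, map_mul, map_inv, he, inv_mul_cancel])
      simpa using W.mul_mem hw this
  have hall : ∀ l, ∃ a : A, ∀ c : ρ.ker, θ (MulAut.conjNormal l c) = a * θ c * a⁻¹ := fun l =>
    (hW ▸ Subgroup.mem_top l : l ∈ W)
  have huniq : ∀ (l : L) (a b : A), (∀ c : ρ.ker, θ (MulAut.conjNormal l c) = a * θ c * a⁻¹) →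
      (∀ c : ρ.ker, θ (MulAut.conjNormal l c) = b * θ c * b⁻¹) → a = b := by
    intro l a b ha hb
    have hc : b⁻¹ * a ∈ Subgroup.center A := Subgroup.mem_center_iff.2 fun x => by
      obtain ⟨c, rfl⟩ := hθ x
      have e := (ha c).symm.trans (hb c)
      calc θ c * (b⁻¹ * a) = b⁻¹ * (b * θ c * b⁻¹) * a := by group
        _ = b⁻¹ * (a * θ c * a⁻¹) * a := by rw [e]
        _ = b⁻¹ * a * θ c := by group
    rw [hA, Subgroup.mem_bot, inv_mul_eq_one] at hc
    exact hc.symm
  choose α hα using hall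
  let αh : L →* A := MonoidHom.mk' α fun l m => huniq _ _ _ (hα _) fun c => by
    rw [map_mul, MulAut.mul_apply, hα, hα]; group
  have hαker : ∀ c : ρ.ker, α c = θ c := fun c => huniq _ _ _ (hα c) (hθc c)
  have hker : (ρ.prod αh).ker = R := by
    ext l
    rw [MonoidHom.mem_ker, MonoidHom.prod_apply, Prod.mk_eq_one, hR]
    exact ⟨fun ⟨h1, h2⟩ => ⟨h1, (hαker ⟨l, h1⟩).symm.trans h2⟩, fun ⟨h1, h2⟩ => ⟨h1, (hαker ⟨l, h1⟩).trans h2⟩⟩
  have hsurj : Function.Surjective (ρ.prod αh) := by
    rintro ⟨p, a⟩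
    obtain ⟨l, rfl⟩ := hρ p
    obtain ⟨c, hc⟩ := hθ (a * (α l)⁻¹)
    refine ⟨c * l, Prod.ext ?_ ?_⟩
    · show ρ (c * l) = ρ l
      rw [map_mul, MonoidHom.mem_ker.1 c.2, one_mul]
    · show αh (c * l) = a
      rw [map_mul, show αh c = θ c from hαker c, hc]
      exact inv_mul_cancel_right a (α l)
  exact ⟨(QuotientGroup.quotientMulEquivOfEq hker.symm).trans (QuotientGroup.quotientKerEquivOfSurjective _ hsurj)⟩

end Cfsg.Agent.LargeExtra.Fischer
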