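import Cfsg.Agent.Lib.LargeExtra.Fischer.OuterKernel
import Cfsg.Agent.S5402
import Cfsg.Agent.Lib.ThreeTransp.U62Class.Type

/-!
An extension of index two of a group of large Fischer type: an outer involution whose centralizer is of
type M(23).
-/

set_option autoImplicit false
set_option linter.style.haveILetI false

namespace Cfsg.Agent.LargeExtra.Fischer

open Cfsg.Agent.InvChar.Coset
open Cfsg.Agent.Components.UnitarySix
open Cfsg.Agent.MonsterOrbits (bigQ mem_bigQ ctr_bigQ mem_center_iff')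
open Cfsg.Agent.LargeExtra.PairGraph (Pg Pg_conj IsMathieuSub mathieu)
open scoped commutatorElement

variable {X : Type*} [Group X] [Finite X] {G₀ : Subgroup X} [G₀.Normal] {z : ↥G₀} {Q : Subgroup (Cz z)} [Q.Normal]

/-- An element outside fixing the central involution. -/
theorem exists_outer_z (hidx : G₀.index = 2) (hF : Cfsg.IsOfLargeFischerTypeAt z Q)
    (hcentral : ∃ P : Sylow 2 ↥G₀, z ∈ (P : Subgroup ↥G₀) ∧ ∀ x ∈ (P : Subgroup ↥G₀), Commute x z) :
    ∃ x : X, x ∉ G₀ ∧ MulAut.conjNormal x z = z := by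
  classical
  haveI : Fact (Nat.Prime 2) := ⟨Nat.prime_two⟩
  obtain ⟨M, ⟨F⟩⟩ := exists_frame hF
  have hS := hF.1
  obtain ⟨P, hzP, hPz⟩ := hcentral
  obtain ⟨x0, hx0⟩ : ∃ x0 : X, x0 ∉ G₀ := by
    by_contra h
    push Not at h
    rw [(G₀.eq_top_iff').2 h, Subgroup.index_top] at hidx
    exact absurd hidx (by norm_num)
  set σ : MulAut ↥G₀ := MulAut.conjNormal x0
  set PS : Subgroup ↥G₀ := (P : Subgroup ↥G₀).map σ.toMonoidHom
  obtain ⟨R, hR⟩ := (P.isPGroup'.map σ.toMonoidHom).exists_le_sylow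
  obtain ⟨c, hc⟩ := MulAction.exists_smul_eq ↥G₀ R P
  have hin : ∀ p ∈ (P : Subgroup ↥G₀), c * σ p * c⁻¹ ∈ (P : Subgroup ↥G₀) := fun p hp => by
    rw [← hc]
    exact ⟨σ p, hR ⟨p, hp, rfl⟩, rfl⟩
  have hsurj : ∀ q ∈ (P : Subgroup ↥G₀), ∃ p ∈ (P : Subgroup ↥G₀), c * σ p * c⁻¹ = q := by
    have e : (P : Subgroup ↥G₀).map ((MulAut.conj c).toMonoidHom.comp σ.toMonoidHom) = P :=
      Subgroup.eq_of_le_of_card_ge (by rintro _ ⟨p, hp, rfl⟩; exact hin p hp) (by
        rw [Subgroup.card_map_of_injective (f := (MulAut.conj c).toMonoidHom.comp σ.toMonoidHom)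
          ((MulAut.conj c).injective.comp σ.injective)])
    intro q hq
    rw [← e] at hq
    exact hq
  set y : ↥G₀ := c * σ z * c⁻¹ with hy
  have hyP : ∀ q ∈ (P : Subgroup ↥G₀), Commute q y := fun q hq => by
    obtain ⟨p, hp, rfl⟩ := hsurj q hq
    exact ((hPz p hp).map σ.toMonoidHom).map (MulAut.conj c).toMonoidHom
  have hyz : y ∈ Cz z := Subgroup.mem_centralizer_singleton_iff.2 (hyP z hzP).eq.symm
  have hPC : (P : Subgroup ↥G₀) ≤ Cz z := fun p hp => Subgroup.mem_centralizer_singleton_iff.2 (hPz p hp).eq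
  have hQ2 : IsPGroup 2 Q := IsPGroup.of_card hS.2.2.2.1
  have hQP : ∀ q : Q, inQ Q q ∈ (P : Subgroup ↥G₀) := by
    intro q
    have h2 : IsPGroup 2 ↥(Q ⊔ (P : Subgroup ↥G₀).subgroupOf (Cz z)) :=
      hQ2.to_sup_of_normal_left (P.isPGroup'.of_equiv (Subgroup.subgroupOfEquivOfLe hPC).symm)
    have e := P.is_maximal' (h2.map (Cz z).subtype) (fun p hp =>
      ⟨⟨p, hPC hp⟩, Subgroup.mem_sup_right (Subgroup.mem_subgroupOf.2 hp), rfl⟩)
    rw [← e]
    exact ⟨q, Subgroup.mem_sup_left q.2, rfl⟩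
  set yc : Cz z := ⟨y, hyz⟩
  have hyQ : yc ∈ Q := (F.ker yc).1 (Equiv.ext fun v => by
    obtain ⟨q, rfl⟩ := F.surj v
    rw [← F.conj]
    refine congrArg F.φ (inQ_injective ?_)
    show ((MulAut.conjNormal yc q : Cz z) : ↥G₀) = _
    rw [MulAut.conjNormal_apply]
    show y * inQ Q q * y⁻¹ = inQ Q q
    rw [← (hyP _ (hQP q)).eq, mul_inv_cancel_right])
  have hcen : (⟨yc, hyQ⟩ : Q) ∈ Subgroup.center Q :=
    Subgroup.mem_center_iff.2 fun q => inQ_injective (by rw [map_mul, map_mul]; exact (hyP _ (hQP q)).eq)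
  have hyz' : y = z := ((mem_center_iff' hS).1 hcen).resolve_left fun e =>
    (ctr_bigQ hS).ne_one (σ.map_eq_one_iff.1 (conj_eq_one_iff.1 (e : y = 1)))
  refine ⟨(c : X) * x0, fun h => hx0 ?_, ?_⟩
  · have := G₀.mul_mem (G₀.inv_mem c.2) h
    rwa [inv_mul_cancel_left] at this
  · refine Subtype.ext ?_
    rw [MulAut.conjNormal_apply]
    conv_rhs => rw [← hyz', hy]
    show (c : X) * x0 * (z : X) * ((c : X) * x0)⁻¹ = (c : X) * ((σ z : ↥G₀) : X) * (c : X)⁻¹
    rw [show ((σ z : ↥G₀) : X) = x0 * (z : X) * x0⁻¹ from MulAut.conjNormal_apply _ _]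
    group

/-- The extraspecial group is invariant under the centralizer in the large group. -/
theorem bigQ_invariant (hFX : (Cfsg.generalizedFittingSubgroup ↥(Subgroup.centralizer ({(z : X)} : Set X))).map
      (Subgroup.subtype _) = ((Q.map (Subgroup.subtype _)).map G₀.subtype))
    {x : X} (hx : MulAut.conjNormal x z = z) (q : Q) : ∃ r : Q, inQ Q r = MulAut.conjNormal x (inQ Q q) := by
  have hxz : x ∈ Subgroup.centralizer ({(z : X)} : Set X) := Subgroup.mem_centralizer_singleton_iff.2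
    (mul_inv_eq_iff_eq_mul.1 ((MulAut.conjNormal_apply x z).symm.trans (congrArg Subtype.val hx)))
  have hq : ((inQ Q q : ↥G₀) : X) ∈ (Q.map (Subgroup.subtype _)).map G₀.subtype :=
    ⟨_, ⟨q, q.2, rfl⟩, rfl⟩
  rw [← hFX] at hq
  obtain ⟨a, ha, e⟩ := hq
  have hm : (⟨x, hxz⟩ * a * ⟨x, hxz⟩⁻¹ : Subgroup.centralizer ({(z : X)} : Set X)) ∈
      Cfsg.generalizedFittingSubgroup _ := (inferInstance :
        (Cfsg.generalizedFittingSubgroup ↥(Subgroup.centralizer ({(z : X)} : Set X))).Normal).conj_mem a ha _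
  have hm' : x * ((inQ Q q : ↥G₀) : X) * x⁻¹ ∈ (Q.map (Subgroup.subtype _)).map G₀.subtype := by
    rw [← hFX]
    refine ⟨_, hm, ?_⟩
    show x * (a : X) * x⁻¹ = _
    rw [show (a : X) = ((inQ Q q : ↥G₀) : X) from e]
  obtain ⟨w, ⟨r, hr, rfl⟩, e'⟩ := hm'
  exact ⟨⟨r, hr⟩, Subtype.ext ((show ((r : ↥G₀) : X) = _ from e').trans (MulAut.conjNormal_apply _ _).symm)⟩

/-- A point orthogonal to a given one and to the first, with the line of its multiples. -/
def Mid (v w : V) : Prop := InO FF.w w ∧ H w e01 = 0 ∧ trH v w = 0 ∧ trH v (FF.w • w) = 0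

instance (v w : V) : Decidable (Mid v w) := inferInstanceAs (Decidable (_ ∧ _))

set_option maxHeartbeats 0 in
theorem mid_coords : ∀ a b c p q r : FF, InO FF.w ![a, b, c, p, q, r] → ∃ i : Fin 6, ∃ j : Fin 6, ∃ l : FF, ∃ m : FF,
    Mid ![a, b, c, p, q, r] (l • e i + m • e j) := by decide +kernel

theorem mid_exists (v : V) (h : InO FF.w v) : ∃ i : Fin 6, ∃ j : Fin 6, ∃ l : FF, ∃ m : FF,
    Mid v (l • e i + m • e j) := by
  have e0 : v = ![v 0, v 1, v 2, v 3, v 4, v 5] := by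
    funext k; fin_cases k <;> rfl
  rw [e0] at h ⊢
  exact mid_coords _ _ _ _ _ _ h

/-- Facts on the outer involution with a first member of its centralizer and a second one. -/
structure OuterData (z : ↥G₀) (d : X) (t g : ↥(G₀ ⊓ Subgroup.centralizer ({d} : Set X))) : Prop where
  shift : ∃ q : ↥G₀, (q : X) * d * (q : X)⁻¹ = d * ((t : X))
  not_conj : ¬ IsConj z ⟨(t : X), t.2.1⟩
  not_conj_pair : ¬ IsConj z ⟨((t * (g * t * g⁻¹) : ↥(G₀ ⊓ Subgroup.centralizer ({d} : Set X))) : X),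
    (t * (g * t * g⁻¹)).2.1⟩
  fix : ∀ k : ↥G₀, Commute (k : X) (t : X) →
    (k : X) * d * (k : X)⁻¹ = d ∨ (k : X) * d * (k : X)⁻¹ = d * (t : X)
  large : ∃ A : Subgroup ↥G₀, IsMathieuSub z A ∧ (∀ a ∈ A, Commute d (a : X)) ∧
    ⟨(t : X), t.2.1⟩ ∈ A ∧ ⟨((g * t * g⁻¹ : ↥(G₀ ⊓ Subgroup.centralizer ({d} : Set X))) : X),
      (g * t * g⁻¹).2.1⟩ ∈ A
  link : ∀ c ∈ Cz z, ∃ c' ∈ Cz z, Commute d ((c' : X) * (t : X) * (c' : X)⁻¹) ∧
    Commute ((c' : X) * d * (c' : X)⁻¹) ((c : X) * (t : X) * (c : X)⁻¹)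

set_option maxHeartbeats 2000000 in
/-- The outer involution with all that is known of it. -/
theorem exists_outer_full (hidx : G₀.index = 2) (hF : Cfsg.IsOfLargeFischerTypeAt z Q)
    (hcentral : ∃ P : Sylow 2 ↥G₀, z ∈ (P : Subgroup ↥G₀) ∧ ∀ x ∈ (P : Subgroup ↥G₀), Commute x z)
    (hFX : (Cfsg.generalizedFittingSubgroup ↥(Subgroup.centralizer ({(z : X)} : Set X))).map
      (Subgroup.subtype _) = ((Q.map (Subgroup.subtype _)).map G₀.subtype)) :
    ∃ d : X, orderOf d = 2 ∧ d ∉ G₀ ∧ Commute d (z : X) ∧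
      ∃ t : ↥(G₀ ⊓ Subgroup.centralizer ({d} : Set X)), orderOf t = 2 ∧
        Cfsg.IsQuasisimple ↥(Subgroup.centralizer ({t} : Set ↥(G₀ ⊓ Subgroup.centralizer ({d} : Set X)))) ∧
        (∃ _ : ((Subgroup.zpowers t).subgroupOf
            (Subgroup.centralizer ({t} : Set ↥(G₀ ⊓ Subgroup.centralizer ({d} : Set X))))).Normal,
          HasUnitaryInvolution (↥(Subgroup.centralizer ({t} : Set ↥(G₀ ⊓ Subgroup.centralizer ({d} : Set X)))) ⧸
            (Subgroup.zpowers t).subgroupOf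
              (Subgroup.centralizer ({t} : Set ↥(G₀ ⊓ Subgroup.centralizer ({d} : Set X)))))) ∧
        ∃ g : ↥(G₀ ⊓ Subgroup.centralizer ({d} : Set X)),
          g * t * g⁻¹ ∈ Subgroup.centralizer ({t} : Set ↥(G₀ ⊓ Subgroup.centralizer ({d} : Set X))) ∧
            g * t * g⁻¹ ≠ t ∧ OuterData z d t g := by
  classical
  obtain ⟨M, F, x, S, dM⟩ := exists_setup hF
  have hS := hF.1
  obtain ⟨W⟩ := exists_four F
  obtain ⟨I⟩ := W.exists_inner hS S dM
  have D := I.fi22Data hS S dM fun T => (thompson_mathieu hF T).1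
  obtain ⟨htt, huu, htu⟩ := W.sq hS
  obtain ⟨⟨htA, huA⟩, ⟨htne, htz⟩, hune, -⟩ := W.mem_AG hS S
  set t := inQ Q W.t
  set u := inQ Q W.u
  have hTT : t * t = 1 := by rw [← map_mul, htt, map_one]
  have hUU : u * u = 1 := by rw [← map_mul, huu, map_one]
  have hut : u ≠ t := fun e => line_distinct.2.2.2.1 (by
    rw [← W.hu, ← W.ht, (inQ_injective e : W.u = W.t)])
  have htK : t ∈ I.K := I.t_mem_K hS
  have hzK : z ∈ I.K := I.hC (W.z_mem_C hS)
  -- an element outside fixing both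
  obtain ⟨x1, hx1, hx1z⟩ := exists_outer_z hidx hF hcentral
  obtain ⟨t', ht'⟩ := bigQ_invariant hFX hx1z W.t
  have hI' : InO FF.w (F.φ t') := by
    refine InO_of_not_conj hS F (orderOf_eq_prime ?_ fun e => htne ?_) fun h => htz ?_
    · refine Subtype.ext (show inQ Q t' ^ 2 = 1 from ?_)
      rw [ht', ← map_pow, pow_two, hTT, map_one]
    · have e' : inQ Q t' = 1 := congrArg Subtype.val e
      rw [ht'] at e'
      exact (MulAut.conjNormal x1).map_eq_one_iff.1 e'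
    · obtain ⟨g, hg⟩ := isConj_iff.1 h
      rw [ht'] at hg
      refine isConj_iff.2 ⟨(MulAut.conjNormal x1 : MulAut ↥G₀).symm g, (MulAut.conjNormal x1).injective ?_⟩
      rw [map_mul, map_mul, map_inv, MulEquiv.apply_symm_apply, hx1z]
      exact hg
  obtain ⟨c1, hc1⟩ := conj_of_kind hS F (a := W.t) (b := t') (Or.inl ⟨W.ht ▸ e01_InO, hI'⟩)
  have hc1' : (c1 : ↥G₀) * t * (c1 : ↥G₀)⁻¹ = inQ Q t' := congrArg Subtype.val hc1
  set g : X := ((c1 : ↥G₀) : X)⁻¹ * x1 with hg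
  have hgG : g ∉ G₀ := fun h => hx1 (by
    have := G₀.mul_mem (c1 : ↥G₀).2 h
    rwa [hg, mul_inv_cancel_left] at this)
  have hτ : ∀ y : ↥G₀, (MulAut.conjNormal g : MulAut ↥G₀) y =
      (c1 : ↥G₀)⁻¹ * MulAut.conjNormal x1 y * (c1 : ↥G₀) := fun y => by
    refine Subtype.ext ?_
    push_cast [MulAut.conjNormal_apply]
    rw [hg]; group
  set τ : MulAut ↥G₀ := MulAut.conjNormal g
  have hτt : τ t = t := by
    rw [hτ, ← ht', ← hc1']; group
  have hτz : τ z = z := by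
    rw [hτ, hx1z, mul_assoc, ← Subgroup.mem_centralizer_singleton_iff.1 c1.2, inv_mul_cancel_left]
  -- realised on the subgroup of index two
  set L := W.L
  have hL : L.map τ.toMonoidHom = L := by
    ext y
    obtain ⟨a, rfl⟩ := τ.surjective y
    rw [Subgroup.mem_map_equiv, τ.symm_apply_apply, W.mem_L, W.mem_L]
    show a * t = t * a ↔ τ a * t = t * τ a
    conv_rhs => rw [← hτt, ← map_mul, ← map_mul, τ.injective.eq_iff]
  let σL : MulAut L := (τ.subgroupMap L).trans (MulEquiv.subgroupCongr hL)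
  have hK0 : I.K0.map σL.toMonoidHom = I.K0 := by
    rw [← D.commutator_eq]
    exact Subgroup.characteristic_iff_map_eq.1 inferInstance σL
  let σK : MulAut I.K0 := (σL.subgroupMap I.K0).trans (MulEquiv.subgroupCongr hK0)
  have hσK : ∀ k : I.K0, (((σK k : I.K0) : L) : ↥G₀) = τ ((k : L) : ↥G₀) := fun k => rfl
  have hT0 : (I.T0 hS).map σK.toMonoidHom = I.T0 hS := by
    rw [Inner.T0, MonoidHom.map_zpowers]
    congr 1
    exact Subtype.ext (Subtype.ext ((hσK _).trans hτt))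
  obtain ⟨l, hl⟩ := D.realise (QuotientGroup.congr _ _ σK hT0)
  set d : X := ((l : ↥G₀) : X)⁻¹ * g with hd
  have hdG : d ∉ G₀ := fun h => hgG (by
    have := G₀.mul_mem (l : ↥G₀).2 h
    rwa [hd, mul_inv_cancel_left] at this)
  set δ : MulAut ↥G₀ := MulAut.conjNormal d
  have hδ : ∀ y : ↥G₀, δ y = (l : ↥G₀)⁻¹ * τ y * (l : ↥G₀) := fun y => by
    refine Subtype.ext ?_
    show ((MulAut.conjNormal d y : ↥G₀) : X) = ((l : ↥G₀) : X)⁻¹ * ((MulAut.conjNormal g y : ↥G₀) : X) * _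
    rw [MulAut.conjNormal_apply, MulAut.conjNormal_apply, hd]; group
  have hmod : ∀ k : I.K0, ((k : L) : ↥G₀)⁻¹ * δ ((k : L) : ↥G₀) ∈ Subgroup.zpowers t := fun k => by
    have h := QuotientGroup.eq.1 ((hl k).symm)
    obtain ⟨j, hj⟩ := h
    have hj' := congrArg (fun w : I.K0 => ((w : L) : ↥G₀)) hj
    simp only [SubgroupClass.coe_zpow, Subgroup.coe_mul, InvMemClass.coe_inv] at hj'
    refine ⟨j, ?_⟩
    have ht0 : (l : ↥G₀) * t = t * (l : ↥G₀) := W.mem_L.1 l.2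
    rw [show (((MulAut.conjNormal l k : I.K0) : L) : ↥G₀) = (l : ↥G₀) * ((k : L) : ↥G₀) * (l : ↥G₀)⁻¹ by
      rw [MulAut.conjNormal_apply]; rfl] at hj'
    replace hj' : t ^ j = ((l : ↥G₀) * ((k : L) : ↥G₀) * (l : ↥G₀)⁻¹)⁻¹ * τ ((k : L) : ↥G₀) := hj'
    show t ^ j = _
    rw [hδ]
    calc t ^ j = (l : ↥G₀)⁻¹ * (l : ↥G₀) * t ^ j := by group
      _ = (l : ↥G₀)⁻¹ * (t ^ j * (l : ↥G₀)) := by rw [mul_assoc, (show Commute (l : ↥G₀) t from ht0).zpow_right j]
      _ = _ := by rw [hj']; group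
  have hzt : ∀ y ∈ Subgroup.zpowers t, y = 1 ∨ y = t := by
    rintro _ ⟨k, rfl⟩
    have h2 : t ^ (2 : ℤ) = 1 := by rw [zpow_two, hTT]
    rcases Int.even_or_odd' k with ⟨j, rfl | rfl⟩
    · exact Or.inl (by show t ^ (2 * j) = 1; rw [zpow_mul, h2, one_zpow])
    · exact Or.inr (by show t ^ (2 * j + 1) = t; rw [zpow_add_one, zpow_mul, h2, one_zpow, one_mul])
  have hδK : ∀ k ∈ I.K, δ k = k := by
    let χ : I.K0 →* Subgroup.zpowers t := MonoidHom.mk' (fun k => ⟨_, hmod k⟩) fun a b => Subtype.ext (by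
      show (((a : L) : ↥G₀) * ((b : L) : ↥G₀))⁻¹ * δ (((a : L) : ↥G₀) * ((b : L) : ↥G₀)) = _
      have hc : ((b : L) : ↥G₀) * (((a : L) : ↥G₀)⁻¹ * δ ((a : L) : ↥G₀)) =
          ((a : L) : ↥G₀)⁻¹ * δ ((a : L) : ↥G₀) * ((b : L) : ↥G₀) := by
        rcases hzt _ (hmod a) with e | e <;> rw [e]
        · rw [one_mul, mul_one]
        · exact W.mem_L.1 b.1.2
      calc (((a : L) : ↥G₀) * ((b : L) : ↥G₀))⁻¹ * δ (((a : L) : ↥G₀) * ((b : L) : ↥G₀))
          = ((b : L) : ↥G₀)⁻¹ * (((a : L) : ↥G₀)⁻¹ * δ ((a : L) : ↥G₀) * ((b : L) : ↥G₀)) *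
              (((b : L) : ↥G₀)⁻¹ * δ ((b : L) : ↥G₀)) := by rw [map_mul]; group
        _ = _ := by rw [← hc, inv_mul_cancel_left]; rfl)
    intro k hk
    haveI := D.qs.1
    let kK : I.K0 := ⟨⟨k, I.le hk⟩, Subgroup.mem_subgroupOf.2 hk⟩
    have h : commutator I.K0 ≤ χ.ker := by
      rw [_root_.commutator_def, Subgroup.commutator_le]
      intro a _ b _
      rw [MonoidHom.mem_ker, map_commutatorElement, commutatorElement_eq_one_iff_mul_comm]
      exact mul_comm' _ _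
    exact (inv_mul_eq_one.1 (congrArg Subtype.val (MonoidHom.mem_ker.1
      (h ((Group.IsPerfect.commutator_eq_top (G := I.K0)).ge (Subgroup.mem_top kK)))))).symm
  -- the conjugate
  obtain ⟨c, hc⟩ := conj_of_kind hS F (a := W.t) (b := W.u)
    (Or.inl ⟨W.ht ▸ e01_InO, W.hu ▸ line_InO _ (by decide)⟩)
  have hcu : (c : ↥G₀) * t * (c : ↥G₀)⁻¹ = u := congrArg Subtype.val hc
  set dU : X := ((c : ↥G₀) : X) * d * ((c : ↥G₀) : X)⁻¹
  set δU : MulAut ↥G₀ := MulAut.conjNormal dU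
  have hδU : ∀ y : ↥G₀, δU y = (c : ↥G₀) * δ ((c : ↥G₀)⁻¹ * y * (c : ↥G₀)) * (c : ↥G₀)⁻¹ := fun y => by
    refine Subtype.ext ((MulAut.conjNormal_apply dU y).trans ?_)
    show _ = ((c : ↥G₀) : X) * ((δ ((c : ↥G₀)⁻¹ * y * (c : ↥G₀)) : ↥G₀) : X) * ((c : ↥G₀) : X)⁻¹
    rw [show ∀ w : ↥G₀, ((δ w : ↥G₀) : X) = d * (w : X) * d⁻¹ from fun w => MulAut.conjNormal_apply _ _]
    push_cast
    simp only [dU]
    group
  have hcC : ∀ y ∈ W.C, (c : ↥G₀)⁻¹ * y * (c : ↥G₀) ∈ I.K := fun y hy => by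
    have hyL : ∀ y ∈ W.C, (c : ↥G₀)⁻¹ * y * (c : ↥G₀) ∈ L := fun y hy => W.mem_L.2 (by
      show (c : ↥G₀)⁻¹ * y * c * t = t * ((c : ↥G₀)⁻¹ * y * c)
      calc (c : ↥G₀)⁻¹ * y * c * t = (c : ↥G₀)⁻¹ * (y * ((c : ↥G₀) * t * (c : ↥G₀)⁻¹)) * c := by group
        _ = (c : ↥G₀)⁻¹ * (u * y) * c := by rw [hcu, ((W.mem_C hS).1 hy).2]
        _ = _ := by rw [← hcu]; group)
    obtain ⟨m, hm, hmne, hmz⟩ := W.exists_mover hS S dM
    haveI := (W.quasisimple hS hm hmne hmz).1.1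
    let η : W.C →* L := MonoidHom.mk' (fun y => ⟨_, hyL y y.2⟩) fun a b => Subtype.ext (by
      show (c : ↥G₀)⁻¹ * (a * b : W.C) * c = (c : ↥G₀)⁻¹ * a * c * ((c : ↥G₀)⁻¹ * b * c)
      push_cast; group)
    have h : η ⟨y, hy⟩ ∈ (commutator W.C).map η :=
      ⟨_, (Group.IsPerfect.commutator_eq_top (G := W.C)).ge (Subgroup.mem_top _), rfl⟩
    rw [_root_.commutator_def, Subgroup.map_commutator] at h
    exact Subgroup.mem_subgroupOf.1 (D.commutator_eq.le (Subgroup.commutator_mono le_top le_top h))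
  have hδUC : ∀ y ∈ W.C, δU y = y := fun y hy => by rw [hδU, hδK _ (hcC y hy)]; group
  have hidx' : ∀ a b : X, a ∉ G₀ → b ∉ G₀ → a * b ∈ G₀ := fun a b ha hb =>
    (Subgroup.mul_mem_iff_of_index_two hidx).2 (iff_of_false ha hb)
  have hdUG : dU ∉ G₀ := fun h => hdG (by
    have := G₀.mul_mem (G₀.mul_mem (G₀.inv_mem (c : ↥G₀).2) h) (c : ↥G₀).2
    simpa [dU, mul_assoc] using this)
  have hrG : d⁻¹ * dU ∈ G₀ := hidx' _ _ (fun h => hdG (inv_inv d ▸ G₀.inv_mem h)) hdUG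
  set r : ↥G₀ := ⟨d⁻¹ * dU, hrG⟩
  have hrE : r ∈ W.E := W.central_C hS S dM fun y hy => by
    have h1 : d * (y : X) * d⁻¹ = (y : X) :=
      (MulAut.conjNormal_apply d y).symm.trans (congrArg Subtype.val (hδK y (I.hC hy)))
    have h2 : dU * (y : X) * dU⁻¹ = (y : X) :=
      (MulAut.conjNormal_apply dU y).symm.trans (congrArg Subtype.val (hδUC y hy))
    refine Subtype.ext ?_
    show d⁻¹ * dU * (y : X) = (y : X) * (d⁻¹ * dU)
    calc d⁻¹ * dU * (y : X) = d⁻¹ * (dU * (y : X) * dU⁻¹) * dU := by group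
      _ = d⁻¹ * (d * (y : X) * d⁻¹) * dU := by rw [h2, h1]
      _ = _ := by group
  have hrC : r ∈ W.C := W.E_le_C hS hrE
  have hcomm : ∀ y ∈ I.K, d * ((y : ↥G₀) : X) = (y : X) * d := fun y hy =>
    mul_inv_eq_iff_eq_mul.1 ((MulAut.conjNormal_apply d y).symm.trans (congrArg Subtype.val (hδK y hy)))
  have hrr : r * r = 1 := by
    have := (W.elem hS).1.2 r hrE
    rwa [pow_two] at this
  -- its square
  set sqd : ↥G₀ := ⟨d * d, hidx' d d hdG hdG⟩
  have he : sqd = 1 ∨ sqd = t := D.central hS S dM fun k hk => Subtype.ext (by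
    show d * d * (k : X) = (k : X) * (d * d)
    rw [mul_assoc, hcomm k hk, ← mul_assoc, hcomm k hk, mul_assoc])
  have hdU2 : dU * dU = d * d := by
    calc dU * dU = d * (d⁻¹ * dU) * (d * (d⁻¹ * dU)) := by group
      _ = d * d * ((r * r : ↥G₀) : X) := by
        show d * (r : X) * (d * (r : X)) = _
        rw [show d * (r : X) * (d * (r : X)) = d * ((r : X) * d) * (r : X) by group, ← hcomm r (I.hC hrC)]
        push_cast; group
      _ = _ := by rw [hrr]; simp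
  have hdd : d * d = 1 := by
    rcases he with e1 | e1
    · exact congrArg Subtype.val e1
    · exfalso
      refine hut (Subtype.ext ?_)
      have e1' : d * d = (t : X) := congrArg Subtype.val e1
      rw [← e1', ← hdU2, ← hcu]
      show ((c : ↥G₀) : X) * (t : X) * ((c : ↥G₀) : X)⁻¹ = _
      rw [← e1']
      simp only [dU]
      group
  have hd2 : orderOf d = 2 := orderOf_eq_prime (by rw [pow_two, hdd]) fun h => hdG (h ▸ G₀.one_mem)
  have hdz : Commute d (z : X) := hcomm z hzK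
  -- the outer element of the centralizer moves it
  set q0 := inQ Q I.q with hq0
  have hq0d : d * (q0 : X) ≠ (q0 : X) * d := by
    intro hcq
    obtain ⟨-, hqw2, hqw1, hqw3⟩ : True ∧ True ∧ trH (FF.w • e 0) e01 = 1 ∧ trH (FF.w • e 0) (FF.w • e01) = 0 :=
      ⟨trivial, trivial, correctors.2.1, correctors.2.2⟩
    obtain ⟨qw, hqwv⟩ := F.surj (FF.w • e 0)
    have hwt : qw * W.t ≠ W.t * qw := fun h => by
      rw [commute_iff_trace hS F, hqwv, W.ht, hqw1] at h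
      exact one_ne_zero h
    have hwu : qw * W.u = W.u * qw := (commute_iff_trace hS F _ _).2 (by rw [hqwv, W.hu]; exact hqw3)
    have hLd : ∀ y ∈ L, d * ((y : ↥G₀) : X) = (y : X) * d := fun y hy => by
      by_cases hyK : y ∈ I.K
      · exact hcomm y hyK
      · have h' : q0⁻¹ * y ∈ I.K := (I.sq_mem (inv_mem I.hqL) hy).2
          (iff_of_false (fun h => I.hqK ((inv_mem_iff).1 h)) hyK)
        have e1 := hcomm _ h'
        calc d * (y : X) = d * (q0 : X) * ((q0⁻¹ * y : ↥G₀) : X) := by push_cast; group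
          _ = (q0 : X) * (d * ((q0⁻¹ * y : ↥G₀) : X)) := by rw [hcq, mul_assoc]
          _ = (q0 : X) * ((q0⁻¹ * y : ↥G₀) : X) * d := by rw [e1, mul_assoc]
          _ = _ := by push_cast; group
    -- on the second part
    set w := inQ Q qw
    have hwuG : w * u = u * w := by rw [← map_mul, hwu, map_mul]
    have hwL : (c : ↥G₀)⁻¹ * w * c ∈ L := W.mem_L.2 (by
      show (c : ↥G₀)⁻¹ * w * c * t = t * ((c : ↥G₀)⁻¹ * w * c)
      calc (c : ↥G₀)⁻¹ * w * c * t = (c : ↥G₀)⁻¹ * (w * ((c : ↥G₀) * t * (c : ↥G₀)⁻¹)) * c := by group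
        _ = _ := by rw [hcu, hwuG, ← hcu]; group)
    have hUw : dU * (w : X) = (w : X) * dU := by
      have e1 := hLd _ hwL
      push_cast at e1
      calc dU * (w : X) = ((c : ↥G₀) : X) * (d * (((c : ↥G₀) : X)⁻¹ * (w : X) * ((c : ↥G₀) : X))) *
            ((c : ↥G₀) : X)⁻¹ := by simp only [dU]; group
        _ = _ := by rw [e1]; simp only [dU]; group
    have hUz : dU * (z : X) = (z : X) * dU :=
      mul_inv_eq_iff_eq_mul.1 ((MulAut.conjNormal_apply dU z).symm.trans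
        (congrArg Subtype.val (hδUC z (W.z_mem_C hS))))
    have same : ∀ p : Q, p * W.t = W.t * p → d * ((inQ Q p : ↥G₀) : X) = (inQ Q p : X) * d := fun p hp =>
      hLd _ (W.mem_L.2 (by rw [← map_mul, hp, map_mul]))
    have pm : ∀ a : ↥G₀, a ∈ W.E → a * w * a⁻¹ = w ∨ a * w * a⁻¹ = w * z := by
      intro a ha
      obtain ⟨p, -, rfl⟩ := ha
      have hp : F.φ qw = F.φ (MulAut.conjNormal (p : Cz z) qw) := by
        rw [F.conj, (F.ker _).2 p.2]; rfl
      have e0 : inQ Q (MulAut.conjNormal (p : Cz z) qw) = inQ Q p * w * (inQ Q p)⁻¹ := by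
        rw [conjNormal_self, map_mul, map_mul, map_inv]
      rw [← e0]
      exact F.eq_or_mul_z hS hp
    have key : ∃ b : X, b ∉ G₀ ∧ (∀ p : Q, p * W.t = W.t * p → b * ((inQ Q p : ↥G₀) : X) = (inQ Q p : X) * b) ∧
        b * (w : X) = (w : X) * b := by
      have hde : d = dU * (r : X) := by
        calc d = d * ((r * r : ↥G₀) : X) := by rw [hrr]; simp
          _ = d * (r : X) * (r : X) := by push_cast; group
          _ = dU * (r : X) := by rw [show d * (r : X) = dU from mul_inv_cancel_left d dU]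
      have hdw : d * (w : X) * d⁻¹ = dU * ((r * w * r⁻¹ : ↥G₀) : X) * dU⁻¹ := by
        rw [hde]; push_cast; group
      rcases pm r hrE with e1 | e1 <;> rw [e1] at hdw
      · rw [hUw, mul_inv_cancel_right] at hdw
        exact ⟨d, hdG, same, mul_inv_eq_iff_eq_mul.1 hdw⟩
      · push_cast at hdw
        rw [← mul_assoc, hUw, mul_assoc (w : X), hUz, ← mul_assoc, mul_inv_cancel_right] at hdw
        refine ⟨d * (t : X), fun h => hdG ?_, fun p hp => ?_, ?_⟩
        · have := G₀.mul_mem h (G₀.inv_mem t.2)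
          rwa [mul_inv_cancel_right] at this
        · have e2 : t * inQ Q p = inQ Q p * t := by rw [← map_mul, ← hp, map_mul]
          have e2' : (t : X) * (inQ Q p : X) = (inQ Q p : X) * (t : X) := congrArg Subtype.val e2
          rw [mul_assoc, e2', ← mul_assoc, same p hp, mul_assoc]
        · have e3 : t * w * t⁻¹ = w * z := (pm t W.t_mem).resolve_left fun h => hwt (inQ_injective (by
            rw [map_mul, map_mul]; exact (mul_inv_eq_iff_eq_mul.1 h).symm))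
          have e3' : (t : X) * (w : X) * (t : X)⁻¹ = (w : X) * (z : X) := congrArg Subtype.val e3
          have hzz : (z : X) * (z : X) = 1 := congrArg Subtype.val
            (show z * z = 1 by rw [← pow_two, ← hS.1, pow_orderOf_eq_one])
          refine mul_inv_eq_iff_eq_mul.1 ?_
          calc d * (t : X) * (w : X) * (d * (t : X))⁻¹ = d * ((t : X) * (w : X) * (t : X)⁻¹) * d⁻¹ := by group
            _ = d * (w : X) * (d⁻¹ * (d * (z : X))) * d⁻¹ := by rw [e3']; group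
            _ = d * (w : X) * d⁻¹ * (z : X) := by rw [hdz.eq]; group
            _ = _ := by rw [hdw, mul_assoc, hzz, mul_one]
    obtain ⟨b, hbG, hbt, hbw⟩ := key
    have hcen : ∀ p : Q, b * ((inQ Q p : ↥G₀) : X) = (inQ Q p : X) * b := by
      exact centralizes_image hS (W := W) G₀.subtype hbt hwt hbw
    have hbz : b ∈ Subgroup.centralizer ({(z : X)} : Set X) := by
      obtain ⟨hzC, hzQ⟩ := zmem hS
      exact Subgroup.mem_centralizer_singleton_iff.2 (hcen ⟨⟨z, hzC⟩, hzQ hzC⟩)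
    have hin : (⟨b, hbz⟩ : Subgroup.centralizer ({(z : X)} : Set X)) ∈
        Cfsg.generalizedFittingSubgroup ↥(Subgroup.centralizer ({(z : X)} : Set X)) := by
      refine Components.Fitting.centralizer_genFitting_le (Subgroup.mem_centralizer_iff.2 fun a ha => ?_)
      have ha' : (a : X) ∈ (Q.map (Subgroup.subtype _)).map G₀.subtype := hFX ▸ ⟨a, ha, rfl⟩
      obtain ⟨_, ⟨p, hp, rfl⟩, e1⟩ := ha'
      refine Subtype.ext ?_
      show (a : X) * b = b * (a : X)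
      rw [← e1]
      exact (hcen ⟨p, hp⟩).symm
    have hbG' : b ∈ (Q.map (Subgroup.subtype _)).map G₀.subtype := hFX ▸ ⟨_, hin, rfl⟩
    obtain ⟨w', -, e1⟩ := hbG'
    exact hbG (e1 ▸ w'.2)
  have hq0t : (q0 : X) * d * (q0 : X)⁻¹ = d * (t : X) := by
    have hmem : d⁻¹ * ((q0 : X) * d * (q0 : X)⁻¹) ∈ G₀ := hidx' _ _ (fun h => hdG (inv_inv d ▸ G₀.inv_mem h))
      fun h => hdG (by
        have := G₀.mul_mem (G₀.mul_mem (G₀.inv_mem q0.2) h) q0.2
        simpa [mul_assoc] using this)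
    have hc' : ∀ k ∈ I.K, (q0 : X) * d * (q0 : X)⁻¹ * (k : X) = (k : X) * ((q0 : X) * d * (q0 : X)⁻¹) := by
      intro k hk
      have h' : q0⁻¹ * k * q0 ∈ I.K := by
        have h'' := I.conj_mem (inv_mem I.hqL) hk
        rwa [inv_inv] at h''
      have e1 := hcomm _ h'
      push_cast at e1
      calc (q0 : X) * d * (q0 : X)⁻¹ * (k : X)
          = (q0 : X) * (d * ((q0 : X)⁻¹ * (k : X) * (q0 : X))) * (q0 : X)⁻¹ := by group
        _ = _ := by rw [e1]; group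
    rcases D.central hS S dM (r := ⟨_, hmem⟩) (fun k hk => Subtype.ext (by
      show d⁻¹ * ((q0 : X) * d * (q0 : X)⁻¹) * (k : X) = (k : X) * (d⁻¹ * ((q0 : X) * d * (q0 : X)⁻¹))
      rw [mul_assoc, hc' k hk, ← mul_assoc, ← mul_assoc (k : X),
        (show Commute d (k : X) from hcomm k hk).inv_left.eq])) with e1 | e1
    · refine absurd ?_ hq0d
      have e1' := congrArg Subtype.val e1
      exact (mul_inv_eq_iff_eq_mul.1 (inv_mul_eq_one.1 e1').symm).symm
    · have e1' : d⁻¹ * ((q0 : X) * d * (q0 : X)⁻¹) = (t : X) := congrArg Subtype.val e1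
      rw [← e1', mul_inv_cancel_left]
  -- a conjugate of the first member
  have hq0T : q0 * t * q0⁻¹ = t := by rw [W.mem_L.1 I.hqL, mul_inv_cancel_right]
  have hq0U : q0 * u * q0⁻¹ = u * z := I.hqu
  have move : ∀ a : ↥G₀, ∀ y : ↥G₀, (((a * y * a⁻¹ : ↥G₀)) : X) = (a : X) * (y : X) * (a : X)⁻¹ := fun a y => rfl
  obtain ⟨g1, hg1d, hg1t⟩ : ∃ g1 : ↥G₀, (g1 : X) * d * (g1 : X)⁻¹ = d ∧
      (g1 * t * g1⁻¹ = u ∨ g1 * t * g1⁻¹ = u * z) := by
    have hcd : ((c : ↥G₀) : X) * d * ((c : ↥G₀) : X)⁻¹ = d * (r : X) := by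
      show dU = d * (d⁻¹ * dU); group
    have hct : ((c : ↥G₀) : X) * (t : X) * ((c : ↥G₀) : X)⁻¹ = (u : X) := congrArg Subtype.val hcu
    have hTTx : (t : X) * (t : X) = 1 := congrArg Subtype.val hTT
    have hUUx : (u : X) * (u : X) = 1 := congrArg Subtype.val hUU
    have hcq : ((c : ↥G₀) * q0) * t * ((c : ↥G₀) * q0)⁻¹ = u := by
      calc _ = (c : ↥G₀) * (q0 * t * q0⁻¹) * (c : ↥G₀)⁻¹ := by group
        _ = u := by rw [hq0T, hcu]
    have hcqd : ((c : ↥G₀) : X) * (q0 : X) * d * (((c : ↥G₀) : X) * (q0 : X))⁻¹ = d * (r : X) * (u : X) := by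
      calc _ = ((c : ↥G₀) : X) * ((q0 : X) * d * (q0 : X)⁻¹) * ((c : ↥G₀) : X)⁻¹ := by group
        _ = ((c : ↥G₀) : X) * d * ((c : ↥G₀) : X)⁻¹ * (((c : ↥G₀) : X) * (t : X) * ((c : ↥G₀) : X)⁻¹) := by
          rw [hq0t]; group
        _ = _ := by rw [hcd, hct]
    have hfix : (q0 : X) * (d * (t : X)) * (q0 : X)⁻¹ = d := by
      calc _ = (q0 : X) * d * (q0 : X)⁻¹ * ((q0 * t * q0⁻¹ : ↥G₀) : X) := by push_cast; group
        _ = _ := by rw [hq0t, hq0T, mul_assoc, hTTx, mul_one]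
    have hqu : ∀ a : ↥G₀, a * t * a⁻¹ = u → (q0 * a) * t * (q0 * a)⁻¹ = u * z := fun a ha => by
      calc _ = q0 * (a * t * a⁻¹) * q0⁻¹ := by group
        _ = u * z := by rw [ha, hq0U]
    obtain ⟨p, hp, hpr⟩ := id hrE
    rcases W.mem_qs hS hp with h | h | h | h <;> rw [h] at hpr
    · refine ⟨c, ?_, Or.inl hcu⟩
      rw [hcd, ← hpr, map_one]; simp
    · refine ⟨q0 * (c : ↥G₀), ?_, Or.inr (hqu _ hcu)⟩
      calc _ = (q0 : X) * (((c : ↥G₀) : X) * d * ((c : ↥G₀) : X)⁻¹) * (q0 : X)⁻¹ := by push_cast; group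
        _ = d := by rw [hcd, ← hpr]; exact hfix
    · refine ⟨(c : ↥G₀) * q0, ?_, Or.inl hcq⟩
      push_cast
      rw [hcqd, ← hpr, mul_assoc]
      show d * ((u : X) * (u : X)) = d
      rw [hUUx, mul_one]
    · refine ⟨q0 * ((c : ↥G₀) * q0), ?_, Or.inr (hqu _ hcq)⟩
      calc _ = (q0 : X) * (((c : ↥G₀) : X) * (q0 : X) * d * (((c : ↥G₀) : X) * (q0 : X))⁻¹) * (q0 : X)⁻¹ := by
            push_cast; group
        _ = d := by
          rw [hcqd, ← hpr, map_mul]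
          show (q0 : X) * (d * ((t : X) * (u : X)) * (u : X)) * (q0 : X)⁻¹ = d
          rw [← mul_assoc d, mul_assoc (d * (t : X)), hUUx, mul_one]
          exact hfix
  -- assembly
  set Y := G₀ ⊓ Subgroup.centralizer ({d} : Set X)
  have hKY : ∀ k ∈ I.K, ((k : ↥G₀) : X) ∈ Y := fun k hk =>
    ⟨k.2, Subgroup.mem_centralizer_singleton_iff.2 (hcomm k hk).symm⟩
  set tY : Y := ⟨(t : X), hKY t htK⟩
  let ι : I.K0 →* Subgroup.centralizer ({tY} : Set Y) := MonoidHom.mk'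
    (fun k => ⟨⟨(((k : L) : ↥G₀) : X), hKY _ (Subgroup.mem_subgroupOf.1 k.2)⟩,
      Subgroup.mem_centralizer_singleton_iff.2 (Subtype.ext (congrArg (fun w : ↥G₀ => (w : X)) (W.mem_L.1 k.1.2)))⟩)
    fun _ _ => rfl
  have hιi : Function.Injective ι := fun a b h => Subtype.ext (Subtype.ext (Subtype.ext
    (congrArg (fun w : Subgroup.centralizer ({tY} : Set Y) => ((w : Y) : X)) h)))
  have hιs : Function.Surjective ι := fun w => by
    set y : ↥G₀ := ⟨((w : Y) : X), (w : Y).2.1⟩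
    have hyL : y ∈ L := W.mem_L.2 (Subtype.ext
      (congrArg Subtype.val (Subgroup.mem_centralizer_singleton_iff.1 w.2) : (y : X) * (t : X) = (t : X) * (y : X)))
    have hyd : (y : X) * d = d * (y : X) := Subgroup.mem_centralizer_singleton_iff.1 (w : Y).2.2
    refine ⟨⟨⟨y, hyL⟩, Subgroup.mem_subgroupOf.2 ?_⟩, rfl⟩
    by_contra hyK
    refine hq0d ?_
    have h' : q0⁻¹ * y ∈ I.K := (I.sq_mem (inv_mem I.hqL) hyL).2
      (iff_of_false (fun h => I.hqK ((inv_mem_iff).1 h)) hyK)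
    have e1 := hcomm _ h'
    push_cast at e1
    calc d * (q0 : X) = d * (y : X) * ((q0 : X)⁻¹ * (y : X))⁻¹ := by group
      _ = (y : X) * (d * ((q0 : X)⁻¹ * (y : X))⁻¹) := by rw [← hyd, mul_assoc]
      _ = (y : X) * (((q0 : X)⁻¹ * (y : X))⁻¹ * d) := by rw [(show Commute d _ from e1).inv_right.eq]
      _ = _ := by group
  let eι : I.K0 ≃* Subgroup.centralizer ({tY} : Set Y) := MulEquiv.ofBijective ι ⟨hιi, hιs⟩
  have hTmap : (I.T0 hS).map eι.toMonoidHom =
      (Subgroup.zpowers tY).subgroupOf (Subgroup.centralizer ({tY} : Set Y)) := by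
    refine Subgroup.map_injective (f := (Subgroup.centralizer ({tY} : Set Y)).subtype) Subtype.val_injective ?_
    rw [Subgroup.map_subgroupOf_eq_of_le (Subgroup.zpowers_le.2 (Subgroup.mem_centralizer_singleton_iff.2 rfl)),
      Subgroup.map_map, Inner.T0, MonoidHom.map_zpowers]
    rfl
  haveI hTn : ((Subgroup.zpowers tY).subgroupOf (Subgroup.centralizer ({tY} : Set Y))).Normal :=
    hTmap ▸ (I.T0_normal hS).map _ eι.surjective
  have ht2 : orderOf tY = 2 := orderOf_eq_prime (Subtype.ext (by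
    show (t : X) ^ 2 = 1
    rw [pow_two]; exact congrArg Subtype.val hTT)) fun h => htne (Subtype.ext (congrArg (fun w : Y => (w : X)) h))
  have hg1Y : (g1 : X) ∈ Y := ⟨g1.2, Subgroup.mem_centralizer_singleton_iff.2 (mul_inv_eq_iff_eq_mul.1 hg1d)⟩
  refine ⟨d, hd2, hdG, hdz, tY, ht2, Components.Basic.quasisimple_of_mulEquiv eι D.qs,
    ⟨hTn, D.invol.congr (QuotientGroup.congr _ _ eι hTmap)⟩, ⟨(g1 : X), hg1Y⟩, ?_, ?_, ?_⟩
  · refine Subgroup.mem_centralizer_singleton_iff.2 (Subtype.ext ?_)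
    show (g1 : X) * (t : X) * (g1 : X)⁻¹ * (t : X) = (t : X) * ((g1 : X) * (t : X) * (g1 : X)⁻¹)
    rw [← move]
    refine congrArg Subtype.val (show g1 * t * g1⁻¹ * t = t * (g1 * t * g1⁻¹) from ?_)
    rcases hg1t with e1 | e1 <;> rw [e1]
    · exact dM.comm u huA t htA
    · exact dM.comm _ (mul_mem huA dM.zmem) t htA
  · intro h
    have h' : g1 * t * g1⁻¹ = t := Subtype.ext (congrArg (fun w : Y => (w : X)) h)
    rcases hg1t with e1 | e1 <;> rw [e1] at h'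
    · exact hut h'
    · refine line_distinct.2.2.2.1 ?_
      obtain ⟨hzC, hzQ⟩ := zmem hS
      have h'' : W.u * ⟨⟨z, hzC⟩, hzQ hzC⟩ = W.t := inQ_injective (by rw [map_mul]; exact h')
      have h3 := congrArg F.φ h''
      rw [F.φ_mul, (F.zero ⟨⟨z, hzC⟩, hzQ hzC⟩).2 ((mem_center_iff' hS).2 (Or.inr rfl)), add_zero, W.hu, W.ht] at h3
      exact h3.symm
  have hz0 : ∀ {q : Q}, inQ Q q = z → F.φ q = 0 := fun {q} e => (F.zero q).2 (by
    obtain ⟨hzC, hzQ⟩ := zmem hS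
    rw [(inQ_injective e : q = ⟨⟨z, hzC⟩, hzQ hzC⟩)]
    exact (mem_center_iff' hS).2 (Or.inr rfl))
  have horth : ∀ q : Q, H (F.φ q) e01 = 0 → Commute d ((inQ Q q : ↥G₀) : X) := fun q h =>
    hcomm _ (I.hC (Subgroup.mem_subgroupOf.1 ((W.mem_D_inQ hS q).2 h)))
  refine ⟨⟨q0, hq0t⟩, htz, ?_, fun k hk => ?_, ⟨AG hS F S, dM, fun a ha => ?_, htA, ?_⟩, ?_⟩
  · show ¬ IsConj z (t * (g1 * t * g1⁻¹))
    have φtu : F.φ (W.t * W.u) = FF.w2 • e01 := by rw [F.φ_mul, W.ht, W.hu, line_distinct.2.2.1]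
    rcases hg1t with e1 | e1 <;> rw [e1]
    · rw [← map_mul]
      exact not_conj_of_InO hS F (φtu ▸ line_InO _ (by decide))
    · obtain ⟨hzC, hzQ⟩ := zmem hS
      have hzq : inQ Q ⟨⟨z, hzC⟩, hzQ hzC⟩ = z := rfl
      rw [← hzq, ← map_mul, ← map_mul]
      refine not_conj_of_InO hS F ?_
      rw [F.φ_mul, F.φ_mul W.u, hz0 hzq, add_zero, ← F.φ_mul, φtu]
      exact line_InO _ (by decide)
  · have hkL : k ∈ L := W.mem_L.2 (Subtype.ext hk.eq)
    have hf : ∀ y ∈ I.K, (k : X) * d * (k : X)⁻¹ * (y : X) = (y : X) * ((k : X) * d * (k : X)⁻¹) := by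
      intro y hy
      have h' := I.conj_mem (inv_mem hkL) hy
      rw [inv_inv] at h'
      have e1 := hcomm _ h'
      push_cast at e1
      calc (k : X) * d * (k : X)⁻¹ * (y : X)
          = (k : X) * (d * ((k : X)⁻¹ * (y : X) * (k : X))) * (k : X)⁻¹ := by group
        _ = _ := by rw [e1]; group
    have hmem : d⁻¹ * ((k : X) * d * (k : X)⁻¹) ∈ G₀ := hidx' _ _ (fun h => hdG (inv_inv d ▸ G₀.inv_mem h))
      fun h => hdG (by
        have := G₀.mul_mem (G₀.mul_mem (G₀.inv_mem k.2) h) k.2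
        simpa [mul_assoc] using this)
    rcases D.central hS S dM (r := ⟨_, hmem⟩) (fun y hy => Subtype.ext (by
      show d⁻¹ * ((k : X) * d * (k : X)⁻¹) * (y : X) = (y : X) * (d⁻¹ * ((k : X) * d * (k : X)⁻¹))
      rw [mul_assoc, hf y hy, ← mul_assoc, ← mul_assoc (y : X),
        (show Commute d (y : X) from hcomm y hy).inv_left.eq])) with e1 | e1
    · exact Or.inl (inv_mul_eq_one.1 (congrArg Subtype.val e1)).symm
    · exact Or.inr (inv_mul_eq_iff_eq_mul.1 (congrArg Subtype.val e1))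
  · exact hcomm _ (I.hC ((W.mem_C hS).2 ⟨dM.comm a ha t htA, dM.comm a ha u huA⟩))
  · show g1 * t * g1⁻¹ ∈ AG hS F S
    rcases hg1t with e1 | e1 <;> rw [e1]
    exacts [huA, mul_mem huA dM.zmem]
  -- a point between
  intro c0 hc0
  set qv : Q := MulAut.conjNormal (⟨c0, hc0⟩ : Cz z) W.t with hqv
  have hconjQ : ∀ (a : Cz z) (q : Q), inQ Q (MulAut.conjNormal a q) = (a : ↥G₀) * inQ Q q * (a : ↥G₀)⁻¹ :=
    fun a q => by
      show ((MulAut.conjNormal a q : Cz z) : ↥G₀) = _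
      rw [MulAut.conjNormal_apply]; rfl
  have hqv' : inQ Q qv = c0 * t * c0⁻¹ := hconjQ _ _
  have hInv : InO FF.w (F.φ qv) := by
    refine InO_of_not_conj hS F (orderOf_eq_prime ?_ fun e => htne ?_) fun h => htz ?_
    · refine Subtype.ext (show inQ Q qv ^ 2 = 1 from ?_)
      rw [hqv', conj_pow, pow_two, hTT, mul_one, mul_inv_cancel]
    · have e' : inQ Q qv = 1 := congrArg Subtype.val e
      rw [hqv'] at e'
      exact conj_eq_one_iff.1 e'
    · rw [hqv'] at h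
      exact h.trans (isConj_iff.2 ⟨c0⁻¹, by group⟩)
  obtain ⟨i, j, l, m, hwO, hwe, hw1, hw2⟩ := mid_exists _ hInv
  obtain ⟨qw, hqw⟩ := F.surj (l • e i + m • e j)
  rw [← hqw] at hwO hwe hw1 hw2
  obtain ⟨c', hc'⟩ := conj_of_kind hS F (a := W.t) (b := qw) (Or.inl ⟨W.ht ▸ e01_InO, hwO⟩)
  have hc't : (c' : ↥G₀) * t * (c' : ↥G₀)⁻¹ = inQ Q qw := congrArg Subtype.val hc'
  refine ⟨c', c'.2, ?_, ?_⟩
  · have h := horth qw hwe
    rw [← hc't] at h
    exact h
  set qu : Q := MulAut.conjNormal c' W.u with hqu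
  have hactt : F.act c' e01 = F.φ qw := by
    rw [← W.ht, ← F.conj]
    exact congrArg F.φ (inQ_injective ((hconjQ _ _).trans hc't))
  have hcu' : qv * qu = qu * qv := by
    have hφu : F.φ qu = FF.w • F.φ qw ∨ F.φ qu = FF.w2 • F.φ qw := by
      rw [hqu, F.conj, W.hu]
      rcases F.semi c' with h | h <;> rw [h, hactt]
      exacts [Or.inl rfl, Or.inr rfl]
    rcases hφu with e1 | e1
    · exact (commute_iff_trace hS F _ _).2 (e1 ▸ hw2)
    · obtain ⟨qww, hqww⟩ := F.surj (FF.w • F.φ qw)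
      have ha : Commute qv qw := (commute_iff_trace hS F _ _).2 hw1
      have hb : Commute qv qww := (commute_iff_trace hS F _ _).2 (hqww.symm ▸ hw2)
      have hab := (commute_iff_trace hS F _ _).1 (ha.mul_right hb).eq
      rw [F.φ_mul, hqww] at hab
      refine (commute_iff_trace hS F _ _).2 ?_
      rwa [e1, show FF.w2 • F.φ qw = F.φ qw + FF.w • F.φ qw by
        conv_rhs => rw [← one_smul FF (F.φ qw), smul_smul, ← add_smul]
        rfl]
  set q' : Q := MulAut.conjNormal c'⁻¹ qv with hq'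
  have hct : qv * qw = qw * qv := (commute_iff_trace hS F _ _).2 hw1
  have hmove : ∀ a : Q, qv * MulAut.conjNormal c' a = MulAut.conjNormal c' a * qv → q' * a = a * q' := by
    intro a h
    apply (MulAut.conjNormal c' : MulAut Q).injective
    rw [map_mul, map_mul, hq', map_inv, MulAut.apply_inv_self]
    exact h
  have hD : (q' : Cz z) ∈ W.D := Subgroup.mem_subgroupOf.2 ((W.mem_C hS).2 ⟨?_, ?_⟩)
  · have h := horth q' ((W.mem_D_inQ hS q').1 hD)
    rw [hq', hconjQ, hqv'] at h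
    push_cast at h
    have h2 := h.map (MulAut.conj ((c' : ↥G₀) : X)).toMonoidHom
    simp only [MulEquiv.toMonoidHom_eq_coe, MonoidHom.coe_coe, MulAut.conj_apply] at h2
    convert h2 using 1
    group
    rfl
  · show inQ Q q' * inQ Q W.t = inQ Q W.t * inQ Q q'
    rw [← map_mul, ← map_mul, hmove W.t]
    rwa [show MulAut.conjNormal c' W.t = qw from inQ_injective ((hconjQ _ _).trans hc't)]
  · show inQ Q q' * inQ Q W.u = inQ Q W.u * inQ Q q'
    rw [← map_mul, ← map_mul, hmove W.u hcu']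

/-- The outer involution. -/
theorem exists_outer_involution (hidx : G₀.index = 2) (hF : Cfsg.IsOfLargeFischerTypeAt z Q)
    (hcentral : ∃ P : Sylow 2 ↥G₀, z ∈ (P : Subgroup ↥G₀) ∧ ∀ x ∈ (P : Subgroup ↥G₀), Commute x z)
    (hFX : (Cfsg.generalizedFittingSubgroup ↥(Subgroup.centralizer ({(z : X)} : Set X))).map
      (Subgroup.subtype _) = ((Q.map (Subgroup.subtype _)).map G₀.subtype)) :
    ∃ d : X, orderOf d = 2 ∧ d ∉ G₀ ∧ Commute d (z : X) ∧
      ∃ t : ↥(G₀ ⊓ Subgroup.centralizer ({d} : Set X)), orderOf t = 2 ∧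
        Cfsg.IsQuasisimple ↥(Subgroup.centralizer ({t} : Set ↥(G₀ ⊓ Subgroup.centralizer ({d} : Set X)))) ∧
        (∃ _ : ((Subgroup.zpowers t).subgroupOf
            (Subgroup.centralizer ({t} : Set ↥(G₀ ⊓ Subgroup.centralizer ({d} : Set X))))).Normal,
          HasUnitaryInvolution (↥(Subgroup.centralizer ({t} : Set ↥(G₀ ⊓ Subgroup.centralizer ({d} : Set X)))) ⧸
            (Subgroup.zpowers t).subgroupOf
              (Subgroup.centralizer ({t} : Set ↥(G₀ ⊓ Subgroup.centralizer ({d} : Set X)))))) ∧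
        ∃ g : ↥(G₀ ⊓ Subgroup.centralizer ({d} : Set X)),
          g * t * g⁻¹ ∈ Subgroup.centralizer ({t} : Set ↥(G₀ ⊓ Subgroup.centralizer ({d} : Set X))) ∧
            g * t * g⁻¹ ≠ t := by
  obtain ⟨d, h1, h2, h3, t, h4, h5, h6, g, h7, h8, -⟩ := exists_outer_full hidx hF hcentral hFX
  exact ⟨d, h1, h2, h3, t, h4, h5, h6, g, h7, h8⟩

/-- A group with such an involution has a class of type M(22). -/
theorem HasUnitaryInvolution.type22 {A : Type*} [Group A] [Finite A] (h : HasUnitaryInvolution A) :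
    ∃ E : Set A, Cfsg.IsThreeTranspositionClass E ∧ Cfsg.IsOfTypeM22 A E := by
  obtain ⟨d, hd, hq, ⟨K, iF, iT, hK, hn, ⟨e⟩⟩, hnwc⟩ := h
  obtain ⟨C, hC⟩ := ThreeTransp.U62Class.exists_ctx d hd hq K hK e hnwc
  exact ⟨C.cls, ⟨C.isGroup.1, ⟨d, hC ▸ mem_conjugatesOf_self, hC⟩, C.isGroup.2.2⟩, C.type22⟩

end Cfsg.Agent.LargeExtra.Fischer
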