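import Cfsg.Agent.Lib.LargeExtra.Fischer.Elementary

/-!
The unique largest elementary abelian subgroup of a Sylow 2-subgroup, packaged with its frame, and its
place in the whole group.
-/

set_option autoImplicit false

namespace Cfsg.Agent.LargeExtra.Fischer

open Cfsg.Agent.InvChar.Coset
open Cfsg.Agent.Components.UnitarySix
open Cfsg.Agent.MonsterOrbits (bigQ mem_bigQ ctr_bigQ)

variable {G : Type*} [Group G] [Finite G] {z : G} {Q : Subgroup (Cz z)} [Q.Normal] {M : Subgroup (Cz z)}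

/-- The frame adapted to a Sylow subgroup. -/
theorem exists_A0 (hS : Cfsg.IsExtraspecialCentralizerSetting z Q 6) (F0 : Frame z Q M) (T : Sylow 2 (Cz z)) :
    ∃ (F : Frame z Q M) (x : Cz z) (X : Scal F x), A0 F X hS ≤ (T : Subgroup (Cz z)) ∧
      ∀ B : Subgroup (Cz z), B ≤ (T : Subgroup (Cz z)) → (∀ b ∈ B, b * b = 1) → 2 ^ 11 ≤ Nat.card B →
        B = A0 F X hS := by
  classical
  obtain ⟨F, hpos⟩ := exists_position F0 T
  obtain ⟨-, -, hE, -, g0, ⟨hq0, hqQ⟩, hg0⟩ := id hS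
  have hanti : ∀ c : Cz z, c ∉ M → ∀ v, F.act c (FF.w • v) = FF.w2 • F.act c v := fun c hc =>
    antilinear hS F (g := g0) ⟨_, hqQ, rfl⟩ hg0 (a := ⟨⟨_, hq0⟩, hqQ⟩) rfl hc
  obtain ⟨x, ⟨X⟩⟩ := exists_scal hS F
  refine ⟨F, x, X, ?_, fun B hB hsq hbig => max_eq hS F hanti X (fun m hm hM => hpos m (hB hm) hM) hsq hbig⟩
  set TS := (T : Subgroup (Cz z))
  obtain ⟨R, hRm, hR, hRM, -⟩ := preimage_P0 hS F
  have hle : TS ⊓ M ≤ R := fun m hm => (hRm m).2 ⟨hm.2, hpos m hm.1 hm.2⟩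
  have heq := Subgroup.eq_of_le_of_card_ge hle (by rw [hR]; exact T_inf_M_card hS F T)
  intro a ha
  obtain ⟨u, hu, c, ⟨e, he, hc⟩, rfl⟩ := id ha
  refine (inf_le_left : TS ⊓ M ≤ TS) ?_
  rw [heq, hRm]
  obtain ⟨d, hdM, hd⟩ := F.of_K0 e (P0_le he.1).1
  have huc : ∀ v, F.act (u * c) v = e • v := fun v => by
    rw [map_mul, (F.ker u).2 hu.1, one_mul, hc.1]
  have hdq : d⁻¹ * (u * c) ∈ Q := (F.ker _).1 (by
    rw [map_mul, map_inv, inv_mul_eq_one]
    exact Equiv.ext fun v => by rw [hd, huc])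
  exact ⟨by simpa using M.mul_mem hdM (F.le hdq), e, he.1, huc⟩

omit [Q.Normal] in
/-- A Sylow subgroup of the centralizer is one of the whole group. -/
theorem sylow_extends (hS : Cfsg.IsExtraspecialCentralizerSetting z Q 6) [Q.Normal] (TH : Sylow 2 (Cz z)) :
    ∃ P : Sylow 2 G, (P : Subgroup G) = (TH : Subgroup (Cz z)).map (Cz z).subtype := by
  haveI : Fact (Nat.Prime 2) := ⟨Nat.prime_two⟩
  set S := (TH : Subgroup (Cz z)).map (Cz z).subtype with hSdef
  obtain ⟨P, hP⟩ := (TH.2.map (Cz z).subtype).exists_le_sylow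
  refine ⟨P, (le_antisymm hP ?_).symm⟩
  by_contra hne
  have hQT : Q ≤ (TH : Subgroup (Cz z)) :=
    IsPGroup.le_sylow_of_normal hS.2.2.1.1.1 TH
  have hfix : ∀ p ∈ (P : Subgroup G), p ∈ Subgroup.normalizer (S : Set G) → p ∈ S := by
    intro p hp hpn
    have hz : z ∈ S := by
      obtain ⟨hz, hzQ⟩ := zmem hS
      exact ⟨⟨z, hz⟩, hQT (hzQ hz), rfl⟩
    have hpz : p * z * p⁻¹ = z := by
      have hmem := (Subgroup.mem_normalizer_iff.1 hpn z).1 hz
      obtain ⟨c, hc, hce⟩ := hmem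
      have hcz : p * z * p⁻¹ ∈ Subgroup.centralizer (bigQ Q : Set G) := by
        rw [Subgroup.mem_centralizer_iff]
        intro q hq
        obtain ⟨hqC, hqQ⟩ := mem_bigQ.1 hq
        have hqS : p⁻¹ * q * p ∈ S := by
          have := (Subgroup.mem_normalizer_iff.1 (inv_mem hpn) q).1 ⟨⟨q, hqC⟩, hQT hqQ, rfl⟩
          simpa using this
        obtain ⟨d, -, hde⟩ := hqS
        have := Subgroup.mem_centralizer_singleton_iff.1 d.2
        rw [show ((d : Cz z) : G) = p⁻¹ * q * p from hde] at this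
        calc q * (p * z * p⁻¹) = p * ((p⁻¹ * q * p) * z) * p⁻¹ := by group
          _ = _ := by rw [this]; group
      rw [(ctr_bigQ hS).cent] at hcz
      rcases (ctr_bigQ hS).mem_zpowers_cases hcz with e | e
      · exact absurd (by simpa using e : z = 1) (ctr_bigQ hS).ne_one
      · exact e
    have hpC : p ∈ Cz z := Subgroup.mem_centralizer_singleton_iff.2 (mul_inv_eq_iff_eq_mul.1 hpz)
    have hle : (TH : Subgroup (Cz z)) ≤ (P : Subgroup G).comap (Cz z).subtype := fun c hc => hP ⟨c, hc, rfl⟩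
    have hmax := TH.3 (P.2.comap_of_injective _ (Cz z).subtype_injective) hle
    exact ⟨⟨p, hpC⟩, hmax ▸ hp, rfl⟩
  haveI : Group.IsNilpotent (P : Subgroup G) := P.2.isNilpotent
  have hlt : S.subgroupOf (P : Subgroup G) < ⊤ := lt_top_iff_ne_top.2 fun e => hne (Subgroup.subgroupOf_eq_top.1 e)
  have hn := Group.normalizerCondition_of_isNilpotent _ hlt
  obtain ⟨p, hp, hpn⟩ := SetLike.exists_of_lt hn
  refine hpn (Subgroup.mem_subgroupOf.2 (hfix p p.2 (Subgroup.mem_normalizer_fintype fun s hs => ?_)))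
  have := (Subgroup.mem_normalizer_iff.1 hp ⟨s, hP hs⟩).1 hs
  exact this

end Cfsg.Agent.LargeExtra.Fischer
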