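import Cfsg.Agent.Lib.LargeExtra.Fischer.NoLiftMain

/-!
The centralizer in the centralizer of the central involution of an element of order three in the kernel
of the action on the simple section.
-/

set_option autoImplicit false

namespace Cfsg.Agent.LargeExtra.Fischer

open Cfsg.Agent.InvChar.Coset
open Cfsg.Agent.Components.UnitarySix
open Cfsg.Agent.MonomialMult (Nine)
open scoped commutatorElement Matrix

theorem trip_K0 : Trip K0 (Cfsg.PSU 4 Nine 3) := good_phi.2 ▸ trip_map phi trip_M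

/-- A subgroup all of whose elements move an element to itself or its inverse. -/
theorem central_of_pm {P : Type*} [Group P] (hP : commutator P = ⊤) (k : P)
    (h : ∀ y : P, y * k * y⁻¹ = k ∨ y * k * y⁻¹ = k⁻¹) : ∀ y : P, y * k = k * y := by
  intro y
  have hle : commutator P ≤ Subgroup.centralizer ({k} : Set P) := by
    rw [_root_.commutator_def, Subgroup.commutator_le]
    intro p _ q _
    rw [Subgroup.mem_centralizer_singleton_iff, commutatorElement_def]
    have hinv : ∀ r : P, r * k * r⁻¹ = k⁻¹ → r * k⁻¹ * r⁻¹ = k := fun r e => by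
      have := congrArg (·⁻¹) e
      simpa [mul_assoc] using this
    have hfix : ∀ r : P, r * k * r⁻¹ = k → r * k⁻¹ * r⁻¹ = k⁻¹ := fun r e => by
      have := congrArg (·⁻¹) e
      simpa [mul_assoc] using this
    have hsym : ∀ r : P, (r * k * r⁻¹ = k → r⁻¹ * k * r = k) ∧ (r * k * r⁻¹ = k⁻¹ → r⁻¹ * k * r = k⁻¹) := fun r =>
      ⟨fun e => by
        calc r⁻¹ * k * r = r⁻¹ * (r * k * r⁻¹) * r := by rw [e]
          _ = k := by group, fun e => by
        have e' := hinv r e
        calc r⁻¹ * k * r = r⁻¹ * (r * k⁻¹ * r⁻¹) * r := by rw [e']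
          _ = k⁻¹ := by group⟩
    suffices p * q * p⁻¹ * q⁻¹ * k * (p * q * p⁻¹ * q⁻¹)⁻¹ = k from mul_inv_eq_iff_eq_mul.1 this
    calc p * q * p⁻¹ * q⁻¹ * k * (p * q * p⁻¹ * q⁻¹)⁻¹ = p * (q * (p⁻¹ * (q⁻¹ * k * q) * p) * q⁻¹) * p⁻¹ := by group
      _ = k := by
        rcases h q with eq | eq <;> rcases h p with ep | ep
        · rw [(hsym q).1 eq, (hsym p).1 ep, eq, ep]
        · rw [(hsym q).1 eq, (hsym p).2 ep, hfix q eq, hinv p ep]
        · rw [(hsym q).2 eq]
          rw [show p⁻¹ * k⁻¹ * p = (p⁻¹ * k * p)⁻¹ by group, (hsym p).1 ep, hinv q eq, ep]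
        · rw [(hsym q).2 eq]
          rw [show p⁻¹ * k⁻¹ * p = (p⁻¹ * k * p)⁻¹ by group, (hsym p).2 ep, inv_inv, eq, hinv p ep]
  exact Subgroup.mem_centralizer_singleton_iff.1 (hle (hP ▸ Subgroup.mem_top y))

theorem K0_perfect : commutator K0 = ⊤ := by
  have h : (commutator K0).map K0.subtype = K0 := by rw [Subgroup.map_subtype_commutator, good_K0.perf]
  exact Subgroup.map_injective K0.subtype_injective (h.trans (by rw [← MonoidHom.range_eq_map, Subgroup.range_subtype]))

variable {G : Type*} [Group G] [Finite G] {z : G} {Q : Subgroup (Cz z)} [Q.Normal] {M : Subgroup (Cz z)}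

set_option maxHeartbeats 1000000 in
theorem three_core (hS : Cfsg.IsExtraspecialCentralizerSetting z Q 6) (F : Frame z Q M)
    (X : Subgroup (Cz z)) (hX : Nat.card X = 3) (hXQ : (X ⊔ Q).Normal) :
    Cfsg.IsQuasisimple ↥(Subgroup.centralizer (X : Set (Cz z))) ∧
      IsCyclic ↥(Subgroup.center ↥(Subgroup.centralizer (X : Set (Cz z)))) ∧
      Nat.card ↥(Subgroup.center ↥(Subgroup.centralizer (X : Set (Cz z)))) = 6 ∧
      Nonempty (↥(Subgroup.centralizer (X : Set (Cz z))) ⧸ Subgroup.center ↥(Subgroup.centralizer (X : Set (Cz z))) ≃*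
        Cfsg.PSU 4 Nine 3) := by
  classical
  haveI := hXQ
  haveI := F.normalM
  haveI : Fact (Nat.Prime 3) := ⟨Nat.prime_three⟩
  obtain ⟨hzord, -, hE, hQcard, g0, ⟨hq0, hqQ⟩, hg0⟩ := id hS
  have hanti : ∀ c : Cz z, c ∉ M → ∀ v, F.act c (FF.w • v) = FF.w2 • F.act c v := fun c hc =>
    antilinear hS F (g := g0) ⟨_, hqQ, rfl⟩ hg0 (a := ⟨⟨_, hq0⟩, hqQ⟩) rfl hc
  -- a generator
  haveI : IsCyclic X := isCyclic_of_prime_card hX
  obtain ⟨⟨x, hxX⟩, hxgen⟩ := IsCyclic.exists_generator (α := X)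
  have hord : orderOf x = 3 := by
    rw [← hX, ← orderOf_eq_card_of_forall_mem_zpowers hxgen]
    exact (Subgroup.orderOf_mk x hxX).symm
  have hx3 : x * x * x = 1 := by
    have h := pow_orderOf_eq_one x
    rw [hord] at h
    simpa [pow_succ] using h
  have hxz : ∀ y ∈ X, ∃ n : ℤ, x ^ n = y := fun y hy => by
    obtain ⟨n, hn⟩ := Subgroup.mem_zpowers_iff.1 (hxgen ⟨y, hy⟩)
    exact ⟨n, congrArg Subtype.val hn⟩
  have hQ2 : IsPGroup 2 Q := hE.1.1
  haveI : Fact (Nat.Prime 2) := ⟨Nat.prime_two⟩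
  have hxQ : x ∉ Q := fun h => by
    have h1 : orderOf (⟨x, h⟩ : Q) = 3 := by rw [Subgroup.orderOf_mk, hord]
    obtain ⟨n, hn⟩ := IsPGroup.iff_orderOf.1 hQ2 ⟨x, h⟩
    rw [h1] at hn
    have := Nat.prime_three.dvd_of_dvd_pow (hn ▸ dvd_refl 3 : 3 ∣ 2 ^ n)
    norm_num at this
  have hxM : x ∈ M := by
    have h2 : x * x ∈ M := Subgroup.mul_self_mem_of_index_two F.idx x
    have h4 : x * x * (x * x) = x := by rw [← mul_assoc, hx3, one_mul]
    exact h4 ▸ mul_mem h2 h2
  obtain ⟨k, hk, hkact⟩ := F.mem_M x hxM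
  have hk3 : k * k * k = 1 := S_ext fun v => by
    have h := F.act_mul_smul (fun v => F.act_mul_smul hkact hkact v) hkact v
    rw [hx3, map_one] at h
    rw [one_smul]
    exact h.symm
  have hcyc : ∀ y ∈ X, y = 1 ∨ y = x ∨ y = x * x := by
    intro y hy
    have hy' : (⟨y, hy⟩ : X) ∈ Subgroup.zpowers (⟨x, hxX⟩ : X) := hxgen _
    rw [mem_zpowers_iff_mem_range_orderOf, Finset.mem_image] at hy'
    obtain ⟨i, hi, he⟩ := hy'
    rw [Finset.mem_range, Subgroup.orderOf_mk, hord] at hi
    have he' : x ^ i = y := congrArg Subtype.val he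
    interval_cases i
    · exact Or.inl (by rw [← he', pow_zero])
    · exact Or.inr (Or.inl (by rw [← he', pow_one]))
    · exact Or.inr (Or.inr (by rw [← he', pow_two]))
  -- the action is scalar
  have hkc : ∀ y : K0, y * ⟨k, hk⟩ = ⟨k, hk⟩ * y := by
    refine central_of_pm K0_perfect _ fun y => ?_
    obtain ⟨m, hm, hme⟩ := F.of_K0 y.1 y.2
    have hmem : m * x * m⁻¹ ∈ X ⊔ Q := hXQ.conj_mem x (Subgroup.mem_sup_left hxX) m
    rw [← SetLike.mem_coe, Subgroup.mul_normal] at hmem
    obtain ⟨p, hp, q, hq, he⟩ := hmem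
    have hact : ∀ v, F.act (m * x * m⁻¹) v = (y.1 * k * y.1⁻¹) • v := fun v => by
      refine F.act_mul_smul (fun v => F.act_mul_smul hme hkact v) (fun v => ?_) v
      rw [map_inv]
      exact (F.act m).symm_apply_eq.2 (by rw [hme, smul_inv_smul])
    have he' : p * q = m * x * m⁻¹ := he
    have hp' : ∀ v, F.act p v = (y.1 * k * y.1⁻¹) • v := fun v => by
      rw [← hact, ← he', map_mul, Equiv.Perm.mul_apply, (F.ker q).2 hq]; rfl
    rcases hcyc p hp with e | e | e
    · exfalso
      refine hxQ ((F.ker x).1 (Equiv.ext fun v => ?_))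
      rw [hkact]
      have h1 : y.1 * k * y.1⁻¹ = 1 := S_ext fun v => by rw [← hp', e, map_one, one_smul]; rfl
      rw [mul_inv_eq_one, mul_eq_left] at h1
      rw [h1, one_smul]; rfl
    · exact Or.inl (Subtype.ext (S_ext fun v => by
        show (y.1 * k * y.1⁻¹) • v = k • v
        rw [← hp', e, hkact]))
    · refine Or.inr (Subtype.ext ?_)
      show y.1 * k * y.1⁻¹ = k⁻¹
      rw [eq_inv_iff_mul_eq_one]
      exact (congrArg (· * k) (S_ext fun v => by
        rw [← hp', e]; exact F.act_mul_smul hkact hkact v : y.1 * k * y.1⁻¹ = k * k)).trans hk3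
  obtain ⟨l, hl⟩ := mem_center_S.1 (mem_center_of_comm fun n hn =>
    (congrArg Subtype.val (hkc ⟨n, good_K0.le hn⟩)).symm)
  have hl1 : l ≠ 1 := fun e => hxQ ((F.ker x).1 (Equiv.ext fun v => by rw [hkact, hl, e, one_smul]; rfl))
  have hl0 : l ≠ 0 := fun e => by
    have h := hl fv
    rw [e, zero_smul] at h
    have h' : k • fv = k • (0 : V) := by rw [h, smul_def, Matrix.mulVec_zero]
    exact absurd (MulAction.injective k h') (by decide +kernel)
  -- the centralizer
  set C := Subgroup.centralizer (X : Set (Cz z)) with hC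
  have hCx : ∀ c : Cz z, c ∈ C ↔ c * x = x * c := by
    intro c
    rw [hC, Subgroup.mem_centralizer_iff]
    refine ⟨fun h => (h x hxX).symm, fun h y hy => ?_⟩
    obtain ⟨n, rfl⟩ := hxz y hy
    exact ((Commute.zpow_right (show Commute c x from h) n).eq).symm
  have hCM : C ≤ M := by
    intro c hc
    by_contra hcM
    have ha := hanti c hcM
    have h1 : ∀ v, F.act c (l • v) = l • F.act c v := fun v => by
      rw [← hl, ← hkact, ← Equiv.Perm.mul_apply, ← map_mul, (hCx c).1 hc, map_mul, Equiv.Perm.mul_apply,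
        hkact, hl]
    obtain ⟨a, ha'⟩ := F.surj fv
    have key : ∀ v, FF.w • F.act c v = FF.w2 • F.act c v := fun v => by
      rcases FF_cases l hl0 with e | e | e
      · exact absurd e hl1
      · rw [e] at h1; rw [← h1, ha]
      · rw [e] at h1
        have := h1 v
        rw [show (FF.w2 • v : V) = FF.w • (FF.w • v) by rw [smul_smul]; rfl, ha, ha, smul_smul,
          show FF.w2 * FF.w2 = FF.w from rfl] at this
        exact this
    have h2 := key ((F.act c).symm fv)
    rw [Equiv.apply_symm_apply] at h2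
    exact absurd h2 (by decide +kernel)
  let xC : C := ⟨x, (hCx x).2 rfl⟩
  have hzC : z ∈ Cz z := Subgroup.mem_centralizer_singleton_iff.2 rfl
  have hzQ : (⟨z, hzC⟩ : Cz z) ∈ Q := by
    obtain ⟨_, h⟩ := Cfsg.Agent.MonsterOrbits.mem_bigQ.1 (Cfsg.Agent.MonsterOrbits.ctr_bigQ hS).z_mem
    exact h
  have hzc : ∀ c : Cz z, c * ⟨z, hzC⟩ = ⟨z, hzC⟩ * c := fun c =>
    Subtype.ext (Subgroup.mem_centralizer_singleton_iff.1 c.2)
  let zC : C := ⟨⟨z, hzC⟩, (hCx _).2 (hzc x).symm⟩
  let r : C →* K0 := (F.toS.comp (Subgroup.inclusion hCM)).codRestrict K0 fun c => F.toS_mem _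
  have hr : ∀ (c : C) v, F.act c v = (r c).1 • v := fun c v => F.toS_spec ⟨c, hCM c.2⟩ v
  have hrker : ∀ c : C, r c = 1 ↔ c = 1 ∨ c = zC := by
    intro c
    constructor
    · intro h
      have hcQ : (c : Cz z) ∈ Q := (F.toS_eq_one (m := ⟨c, hCM c.2⟩)).1 (congrArg Subtype.val h)
      have h1 : F.φ ⟨c, hcQ⟩ = l • F.φ ⟨c, hcQ⟩ := by
        rw [← hl, ← hkact, ← F.conj]
        congr 1
        refine Subtype.ext ?_
        rw [MulAut.conjNormal_apply]
        show (c : Cz z) = x * (c : Cz z) * x⁻¹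
        rw [← (hCx c).1 c.2, mul_inv_cancel_right]
      have h0 : F.φ ⟨c, hcQ⟩ = 0 := funext fun i => (show ∀ a b : FF, b ≠ 1 → a = b * a → a = 0 by decide) _ l hl1
        (congrFun h1 i)
      rcases (Cfsg.Agent.MonsterOrbits.mem_center_iff' hS).1 ((F.zero _).1 h0) with e | e
      · exact Or.inl (Subtype.ext (Subtype.ext e))
      · exact Or.inr (Subtype.ext (Subtype.ext e))
    · rintro (rfl | rfl)
      · exact map_one r
      · exact Subtype.ext ((F.toS_eq_one (m := ⟨⟨z, hzC⟩, hCM zC.2⟩)).2 hzQ)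
  have hsurj : Function.Surjective r := by
    rintro ⟨y, hy⟩
    obtain ⟨m, hm, hme⟩ := F.of_K0 y hy
    set Y := X ⊔ Q with hY
    have hyY : m * x * m⁻¹ ∈ Y := hXQ.conj_mem x (Subgroup.mem_sup_left hxX) m
    have hYcard : Nat.card Y ∣ 3 * 2 ^ 13 := by
      have h1 := Subgroup.card_mul_index (Q.subgroupOf Y)
      have h2 : (Q.subgroupOf Y).index ∣ 3 := by
        rw [← hX]
        let f : X →* Y ⧸ Q.subgroupOf Y := (QuotientGroup.mk' _).comp (Subgroup.inclusion (le_sup_left : X ≤ Y))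
        have hf : Function.Surjective f := fun w => by
          obtain ⟨⟨u, hu⟩, rfl⟩ := QuotientGroup.mk_surjective w
          have hu' := hu
          rw [← SetLike.mem_coe, hY, Subgroup.mul_normal] at hu'
          obtain ⟨p, hp, q, hq, rfl⟩ := hu'
          refine ⟨⟨p, hp⟩, QuotientGroup.eq.2 ?_⟩
          rw [Subgroup.mem_subgroupOf]
          show p⁻¹ * (p * q) ∈ Q
          rwa [inv_mul_cancel_left]
        exact Subgroup.card_dvd_of_surjective f hf
      have hQ' : Nat.card (Q.subgroupOf Y) = 2 ^ 13 := by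
        rw [Nat.card_congr (Subgroup.subgroupOfEquivOfLe (le_sup_right : Q ≤ Y)).toEquiv, hQcard]
      rw [← h1, hQ', mul_comm 3]
      exact Nat.mul_dvd_mul_left _ h2
    have hsyl : ∀ u : Y, orderOf u = 3 → Nat.card (Subgroup.zpowers u) = 3 ^ (Nat.card Y).factorization 3 := by
      intro u hu
      rw [Nat.card_zpowers, hu]
      have h3 : 3 ∣ Nat.card Y := hu ▸ orderOf_dvd_natCard u
      have hne : Nat.card Y ≠ 0 := Nat.card_pos.ne'
      have h1 : 1 ≤ (Nat.card Y).factorization 3 :=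
        (Nat.Prime.pow_dvd_iff_le_factorization Nat.prime_three hne).1 (by rwa [pow_one])
      have h9 : ¬ 3 ^ 2 ∣ Nat.card Y := fun h => by
        have := h.trans hYcard
        norm_num at this
      have h2 : (Nat.card Y).factorization 3 < 2 := by
        by_contra hh
        exact h9 ((Nat.Prime.pow_dvd_iff_le_factorization Nat.prime_three hne).2 (by omega))
      rw [show (Nat.card Y).factorization 3 = 1 by omega, pow_one]
    set ux : Y := ⟨x, Subgroup.mem_sup_left hxX⟩
    set uy : Y := ⟨m * x * m⁻¹, hyY⟩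
    have hox : orderOf ux = 3 := by rw [Subgroup.orderOf_mk, hord]
    have hoy : orderOf uy = 3 := by
      rw [Subgroup.orderOf_mk, ← hord]
      exact orderOf_injective (MulAut.conj m).toMonoidHom (MulAut.conj m).injective x
    obtain ⟨p, hp⟩ := MulAction.exists_smul_eq Y (Sylow.ofCard _ (hsyl uy hoy)) (Sylow.ofCard _ (hsyl ux hox))
    have hmem : p * uy * p⁻¹ ∈ Subgroup.zpowers ux := by
      have : p * uy * p⁻¹ ∈ ((p • Sylow.ofCard _ (hsyl uy hoy) : Sylow 3 Y) : Subgroup Y) := by
        refine ⟨uy, ?_, rfl⟩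
        show uy ∈ Subgroup.zpowers uy
        exact Subgroup.mem_zpowers uy
      rw [hp] at this
      exact this
    obtain ⟨n, hn⟩ := Subgroup.mem_zpowers_iff.1 hmem
    have hpm : (p : Cz z) ∈ X ⊔ Q := p.2
    rw [← SetLike.mem_coe, Subgroup.mul_normal] at hpm
    obtain ⟨p0, hp0, q, hq, hpe'⟩ := hpm
    have hpe : p0 * q = (p : Cz z) := hpe'
    obtain ⟨n0, rfl⟩ := hxz p0 hp0
    have hn' : (x ^ n0 * q) * (m * x * m⁻¹) * (x ^ n0 * q)⁻¹ = x ^ n := by
      rw [show x ^ n0 * q = (p : Cz z) from hpe]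
      exact (congrArg (fun u : Y => (u : Cz z)) hn).symm.trans (Subgroup.coe_zpow _ ux n)
    have hq1 : q * (m * x * m⁻¹) * q⁻¹ = x ^ n := by
      calc q * (m * x * m⁻¹) * q⁻¹ = (x ^ n0)⁻¹ * ((x ^ n0 * q) * (m * x * m⁻¹) * (x ^ n0 * q)⁻¹) * x ^ n0 := by group
        _ = (x ^ n0)⁻¹ * x ^ n * x ^ n0 := by rw [hn']
        _ = x ^ n := by group
    have hq2 : q * (m * x * m⁻¹) * q⁻¹ = x := by
      rcases hcyc (x ^ n) (zpow_mem hxX n) with e | e | e <;> rw [e] at hq1
      · exfalso
        rw [mul_inv_eq_one, mul_eq_left, mul_inv_eq_one, mul_eq_left] at hq1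
        exact hxQ (hq1 ▸ one_mem _)
      · exact hq1
      · exfalso
        have h1 : ∀ v, F.act (q * (m * x * m⁻¹) * q⁻¹) v = l • v := fun v => by
          have hqi : F.act q⁻¹ = 1 := (F.ker _).2 (inv_mem hq)
          rw [map_mul, map_mul, hqi, mul_one, (F.ker q).2 hq, one_mul, map_mul, map_mul, Equiv.Perm.mul_apply,
            Equiv.Perm.mul_apply, hkact, hl, hme, map_inv, smul_smulV]
          congr 1
          rw [← hme]
          exact (F.act m).apply_symm_apply v
        rw [hq1] at h1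
        refine hxQ ((F.ker x).1 (Equiv.ext fun v => ?_))
        have h2 := h1 v
        rw [map_mul, Equiv.Perm.mul_apply, hkact, hkact, hl, hl] at h2
        rw [hkact, hl]
        funext i
        exact (show ∀ a b : FF, b ≠ 0 → b * (b * a) = b * a → b * a = a by decide) _ _ hl0 (congrFun h2 i)
    refine ⟨⟨q * m, (hCx _).2 ?_⟩, Subtype.ext (F.toS_eq fun v => ?_)⟩
    · calc q * m * x = q * (m * x * m⁻¹) * q⁻¹ * (q * m) := by group
        _ = _ := by rw [hq2]
    · show F.act (q * m) v = y • v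
      rw [map_mul, (F.ker q).2 hq, one_mul, hme]
  -- the centre
  obtain ⟨hZ3, ⟨η⟩⟩ := trip_K0
  have hrx : (r xC).1 = k := F.toS_eq hkact
  have hxc : r xC ∈ Subgroup.center K0 := by
    rw [show r xC = ⟨k, hk⟩ from Subtype.ext hrx]
    exact Subgroup.mem_center_iff.2 hkc
  have hx3C : xC * xC * xC = 1 := Subtype.ext hx3
  have hrx1 : r xC ≠ 1 := fun e => hl1 (by
    have h1 := hl fv
    have hk1 : k = 1 := hrx.symm.trans (congrArg Subtype.val e)
    rw [show k • fv = (1 : S) • fv from congrArg (· • fv) hk1, one_smul] at h1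
    have h2 := congrFun h1 0
    simpa [fv] using h2.symm)
  have hcen : ∀ c : C, c ∈ Subgroup.center C ↔ c ∈ Subgroup.zpowers (xC * zC) := by
    have hxz' : Commute xC zC := Subtype.ext (hzc x)
    have hz2 : zC * zC = 1 := Subtype.ext (Subtype.ext (Cfsg.Agent.MonsterOrbits.ctr_bigQ hS).zz)
    have hxmem : xC ∈ Subgroup.zpowers (xC * zC) := ⟨4, by
      show (xC * zC) ^ (4 : ℤ) = xC
      rw [hxz'.mul_zpow]
      simp only [show (4 : ℤ) = ((4 : ℕ) : ℤ) from rfl, zpow_natCast]
      rw [show zC ^ 4 = (zC * zC) * (zC * zC) by simp [pow_succ, mul_assoc], hz2,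
        show xC ^ 4 = xC * xC * xC * xC by simp [pow_succ], hx3C]
      simp⟩
    have hzmem : zC ∈ Subgroup.zpowers (xC * zC) := by
      have := mul_mem (inv_mem hxmem) (Subgroup.mem_zpowers (xC * zC))
      rwa [inv_mul_cancel_left] at this
    have hxcen : xC ∈ Subgroup.center C := Subgroup.mem_center_iff.2 fun d => Subtype.ext ((hCx d).1 d.2)
    have hzcen : zC ∈ Subgroup.center C := Subgroup.mem_center_iff.2 fun d => Subtype.ext (hzc d)
    intro c
    refine ⟨fun hc => ?_, fun hc => ?_⟩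
    · have h1 : r c ∈ Subgroup.center K0 := Subgroup.mem_center_iff.2 fun y => by
        obtain ⟨d, rfl⟩ := hsurj y
        rw [← map_mul, ← map_mul, Subgroup.mem_center_iff.1 hc d]
      have h2 := mem_zpowers_of_prime_card hZ3 (g := (⟨r xC, hxc⟩ : Subgroup.center K0)) (g' := ⟨r c, h1⟩)
        (fun e => hrx1 (congrArg Subtype.val e))
      obtain ⟨n, hn⟩ := Subgroup.mem_zpowers_iff.1 h2
      have hn' : r (xC ^ n) = r c := by
        rw [map_zpow]; exact congrArg Subtype.val hn
      have h3 : r ((xC ^ n)⁻¹ * c) = 1 := by rw [map_mul, map_inv, hn', inv_mul_cancel]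
      have h4 : (xC ^ n)⁻¹ * c ∈ Subgroup.zpowers (xC * zC) := by
        rcases (hrker _).1 h3 with e | e <;> rw [e]
        · exact one_mem _
        · exact hzmem
      simpa using mul_mem (zpow_mem hxmem n) h4
    · exact (Subgroup.zpowers_le.2 (mul_mem hxcen hzcen)) hc
  have hcenter : Subgroup.center C = Subgroup.zpowers (xC * zC) := SetLike.ext hcen
  have hoz : orderOf zC = 2 := by
    refine orderOf_eq_prime ?_ fun e => ?_
    · rw [pow_two]; exact Subtype.ext (Subtype.ext (Cfsg.Agent.MonsterOrbits.ctr_bigQ hS).zz)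
    · exact (Cfsg.Agent.MonsterOrbits.ctr_bigQ hS).ne_one (congrArg (fun c : C => ((c : Cz z) : G)) e)
  have hox : orderOf xC = 3 := by rw [Subgroup.orderOf_mk, hord]
  have hcard6 : Nat.card (Subgroup.center C) = 6 := by
    rw [hcenter, Nat.card_zpowers,
      (show Commute xC zC from Subtype.ext (hzc x)).orderOf_mul_eq_mul_orderOf_of_coprime
        (by rw [hox, hoz]; norm_num), hox, hoz]
  have hcyclic : IsCyclic (Subgroup.center C) := by rw [hcenter]; infer_instance
  -- perfect
  have hcomK : (commutator C).map r = ⊤ := by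
    rw [_root_.commutator_def, Subgroup.map_commutator, Subgroup.map_top_of_surjective r hsurj,
      ← _root_.commutator_def, K0_perfect]
  have hperf : commutator C = ⊤ := by
    by_cases hzD : zC ∈ commutator C
    · refine eq_top_iff.2 fun c _ => ?_
      obtain ⟨d, hd, he⟩ : r c ∈ (commutator C).map r := hcomK ▸ Subgroup.mem_top _
      have h3 : r (d⁻¹ * c) = 1 := by rw [map_mul, map_inv, he, inv_mul_cancel]
      rcases (hrker _).1 h3 with e | e
      · rw [inv_mul_eq_one.1 e] at hd; exact hd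
      · have := mul_mem hd hzD
        rwa [← e, mul_inv_cancel_left] at this
    · exfalso
      have hinj : Function.Injective (r.comp (commutator C).subtype) := by
        rw [injective_iff_map_eq_one]
        rintro ⟨d, hd⟩ h
        rcases (hrker d).1 h with e | e
        · exact Subtype.ext e
        · exact absurd (e ▸ hd) hzD
      have hs : Function.Surjective (r.comp (commutator C).subtype) := fun y => by
        obtain ⟨d, hd, he⟩ : y ∈ (commutator C).map r := hcomK ▸ Subgroup.mem_top _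
        exact ⟨⟨d, hd⟩, he⟩
      let ε := MulEquiv.ofBijective _ ⟨hinj, hs⟩
      let ι : StabK fv →* Cz z := (C.subtype.comp (commutator C).subtype).comp
        (ε.symm.toMonoidHom.comp (Subgroup.inclusion (show StabK fv ≤ K0 from inf_le_left)))
      refine no_lift hS F ι fun y v => ?_
      show F.act ((ε.symm _ : commutator C) : C) v = _
      rw [hr]
      congr 1
      exact congrArg Subtype.val (ε.apply_symm_apply _)
  -- the quotient
  let π : C →* Cfsg.PSU 4 Nine 3 := η.toMonoidHom.comp ((QuotientGroup.mk' (Subgroup.center K0)).comp r)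
  have hπ : Function.Surjective π := η.surjective.comp ((QuotientGroup.mk'_surjective _).comp hsurj)
  have hπker : π.ker = Subgroup.center C := by
    ext c
    rw [MonoidHom.mem_ker]
    show η (QuotientGroup.mk' _ (r c)) = 1 ↔ _
    rw [MulEquiv.map_eq_one_iff, QuotientGroup.mk'_apply, QuotientGroup.eq_one_iff]
    refine ⟨fun h => ?_, fun h => Subgroup.mem_center_iff.2 fun y => ?_⟩
    · obtain ⟨n, hn⟩ := Subgroup.mem_zpowers_iff.1 (mem_zpowers_of_prime_card hZ3
        (g := (⟨r xC, hxc⟩ : Subgroup.center K0)) (g' := ⟨r c, h⟩) fun e => hrx1 (congrArg Subtype.val e))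
      have hn' : r (xC ^ n) = r c := by rw [map_zpow]; exact congrArg Subtype.val hn
      have h3 : r ((xC ^ n)⁻¹ * c) = 1 := by rw [map_mul, map_inv, hn', inv_mul_cancel]
      have hxcen : xC ∈ Subgroup.center C := Subgroup.mem_center_iff.2 fun d => Subtype.ext ((hCx d).1 d.2)
      have h4 : (xC ^ n)⁻¹ * c ∈ Subgroup.center C := by
        rcases (hrker _).1 h3 with e | e <;> rw [e]
        · exact one_mem _
        · exact Subgroup.mem_center_iff.2 fun d => Subtype.ext (hzc d)
      simpa using mul_mem (zpow_mem hxcen n) h4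
    · obtain ⟨d, rfl⟩ := hsurj y
      rw [← map_mul, ← map_mul, Subgroup.mem_center_iff.1 h d]
  let e : C ⧸ Subgroup.center C ≃* Cfsg.PSU 4 Nine 3 :=
    (QuotientGroup.quotientMulEquivOfEq hπker.symm).trans (QuotientGroup.quotientKerEquivOfSurjective π hπ)
  haveI := pSU43_simple
  refine ⟨⟨Group.isPerfect_def.2 hperf, ?_⟩, hcyclic, hcard6, ⟨e⟩⟩
  haveI : Nontrivial (C ⧸ Subgroup.center C) := e.toEquiv.nontrivial
  exact IsSimpleGroup.isSimpleGroup_of_surjective e.symm.toMonoidHom e.symm.surjective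

end Cfsg.Agent.LargeExtra.Fischer
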