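import Cfsg.Agent.Lib.LargeExtra.Fischer.Classes
import Cfsg.Agent.Lib.LargeExtra.Fischer.ThreeCore
import Cfsg.Agent.Lib.PGroups.Extraspecial

/-!
The centralizer of an element of order three above the scalars: lifts of the two elementary abelian
groups are elementary abelian and centralise the preimage of the totally singular subspace.
-/

set_option autoImplicit false

namespace Cfsg.Agent.LargeExtra.Fischer

open Cfsg.Agent.InvChar.Coset
open Cfsg.Agent.Components.UnitarySix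
open Cfsg.Agent.MonsterOrbits (mem_center_iff')

theorem U_facts : (∀ a b c : FF, H (Upar a b c) (Upar a b c) = 0) := by decide +kernel

theorem InU2_add {u v : V} (hu : InU2 u) (hv : InU2 v) : InU2 (u + v) :=
  ⟨by rw [Pi.add_apply, Pi.add_apply, hu.1, hv.1], by rw [Pi.add_apply, Pi.add_apply, hu.2.1, hv.2.1],
    by rw [Pi.add_apply, Pi.add_apply, hu.2.2, hv.2.2]⟩

theorem InU2_smul (l : FF) {u : V} (hu : InU2 u) : InU2 (l • u) :=
  ⟨by rw [Pi.smul_apply, Pi.smul_apply, hu.1], by rw [Pi.smul_apply, Pi.smul_apply, hu.2.1],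
    by rw [Pi.smul_apply, Pi.smul_apply, hu.2.2]⟩

theorem card_InU2 : Nat.card {v : V // InU2 v} = 64 := by
  rw [Nat.card_eq_fintype_card, Fintype.card_subtype]
  decide +kernel

theorem gen_prods : (∀ i j : Fin 4, i ≠ j → mulC fv (pc i) (pc j) ≠ 0) ∧
    mulC fv (mulC fv (pc 0) (pc 1)) (pc 2) ≠ 0 ∧ ∀ i : Fin 4, pc i ≠ 0 := by decide +kernel

theorem gen_prod_ne : (∀ i : Fin 4, gen i ≠ 1) ∧ (∀ i j : Fin 4, i ≠ j → gen i * gen j ≠ 1) ∧
    gen 0 * gen 1 * gen 2 ≠ 1 := by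
  refine ⟨fun i e => gen_prods.2.2 i ?_, fun i j hij e => gen_prods.1 i j hij ?_, fun e => gen_prods.2.1 ?_⟩
  · rw [← (gen_mem i).2.2, e, cmap_one]
  · rw [← (gen_mem i).2.2, ← (gen_mem j).2.2, ← cmap_mul fv0 (gen_mem i).1 (gen_mem j).1, e, cmap_one]
  · rw [← (gen_mem 0).2.2, ← (gen_mem 1).2.2, ← (gen_mem 2).2.2, ← cmap_mul fv0 (gen_mem 0).1 (gen_mem 1).1,
      ← cmap_mul fv0 (mul_mem (gen_mem 0).1 (gen_mem 1).1) (gen_mem 2).1, e, cmap_one]

variable {G : Type*} [Group G] [Finite G] {z : G} {Q : Subgroup (Cz z)} [Q.Normal] {M : Subgroup (Cz z)}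

/-- An element of order three acting as a scalar. -/
structure Scal (F : Frame z Q M) (x : Cz z) where
  /-- the scalar -/
  l : FF
  hl0 : l ≠ 0
  hl1 : l ≠ 1
  hord : orderOf x = 3
  act : ∀ v, F.act x v = l • v

variable (hS : Cfsg.IsExtraspecialCentralizerSetting z Q 6) (F : Frame z Q M)

include hS in
/-- Such an element exists, and its product with the extraspecial group is normal. -/
theorem exists_scal : ∃ x : Cz z, Nonempty (Scal F x) := by
  classical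
  obtain ⟨-, -, hE, -, -⟩ := id hS
  have hc := trip_K0.1
  haveI : Nontrivial (Subgroup.center K0) := Finite.one_lt_card_iff_nontrivial.1 (by rw [hc]; norm_num)
  obtain ⟨⟨⟨k, hk⟩, hkc⟩, hk1⟩ := exists_ne (1 : Subgroup.center K0)
  obtain ⟨l, hl⟩ := mem_center_S.1 (mem_center_of_comm fun n hn =>
    (congrArg Subtype.val (Subgroup.mem_center_iff.1 hkc ⟨n, good_K0.le hn⟩)).symm)
  have hl1 : l ≠ 1 := fun e => hk1 (Subtype.ext (Subtype.ext (S_ext fun v => by
    show k • v = (1 : S) • v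
    rw [hl, e, one_smul, one_smul])))
  have hl0 : l ≠ 0 := fun e => by
    have h := hl fv
    rw [e, zero_smul] at h
    have h' : k • fv = k • (0 : V) := by rw [h, smul_def, Matrix.mulVec_zero]
    exact absurd (MulAction.injective k h') (by decide +kernel)
  obtain ⟨m, hm, hme⟩ := F.of_K0 k hk
  have hact : ∀ (n : ℕ) v, F.act (m ^ n) v = l ^ n • v := by
    intro n
    induction n with
    | zero => intro v; rw [pow_zero, map_one, pow_zero, one_smul]; rfl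
    | succ n ih =>
      intro v
      rw [pow_succ, map_mul, Equiv.Perm.mul_apply, hme, ih, hl, smul_smul, pow_succ]
  have hl3 : l ^ 3 = 1 := (show ∀ a : FF, a ≠ 0 → a ^ 3 = 1 by decide) l hl0
  haveI : Fact (Nat.Prime 2) := ⟨Nat.prime_two⟩
  have hm3 : m ^ 3 ∈ Q := (F.ker _).1 (Equiv.ext fun v => by rw [hact, hl3, one_smul]; rfl)
  obtain ⟨j, hj⟩ := hE.1.1 ⟨m ^ 3, hm3⟩
  have hj' : (m ^ (2 ^ j)) ^ 3 = 1 := by
    have h := congrArg Subtype.val hj
    rw [SubgroupClass.coe_pow, Subgroup.coe_one, ← pow_mul] at h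
    rw [← pow_mul, mul_comm]; exact h
  have hlj : l ^ (2 ^ j) ≠ 1 := fun e => hl1 (by
    have hd := orderOf_dvd_of_pow_eq_one e
    have h3 := orderOf_dvd_of_pow_eq_one hl3
    have hg := Nat.dvd_gcd h3 hd
    rw [show Nat.gcd 3 (2 ^ j) = 1 from Nat.Coprime.pow_right j (by norm_num)] at hg
    exact orderOf_eq_one_iff.1 (Nat.dvd_one.1 hg))
  refine ⟨m ^ (2 ^ j), ⟨⟨l ^ (2 ^ j), pow_ne_zero _ hl0, hlj, ?_, hact _⟩⟩⟩
  haveI : Fact (Nat.Prime 3) := ⟨Nat.prime_three⟩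
  exact orderOf_eq_prime hj' fun e => hlj (by
    have h := hact (2 ^ j) fv
    rw [e, map_one] at h
    simpa [fv] using (congrFun h 0).symm)

variable {x : Cz z} (X : Scal F x)

include hS in
theorem zmem : z ∈ Cz z ∧ ∀ h : z ∈ Cz z, (⟨z, h⟩ : Cz z) ∈ Q := by
  refine ⟨Subgroup.mem_centralizer_singleton_iff.2 rfl, fun h => ?_⟩
  obtain ⟨_, h'⟩ := Cfsg.Agent.MonsterOrbits.mem_bigQ.1 (Cfsg.Agent.MonsterOrbits.ctr_bigQ hS).z_mem
  exact h'

omit [Q.Normal] in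
theorem zcomm (h : z ∈ Cz z) (c : Cz z) : c * ⟨z, h⟩ = ⟨z, h⟩ * c :=
  Subtype.ext (Subgroup.mem_centralizer_singleton_iff.1 c.2)

include hS in
theorem z_sq (h : z ∈ Cz z) : (⟨z, h⟩ : Cz z) * ⟨z, h⟩ = 1 := Subtype.ext (Cfsg.Agent.MonsterOrbits.ctr_bigQ hS).zz

include hS in
theorem z_ne (h : z ∈ Cz z) : (⟨z, h⟩ : Cz z) ≠ 1 := fun e =>
  (Cfsg.Agent.MonsterOrbits.ctr_bigQ hS).ne_one (congrArg Subtype.val e)

include hS in
/-- Two members of the extraspecial group with the same image. -/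
theorem eq_or_mul (h : z ∈ Cz z) {a b : Q} (e : F.φ a = F.φ b) :
    (a : Cz z) = b ∨ (a : Cz z) = b * ⟨z, h⟩ := by
  have h0 : F.φ (b⁻¹ * a) = 0 := by
    have h1 : F.φ b + F.φ (b⁻¹ * a) = F.φ b := by rw [← F.φ_mul, mul_inv_cancel_left, e]
    exact add_eq_left.1 h1
  rcases (mem_center_iff' hS).1 ((F.zero _).1 h0) with e' | e'
  · exact Or.inl (inv_mul_eq_one.1 (Subtype.ext e' : (b : Cz z)⁻¹ * a = 1)).symm
  · exact Or.inr (inv_mul_eq_iff_eq_mul.1 (Subtype.ext e' : (b : Cz z)⁻¹ * a = ⟨z, h⟩))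

/-- The lifts of a transformation commuting with the element of order three. -/
def IsLift (k : S) (c : Cz z) : Prop := (∀ v, F.act c v = k • v) ∧ c * x = x * c

variable {F} in
theorem IsLift.mul {k l : S} {c d : Cz z} (hc : IsLift F (x := x) k c) (hd : IsLift F (x := x) l d) :
    IsLift F (x := x) (k * l) (c * d) :=
  ⟨F.act_mul_smul hc.1 hd.1, by rw [mul_assoc, hd.2, ← mul_assoc, hc.2, mul_assoc]⟩

variable {F} in
theorem IsLift.inv {k : S} {c : Cz z} (hc : IsLift F (x := x) k c) : IsLift F (x := x) k⁻¹ c⁻¹ :=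
  ⟨fun v => by rw [map_inv]; exact (F.act c).symm_apply_eq.2 (by rw [hc.1, smul_inv_smul]),
    (Commute.inv_left (show Commute c x from hc.2)).eq⟩

include hS X in
theorem lift_kernel (h : z ∈ Cz z) {c : Cz z} (hc : IsLift F (x := x) 1 c) : c = 1 ∨ c = ⟨z, h⟩ := by
  have hcQ : c ∈ Q := (F.ker c).1 (Equiv.ext fun v => by rw [hc.1, one_smul]; rfl)
  have h1 : F.φ ⟨c, hcQ⟩ = X.l • F.φ ⟨c, hcQ⟩ := by
    rw [← X.act, ← F.conj]
    congr 1
    refine Subtype.ext ?_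
    rw [MulAut.conjNormal_apply]
    show c = x * c * x⁻¹
    rw [← hc.2, mul_inv_cancel_right]
  have h0 : F.φ ⟨c, hcQ⟩ = 0 := funext fun i =>
    (show ∀ a b : FF, b ≠ 1 → a = b * a → a = 0 by decide) _ X.l X.hl1 (congrFun h1 i)
  rcases (mem_center_iff' hS).1 ((F.zero _).1 h0) with e | e
  · exact Or.inl (Subtype.ext e)
  · exact Or.inr (Subtype.ext e)

include hS X in
theorem exists_lift_comm {k : S} (hk : k ∈ K0) : ∃ c, c ∈ M ∧ IsLift F (x := x) k c := by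
  obtain ⟨m, hm, hme⟩ := F.of_K0 k hk
  obtain ⟨hz, hzQ⟩ := zmem hS
  have hq : x⁻¹ * (m * x * m⁻¹) ∈ Q := (F.ker _).1 (Equiv.ext fun v => by
    simp only [map_mul, Equiv.Perm.mul_apply, map_inv]
    rw [show (F.act m)⁻¹ v = k⁻¹ • v from (F.act m).symm_apply_eq.2 (by rw [hme, smul_inv_smul])]
    rw [X.act, hme, smul_smulV, smul_inv_smul]
    exact (F.act x).symm_apply_eq.2 (by rw [X.act]; rfl))
  set q : Q := ⟨_, hq⟩
  obtain ⟨l', hl'⟩ : ∃ l', l' * (1 + X.l⁻¹) = 1 := (show ∀ a : FF, a ≠ 0 → a ≠ 1 → ∃ b, b * (1 + a⁻¹) = 1 by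
    decide) X.l X.hl0 X.hl1
  obtain ⟨p, hp⟩ := F.surj (l' • F.φ q)
  have he : F.φ (MulAut.conjNormal x⁻¹ p * q * p⁻¹) = 0 := by
    have hinv : F.φ p⁻¹ = F.φ p := by
      have h1 : F.φ p⁻¹ + F.φ p = 0 := by rw [← F.φ_mul, inv_mul_cancel, F.φ_one]
      calc F.φ p⁻¹ = F.φ p⁻¹ + (F.φ p + F.φ p) := by rw [V_add_self, add_zero]
        _ = F.φ p := by rw [← add_assoc, h1, zero_add]
    rw [F.φ_mul, F.φ_mul, F.conj, hinv, map_inv,
      show (F.act x)⁻¹ (F.φ p) = X.l⁻¹ • F.φ p from (F.act x).symm_apply_eq.2 (by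
        rw [X.act, smul_smul, mul_inv_cancel₀ X.hl0, one_smul]), hp]
    funext i
    simp only [Pi.add_apply, Pi.smul_apply, smul_eq_mul, Pi.zero_apply]
    linear_combination (F.φ q i) * hl' + char_two (F.φ q i)
  have hcx : (p : Cz z) * m * x * ((p : Cz z) * m)⁻¹ = x := by
    have e : x * (x⁻¹ * (p : Cz z) * x * (x⁻¹ * (m * x * m⁻¹)) * (p : Cz z)⁻¹) =
        (p : Cz z) * m * x * ((p : Cz z) * m)⁻¹ := by group
    have e' : ((MulAut.conjNormal x⁻¹ p * q * p⁻¹ : Q) : Cz z) =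
        x⁻¹ * (p : Cz z) * x * (x⁻¹ * (m * x * m⁻¹)) * (p : Cz z)⁻¹ := by
      push_cast [MulAut.conjNormal_apply]
      simp only [inv_inv]
      rfl
    rw [← e, ← e']
    rcases (mem_center_iff' hS).1 ((F.zero _).1 he) with h | h
    · rw [show ((MulAut.conjNormal x⁻¹ p * q * p⁻¹ : Q) : Cz z) = 1 from Subtype.ext h, mul_one]
    · exfalso
      have hxz : ((MulAut.conjNormal x⁻¹ p * q * p⁻¹ : Q) : Cz z) = ⟨z, hz⟩ := Subtype.ext h
      rw [e', ← inv_mul_cancel_left x (_ * _), e, inv_mul_eq_iff_eq_mul] at hxz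
      have ho : orderOf (x * ⟨z, hz⟩) = 3 := by
        rw [← hxz]
        exact (orderOf_injective (MulAut.conj ((p : Cz z) * m)).toMonoidHom
          (MulAut.conj ((p : Cz z) * m)).injective x).trans X.hord
      have hp3 := pow_orderOf_eq_one (x * ⟨z, hz⟩)
      rw [ho, Commute.mul_pow (zcomm hz x), show x ^ 3 = 1 by rw [← X.hord]; exact pow_orderOf_eq_one x, one_mul,
        pow_succ, pow_two, z_sq hS hz, one_mul] at hp3
      exact z_ne hS hz hp3
  refine ⟨(p : Cz z) * m, M.mul_mem (F.le p.2) hm, fun v => ?_, mul_inv_eq_iff_eq_mul.1 hcx⟩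
  rw [map_mul, (F.ker _).2 p.2, one_mul, hme]

include hS X in
theorem lift_unique (h : z ∈ Cz z) {k : S} {c d : Cz z} (hc : IsLift F (x := x) k c) (hd : IsLift F (x := x) k d) :
    c = d ∨ c = d * ⟨z, h⟩ := by
  have h1 : IsLift F (x := x) 1 (d⁻¹ * c) := inv_mul_cancel k ▸ hd.inv.mul hc
  rcases lift_kernel hS F X h h1 with e | e
  · exact Or.inl (inv_mul_eq_one.1 e).symm
  · exact Or.inr (inv_mul_eq_iff_eq_mul.1 e)

include hS X in
/-- Lifts of conjugates of the first generator are involutions. -/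
theorem lift_sq {k : S} (hk : IsG0 k) {c : Cz z} (hc : IsLift F (x := x) k c) : c * c = 1 := by
  obtain ⟨hz, hzQ⟩ := zmem hS
  set Z : Cz z := ⟨z, hz⟩ with hZ
  have hz2 : Z * Z = 1 := z_sq hS hz
  have hzc : ∀ y : Cz z, y * Z = Z * y := zcomm (z := z) hz
  -- all these lifts have the same square
  obtain ⟨c0, -, hc0⟩ := exists_lift_comm hS F X (gen_mem 0).2.1
  have same : ∀ {k : S}, IsG0 k → ∀ {c}, IsLift F (x := x) k c → c * c = c0 * c0 := by
    rintro k ⟨g, hg, rfl⟩ c hc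
    obtain ⟨d, -, hd⟩ := exists_lift_comm hS F X hg
    have hcen : ∀ y : Cz z, y * (c0 * c0) = (c0 * c0) * y := by
      intro y
      have h1 : IsLift F (x := x) 1 (c0 * c0) := T_sq (gen_T 0) ▸ hc0.mul hc0
      rcases lift_kernel hS F X hz h1 with e | e <;> rw [e]
      · rw [mul_one, one_mul]
      · exact hzc y
    have hsq : d * c0 * d⁻¹ * (d * c0 * d⁻¹) = c0 * c0 := by
      rw [show d * c0 * d⁻¹ * (d * c0 * d⁻¹) = d * (c0 * c0) * d⁻¹ by group, hcen, mul_inv_cancel_right]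
    rcases lift_unique hS F X hz hc ((hd.mul hc0).mul hd.inv) with e | e
    · rw [e, hsq]
    · rw [e, show d * c0 * d⁻¹ * Z * (d * c0 * d⁻¹ * Z) = d * c0 * d⁻¹ * (Z * (d * c0 * d⁻¹)) * Z by group,
        ← hzc, show d * c0 * d⁻¹ * (d * c0 * d⁻¹ * Z) * Z = d * c0 * d⁻¹ * (d * c0 * d⁻¹) * (Z * Z) by group,
        hz2, mul_one, hsq]
  rw [same hk hc]
  have h1 : IsLift F (x := x) 1 (c0 * c0) := T_sq (gen_T 0) ▸ hc0.mul hc0
  refine (lift_kernel hS F X hz h1).resolve_right fun hq => ?_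
  have hsqT : ∀ {t : S}, t ∈ T → t ≠ 1 → ∀ {c}, IsLift F (x := x) t c → c * c = Z := fun {_} ht h1 {_} hc =>
    (same (isG0_T ht h1) hc).trans hq
  have anti : ∀ {t u : S}, t ∈ T → u ∈ T → t ≠ 1 → u ≠ 1 → t * u ≠ 1 → ∀ {c d}, IsLift F (x := x) t c →
      IsLift F (x := x) u d → d * c = c * d * Z := by
    intro t u ht hu h1 h2 h3 c d hc hd
    have e1 := hsqT ht h1 hc
    have e2 := hsqT hu h2 hd
    have e3 := hsqT (mul_mem ht hu) h3 (hc.mul hd)
    calc d * c = c⁻¹ * (c * d * (c * d)) * d⁻¹ := by group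
      _ = c⁻¹ * Z * d⁻¹ := by rw [e3]
      _ = c⁻¹ * (c * c) * d⁻¹ := by rw [e1]
      _ = c * d * (d * d)⁻¹ := by group
      _ = c * d * Z := by rw [e2, inv_eq_of_mul_eq_one_right hz2]
  obtain ⟨n1, n2, n3⟩ := gen_prod_ne
  obtain ⟨c1, -, hc1⟩ := exists_lift_comm hS F X (gen_mem 1).2.1
  obtain ⟨c2, -, hc2⟩ := exists_lift_comm hS F X (gen_mem 2).2.1
  have a0 := anti (gen_T 0) (gen_T 2) (n1 0) (n1 2) (n2 0 2 (by decide)) hc0 hc2
  have a1 := anti (gen_T 1) (gen_T 2) (n1 1) (n1 2) (n2 1 2 (by decide)) hc1 hc2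
  have hcm : c2 * (c0 * c1) = c0 * c1 * c2 := by
    calc c2 * (c0 * c1) = c0 * c2 * (Z * c1) := by rw [← mul_assoc, a0]; group
      _ = c0 * c2 * (c1 * Z) := by rw [hzc]
      _ = c0 * (c2 * c1) * Z := by group
      _ = c0 * c1 * c2 * (Z * Z) := by rw [a1]; group
      _ = _ := by rw [hz2, mul_one]
  have a3 := anti (mul_mem (gen_T 0) (gen_T 1)) (gen_T 2) (n2 0 1 (by decide)) (n1 2) n3 (hc0.mul hc1) hc2
  rw [hcm] at a3
  exact z_ne hS hz (left_eq_mul.1 a3)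

include hS X in
/-- Lifts of members of the second group are involutions. -/
theorem lift_sq_EU {k : S} (hk : k ∈ EU) {c : Cz z} (hc : IsLift F (x := x) k c) : c * c = 1 := by
  by_cases h1 : k = 1
  · subst h1
    obtain ⟨hz, -⟩ := zmem hS
    rcases lift_kernel hS F X hz hc with e | e <;> rw [e]
    · exact mul_one 1
    · exact z_sq hS hz
  · exact lift_sq hS F X (isG0_EU hk h1) hc

include hS X in
/-- Such a lift centralises the preimage of the subspace. -/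
theorem lift_centralizes {k : S} (hk : k ∈ EU) {c : Cz z} (hc : IsLift F (x := x) k c) {a : Q}
    (ha : InU2 (F.φ a)) : c * a = a * c := by
  obtain ⟨hz, hzQ⟩ := zmem hS
  set Z : Cz z := ⟨z, hz⟩ with hZ
  have hzc : ∀ y : Cz z, y * Z = Z * y := zcomm (z := z) hz
  have hfix : F.φ (MulAut.conjNormal c a) = F.φ a := by
    rw [F.conj, hc.1]
    exact (mem_fixingSubgroup_iff S).1 hk.2 _ ha
  refine mul_inv_eq_iff_eq_mul.1 ?_
  rcases eq_or_mul hS F hz hfix with e | e <;> rw [MulAut.conjNormal_apply] at e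
  · exact e
  exfalso
  have step : ∀ b : Cz z, c * b * c⁻¹ = b * Z → c * (x * b * x⁻¹) * c⁻¹ = x * b * x⁻¹ * Z := by
    intro b eb
    rw [show c * (x * b * x⁻¹) * c⁻¹ = (c * x) * b * (c * x)⁻¹ by group, hc.2,
      show x * c * b * (x * c)⁻¹ = x * (c * b * c⁻¹) * x⁻¹ by group, eb, mul_assoc, mul_assoc, ← hzc]
    group
  set a1 : Q := MulAut.conjNormal x a
  set a2 : Q := MulAut.conjNormal x a1
  have e1 : c * (a1 : Cz z) * c⁻¹ = a1 * Z := by rw [MulAut.conjNormal_apply]; exact step _ e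
  have e2 : c * (a2 : Cz z) * c⁻¹ = a2 * Z := by rw [MulAut.conjNormal_apply]; exact step _ e1
  have h0 : F.φ (a * a1 * a2) = 0 := by
    rw [F.φ_mul, F.φ_mul, F.conj, F.conj, F.conj, X.act, X.act]
    funext i
    exact (show ∀ l v : FF, l ≠ 0 → l ≠ 1 → v + l * v + l * (l * v) = 0 by decide) _ _ X.hl0 X.hl1
  have hcomm : c * ((a * a1 * a2 : Q) : Cz z) * c⁻¹ = (a * a1 * a2 : Q) := by
    have hcc : ∀ y : Cz z, y = 1 ∨ y = Z → c * y * c⁻¹ = y := by
      rintro y (rfl | rfl)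
      · group
      · rw [hzc, mul_inv_cancel_right]
    refine hcc _ ?_
    rcases (mem_center_iff' hS).1 ((F.zero _).1 h0) with h | h
    · exact Or.inl (Subtype.ext h)
    · exact Or.inr (Subtype.ext h)
  have hexp : c * ((a * a1 * a2 : Q) : Cz z) * c⁻¹ = (a * a1 * a2 : Q) * Z := by
    push_cast
    rw [show c * ((a : Cz z) * a1 * a2) * c⁻¹ = (c * a * c⁻¹) * (c * a1 * c⁻¹) * (c * a2 * c⁻¹) by group, e, e1, e2]
    calc (a : Cz z) * Z * (a1 * Z) * (a2 * Z) = a * (Z * a1) * (Z * a2) * Z := by group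
      _ = a * (a1 * Z) * (Z * a2) * Z := by rw [← hzc]
      _ = a * a1 * (Z * Z) * a2 * Z := by group
      _ = a * a1 * a2 * Z := by rw [z_sq hS hz, mul_one]
  rw [hcomm] at hexp
  exact z_ne hS hz (left_eq_mul.1 hexp)

end Cfsg.Agent.LargeExtra.Fischer
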