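import Cfsg.Agent.Lib.LargeExtra.Fischer.Main
import Cfsg.Agent.Lib.LargeExtra.Fischer.Lifts

/-!
The model side of the normalizer of the large elementary abelian subgroup: the stabiliser of the totally
singular subspace in the triple cover, its action on the pointwise stabiliser and the vectors of both kinds
in the subspace.
-/

set_option autoImplicit false

namespace Cfsg.Agent.LargeExtra.Fischer

open Cfsg.Agent.InvChar.Coset
open Cfsg.Agent.Components.UnitarySix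

/-! ### The pointwise stabiliser -/

set_option maxRecDepth 100000 in
theorem pairs_perm : ∀ σ : Equiv.Perm (Fin 6), Equiv.Perm.sign σ = 1 →
    (∀ j : Fin 2, ∀ i : Fin 6, (Upar (if j = 0 then 1 else 0) (if j = 0 then 0 else 1) 0 (σ.symm i) +
      Upar (if j = 0 then 1 else 0) (if j = 0 then 0 else 1) 0 i) =
      (Upar (if j = 0 then 1 else 0) (if j = 0 then 0 else 1) 0 (σ.symm 0) +
        Upar (if j = 0 then 1 else 0) (if j = 0 then 0 else 1) 0 0)) →
    ∃ d : Fin 8, d.val < 4 ∧ dperm d = σ := by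
  decide +kernel

theorem Upar_orth : ∀ a b c : FF, H (Upar a b c) fv = 0 := by decide +kernel

theorem InU2_fv : InU2 fv := ⟨rfl, rfl, rfl⟩

/-- An element of the model fixing the subspace pointwise. -/
theorem EU_of_fix {k : S} (hk : k ∈ K0) (hf : ∀ v, InU2 v → k • v = v) : k ∈ EU := by
  obtain ⟨t, ht, σ, rfl⟩ := StabK_fv_eq (x := k) ⟨hk, hf _ InU2_fv⟩
  have key : ∀ a b c : FF, ∃ l : FF, altK σ • Upar a b c = Upar a b c + l • fv := fun a b c => by
    obtain ⟨l, hl⟩ := (inv_mem ht : t⁻¹ ∈ T).1.2 _ (Upar_orth a b c)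
    exact ⟨l, by rw [← hl, eq_inv_smul_iff, ← mul_smul, hf _ (InU2_iff.2 ⟨a, b, c, rfl⟩)]⟩
  obtain ⟨d, hd4, hd⟩ := pairs_perm σ.1 (Equiv.Perm.mem_alternatingGroup.1 σ.2) fun j i => by
    obtain ⟨l, hl⟩ := key (if j = 0 then 1 else 0) (if j = 0 then 0 else 1) 0
    have h0 := congrFun hl 0
    have h1 := congrFun hl i
    rw [altK_smul] at h0 h1
    simp only [Pi.add_apply, Pi.smul_apply, smul_eq_mul, fv, mul_one] at h0 h1
    rw [h0, h1, add_comm (Upar _ _ _ i) l, add_comm (Upar _ _ _ 0) l, add_assoc, add_assoc, char_two,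
      char_two]
  refine ⟨⟨t, ht, σ, ⟨d, Subtype.ext hd⟩, rfl⟩, (mem_fixingSubgroup_iff S).2 hf⟩

theorem EU_le_K0 : EU ≤ K0 := fun _ h => (P0_le h.1).1

theorem EU_fix {e : S} (he : e ∈ EU) {v : V} (hv : InU2 v) : e • v = v :=
  (mem_fixingSubgroup_iff S).1 he.2 v hv

set_option maxRecDepth 100000 in
theorem shift_list : ∀ b d, Ep b d → ∀ (i : Fin 6) (l : FF), InU2 (opV b d (l • e i) + l • e i) := by
  decide +kernel

/-- The members move every vector by a vector of the subspace. -/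
theorem EU_shift {x : S} (hx : x ∈ EU) (v : V) : InU2 (x • v + v) := by
  classical
  obtain ⟨b, d, hE, rfl⟩ := mem_EU hx
  rw [show v = ∑ i, v i • (e i : V) from pi_eq_sum_univ' v]
  refine Finset.sum_induction _ (fun w => InU2 (pe b d • w + w)) (fun u u' hu hu' => ?_) ?_ fun i _ => ?_
  · rw [smul_addV, add_add_add_comm]; exact InU2_add hu hu'
  · rw [smul_def, Matrix.mulVec_zero, add_zero]; exact ⟨rfl, rfl, rfl⟩
  · rw [pe_smul]; exact shift_list b d hE i _

/-! ### The stabiliser of the subspace -/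

/-- The elements preserving the subspace. -/
def N2 : Subgroup S where
  carrier := {k | k ∈ K0 ∧ ∀ v, InU2 v → InU2 (k • v)}
  one_mem' := ⟨one_mem _, fun v hv => by rwa [one_smul]⟩
  mul_mem' := fun ⟨ha, ha'⟩ ⟨hb, hb'⟩ => ⟨mul_mem ha hb, fun v hv => by rw [mul_smul]; exact ha' _ (hb' v hv)⟩
  inv_mem' := fun {k} ⟨hk, hk'⟩ => ⟨inv_mem hk, fun v hv => by
    have h : ∀ n : ℕ, InU2 (k ^ n • v) := fun n => by
      induction n with
      | zero => rwa [pow_zero, one_smul]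
      | succ n ih => rw [pow_succ', mul_smul]; exact hk' _ ih
    have e : k ^ (orderOf k - 1) = k⁻¹ := eq_inv_of_mul_eq_one_right (by
      rw [← pow_succ', Nat.sub_add_cancel (orderOf_pos k), pow_orderOf_eq_one])
    exact e ▸ h _⟩

theorem N2_conj_EU {k e : S} (hk : k ∈ N2) (he : e ∈ EU) : k * e * k⁻¹ ∈ EU :=
  EU_of_fix (mul_mem (mul_mem hk.1 (EU_le_K0 he)) (inv_mem hk.1)) fun v hv => by
    rw [mul_smul, mul_smul, EU_fix he ((inv_mem hk : k⁻¹ ∈ N2).2 v hv), smul_inv_smul]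

theorem EU_le_N2 : EU ≤ N2 := fun _ he => ⟨EU_le_K0 he, fun _ hv => by rw [EU_fix he hv]; exact hv⟩

/-- The permutation moving the pairs cyclically. -/
def piA : alternatingGroup (Fin 6) :=
  ⟨⟨![2, 3, 4, 5, 0, 1], ![4, 5, 0, 1, 2, 3], by decide, by decide⟩,
    Equiv.Perm.mem_alternatingGroup.2 (by decide)⟩

/-- The diagonal generator. -/
def dD : Dset := ⟨![1, 1, .w, .w, .w2, .w2], by decide +kernel⟩

/-- The parameter of the radical generator. -/
def b8 : Fin 4 → Bool := ![false, false, false, true]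

/-- The three generators. -/
def g3 : Fin 3 → S := ![elT b8, altK piA, diagS dD]

/-- Their actions. -/
def g3V : Fin 3 → V → V :=
  ![radMap fv (cOf b8), fun v i => v (piA.1.symm i), fun v i => dD.1 i * v i]

theorem g3_smul (j : Fin 3) (v : V) : g3 j • v = g3V j v := by
  fin_cases j
  · exact elT_smul _ _
  · exact altK_smul _ _
  · funext i; exact diagS_smul _ _ _

set_option maxRecDepth 100000 in
theorem g3V_InU2 : ∀ (j : Fin 3) (a b c : FF), InU2 (g3V j (Upar a b c)) := by decide +kernel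

theorem g3_mem (j : Fin 3) : g3 j ∈ N2 := by
  refine ⟨?_, fun v hv => ?_⟩
  · fin_cases j
    · exact (elT_spec _).1.2
    · exact (altK_mem _).1
    · exact good_K0.le (D_le_N0 (diagS_mem _))
  · obtain ⟨a, b, c, rfl⟩ := InU2_iff.1 hv
    rw [g3_smul]; exact g3V_InU2 j a b c

/-- Three of the parameters. -/
def bq : Fin 4 → Fin 4 → Bool :=
  ![fun _ => false, ![true, true, false, false], ![false, false, true, true], fun _ => true]

/-- The tree: generator, source and target. -/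
def tree : List (Fin 3 × (Fin 4 × Fin 8) × (Fin 4 × Fin 8)) :=
  [(0, (0, 1), (1, 1)), (1, (0, 1), (0, 3)), (1, (1, 1), (2, 3)), (0, (0, 3), (3, 3)), (1, (0, 3), (0, 2)),
   (0, (2, 3), (1, 3)), (1, (2, 3), (3, 2)), (1, (3, 3), (1, 2)), (2, (3, 3), (1, 0)), (0, (0, 2), (2, 2)),
   (2, (1, 3), (2, 1)), (2, (1, 2), (2, 0)), (1, (2, 2), (3, 1)), (2, (2, 1), (3, 0))]

set_option maxRecDepth 100000 in
theorem tree_links : ∀ t ∈ tree, ∀ i : Fin 6,
    g3V t.1 (opV (bq t.2.1.1) t.2.1.2 (e i)) = opV (bq t.2.2.1) t.2.2.2 (g3V t.1 (e i)) := by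
  decide +kernel

set_option maxRecDepth 100000 in
theorem Ep_cover : ∀ b d, Ep b d → (b = bq 0 ∧ d = 0) ∨ (b = bq 0 ∧ d = 1) ∨
    ∃ t ∈ tree, b = bq t.2.2.1 ∧ d = t.2.2.2 := by
  decide +kernel

/-- The base member. -/
def e1 : S := pe (bq 0) 1

theorem elT_zero : elT (bq 0) = 1 := by simp [elT, bq]

theorem e1_mem : e1 ∈ EU := pe_mem_EU.2 (by decide +kernel)

theorem e1_ne : e1 ≠ 1 := fun h => by
  have h' : pe (bq 0) 1 = pe (bq 0) 0 := by
    rw [show pe (bq 0) 0 = 1 by rw [pe, dl_zero, map_one, mul_one, elT_zero]]; exact h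
  exact absurd (pe_inj h').2 (by decide)

set_option maxRecDepth 100000 in
theorem tree_prefix : ∀ n : Fin 14, ∀ t, tree[(n : ℕ)]? = some t →
    (t.2.1 = (0, 1) ∨ ∃ m : Fin 14, m.val < n.val ∧ ∃ s, tree[(m : ℕ)]? = some s ∧ s.2.2 = t.2.1) := by
  decide +kernel

/-- The members other than the identity form one class. -/
theorem exists_conj_e1 {x : S} (hx : x ∈ EU) (h1 : x ≠ 1) : ∃ k ∈ N2, k * e1 * k⁻¹ = x := by
  have step : ∀ t ∈ tree, (∃ k ∈ N2, k * e1 * k⁻¹ = pe (bq t.2.1.1) t.2.1.2) →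
      ∃ k ∈ N2, k * e1 * k⁻¹ = pe (bq t.2.2.1) t.2.2.2 := by
    rintro t ht ⟨k, hk, hke⟩
    have hl : g3 t.1 * pe (bq t.2.1.1) t.2.1.2 = pe (bq t.2.2.1) t.2.2.2 * g3 t.1 := S_ext_e fun i => by
      rw [mul_smul, mul_smul, pe_smul, g3_smul, g3_smul, pe_smul, tree_links t ht i]
    refine ⟨g3 t.1 * k, mul_mem (g3_mem _) hk, ?_⟩
    rw [show g3 t.1 * k * e1 * (g3 t.1 * k)⁻¹ = g3 t.1 * (k * e1 * k⁻¹) * (g3 t.1)⁻¹ by group, hke, hl,
      mul_inv_cancel_right]
  have all : ∀ n : ℕ, ∀ h : n < 14, ∀ t, tree[n]? = some t →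
      ∃ k ∈ N2, k * e1 * k⁻¹ = pe (bq t.2.2.1) t.2.2.2 := by
    intro n
    induction n using Nat.strong_induction_on with
    | _ n ih =>
      intro h t ht
      refine step t (List.mem_of_getElem? ht) ?_
      rcases tree_prefix ⟨n, h⟩ t ht with e | ⟨m, hm, s, hs, e⟩
      · exact ⟨1, one_mem _, by rw [e, inv_one, one_mul, mul_one]; rfl⟩
      · rw [← e]; exact ih m hm m.2 s hs
  obtain ⟨b, d, hE, rfl⟩ := mem_EU hx
  rcases Ep_cover b d hE with ⟨rfl, rfl⟩ | ⟨rfl, rfl⟩ | ⟨t, ht, rfl, rfl⟩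
  · exact absurd (by rw [pe, dl_zero, map_one, mul_one, elT_zero]) h1
  · exact ⟨1, one_mem _, by rw [inv_one, one_mul, mul_one]; rfl⟩
  · obtain ⟨n, hn, rfl⟩ := List.getElem_of_mem ht
    exact all n (by simpa [tree] using hn) _ (List.getElem?_eq_getElem hn)

theorem five_dvd : 5 ∣ Nat.card N2 := by
  classical
  let f : N2 →* MulAut S := MulAut.conj.comp N2.subtype
  letI := MulAction.compHom S f
  have horb : MulAction.orbit N2 e1 = (EU : Set S) \ {1} := by
    ext x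
    constructor
    · rintro ⟨k, rfl⟩
      refine ⟨N2_conj_EU k.2 e1_mem, fun h => e1_ne ?_⟩
      have h' : (k : S) * e1 * (k : S)⁻¹ = 1 := h
      calc e1 = (k : S)⁻¹ * ((k : S) * e1 * (k : S)⁻¹) * k := by group
        _ = 1 := by rw [h']; group
    · rintro ⟨hx, h1⟩
      obtain ⟨k, hk, rfl⟩ := exists_conj_e1 hx h1
      exact ⟨⟨k, hk⟩, rfl⟩
  have h := MulAction.index_stabilizer N2 e1
  rw [horb, Set.ncard_diff_singleton_of_mem (one_mem EU), ← Nat.card_coe_set_eq,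
    show Nat.card (EU : Set S) = 16 from card_EU] at h
  exact (show 5 ∣ 16 - 1 by decide).trans (h ▸ Subgroup.index_dvd_card _)

/-- The exponents of the group of order twenty-seven. -/
def pw : Fin 3 → FF := ![1, .w, .w2]

/-- Its diagonals. -/
def d27 (a b : Fin 3) : V := Upar (pw a) (pw b) (pw a * pw b)⁻¹

theorem d27_prod : ∀ a b, ∏ i, d27 a b i = 1 := by decide +kernel

/-- Its permutations. -/
def p27 (j : Fin 3) : Equiv.Perm (Fin 6) := piA.1 ^ (j : ℕ)

set_option maxRecDepth 100000 in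
theorem closed27 : (∀ j a b j' a' b' : Fin 3, ∃ j'' a'' b'' : Fin 3, p27 j * p27 j' = p27 j'' ∧
      ∀ i, d27 a b i * d27 a' b' ((p27 j).symm i) = d27 a'' b'' i) ∧
    (∀ j a b : Fin 3, ∃ j' a' b' : Fin 3, p27 j * p27 j' = 1 ∧
      ∀ i, d27 a b i * d27 a' b' ((p27 j).symm i) = 1) ∧
    (∀ j a b j' a' b' : Fin 3, p27 j = p27 j' → (∀ i, d27 a b i = d27 a' b' i) → j = j' ∧ a = a' ∧ b = b') ∧
    (∀ (j a b : Fin 3) (p q r : FF), InU2 (monV (p27 j) (d27 a b) (Upar p q r))) ∧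
    ∀ j, Equiv.Perm.sign (p27 j) = 1 := by
  decide +kernel

/-- A group of order twenty-seven. -/
def H27 : Subgroup S where
  carrier := {g | ∃ j a b, IsMon g (p27 j) (d27 a b)}
  one_mem' := ⟨0, 0, 0, by
    have : d27 0 0 = 1 := by decide +kernel
    rw [this]; exact isMon_one⟩
  mul_mem' := fun ⟨j, a, b, hg⟩ ⟨j', a', b', hk⟩ => by
    obtain ⟨j'', a'', b'', h1, h2⟩ := closed27.1 j a b j' a' b'
    refine ⟨j'', a'', b'', fun x => ?_⟩
    rw [(hg.mul hk) x, h1]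
    congr 1
    exact funext h2
  inv_mem' := fun {g} ⟨j, a, b, hg⟩ => by
    obtain ⟨j', a', b', h1, h2⟩ := closed27.2.1 j a b
    refine ⟨j', a', b', ?_⟩
    have hk := isMon_mkMon (p27 j') ⟨d27 a' b', d27_prod a' b'⟩
    have e : g * mkMon (p27 j') ⟨d27 a' b', d27_prod a' b'⟩ = 1 := S_ext fun x => by
      rw [(hg.mul hk) x, h1, one_smul]
      funext i
      simp [monV, h2 i, Equiv.Perm.one_def]
    rw [inv_eq_of_mul_eq_one_right e]
    exact hk

theorem card_H27 : Nat.card H27 = 27 := by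
  have e : Fin 3 × Fin 3 × Fin 3 ≃ H27 := Equiv.ofBijective
    (fun p => ⟨mkMon (p27 p.1) ⟨d27 p.2.1 p.2.2, d27_prod _ _⟩, p.1, p.2.1, p.2.2, isMon_mkMon _ _⟩)
    ⟨fun p q h => by
      have hv : mkMon (p27 p.1) ⟨d27 p.2.1 p.2.2, d27_prod _ _⟩ =
          mkMon (p27 q.1) ⟨d27 q.2.1 q.2.2, d27_prod _ _⟩ := congrArg Subtype.val h
      obtain ⟨h1, h2⟩ := (isMon_mkMon (p27 p.1) ⟨d27 p.2.1 p.2.2, d27_prod _ _⟩).unique
        (by rw [hv]; exact isMon_mkMon (p27 q.1) ⟨d27 q.2.1 q.2.2, d27_prod _ _⟩)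
      obtain ⟨a, b, c⟩ := closed27.2.2.1 _ _ _ _ _ _ h1 (congrFun h2)
      exact Prod.ext a (Prod.ext b c),
    fun ⟨g, j, a, b, hg⟩ => ⟨(j, a, b), Subtype.ext hg.eq_mkMon.symm⟩⟩
  rw [← Nat.card_congr e]
  simp

theorem H27_le : H27 ≤ N2 := fun g ⟨j, a, b, hg⟩ =>
  ⟨good_K0.le ⟨_, _, hg, closed27.2.2.2.2 j⟩, fun v hv => by
    obtain ⟨p, q, r, rfl⟩ := InU2_iff.1 hv
    rw [hg]; exact closed27.2.2.2.1 j a b p q r⟩

theorem dvd_card_N2 : 2160 ∣ Nat.card N2 := by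
  have h16 : 16 ∣ Nat.card N2 := card_EU ▸ Subgroup.card_dvd_of_le EU_le_N2
  have h27 : 27 ∣ Nat.card N2 := card_H27 ▸ Subgroup.card_dvd_of_le H27_le
  exact (show (16 * 27).Coprime 5 by norm_num).mul_dvd_of_dvd_of_dvd
    ((show Nat.Coprime 16 27 by norm_num).mul_dvd_of_dvd_of_dvd h16 h27) five_dvd

/-! ### Vectors -/

set_option maxRecDepth 100000 in
theorem fix_e1_card : Nat.card {v : V // opV (bq 0) 1 v = v} = 256 := by
  rw [Nat.card_eq_fintype_card, Fintype.card_subtype]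
  decide +kernel

/-- The fixed vectors of every member number 256. -/
theorem card_fix {x : S} (hx : x ∈ EU) (h1 : x ≠ 1) : Nat.card {v : V // x • v = v} = 256 := by
  obtain ⟨k, -, rfl⟩ := exists_conj_e1 hx h1
  rw [← fix_e1_card]
  refine Nat.card_congr ((MulAction.toPerm k⁻¹).subtypeEquiv fun v => ?_)
  rw [MulAction.toPerm_apply, ← pe_smul, mul_smul, mul_smul, ← eq_inv_smul_iff]
  rfl

theorem InU2_kinds {v : V} (hv : InU2 v) (h0 : v ≠ 0) : InO FF.w v ∨ O1 v := by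
  obtain ⟨a, b, c, rfl⟩ := InU2_iff.1 hv
  exact iso_cases (Iso_iff.2 ⟨h0, U_facts a b c⟩)

set_option maxRecDepth 100000 in
theorem InO_pairs : ∀ a b c a' b' c' : FF, InO FF.w (Upar a b c) → InO FF.w (Upar a' b' c') →
    (InO FF.w (Upar a b c + Upar a' b' c') ↔
      Upar a' b' c' = FF.w • Upar a b c ∨ Upar a' b' c' = FF.w2 • Upar a b c) := by
  decide +kernel

theorem InO_pair {u v : V} (hu : InU2 u) (hv : InU2 v) (hu' : InO FF.w u) (hv' : InO FF.w v) :
    InO FF.w (u + v) ↔ v = FF.w • u ∨ v = FF.w2 • u := by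
  obtain ⟨a, b, c, rfl⟩ := InU2_iff.1 hu
  obtain ⟨a', b', c', rfl⟩ := InU2_iff.1 hv
  exact InO_pairs a b c a' b' c' hu' hv'

set_option maxRecDepth 100000 in
theorem InO_scalars : ∀ a b c : FF, InO FF.w (Upar a b c) →
    InO FF.w (FF.w • Upar a b c) ∧ InO FF.w (FF.w2 • Upar a b c) := by
  decide +kernel

set_option maxRecDepth 100000 in
theorem card_InU2_InO : Nat.card {v : V // InU2 v ∧ InO FF.w v} = 18 := by
  rw [Nat.card_eq_fintype_card, Fintype.card_subtype]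
  decide +kernel

end Cfsg.Agent.LargeExtra.Fischer
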