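import Cfsg.Agent.Lib.LargeExtra.Fischer.FusionMain
import Cfsg.Agent.Lib.LargeExtra.Fischer.ANormModel

/-!
The normalizer of the large elementary abelian subgroup: self-centralization, the part inside the centralizer
of the central involution and the orbits of the extraspecial group outside it.
-/

set_option autoImplicit false

namespace Cfsg.Agent.LargeExtra.Fischer

open Cfsg.Agent.InvChar.Coset
open Cfsg.Agent.Components.UnitarySix
open Cfsg.Agent.MonsterOrbits (bigQ mem_bigQ ctr_bigQ mem_center_iff')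

/-- Orbit sizes divisible by a number give a cardinal divisible by it. -/
theorem dvd_card_of_orbits {K β : Type*} [Group K] [MulAction K β] [Finite β] {n : ℕ}
    (h : ∀ b : β, n ∣ Nat.card (MulAction.orbit K b)) : n ∣ Nat.card β := by
  classical
  letI := Fintype.ofFinite (MulAction.orbitRel.Quotient K β)
  rw [Nat.card_congr (MulAction.selfEquivSigmaOrbits K β), Nat.card_sigma]
  exact Finset.dvd_sum fun ω _ => h _

variable {G : Type*} [Group G] [Finite G] {z : G} {Q : Subgroup (Cz z)} [Q.Normal] {M : Subgroup (Cz z)}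
variable (hS : Cfsg.IsExtraspecialCentralizerSetting z Q 6) (F : Frame z Q M) {x : Cz z} (X : Scal F x)

theorem φ_inv' (q : Q) : F.φ q⁻¹ = F.φ q := by
  have h1 : F.φ q⁻¹ + F.φ q = 0 := by rw [← F.φ_mul, inv_mul_cancel, F.φ_one]
  calc F.φ q⁻¹ = F.φ q⁻¹ + (F.φ q + F.φ q) := by rw [V_add_self, add_zero]
    _ = F.φ q := by rw [← add_assoc, h1, zero_add]

include hS in
theorem act_anti {c : Cz z} (hc : c ∉ M) : ∀ v, F.act c (FF.w • v) = FF.w2 • F.act c v := by
  obtain ⟨-, -, -, -, g0, ⟨hq0, hqQ⟩, hg0⟩ := id hS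
  exact antilinear hS F (g := g0) ⟨_, hqQ, rfl⟩ hg0 (a := ⟨⟨_, hq0⟩, hqQ⟩) rfl hc

include hS in
/-- The preimage of the subspace is self-centralising in the extraspecial group. -/
theorem cent_UT {q : Cz z} (hq : q ∈ Q) (h : ∀ u ∈ UT F, q * u = u * q) : q ∈ UT F := by
  by_contra hnot
  set Cl := Subgroup.closure ((UT F : Set (Cz z)) ∪ {q})
  have hle : Cl ≤ Q := (Subgroup.closure_le _).2 (Set.union_subset (UT_le F) (by simpa using hq))
  haveI : IsMulCommutative Cl := Subgroup.isMulCommutative_closure (by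
    rintro s (hs | rfl) t (ht | rfl)
    · exact comm_of_sq (UT_sq F) s hs t ht
    · exact (h s hs).symm
    · exact h t ht
    · rfl)
  have h1 := abelian_le hS hle fun s hs t ht =>
    congrArg Subtype.val (mul_comm' (⟨s, hs⟩ : Cl) ⟨t, ht⟩)
  have he := Subgroup.eq_of_le_of_card_ge (H := UT F) (K := Cl) (fun u hu => Subgroup.subset_closure (Or.inl hu))
    (by rw [card_UT hS F]; exact h1)
  exact hnot (he ▸ Subgroup.subset_closure (Or.inr rfl))

theorem UT_le_A0 : UT F ≤ A0 F X hS := fun u hu =>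
  ((A0_inf hS F X).ge hu).1

theorem mem_UT_of {c : Cz z} (ha : c ∈ A0 F X hS) (hq : c ∈ Q) : c ∈ UT F :=
  (A0_inf hS F X).le ⟨ha, hq⟩

/-- Acting as a given element. -/
def Over (e : S) (a : Cz z) : Prop := ∀ v, F.act a v = e • v

theorem Over.unique {e e' : S} {a : Cz z} (h : Over F e a) (h' : Over F e' a) : e = e' :=
  S_ext fun v => by rw [← h v, h' v]

theorem exists_over {a : Cz z} (ha : a ∈ A0 F X hS) : ∃ e ∈ EU, Over F e a := by
  obtain ⟨u, hu, c, ⟨e, he, hc⟩, rfl⟩ := ha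
  exact ⟨e, he, fun v => by rw [map_mul, (F.ker u).2 hu.1, one_mul, hc.1]⟩

theorem over_one_iff {a : Cz z} : Over F 1 a ↔ a ∈ Q := by
  rw [← F.ker a]
  exact ⟨fun h => Equiv.ext fun v => by rw [h v, one_smul]; rfl, fun h v => by rw [h, one_smul]; rfl⟩

include hS in
/-- The subgroup is its own centralizer. -/
theorem cent_A0 {c : Cz z} (h : ∀ a ∈ A0 F X hS, c * a = a * c) : c ∈ A0 F X hS := by
  have hfix : ∀ v, InU2 v → F.act c v = v := by
    intro v hv
    obtain ⟨q, rfl⟩ := F.surj v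
    rw [← F.conj]
    congr 1
    refine Subtype.ext ?_
    rw [MulAut.conjNormal_apply, h q (UT_le_A0 hS F X ⟨q.2, hv⟩), mul_inv_cancel_right]
  have hcM : c ∈ M := by
    by_contra hc
    have e := act_anti hS F hc fv
    rw [hfix _ InU2_fv, hfix _ (InU2_smul _ InU2_fv)] at e
    exact absurd (congrFun e 0) (by decide +kernel)
  obtain ⟨k, hk, hke⟩ := F.mem_M c hcM
  have hkE : k ∈ EU := EU_of_fix hk fun v hv => by rw [← hke, hfix v hv]
  obtain ⟨c', -, hc'⟩ := exists_lift_comm hS F X hk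
  have hqQ : c * c'⁻¹ ∈ Q := (F.ker _).1 (Equiv.ext fun v => by
    rw [map_mul, Equiv.Perm.mul_apply, hke, hc'.inv.1, smul_inv_smul]; rfl)
  refine ⟨c * c'⁻¹, ?_, c', ⟨k, hkE, hc'⟩, (inv_mul_cancel_right c c').symm⟩
  refine cent_UT hS F hqQ fun u hu => ?_
  have huc := lift_centralizes hS F X hkE hc' (a := ⟨u, hu.1⟩) hu.2
  have hcu := h u (UT_le_A0 hS F X hu)
  calc c * c'⁻¹ * u = c * (c'⁻¹ * (u * c')) * c'⁻¹ := by group
    _ = c * (c'⁻¹ * (c' * u)) * c'⁻¹ := by rw [huc]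
    _ = c * u * c'⁻¹ := by group
    _ = u * (c * c'⁻¹) := by rw [hcu, mul_assoc]

include hS in
theorem conj_Q {q : Cz z} (hq : q ∈ Q) {a : Cz z} (ha : a ∈ A0 F X hS) : q * a * q⁻¹ ∈ A0 F X hS := by
  obtain ⟨u, hu, c, ⟨e, he, hc⟩, rfl⟩ := ha
  set q' : Q := ⟨q, hq⟩
  have h1 : q * u * q⁻¹ ∈ UT F := by
    refine ⟨Q.mul_mem (Q.mul_mem hq hu.1) (Q.inv_mem hq), ?_⟩
    have : (⟨q * u * q⁻¹, Q.mul_mem (Q.mul_mem hq hu.1) (Q.inv_mem hq)⟩ : Q) = MulAut.conjNormal q ⟨u, hu.1⟩ :=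
      Subtype.ext (by rw [MulAut.conjNormal_apply])
    rw [this, F.conj, (F.ker q).2 hq]
    exact hu.2
  have h2 : ((q' * MulAut.conjNormal c q'⁻¹ : Q) : Cz z) ∈ UT F := by
    refine ⟨Subtype.mem _, ?_⟩
    rw [Subtype.coe_eta, F.φ_mul, F.conj, φ_inv', hc.1, add_comm]
    exact EU_shift he _
  refine ⟨q * u * q⁻¹ * ((q' * MulAut.conjNormal c q'⁻¹ : Q) : Cz z), mul_mem h1 h2, c, ⟨e, he, hc⟩, ?_⟩
  push_cast [MulAut.conjNormal_apply]
  show q * (u * c) * q⁻¹ = q * u * q⁻¹ * (q * (c * q⁻¹ * c⁻¹)) * c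
  group

include hS in
theorem conj_lift {k : S} (hk : k ∈ N2) {d : Cz z} (hd : IsLift F (x := x) k d) {a : Cz z}
    (ha : a ∈ A0 F X hS) : d * a * d⁻¹ ∈ A0 F X hS := by
  obtain ⟨u, hu, c, ⟨e, he, hc⟩, rfl⟩ := ha
  refine ⟨d * u * d⁻¹, ?_, d * c * d⁻¹, ⟨k * e * k⁻¹, N2_conj_EU hk he, (hd.mul hc).mul hd.inv⟩, by group⟩
  have : d * u * d⁻¹ = (MulAut.conjNormal d (⟨u, hu.1⟩ : Q) : Q) := by
    rw [MulAut.conjNormal_apply]
  rw [this]
  refine ⟨Subtype.mem _, ?_⟩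
  rw [Subtype.coe_eta, F.conj, hd.1]
  exact hk.2 _ hu.2

/-- The normalizer in the centralizer. -/
def NC : Subgroup (Cz z) := Subgroup.normalizer (A0 F X hS : Set (Cz z))

include hS in
theorem dvd_card_NC : 2 ^ 13 * 2160 ∣ Nat.card (NC hS F X) := by
  have hQ : Q ≤ NC hS F X := fun q hq => Subgroup.mem_normalizer_fintype fun a ha => conj_Q hS F X hq ha
  have h := card_split (Q := Q) (NC hS F X)
  rw [inf_eq_right.2 hQ, hS.2.2.2.1] at h
  rw [h]
  refine mul_dvd_mul_left _ (dvd_card_N2.trans ?_)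
  obtain ⟨L, hinj, -, hL⟩ := exists_lift F
  have hle : (N2.subgroupOf K0).map L ≤ (NC hS F X).map (QuotientGroup.mk' Q) := by
    rintro _ ⟨⟨k, hk⟩, hk2, rfl⟩
    obtain ⟨d, -, hd⟩ := exists_lift_comm hS F X hk
    exact ⟨d, Subgroup.mem_normalizer_fintype fun a ha => conj_lift hS F X hk2 hd ha, (hL ⟨k, hk⟩ d).2 hd.1⟩
  have := Subgroup.card_dvd_of_le hle
  rwa [Subgroup.card_map_of_injective hinj,
    Nat.card_congr (Subgroup.subgroupOfEquivOfLe (show N2 ≤ K0 from fun _ h => h.1)).toEquiv] at this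

/-! ### The classes -/

/-- Conjugate to the central involution. -/
def Zc (a : Cz z) : Prop := IsConj z (a : G)

omit [Q.Normal] [Finite G] in
theorem Zc_conj (c a : Cz z) : Zc (c * a * c⁻¹) ↔ Zc a := by
  have h : IsConj (a : G) ((c * a * c⁻¹ : Cz z) : G) := isConj_iff.2 ⟨c, by push_cast; rfl⟩
  exact ⟨fun e => e.trans h.symm, fun e => e.trans h⟩

/-- The other class. -/
def Pc (a : Cz z) : Prop := a ≠ 1 ∧ ¬ Zc a

omit [Q.Normal] [Finite G] in
theorem Pc_conj (c a : Cz z) : Pc (c * a * c⁻¹) ↔ Pc a := by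
  rw [Pc, Pc, Zc_conj, ne_eq, conj_eq_one_iff]

include hS F in
theorem kinds {a : Q} (ha : InU2 (F.φ a)) : Pc (a : Cz z) ↔ InO FF.w (F.φ a) := by
  have hkey : InO FF.w (F.φ a) → ¬ Zc (a : Cz z) := fun hi h => by
    obtain ⟨g, hg⟩ := isConj_iff.1 h
    have h1 := O1_of_conj hS F (g := g) (a := a) (hg ▸ mem_bigQ.2 ⟨(a : Cz z).property, a.property⟩)
      (hg ▸ (invol_of_iso hS F (InO_Iso hi)).2) hg.symm
    exact h1.2 hi
  constructor
  · rintro ⟨h1, h2⟩
    by_cases h0 : F.φ a = 0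
    · rcases (mem_center_iff' hS).1 ((F.zero a).1 h0) with e | e
      · exact absurd (Subtype.ext e) h1
      · exact absurd (show IsConj z ((a : Cz z) : G) by rw [e]) h2
    refine (InU2_kinds ha h0).resolve_right fun hO => h2 ?_
    obtain ⟨g0, a0, P0'⟩ := exists_stdPair hS F
    obtain ⟨c, hc⟩ := conj_of_kind hS F (a := a0) (b := a) (Or.inr ⟨P0'.hv ▸ O1_fv, hO⟩)
    exact (isConj_iff.2 ⟨g0, P0'.ha.symm⟩).trans (isConj_iff.2 ⟨(c : G), congrArg Subtype.val hc⟩)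
  · refine fun hi => ⟨fun e => ?_, hkey hi⟩
    obtain ⟨h2, -⟩ := invol_of_iso hS F (InO_Iso hi)
    rw [e, orderOf_one] at h2
    exact absurd h2 (by norm_num)

include hS in
/-- Two members above each vector. -/
theorem card_over_vectors (p : V → Prop) : Nat.card {q : Q // p (F.φ q)} = 2 * Nat.card {v : V // p v} := by
  obtain ⟨-, -, hE, -, -⟩ := id hS
  choose s hs using F.surj
  have hmem : ∀ q : Q, (s (F.φ q))⁻¹ * q ∈ Subgroup.center Q := fun q =>
    (F.zero _).1 (by rw [F.φ_mul, φ_inv', hs, V_add_self])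
  let e : {q : Q // p (F.φ q)} ≃ {v : V // p v} × Subgroup.center Q :=
    { toFun := fun q => (⟨F.φ q.1, q.2⟩, ⟨_, hmem q.1⟩)
      invFun := fun w => ⟨s w.1.1 * w.2.1, by rw [F.φ_mul, hs, (F.zero _).2 w.2.2, add_zero]; exact w.1.2⟩
      left_inv := fun q => Subtype.ext (mul_inv_cancel_left _ _)
      right_inv := fun w => by
        have h : F.φ (s w.1.1 * w.2.1) = w.1.1 := by rw [F.φ_mul, hs, (F.zero _).2 w.2.2, add_zero]
        refine Prod.ext (Subtype.ext h) (Subtype.ext ?_)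
        show (s (F.φ (s w.1.1 * w.2.1)))⁻¹ * (s w.1.1 * w.2.1) = w.2.1
        rw [h, inv_mul_cancel_left] }
  rw [Nat.card_congr e, Nat.card_prod, hE.2, mul_comm]

/-- The members above an element with a property. -/
abbrev Fb (R : Cz z → Prop) (e : S) : Type _ := {a : Cz z // a ∈ A0 F X hS ∧ Over F e a ∧ R a}

include hS in
theorem card_Fb (R : Cz z → Prop) :
    Nat.card {a : Cz z // a ∈ A0 F X hS ∧ R a} = ∑ᶠ e : EU, Nat.card (Fb hS F X R e.1) := by
  classical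
  letI := Fintype.ofFinite EU
  rw [finsum_eq_sum_of_fintype, ← Nat.card_sigma]
  refine (Nat.card_congr (Equiv.ofBijective (fun w => ⟨w.2.1, w.2.2.1, w.2.2.2.2⟩) ⟨?_, ?_⟩)).symm
  · rintro ⟨e, a, ha, ho, hr⟩ ⟨e', a', ha', ho', hr'⟩ h
    obtain rfl : a = a' := congrArg Subtype.val h
    obtain rfl : e = e' := Subtype.ext (ho.unique F ho')
    rfl
  · rintro ⟨a, ha, hr⟩
    obtain ⟨e, he, ho⟩ := exists_over hS F X ha
    exact ⟨⟨⟨e, he⟩, a, ha, ho, hr⟩, rfl⟩

/-- The members of the extraspecial group above the fixed vectors. -/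
def Pf (e : S) : Subgroup Q where
  carrier := {q | e • F.φ q = F.φ q}
  one_mem' := by show e • F.φ 1 = F.φ 1; rw [F.φ_one, smul_def, Matrix.mulVec_zero]
  mul_mem' := fun {a b} ha hb => by
    show e • F.φ (a * b) = F.φ (a * b)
    rw [F.φ_mul, smul_addV, show e • F.φ a = F.φ a from ha, show e • F.φ b = F.φ b from hb]
  inv_mem' := fun {a} ha => by
    show e • F.φ a⁻¹ = F.φ a⁻¹
    rw [φ_inv']; exact ha

include hS in
theorem card_Pf {e : S} (he : e ∈ EU) (h1 : e ≠ 1) : Nat.card (Pf F e) = 512 := by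
  rw [show Nat.card (Pf F e) = Nat.card {q : Q // e • F.φ q = F.φ q} from rfl,
    card_over_vectors hS F fun v => e • v = v, card_fix he h1]

theorem commute_le_Pf {e : S} {a : Cz z} (ho : Over F e a) {q : Q}
    (hq : (q : Cz z) * a = a * q) : q ∈ Pf F e := by
  show e • F.φ q = F.φ q
  rw [← ho, ← F.conj]
  congr 1
  refine Subtype.ext ?_
  rw [MulAut.conjNormal_apply, ← hq, mul_inv_cancel_right]

/-- The conjugation action on a fibre. -/
@[reducible] noncomputable def fbAction {R : Cz z → Prop} (hR : ∀ c a, R a → R (c * a * c⁻¹)) (e : S) :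
    MulAction Q (Fb hS F X R e) where
  smul q a := ⟨(q : Cz z) * a.1 * (q : Cz z)⁻¹, conj_Q hS F X q.2 a.2.1, fun v => by
    rw [map_mul, map_mul, map_inv, (F.ker _).2 q.2, one_mul, inv_one, mul_one]; exact a.2.2.1 v,
    hR _ _ a.2.2.2⟩
  one_smul a := Subtype.ext (by show ((1 : Q) : Cz z) * a.1 * ((1 : Q) : Cz z)⁻¹ = a.1; simp)
  mul_smul q r a := Subtype.ext (by
    show ((q * r : Q) : Cz z) * a.1 * ((q * r : Q) : Cz z)⁻¹ = (q : Cz z) * ((r : Cz z) * a.1 * (r : Cz z)⁻¹) * (q : Cz z)⁻¹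
    push_cast; group)

include hS in
theorem fb_orbit {R : Cz z → Prop} (hR : ∀ c a, R a → R (c * a * c⁻¹)) {e : S} (he : e ∈ EU) (h1 : e ≠ 1)
    (a : Fb hS F X R e) :
    letI := fbAction hS F X hR e
    MulAction.stabilizer Q a ≤ Pf F e ∧ 16 ∣ (MulAction.stabilizer Q a).index := by
  letI := fbAction hS F X hR e
  have hle : MulAction.stabilizer Q a ≤ Pf F e := fun q hq =>
    commute_le_Pf F a.2.2.1 (mul_inv_eq_iff_eq_mul.1 (congrArg Subtype.val hq : (q : Cz z) * a.1 * (q : Cz z)⁻¹ = a.1))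
  refine ⟨hle, ?_⟩
  have h := (MulAction.stabilizer Q a).card_mul_index
  obtain ⟨j, hj, hjc⟩ := (Nat.dvd_prime_pow Nat.prime_two).1
    ((show (512 : ℕ) = 2 ^ 9 by norm_num) ▸ card_Pf hS F he h1 ▸ Subgroup.card_dvd_of_le hle)
  rw [hjc, hS.2.2.2.1] at h
  have hi : (MulAction.stabilizer Q a).index = 2 ^ (13 - j) := by
    refine Nat.eq_of_mul_eq_mul_left (show 0 < 2 ^ j by positivity) (h.trans ?_)
    rw [← pow_add, Nat.add_sub_cancel' (by omega : j ≤ 13)]
  rw [hi]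
  exact pow_dvd_pow 2 (by omega : 4 ≤ 13 - j)

include hS in
theorem sixteen_dvd {R : Cz z → Prop} (hR : ∀ c a, R a → R (c * a * c⁻¹)) {e : S} (he : e ∈ EU) (h1 : e ≠ 1) :
    16 ∣ Nat.card (Fb hS F X R e) := by
  letI := fbAction hS F X hR e
  refine dvd_card_of_orbits (K := Q) fun a => ?_
  rw [Nat.card_coe_set_eq, ← MulAction.index_stabilizer]
  exact (fb_orbit hS F X hR he h1 a).2

include hS in
theorem fb_const {R : Cz z → Prop} (hR : ∀ c a, R (c * a * c⁻¹) ↔ R a) {e : S} (he : e ∈ EU) (h1 : e ≠ 1) :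
    Nat.card (Fb hS F X R e) = Nat.card (Fb hS F X R e1) := by
  obtain ⟨k, hk, hke⟩ := exists_conj_e1 he h1
  obtain ⟨d, -, hd⟩ := exists_lift_comm hS F X hk.1
  have hd' := hd.inv
  have m1 : ∀ a, Over F e1 a → Over F e (d * a * d⁻¹) := fun a ha v => by
    rw [map_mul, map_mul, Equiv.Perm.mul_apply, Equiv.Perm.mul_apply, hd'.1, ha, hd.1, ← hke, mul_smul,
      mul_smul]
  have m2 : ∀ a, Over F e a → Over F e1 (d⁻¹ * a * d⁻¹⁻¹) := fun a ha v => by
    rw [map_mul, map_mul, Equiv.Perm.mul_apply, Equiv.Perm.mul_apply, hd'.inv.1, ha, hd'.1, ← hke]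
    simp only [← mul_smul]
    congr 1
    group
  exact (Nat.card_congr
    { toFun := fun a : Fb hS F X R e1 =>
        (⟨d * a.1 * d⁻¹, conj_lift hS F X hk hd a.2.1, m1 _ a.2.2.1, (hR _ _).2 a.2.2.2⟩ : Fb hS F X R e)
      invFun := fun a => ⟨d⁻¹ * a.1 * d⁻¹⁻¹, conj_lift hS F X (inv_mem hk) hd' a.2.1, m2 _ a.2.2.1,
        (hR _ _).2 a.2.2.2⟩
      left_inv := fun a => Subtype.ext (show d⁻¹ * (d * a.1 * d⁻¹) * d⁻¹⁻¹ = a.1 by group)
      right_inv := fun a => Subtype.ext (show d * (d⁻¹ * a.1 * d⁻¹⁻¹) * d⁻¹ = a.1 by group) }).symm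

/-- The central involution. -/
def zC (z : G) : Cz z := ⟨z, Subgroup.mem_centralizer_singleton_iff.2 rfl⟩

include hS in
theorem zC_facts : zC z ∈ UT F ∧ (∀ h : zC z ∈ Q, F.φ ⟨zC z, h⟩ = 0) ∧ zC z ≠ 1 := by
  obtain ⟨hz, hzQ⟩ := zmem hS
  have h0 : ∀ h : zC z ∈ Q, F.φ ⟨zC z, h⟩ = 0 := fun h =>
    (F.zero _).2 ((mem_center_iff' hS).2 (Or.inr rfl))
  have hzQ' : zC z ∈ Q := hzQ (zC z).2
  exact ⟨⟨hzQ', by rw [h0 hzQ']; exact ⟨rfl, rfl, rfl⟩⟩, h0, z_ne hS _⟩

/-- The large subgroup in the whole group. -/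
def AG : Subgroup G := (A0 F X hS).map (Cz z).subtype

include hS in
theorem mem_AG_z : z ∈ AG hS F X := ⟨zC z, UT_le_A0 hS F X (zC_facts hS F).1, rfl⟩

include hS in
theorem cent_AG {g : G} (hg : ∀ a ∈ AG hS F X, g * a = a * g) : g ∈ AG hS F X := by
  have hgz : g ∈ Cz z := Subgroup.mem_centralizer_singleton_iff.2 (hg z (mem_AG_z hS F X))
  exact ⟨⟨g, hgz⟩, cent_A0 hS F X fun a ha => Subtype.ext (hg _ ⟨a, ha, rfl⟩), rfl⟩

include hS in
theorem AG_facts : Cfsg.IsElementaryAbelian 2 (AG hS F X) ∧ Nat.card (AG hS F X) = 2 ^ 11 ∧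
    ∀ a ∈ AG hS F X, a * a = 1 := by
  have hsq : ∀ a ∈ AG hS F X, a * a = 1 := by
    rintro _ ⟨a, ha, rfl⟩
    rw [← map_mul, A0_sq hS F X a ha, map_one]
  refine ⟨⟨⟨⟨fun a b => Subtype.ext ?_⟩⟩, fun a ha => by rw [pow_two]; exact hsq _ ha⟩, ?_, hsq⟩
  · have h : ∀ y ∈ AG hS F X, y⁻¹ = y := fun y hy => inv_eq_of_mul_eq_one_right (hsq y hy)
    have e := h _ ((AG hS F X).mul_mem a.2 b.2)
    rw [mul_inv_rev, h _ a.2, h _ b.2] at e
    exact e.symm
  · rw [AG, Subgroup.card_map_of_injective (Cz z).subtype_injective, (card_A0 hS F X).1]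

omit [Q.Normal] in
/-- Primes dividing the order of a normalizer. -/
theorem prime_in_normalizer {A : Subgroup G} (hA : Nat.card A = 2 ^ 11)
    (hC : ∀ g, (∀ a ∈ A, g * a = a * g) → g ∈ A) {p : ℕ} (hp : p.Prime) (hp2 : p ≠ 2)
    (hdvd : p ∣ Nat.card (Subgroup.normalizer (A : Set G))) : ∃ i : Fin 12, 0 < i.val ∧ p ∣ 2 ^ i.val - 1 := by
  haveI := Fact.mk hp
  obtain ⟨g, hg⟩ := exists_prime_orderOf_dvd_card' p hdvd
  have hgp : IsPGroup p (Subgroup.zpowers g) := IsPGroup.of_card (n := 1) (by rw [Nat.card_zpowers, hg, pow_one])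
  letI : MulAction (Subgroup.zpowers g) A :=
    MulAction.compHom A ((A.normalizerMonoidHom).comp (Subgroup.zpowers g).subtype)
  have hsm : ∀ (k : Subgroup.zpowers g) (a : A), ((k • a : A) : G) = (k.1 : G) * a * (k.1 : G)⁻¹ := fun k a => rfl
  have hmod := hgp.card_modEq_card_fixedPoints A
  let B : Subgroup A :=
    { carrier := MulAction.fixedPoints (Subgroup.zpowers g) A
      one_mem' := fun k => Subtype.ext (by rw [hsm]; simp)
      mul_mem' := fun {a b} ha hb k => Subtype.ext (by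
        have ea := congrArg Subtype.val (ha k)
        have eb := congrArg Subtype.val (hb k)
        rw [hsm] at ea eb ⊢
        push_cast
        nth_rewrite 2 [← ea, ← eb]
        group)
      inv_mem' := fun {a} ha k => Subtype.ext (by
        have ea := congrArg Subtype.val (ha k)
        rw [hsm] at ea ⊢
        push_cast
        nth_rewrite 2 [← ea]
        group) }
  obtain ⟨j, hj, hjc⟩ := (Nat.dvd_prime_pow Nat.prime_two).1 (hA ▸ B.card_subgroup_dvd_card)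
  have hfix : Nat.card (MulAction.fixedPoints (Subgroup.zpowers g) A) = 2 ^ j := hjc
  rw [hA, hfix] at hmod
  have hjlt : j < 11 := lt_of_le_of_ne hj fun e => by
    have htop : B = ⊤ := Subgroup.eq_top_of_card_eq _ (by rw [hjc, hA, e])
    have hgA : (g : G) ∈ A := hC _ fun a ha => by
      have h1 : (⟨a, ha⟩ : A) ∈ B := htop ▸ Subgroup.mem_top _
      have h2 := congrArg Subtype.val (h1 ⟨g, Subgroup.mem_zpowers g⟩)
      rw [hsm] at h2
      exact mul_inv_eq_iff_eq_mul.1 h2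
    have h3 : orderOf (⟨_, hgA⟩ : A) ∣ 2 ^ 11 := hA ▸ orderOf_dvd_natCard _
    rw [← orderOf_injective A.subtype A.subtype_injective] at h3
    change orderOf (g : G) ∣ _ at h3
    rw [Subgroup.orderOf_coe, hg] at h3
    exact hp2 ((Nat.prime_dvd_prime_iff_eq hp Nat.prime_two).1 (hp.dvd_of_dvd_pow h3))
  refine ⟨⟨11 - j, by omega⟩, by show 0 < 11 - j; omega, ?_⟩
  have h1 : p ∣ 2 ^ 11 - 2 ^ j := (Nat.modEq_iff_dvd' (Nat.pow_le_pow_right two_pos (by omega))).1 hmod.symm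
  rw [show 2 ^ 11 - 2 ^ j = 2 ^ j * (2 ^ (11 - j) - 1) by
    rw [Nat.mul_sub, mul_one, ← pow_add, Nat.add_sub_cancel' (by omega : j ≤ 11)]] at h1
  exact (hp.dvd_mul.1 h1).resolve_left fun h => hp2 ((Nat.prime_dvd_prime_iff_eq hp Nat.prime_two).1
    (hp.dvd_of_dvd_pow h))

end Cfsg.Agent.LargeExtra.Fischer
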