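import Cfsg.Agent.Lib.LargeExtra.Fischer.ANorm

/-!
The two classes in the large elementary abelian subgroup: 1771 conjugates of the central involution and 276
other involutions, and the pencil of the central involution.
-/

set_option autoImplicit false

namespace Cfsg.Agent.LargeExtra.Fischer

open Cfsg.Agent.InvChar.Coset
open Cfsg.Agent.Components.UnitarySix
open Cfsg.Agent.MonsterOrbits (bigQ mem_bigQ ctr_bigQ mem_center_iff')

theorem exclude : ∀ k : Fin 9, k.val ≠ 1 → ∃ p ∈ [13, 331, 571, 811, 1051, 1291, 1531, 2011],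
    p ∣ 2011 - 240 * k.val ∧ ∀ i : Fin 12, 0 < i.val → ¬ p ∣ 2 ^ i.val - 1 := by
  decide +kernel

theorem list_primes : ∀ p ∈ [13, 331, 571, 811, 1051, 1291, 1531, 2011], Nat.Prime p ∧ p ≠ 2 := by
  simp only [List.forall_mem_cons, List.not_mem_nil, IsEmpty.forall_iff, implies_true, and_true]
  norm_num

variable {G : Type*} [Group G] [Finite G] {z : G} {Q : Subgroup (Cz z)} [Q.Normal] {M : Subgroup (Cz z)}
variable (hS : Cfsg.IsExtraspecialCentralizerSetting z Q 6) (F : Frame z Q M) {x : Cz z} (X : Scal F x)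

theorem inQ_of_InU2 {q : Q} (hq : InU2 (F.φ q)) : (q : Cz z) ∈ A0 F X hS := UT_le_A0 hS F X ⟨q.2, hq⟩

theorem InU2_of_mem {a : Cz z} (ha : a ∈ A0 F X hS) (hq : a ∈ Q) : InU2 (F.φ ⟨a, hq⟩) :=
  (mem_UT_of hS F X ha hq).2

/-- The members above the identity. -/
def fbOne (R : Cz z → Prop) : Fb hS F X R 1 ≃ {q : Q // InU2 (F.φ q) ∧ R (q : Cz z)} where
  toFun a := ⟨⟨a.1, (over_one_iff F).1 a.2.2.1⟩, InU2_of_mem hS F X a.2.1 _, a.2.2.2⟩
  invFun q := ⟨(q.1 : Cz z), inQ_of_InU2 hS F X q.2.1, (over_one_iff F).2 q.1.2, q.2.2⟩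
  left_inv _ := rfl
  right_inv _ := rfl

include hS in
theorem fb_sum {R : Cz z → Prop} (hR : ∀ c a, R (c * a * c⁻¹) ↔ R a) :
    Nat.card {a : Cz z // a ∈ A0 F X hS ∧ R a} =
      Nat.card (Fb hS F X R 1) + 15 * Nat.card (Fb hS F X R e1) := by
  classical
  letI := Fintype.ofFinite EU
  rw [card_Fb hS F X R, finsum_eq_sum_of_fintype,
    ← Finset.add_sum_erase Finset.univ _ (Finset.mem_univ (1 : EU))]
  congr 1
  rw [Finset.sum_congr rfl fun e he => fb_const hS F X hR e.2 fun h => (Finset.mem_erase.1 he).1 (Subtype.ext h),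
    Finset.sum_const, Finset.card_erase_of_mem (Finset.mem_univ _), Finset.card_univ, ← Nat.card_eq_fintype_card,
    card_EU, smul_eq_mul]

omit [Q.Normal] [Finite G] in
theorem notZc_conj (c a : Cz z) : ¬ Zc (c * a * c⁻¹) ↔ ¬ Zc a := not_congr (Zc_conj c a)

omit [Q.Normal] in
theorem not_Zc_one (hz1 : z ≠ 1) : ¬ Zc (1 : Cz z) := fun h => hz1 (by
  have h' : IsConj z (1 : G) := h
  exact isConj_one_left.1 h')

include hS in
theorem Pc_zero_none {q : Q} (h0 : F.φ q = 0) : ¬ Pc (q : Cz z) := fun hP => by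
  have := (kinds hS F (a := q) (by rw [h0]; exact ⟨rfl, rfl, rfl⟩)).1 hP
  rw [h0] at this
  exact InO_wt_ne_zero (InO_Iso this) rfl

include hS in
/-- Thirty-seven members of the extraspecial group are not conjugate to the central involution. -/
theorem fb_one_notZc : Nat.card (Fb hS F X (fun a => ¬ Zc a) 1) = 37 := by
  classical
  have hz1 : z ≠ 1 := (ctr_bigQ hS).ne_one
  rw [Nat.card_congr (fbOne hS F X _), show Nat.card {q : Q // InU2 (F.φ q) ∧ ¬ Zc (q : Cz z)} =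
    Nat.card {q : Q // (InU2 (F.φ q) ∧ InO FF.w (F.φ q)) ∨ q = 1} from
    Nat.card_congr (Equiv.subtypeEquivRight fun q => ?_)]
  · rw [Nat.card_congr (subtypeOrEquiv _ _ (Pi.disjoint_iff.2 fun q => Prop.disjoint_iff.2 fun h =>
        InO_wt_ne_zero (InO_Iso h.1.2) (by rw [h.2]; exact F.φ_one))), Nat.card_sum, card_over_vectors hS F fun v => InU2 v ∧ InO FF.w v, card_InU2_InO]
    rw [Nat.card_unique]
  constructor
  · rintro ⟨hu, hn⟩
    by_cases e : q = 1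
    · exact Or.inr e
    · exact Or.inl ⟨hu, (kinds hS F hu).1 ⟨fun h => e (Subtype.ext h), hn⟩⟩
  · rintro (⟨hu, hi⟩ | rfl)
    · exact ⟨hu, ((kinds hS F hu).2 hi).2⟩
    · exact ⟨by rw [F.φ_one]; exact ⟨rfl, rfl, rfl⟩, not_Zc_one hz1⟩

include hS in
theorem card_split_Zc :
    Nat.card {a : Cz z // a ∈ A0 F X hS ∧ Zc a} + Nat.card {a : Cz z // a ∈ A0 F X hS ∧ ¬ Zc a} = 2048 := by
  classical
  rw [← Nat.card_sum, Nat.card_congr (show _ ≃ A0 F X hS from
    { toFun := Sum.elim (fun a => ⟨a.1, a.2.1⟩) fun a => ⟨a.1, a.2.1⟩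
      invFun := fun a => if h : Zc (a : Cz z) then Sum.inl ⟨a.1, a.2, h⟩ else Sum.inr ⟨a.1, a.2, h⟩
      left_inv := by rintro (⟨a, ha, hz⟩ | ⟨a, ha, hz⟩) <;> simp [hz]
      right_inv := fun a => by by_cases h : Zc (a : Cz z) <;> simp [h] }), (card_A0 hS F X).1]
  norm_num

include hS in
theorem m1_dvd (hT : FusTwo z (AG hS F X)) : Nat.card {a : Cz z // a ∈ A0 F X hS ∧ Zc a} ∣
    Nat.card (Subgroup.normalizer (AG hS F X : Set G)) := by
  set N := Subgroup.normalizer (AG hS F X : Set G)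
  letI : MulAction N G := MulAction.compHom G ((MulAut.conj : G →* MulAut G).comp N.subtype)
  have horb : MulAction.orbit N z = (Cz z).subtype '' {a | a ∈ A0 F X hS ∧ Zc a} := by
    ext y
    constructor
    · rintro ⟨m, rfl⟩
      obtain ⟨a, ha, e⟩ := (Subgroup.mem_normalizer_iff.1 m.2 z).1 (mem_AG_z hS F X)
      refine ⟨a, ⟨ha, ?_⟩, e⟩
      show IsConj z ((Cz z).subtype a)
      rw [e]
      exact isConj_iff.2 ⟨m, rfl⟩
    · rintro ⟨a, ⟨ha, hz⟩, rfl⟩
      obtain ⟨g, hg⟩ := isConj_iff.1 hz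
      obtain ⟨m, hm, e⟩ := hT.1 z (mem_AG_z hS F X) g (hg ▸ ⟨a, ha, rfl⟩)
      exact ⟨⟨m, hm⟩, e.trans hg⟩
  have h := MulAction.index_stabilizer N z
  rw [horb, Set.ncard_image_of_injective _ (Cz z).subtype_injective, ← Nat.card_coe_set_eq] at h
  exact (show _ = _ from h) ▸ Subgroup.index_dvd_card _

include hS in
/-- The two classes. -/
theorem counts (hT : FusTwo z (AG hS F X)) : Nat.card (Fb hS F X (fun a => ¬ Zc a) e1) = 16 ∧
    Nat.card {a : Cz z // a ∈ A0 F X hS ∧ Zc a} = 1771 := by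
  classical
  have hR : ∀ (c a : Cz z), ¬ Zc a → ¬ Zc (c * a * c⁻¹) := fun c a => (notZc_conj c a).2
  obtain ⟨k, hk⟩ := sixteen_dvd hS F X (R := fun a => ¬ Zc a) hR e1_mem e1_ne
  have hall : Nat.card (Fb hS F X (fun _ => True) e1) = 128 := by
    have h := fb_sum hS F X (R := fun _ => True) fun _ _ => Iff.rfl
    rw [Nat.card_congr (fbOne hS F X _)] at h
    simp only [and_true] at h
    rw [card_over_vectors hS F InU2, card_InU2, (card_A0 hS F X).1] at h
    omega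
  have hle : Nat.card (Fb hS F X (fun a => ¬ Zc a) e1) ≤ 128 := hall ▸
    Nat.card_le_card_of_injective (fun a => ⟨a.1, a.2.1, a.2.2.1, trivial⟩)
      fun a b e => Subtype.ext (Subtype.mk.inj e)
  have hsum := card_split_Zc hS F X
  rw [fb_sum hS F X (R := fun a => ¬ Zc a) notZc_conj, fb_one_notZc hS F X, hk] at hsum
  rw [hk] at hle ⊢
  by_cases hk1 : k = 1
  · subst hk1
    exact ⟨rfl, by omega⟩
  exfalso
  obtain ⟨p, hp, hpd, hpi⟩ := exclude ⟨k, by omega⟩ hk1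
  obtain ⟨hpp, hp2⟩ := list_primes p hp
  have hm : Nat.card {a : Cz z // a ∈ A0 F X hS ∧ Zc a} = 2011 - 240 * k := by omega
  obtain ⟨i, hi0, hid⟩ := prime_in_normalizer (AG_facts hS F X).2.1 (fun g => cent_AG hS F X) hpp hp2
    (hpd.trans (hm ▸ m1_dvd hS F X hT))
  exact hpi i hi0 hid

include hS in
theorem card_Pc (hT : FusTwo z (AG hS F X)) : Nat.card {a : Cz z // a ∈ A0 F X hS ∧ Pc a} = 276 := by
  classical
  have hz1 : z ≠ 1 := (ctr_bigQ hS).ne_one
  have h := fb_sum hS F X (R := fun a => ¬ Zc a) notZc_conj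
  rw [fb_one_notZc hS F X, (counts hS F X hT).1] at h
  have e : {a : Cz z // a ∈ A0 F X hS ∧ ¬ Zc a} ≃ Option {a : Cz z // a ∈ A0 F X hS ∧ Pc a} :=
    { toFun := fun a => if e : a.1 = 1 then none else some ⟨a.1, a.2.1, e, a.2.2⟩
      invFun := fun o => o.elim ⟨1, one_mem _, not_Zc_one hz1⟩ fun a => ⟨a.1, a.2.1, a.2.2.2⟩
      left_inv := fun a => by
        by_cases e : a.1 = 1
        · simp only [dif_pos e]; exact Subtype.ext e.symm
        · simp only [dif_neg e]; rfl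
      right_inv := by
        rintro (_ | ⟨a, ha, h1, h2⟩)
        · exact dif_pos rfl
        · exact dif_neg h1 }
  rw [Nat.card_congr e, Finite.card_option] at h
  omega

include hS in
/-- Outside the extraspecial group the translate by the central involution changes the class. -/
theorem Pc_shift (hT : FusTwo z (AG hS F X)) {a : Cz z} (ha : a ∈ A0 F X hS) (hQ : a ∉ Q) (hP : Pc a) :
    ¬ Pc (a * zC z) := by
  intro hP'
  obtain ⟨e, he, ho⟩ := exists_over hS F X ha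
  have h1 : e ≠ 1 := fun h => hQ ((over_one_iff F).1 (h ▸ ho))
  obtain ⟨hzU, hzφ, hzne⟩ := zC_facts hS F
  have ho' : Over F e (a * zC z) := fun v => by
    rw [map_mul, (F.ker (zC z)).2 hzU.1, mul_one]; exact ho v
  have hR : ∀ (c a : Cz z), ¬ Zc a → ¬ Zc (c * a * c⁻¹) := fun c a => (notZc_conj c a).2
  letI := fbAction hS F X (R := fun a => ¬ Zc a) hR e
  let A : Fb hS F X (fun a => ¬ Zc a) e := ⟨a, ha, ho, hP.2⟩
  let B : Fb hS F X (fun a => ¬ Zc a) e := ⟨a * zC z, mul_mem ha (UT_le_A0 hS F X hzU), ho', hP'.2⟩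
  obtain ⟨hle, hd⟩ := fb_orbit hS F X (R := fun a => ¬ Zc a) hR he h1 A
  have hc : Nat.card (Fb hS F X (fun a => ¬ Zc a) e) = 16 := by
    rw [fb_const hS F X (R := fun a => ¬ Zc a) notZc_conj he h1]; exact (counts hS F X hT).1
  have hidx : (MulAction.stabilizer Q A).index = 16 := by
    refine Nat.le_antisymm ?_ (Nat.le_of_dvd (Nat.pos_of_ne_zero Subgroup.index_ne_zero_of_finite) hd)
    rw [MulAction.index_stabilizer, ← hc]
    exact Set.ncard_le_card _
  have horb : MulAction.orbit Q A = Set.univ := Set.eq_of_subset_of_ncard_le (Set.subset_univ _) (by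
    rw [Set.ncard_univ, ← MulAction.index_stabilizer, hidx, hc])
  have heq : MulAction.stabilizer Q A = Pf F e := by
    refine Subgroup.eq_of_le_of_card_ge hle ?_
    have h := (MulAction.stabilizer Q A).card_mul_index
    rw [hidx, hS.2.2.2.1] at h
    rw [card_Pf hS F he h1]
    omega
  obtain ⟨q, hq⟩ : B ∈ MulAction.orbit Q A := horb ▸ Set.mem_univ _
  have hq' : (q : Cz z) * a * (q : Cz z)⁻¹ = a * zC z := congrArg Subtype.val hq
  have hfix : q ∈ Pf F e := by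
    show e • F.φ q = F.φ q
    have e2 : (MulAut.conjNormal a⁻¹ q : Q) = ⟨zC z, hzU.1⟩ * q := Subtype.ext (by
      rw [MulAut.conjNormal_apply, Subgroup.coe_mul, inv_inv]
      show a⁻¹ * q * a = zC z * q
      calc a⁻¹ * (q : Cz z) * a = a⁻¹ * ((q : Cz z) * a * (q : Cz z)⁻¹) * q := by group
        _ = zC z * q := by rw [hq']; group)
    have e3 := congrArg F.φ e2
    rw [F.conj, F.φ_mul, hzφ, zero_add, map_inv] at e3
    have e4 : F.act a (F.φ q) = F.φ q := ((F.act a).symm_apply_eq.1 e3).symm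
    rwa [ho] at e4
  rw [← heq] at hfix
  have hq0 : (q : Cz z) * a * (q : Cz z)⁻¹ = a := congrArg Subtype.val hfix
  rw [hq'] at hq0
  exact hzne (mul_eq_left.1 hq0)

/-- The pencil of the central involution. -/
def Sz (a : Cz z) : Prop := a ∈ A0 F X hS ∧ Pc a ∧ Pc (a * zC z)

include hS in
theorem Sz_iff (hT : FusTwo z (AG hS F X)) {a : Cz z} :
    Sz hS F X a ↔ ∃ h : a ∈ Q, InU2 (F.φ ⟨a, h⟩) ∧ InO FF.w (F.φ ⟨a, h⟩) := by
  obtain ⟨hzU, hzφ, -⟩ := zC_facts hS F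
  constructor
  · rintro ⟨ha, h1, h2⟩
    have hQ : a ∈ Q := by_contra fun hQ => Pc_shift hS F X hT ha hQ h1 h2
    exact ⟨hQ, InU2_of_mem hS F X ha hQ, (kinds hS F (InU2_of_mem hS F X ha hQ)).1 h1⟩
  · rintro ⟨hQ, hu, hi⟩
    have e : F.φ (⟨a, hQ⟩ * ⟨zC z, hzU.1⟩) = F.φ ⟨a, hQ⟩ := by rw [F.φ_mul, hzφ, add_zero]
    exact ⟨inQ_of_InU2 hS F X hu, (kinds hS F hu).2 hi,
      (kinds hS F (a := ⟨a, hQ⟩ * ⟨zC z, hzU.1⟩) (e.symm ▸ hu)).2 (e.symm ▸ hi)⟩

include hS in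
theorem card_Sz (hT : FusTwo z (AG hS F X)) : Nat.card {a : Cz z // Sz hS F X a} = 36 := by
  rw [show 36 = Nat.card {q : Q // InU2 (F.φ q) ∧ InO FF.w (F.φ q)} by
    rw [card_over_vectors hS F fun v => InU2 v ∧ InO FF.w v, card_InU2_InO]]
  exact Nat.card_congr
    { toFun := fun a => ⟨⟨a.1, ((Sz_iff hS F X hT).1 a.2).1⟩, ((Sz_iff hS F X hT).1 a.2).2⟩
      invFun := fun q => ⟨(q.1 : Cz z), (Sz_iff hS F X hT).2 ⟨q.1.2, q.2⟩⟩
      left_inv := fun _ => rfl
      right_inv := fun _ => rfl }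

include hS in
theorem pencil_pairs (hT : FusTwo z (AG hS F X)) {a : Cz z} (ha : Sz hS F X a) :
    Nat.card {y : Cz z // Sz hS F X y ∧ Pc (a * y)} = 4 ∧
      ∀ y, Sz hS F X y → Pc (a * y) → Pc (a * y * zC z) := by
  obtain ⟨haQ, hau, hai⟩ := (Sz_iff hS F X hT).1 ha
  set u := F.φ ⟨a, haQ⟩
  obtain ⟨hzU, hzφ, -⟩ := zC_facts hS F
  refine ⟨?_, fun y hy hP => ?_⟩
  · have hw : InO FF.w (FF.w • u) ∧ InO FF.w (FF.w2 • u) := by
      obtain ⟨p, r, s, e⟩ := InU2_iff.1 hau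
      rw [show u = Upar p r s from e]
      exact InO_scalars p r s (e ▸ hai)
    have h4 : Nat.card {v : V // v = FF.w • u ∨ v = FF.w2 • u} = 2 := by
      rw [show Nat.card {v : V // v = FF.w • u ∨ v = FF.w2 • u} = Nat.card ({FF.w • u, FF.w2 • u} : Set V) from rfl,
        Nat.card_coe_set_eq, Set.ncard_pair fun e => ?_]
      refine InO_wt_ne_zero (InO_Iso hai) (funext fun i => ?_)
      exact (show ∀ t : FF, FF.w * t = FF.w2 * t → t = 0 by decide) _ (congrFun e i)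
    rw [show 4 = Nat.card {q : Q // F.φ q = FF.w • u ∨ F.φ q = FF.w2 • u} by
      rw [card_over_vectors hS F fun v => v = FF.w • u ∨ v = FF.w2 • u, h4]]
    refine Nat.card_congr
      { toFun := fun y => ⟨⟨y.1, ((Sz_iff hS F X hT).1 y.2.1).1⟩, ?_⟩
        invFun := fun q => ⟨(q.1 : Cz z), ?_⟩
        left_inv := fun _ => rfl
        right_inv := fun _ => rfl }
    · obtain ⟨hQ, hu, hi⟩ := (Sz_iff hS F X hT).1 y.2.1
      have h := (kinds hS F (a := ⟨a, haQ⟩ * ⟨y.1, hQ⟩) (by rw [F.φ_mul]; exact InU2_add hau hu)).1 y.2.2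
      rw [F.φ_mul] at h
      exact (InO_pair hau hu hai hi).1 h
    · have hu : InU2 (F.φ q.1) := q.2.elim (fun e => by rw [e]; exact InU2_smul _ hau) fun e => by rw [e]; exact InU2_smul _ hau
      have hi : InO FF.w (F.φ q.1) := q.2.elim (fun e => by rw [e]; exact hw.1) fun e => by rw [e]; exact hw.2
      refine ⟨(Sz_iff hS F X hT).2 ⟨q.1.2, hu, hi⟩, ?_⟩
      exact (kinds hS F (a := ⟨a, haQ⟩ * q.1) (by rw [F.φ_mul]; exact InU2_add hau hu)).2
        (by rw [F.φ_mul]; exact (InO_pair hau hu hai hi).2 q.2)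
  · obtain ⟨hQ, hu, -⟩ := (Sz_iff hS F X hT).1 hy
    have hsum : InU2 (F.φ (⟨a, haQ⟩ * ⟨y, hQ⟩)) := by rw [F.φ_mul]; exact InU2_add hau hu
    have e : F.φ (⟨a, haQ⟩ * ⟨y, hQ⟩ * ⟨zC z, hzU.1⟩) = F.φ (⟨a, haQ⟩ * ⟨y, hQ⟩) := by
      rw [F.φ_mul _ ⟨zC z, hzU.1⟩, hzφ, add_zero]
    exact (kinds hS F (a := ⟨a, haQ⟩ * ⟨y, hQ⟩ * ⟨zC z, hzU.1⟩) (e.symm ▸ hsum)).2
      (e.symm ▸ (kinds hS F hsum).1 hP)

end Cfsg.Agent.LargeExtra.Fischer
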