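import Cfsg.Agent.Lib.Components.UnitarySix.Cover
import Cfsg.Agent.Lib.Classical.UnitarySimple

/-!
The projective unitary group of dimension four over nine elements acts trivially on any elementary
abelian 2-group of order less than `2^12`.
-/

set_option autoImplicit false

namespace Cfsg.Agent.LargeExtra.Fischer

open Subgroup

section Proj

variable {P : Type*} [Group P] [Finite P] {R : Type*} [Ring R] (f : P →* R)

/-- The sum of the images of the members of a subgroup. -/
noncomputable def avg (H : Subgroup P) : R :=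
  letI := Fintype.ofFinite H
  ∑ h : H, f h

theorem mul_avg {H : Subgroup P} {a : P} (ha : a ∈ H) : f a * avg f H = avg f H := by
  letI := Fintype.ofFinite H
  rw [avg, Finset.mul_sum]
  exact Fintype.sum_equiv (Equiv.mulLeft (⟨a, ha⟩ : H)) _ _ fun h => by simp

theorem avg_mul {H : Subgroup P} {a : P} (ha : a ∈ H) : avg f H * f a = avg f H := by
  letI := Fintype.ofFinite H
  rw [avg, Finset.sum_mul]
  exact Fintype.sum_equiv (Equiv.mulRight (⟨a, ha⟩ : H)) _ _ fun h => by simp

theorem conj_avg (H : Subgroup P) (n : P) :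
    f n * avg f H * f n⁻¹ = avg f (H.map (MulAut.conj n).toMonoidHom) := by
  letI := Fintype.ofFinite H
  letI := Fintype.ofFinite (H.map (MulAut.conj n).toMonoidHom)
  rw [avg, avg, Finset.mul_sum, Finset.sum_mul]
  refine Fintype.sum_equiv
    (H.equivMapOfInjective _ (MulAut.conj n).injective).toEquiv _ _ fun h => ?_
  rw [← map_mul, ← map_mul]; rfl

theorem avg_bot : avg f (⊥ : Subgroup P) = 1 := by
  letI := Fintype.ofFinite (⊥ : Subgroup P)
  rw [avg, Fintype.sum_eq_single (1 : (⊥ : Subgroup P)) fun x hx => absurd (Subsingleton.elim x 1) hx]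
  simp

variable (h2 : (2 : R) = 0)
include h2

theorem nsmul_odd {n : ℕ} (hn : Odd n) (x : R) : n • x = x := by
  obtain ⟨k, rfl⟩ := hn
  have hx : x + x = 0 := by rw [← two_mul, h2, zero_mul]
  rw [succ_nsmul, mul_nsmul, two_nsmul, hx, nsmul_zero, zero_add]

theorem avg_mul_sub {H K : Subgroup P} (hle : K ≤ H) (hK : Odd (Nat.card K)) :
    avg f H * avg f K = avg f H := by
  letI := Fintype.ofFinite K
  show avg f H * (∑ k : K, f k) = _
  rw [Finset.mul_sum, Finset.sum_congr rfl fun k _ => avg_mul f (hle k.2), Finset.sum_const,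
    Finset.card_univ, ← Nat.card_eq_fintype_card, nsmul_odd h2 hK]

theorem sub_mul_avg {H K : Subgroup P} (hle : K ≤ H) (hK : Odd (Nat.card K)) :
    avg f K * avg f H = avg f H := by
  letI := Fintype.ofFinite K
  show (∑ k : K, f k) * avg f H = _
  rw [Finset.sum_mul, Finset.sum_congr rfl fun k _ => mul_avg f (hle k.2), Finset.sum_const,
    Finset.card_univ, ← Nat.card_eq_fintype_card, nsmul_odd h2 hK]

end Proj

section Weights

open scoped _root_.Classical

variable {P : Type*} [Group P] [Finite P] {W : Type*} [AddCommGroup W] [Finite W] (f : P →* AddMonoid.End W)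
  (hW : ∀ w : W, w + w = 0) (D : Subgroup P) (hodd : Odd (Nat.card D))
  (hab : ∀ a ∈ D, ∀ b ∈ D, a * b = b * a) (hexp : ∀ a ∈ D, a * a * a = 1)

omit [Finite P] [Finite W] in
theorem two_eq_zero (hW : ∀ w : W, w + w = 0) : (2 : AddMonoid.End W) = 0 := by
  rw [← one_add_one_eq_two]
  ext w
  exact hW w

/-- The part of `W` on which `H` is trivial and `D` is fixed-point-free, as an idempotent. -/
noncomputable def wt' (H : Subgroup P) : AddMonoid.End W := avg f H + avg f D

/-- A hyperplane of `D` with a non-trivial weight space. -/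
def IsWeight (H : Subgroup P) : Prop :=
  H ≤ D ∧ wt' f D H ≠ 0 ∧ H ≠ D ∧ ∀ L, H < L → L ≤ D → L = D

include hW hodd hab hexp

theorem wt'_mul {H : Subgroup P} (hH : IsWeight f D H) {K : Subgroup P} (hK : IsWeight f D K) :
    wt' f D H * wt' f D K = if H = K then wt' f D H else 0 := by
  have h2 := two_eq_zero hW
  have hh : Odd (Nat.card H) := hodd.of_dvd_nat (Subgroup.card_dvd_of_le hH.1)
  have hk : Odd (Nat.card K) := hodd.of_dvd_nat (Subgroup.card_dvd_of_le hK.1)
  have hdd : avg f D * avg f D = avg f D := avg_mul_sub f h2 le_rfl hodd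
  have hx : ∀ x : AddMonoid.End W, x + x = 0 := fun x => by rw [← two_mul, h2, zero_mul]
  rw [wt', wt', add_mul, mul_add, mul_add, avg_mul_sub f h2 hK.1 hk, sub_mul_avg f h2 hH.1 hh, hdd]
  split_ifs with he
  · subst he
    rw [avg_mul_sub f h2 le_rfl hh, hx, add_zero]
  · have hsup : H ⊔ K = D := by
      refine hH.2.2.2 _ (lt_of_le_of_ne le_sup_left fun e => ?_) (sup_le hH.1 hK.1)
      have hKH : K ≤ H := e ▸ le_sup_right
      exact hH.2.2.1 (hK.2.2.2 H (lt_of_le_of_ne hKH (Ne.symm he)) hH.1)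
    have hP : avg f H * avg f K = avg f D := by
      set p := avg f H * avg f K with hp
      let L : Subgroup P :=
        { carrier := {a | a ∈ D ∧ f a * p = p}
          mul_mem' := fun {a b} ha hb => ⟨mul_mem ha.1 hb.1, by rw [map_mul, mul_assoc, hb.2, ha.2]⟩
          one_mem' := ⟨one_mem _, by simp⟩
          inv_mem' := fun {a} ha => ⟨inv_mem ha.1, by
            conv_lhs => rw [← ha.2]
            rw [← mul_assoc, ← map_mul, inv_mul_cancel, map_one, one_mul]⟩ }
      have hL : D ≤ L := by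
        rw [← hsup]
        refine sup_le (fun a ha => ⟨hsup ▸ mem_sup_left ha, by rw [hp, ← mul_assoc, mul_avg f ha]⟩)
          fun a ha => ⟨hsup ▸ mem_sup_right ha, ?_⟩
        rw [hp, ← mul_assoc]
        have : f a * avg f H = avg f H * f a := by
          letI := Fintype.ofFinite H
          rw [avg, Finset.mul_sum, Finset.sum_mul]
          exact Finset.sum_congr rfl fun h _ => by rw [← map_mul, ← map_mul, hab a (hK.1 ha) h (hH.1 h.2)]
        rw [this, mul_assoc, mul_avg f ha]
      calc p = avg f D * p := by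
            letI := Fintype.ofFinite D
            rw [avg, Finset.sum_mul, Finset.sum_congr rfl fun d _ => (hL d.2).2, Finset.sum_const,
              Finset.card_univ, ← Nat.card_eq_fintype_card, nsmul_odd h2 hodd]
        _ = avg f D := by
            rw [hp, ← mul_assoc, avg_mul_sub f h2 hH.1 hh, avg_mul_sub f h2 hK.1 hk]
    rw [hP]; simp [hx]

theorem exists_weight (hne : ∃ a ∈ D, f a ≠ 1) : ∃ H, IsWeight f D H := by
  classical
  letI := Fintype.ofFinite (Subgroup P)
  have h2 := two_eq_zero hW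
  have hx : ∀ x : AddMonoid.End W, x + x = 0 := fun x => by rw [← two_mul, h2, zero_mul]
  let S : Finset (Subgroup P) := Finset.univ.filter fun B => B ≤ D ∧ wt' f D B ≠ 0
  have hbot : (⊥ : Subgroup P) ∈ S := Finset.mem_filter.2 ⟨Finset.mem_univ _, bot_le, fun h => by
    obtain ⟨a, ha, hne⟩ := hne
    refine hne ?_
    rw [wt', avg_bot] at h
    have : (1 : AddMonoid.End W) = avg f D := by
      rw [← add_zero (1 : AddMonoid.End W), ← hx (avg f D), ← add_assoc, h, zero_add]
    rw [← mul_one (f a), this, mul_avg f ha]⟩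
  obtain ⟨B, hBS, hmax⟩ := S.exists_maximal ⟨⊥, hbot⟩
  obtain ⟨-, hBD, hB0⟩ := Finset.mem_filter.1 hBS
  have hBne : B ≠ D := fun e => hB0 (by rw [wt', e, hx])
  refine ⟨B, hBD, hB0, hBne, fun L hlt hLD => ?_⟩
  by_contra hL
  obtain ⟨a, haL, haB⟩ := SetLike.exists_of_lt hlt
  obtain ⟨b, hbD, hbL⟩ := SetLike.exists_of_lt (lt_of_le_of_ne hLD hL)
  -- every element of `D` outside `B` satisfies `x² = x + 1` on the weight space
  have key : ∀ d ∈ D, d ∉ B → f (d * d) * wt' f D B = f d * wt' f D B + wt' f D B := by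
    intro d hd hdB
    have hlt' : B < B ⊔ zpowers d := lt_of_le_of_ne le_sup_left fun e =>
      hdB (e ▸ mem_sup_right (mem_zpowers d))
    have hle : B ⊔ zpowers d ≤ D := sup_le hBD (zpowers_le.2 hd)
    have hz : wt' f D (B ⊔ zpowers d) = 0 := by
      by_contra h0
      exact hlt'.not_ge (hmax (Finset.mem_filter.2 ⟨Finset.mem_univ _, hle, h0⟩) hlt'.le)
    set p := wt' f D B
    set T : AddMonoid.End W := f (d * d) + f d + 1
    have hTd : f d * T = T := by
      simp only [T, mul_add, mul_one, ← map_mul, ← mul_assoc, hexp d hd, map_one]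
      abel
    have hT : ∀ u, f u * (T * p) = T * p → f u⁻¹ * (T * p) = T * p := fun u hu => by
      conv_lhs => rw [← hu]
      rw [← mul_assoc, ← map_mul, inv_mul_cancel, map_one, one_mul]
    let L' : Subgroup P :=
      { carrier := {u | u ∈ D ∧ f u * (T * p) = T * p}
        mul_mem' := fun {u v} hu hv => ⟨mul_mem hu.1 hv.1, by rw [map_mul, mul_assoc, hv.2, hu.2]⟩
        one_mem' := ⟨one_mem _, by simp⟩
        inv_mem' := fun {u} hu => ⟨inv_mem hu.1, hT u hu.2⟩ }
    have hL' : B ⊔ zpowers d ≤ L' := by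
      refine sup_le (fun u hu => ⟨hBD hu, ?_⟩) (zpowers_le.2 ⟨hd, by rw [← mul_assoc, hTd]⟩)
      have hc : f u * T = T * f u := by
        simp only [T, mul_add, add_mul, mul_one, one_mul, ← map_mul, hab u (hBD hu) d hd,
          hab u (hBD hu) (d * d) (mul_mem hd hd)]
      rw [← mul_assoc, hc, mul_assoc]
      congr 1
      simp only [p, wt', mul_add, mul_avg f hu, mul_avg f (hBD hu)]
    have hsum : avg f (B ⊔ zpowers d) * (T * p) = T * p := by
      letI := Fintype.ofFinite ↥(B ⊔ zpowers d)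
      rw [avg, Finset.sum_mul, Finset.sum_congr rfl fun u _ => (hL' u.2).2, Finset.sum_const,
        Finset.card_univ, ← Nat.card_eq_fintype_card,
        nsmul_odd h2 (hodd.of_dvd_nat (Subgroup.card_dvd_of_le hle))]
    have hBd : avg f (B ⊔ zpowers d) = avg f D := by
      rw [← add_zero (avg f _), ← hx (avg f D), ← add_assoc]
      rw [wt'] at hz
      rw [hz, zero_add]
    have hDT : avg f D * T = avg f D := by
      simp only [T, mul_add, mul_one, avg_mul f (mul_mem hd hd), avg_mul f hd, hx, zero_add]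
    have hDp : avg f D * p = 0 := by
      simp only [p, wt', mul_add, avg_mul_sub f h2 hBD (hodd.of_dvd_nat (Subgroup.card_dvd_of_le hBD)),
        avg_mul_sub f h2 le_rfl hodd, hx]
    have hTp : T * p = 0 := by rw [← hsum, hBd, ← mul_assoc, hDT, hDp]
    simp only [T, add_mul, one_mul] at hTp
    rw [← add_zero (f d * p + p), ← hTp]
    rw [show f d * p + p + (f (d * d) * p + f d * p + p) =
      f (d * d) * p + ((f d * p + f d * p) + (p + p)) by abel, hx, hx, add_zero, add_zero]
  have hbB : b ∉ B := fun h => hbL (hlt.le h)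
  have habB : a * b ∉ B := fun h => hbL (by
    have := mul_mem (inv_mem haL) (hlt.le h); rwa [inv_mul_cancel_left] at this)
  have hab2B : a * (b * b) ∉ B := fun h => hbL (by
    have hbb : b * b ∈ L := by
      have := mul_mem (inv_mem haL) (hlt.le h); rwa [inv_mul_cancel_left] at this
    have := inv_mem hbb
    rwa [show (b * b)⁻¹ = b from inv_eq_of_mul_eq_one_right (hexp b hbD)] at this)
  have haD := hLD haL
  set p := wt' f D B with hp
  -- `(ab)² = ab + 1` gives `a = b` on the weight space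
  have h1 := key (a * b) (mul_mem haD hbD) habB
  have h2' : f (a * a) * (f (b * b) * p) = f a * (f b * p) + p := by
    rw [← mul_assoc (f a) (f b) p, ← map_mul, ← h1, ← mul_assoc, ← map_mul]
    congr 2
    calc a * a * (b * b) = a * (a * b) * b := by group
      _ = a * (b * a) * b := by rw [hab a haD b hbD]
      _ = a * b * (a * b) := by group
  have hpb : f (a * a) * (f b * p) = f b * (f (a * a) * p) := by
    rw [← mul_assoc, ← mul_assoc, ← map_mul, ← map_mul, hab _ (mul_mem haD haD) b hbD]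
  rw [key b hbD hbB, mul_add, hpb, key a haD haB, mul_add] at h2'
  have hba : f b * (f a * p) = f a * (f b * p) := by
    rw [← mul_assoc, ← mul_assoc, ← map_mul, ← map_mul, hab a haD b hbD]
  rw [hba] at h2'
  have hab' : f a * p = f b * p := by
    have e : f b * p + f a * p = 0 := by
      have h3 := h2'
      rw [show f a * (f b * p) + f b * p + (f a * p + p) =
        (f a * (f b * p) + p) + (f b * p + f a * p) by abel] at h3
      exact add_eq_left.1 h3
    rw [← zero_add (f a * p), ← hx (f b * p), add_assoc, e, add_zero]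
  -- so `ab²` fixes the weight space
  have h4 : f (a * (b * b)) * p = p := by
    have : f (b * b) * (f a * p) = p := by
      rw [hab', ← mul_assoc, ← map_mul, hexp b hbD, map_one, one_mul]
    rwa [← mul_assoc, ← map_mul, ← hab a haD _ (mul_mem hbD hbD)] at this
  have h5 := key _ (mul_mem haD (mul_mem hbD hbD)) hab2B
  rw [map_mul, mul_assoc, h4, h4, hx] at h5
  exact hB0 h5

theorem four_pow_le {m : ℕ} (H : Fin m → Subgroup P) (hinj : Function.Injective H)
    (hH : ∀ i, IsWeight f D (H i)) : 4 ^ m ≤ Nat.card W := by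
  classical
  have h2 := two_eq_zero hW
  let R : Fin m → AddSubgroup W := fun i => (wt' f D (H i) : W →+ W).range
  have hfix : ∀ i, ∀ x ∈ R i, wt' f D (H i) x = x := by
    rintro i _ ⟨y, rfl⟩
    have := DFunLike.congr_fun (wt'_mul f hW D hodd hab hexp (hH i) (hH i)) y
    rw [if_pos rfl] at this
    exact this
  have hsurj : Function.Surjective (fun (w : W) i => (⟨wt' f D (H i) w, w, rfl⟩ : R i)) := by
    intro v
    refine ⟨∑ j, (v j : W), funext fun i => Subtype.ext ?_⟩
    show wt' f D (H i) (∑ j, (v j : W)) = v i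
    rw [map_sum, Finset.sum_eq_single i (fun j _ hji => ?_) (by simp)]
    · exact hfix i _ (v i).2
    · conv_lhs => rw [← hfix j _ (v j).2]
      have := DFunLike.congr_fun (wt'_mul f hW D hodd hab hexp (hH i) (hH j)) (v j : W)
      rw [if_neg fun e => hji (hinj e).symm] at this
      exact this
  refine le_trans ?_ (Nat.card_le_card_of_surjective _ hsurj)
  rw [Nat.card_pi]
  refine le_trans (le_of_eq (Finset.prod_const 4).symm |>.trans' (by simp)) (Finset.prod_le_prod' fun i _ => ?_)
  -- each weight space has at least four elements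
  obtain ⟨hle, hne, hne', -⟩ := hH i
  obtain ⟨w, hw⟩ : ∃ w, wt' f D (H i) w ≠ 0 := by
    by_contra hc; push Not at hc; exact hne (AddMonoidHom.ext hc)
  obtain ⟨a, ha, haH⟩ := SetLike.exists_of_lt (lt_of_le_of_ne hle hne')
  set u := wt' f D (H i) w
  have hcomm : f a * wt' f D (H i) = wt' f D (H i) * f a := by
    simp only [wt', mul_add, add_mul, mul_avg f ha, avg_mul f ha]
    congr 1
    letI := Fintype.ofFinite (H i)
    rw [avg, Finset.mul_sum, Finset.sum_mul]
    exact Finset.sum_congr rfl fun h _ => by rw [← map_mul, ← map_mul, hab a ha h (hle h.2)]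
  have hau : (f a) u ∈ R i := ⟨f a w, (DFunLike.congr_fun hcomm w).symm⟩
  have hu : u ∈ R i := ⟨w, rfl⟩
  have hmove : (f a) u ≠ u := by
    intro e
    let St : Subgroup P :=
      { carrier := {g | g ∈ D ∧ f g u = u}
        mul_mem' := fun {g g'} hg hg' => ⟨mul_mem hg.1 hg'.1, by
          rw [map_mul]; show f g (f g' u) = u; rw [hg'.2, hg.2]⟩
        one_mem' := ⟨one_mem _, by rw [map_one]; rfl⟩
        inv_mem' := fun {g} hg => ⟨inv_mem hg.1, by
          conv_lhs => rw [← hg.2]
          show (f g⁻¹ * f g) u = u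
          rw [← map_mul, inv_mul_cancel, map_one]; rfl⟩ }
    have hHS : H i ≤ St := fun g hg => ⟨hle hg, by
      show (f g * wt' f D (H i)) w = u
      simp only [wt', mul_add, mul_avg f hg, mul_avg f (hle hg)]; rfl⟩
    have hSD : St = D := (hH i).2.2.2 St (lt_of_le_of_ne hHS fun e' => haH (e' ▸ (⟨ha, e⟩ : a ∈ St)))
      fun g hg => hg.1
    have hu0 : avg f D u = u := by
      letI := Fintype.ofFinite D
      have hs : avg f D u = ∑ d : D, f d u :=
        AddMonoidHom.finsetSum_apply (fun d : D => (f d : W →+ W)) Finset.univ u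
      rw [hs, Finset.sum_congr rfl fun (d : D) _ => (hSD.symm.le d.2).2]
      rw [Finset.sum_const, Finset.card_univ, ← Nat.card_eq_fintype_card]
      obtain ⟨k, hk⟩ := hodd
      rw [hk, succ_nsmul, mul_nsmul, two_nsmul, hW, nsmul_zero, zero_add]
    have hzero : avg f D * wt' f D (H i) = 0 := by
      rw [wt', mul_add, avg_mul_sub f h2 hle (hodd.of_dvd_nat (Subgroup.card_dvd_of_le hle)),
        avg_mul_sub f h2 le_rfl hodd, ← two_mul, h2, zero_mul]
    exact hw (hu0.symm.trans (DFunLike.congr_fun hzero w))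
  have hau0 : (f a) u ≠ 0 := by
    intro e
    refine hw ?_
    have : (f a⁻¹ * f a) u = u := by rw [← map_mul, inv_mul_cancel, map_one]; rfl
    rw [← this]
    show f a⁻¹ (f a u) = 0
    rw [e, map_zero]
  let g : Fin 4 → R i := ![0, ⟨u, hu⟩, ⟨(f a) u, hau⟩, ⟨u, hu⟩ + ⟨(f a) u, hau⟩]
  have hg : Function.Injective g := by
    have e1 : u + (f a) u ≠ 0 := fun e => hmove (by
      rw [← zero_add ((f a) u), ← hW u, add_assoc, e, add_zero])
    intro x y hxy
    have h := congrArg Subtype.val hxy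
    fin_cases x <;> fin_cases y <;>
      simp [g, hw, Ne.symm hw, hau0, Ne.symm hau0, hmove, Ne.symm hmove, e1, Ne.symm e1] at h ⊢
  simpa using Nat.card_le_card_of_injective g hg

end Weights

section Unitary

open Cfsg.Agent.InvChar.Coset
open Cfsg.Agent.Components.UnitarySix
open Cfsg.Agent.MonomialMult (Nine)
open Cfsg.Agent.Components.UnitarySix.Model (M ψ)

local notation "U43" => Cfsg.PSU 4 Nine 3

theorem mem_D_eq {x : S} (hx : x ∈ D) : ∃ d : Dset, x = diagS d := by
  obtain ⟨d, hd⟩ := hx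
  exact ⟨⟨d, hd.prod⟩, hd.eq_mkMon⟩

theorem D_comm {x y : S} (hx : x ∈ D) (hy : y ∈ D) : x * y = y * x := by
  obtain ⟨a, rfl⟩ := mem_D_eq hx
  obtain ⟨b, rfl⟩ := mem_D_eq hy
  rw [diagS_mul, diagS_mul]
  exact diagS_ext fun i => mul_comm _ _

theorem Dq_facts : Odd (Nat.card Dq) ∧ (∀ a ∈ Dq, ∀ b ∈ Dq, a * b = b * a) ∧ ∀ a ∈ Dq, a * a * a = 1 := by
  refine ⟨by rw [card_Dq]; decide, ?_, ?_⟩
  · rintro _ ⟨a, ha, rfl⟩ _ ⟨b, hb, rfl⟩
    rw [← map_mul, ← map_mul]
    exact congrArg ψ (Subtype.ext (D_comm ha hb))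
  · rintro _ ⟨a, ha, rfl⟩
    obtain ⟨d, hd⟩ := mem_D_eq (x := a.1) ha
    rw [← map_mul, ← map_mul]
    convert map_one ψ
    refine Subtype.ext ?_
    show a.1 * a.1 * a.1 = 1
    rw [hd, diagS_cube]

/-- Coordinates making the generator number `k` a commutator of a three-cycle. -/
def cyc (k : Fin 6) : Fin 6 × Fin 6 := ((spare k).1, (spare k).2)

/-- The diagonal entries whose commutator with the three-cycle gives the generator number `k`. -/
def pre (k : Fin 6) : V := fun i => if i = 0 then .w2 else if i = (cyc k).2 then .w else 1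

set_option maxRecDepth 100000 in
theorem pre_spec : ∀ k : Fin 6, k ≠ 0 → (∏ i, pre k i = 1) ∧
    ∀ i : Fin 6, pre k ((Equiv.swap 0 k * Equiv.swap k (cyc k).1).symm i) * (pre k i) ^ 2 = (dk k).1 i := by
  decide +kernel

set_option maxRecDepth 100000 in
theorem cyc_cube : ∀ k : Fin 6, k ≠ 0 →
    (Equiv.swap 0 k * Equiv.swap k (cyc k).1) * (Equiv.swap 0 k * Equiv.swap k (cyc k).1) *
      (Equiv.swap 0 k * Equiv.swap k (cyc k).1) = 1 := by
  decide +kernel

theorem pSU43_simple : IsSimpleGroup U43 :=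
  Cfsg.Agent.Classical.Unitary.isSimpleGroup_PSU (F := Nine) (q := 3) Nine.card (by norm_num) (by norm_num)

/-- A hyperplane fixed by an element of order three contains the commutators with that element. -/
theorem commutator_mem {P : Type*} [Group P] {Dq H₀ : Subgroup P} (hab : ∀ a ∈ Dq, ∀ b ∈ Dq, a * b = b * a)
    (hexp : ∀ a ∈ Dq, a * a * a = 1) (hle : H₀ ≤ Dq) (hmax : ∀ L, H₀ < L → L ≤ Dq → L = Dq) {g a : P}
    (hg3 : g * g * g = 1) (hnorm : ∀ x ∈ Dq, g * x * g⁻¹ ∈ Dq) (hgmem : ∀ x, x ∈ H₀ → g * x * g⁻¹ ∈ H₀)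
    (ha : a ∈ Dq) : g * a * g⁻¹ * a⁻¹ ∈ H₀ := by
  by_cases haH : a ∈ H₀
  · exact mul_mem (hgmem a haH) (inv_mem haH)
  have hsup : H₀ ⊔ Subgroup.zpowers a = Dq := hmax _
    (lt_of_le_of_ne le_sup_left fun e => haH (e ▸ Subgroup.mem_sup_right (Subgroup.mem_zpowers a)))
    (sup_le hle (Subgroup.zpowers_le.2 ha))
  -- the coset of `a` goes to a coset of `a` or `a²`; as `g³ = 1`, to that of `a`
  let C : Subgroup P :=
    { carrier := {x | x ∈ Dq ∧ (x ∈ H₀ ∨ x * a ∈ H₀ ∨ x * a⁻¹ ∈ H₀)}
      mul_mem' := by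
        rintro x y ⟨hx, hx'⟩ ⟨hy, hy'⟩
        refine ⟨mul_mem hx hy, ?_⟩
        have e : ∀ u v : P, u ∈ Dq → v ∈ Dq → (x * u) * (y * v) = x * y * (u * v) := fun u v hu hv => by
          rw [mul_assoc, ← mul_assoc u, hab u hu y hy]; group
        rcases hx' with h | h | h <;> rcases hy' with h' | h' | h'
        · exact Or.inl (mul_mem h h')
        · exact Or.inr (Or.inl (by simpa [mul_assoc] using mul_mem h h'))
        · exact Or.inr (Or.inr (by simpa [mul_assoc] using mul_mem h h'))
        · exact Or.inr (Or.inl (by have := mul_mem h h'; rwa [mul_assoc, hab a ha y hy, ← mul_assoc] at this))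
        · refine Or.inr (Or.inr ?_)
          have := mul_mem h h'
          rw [e a a ha ha] at this
          rwa [inv_eq_of_mul_eq_one_right (by rw [← mul_assoc]; exact hexp a ha)]
        · refine Or.inl ?_
          have := mul_mem h h'
          rwa [e a a⁻¹ ha (inv_mem ha), mul_inv_cancel, mul_one] at this
        · exact Or.inr (Or.inr (by
            have := mul_mem h h'; rwa [mul_assoc, hab a⁻¹ (inv_mem ha) y hy, ← mul_assoc] at this))
        · refine Or.inl ?_
          have := mul_mem h h'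
          rwa [e a⁻¹ a (inv_mem ha) ha, inv_mul_cancel, mul_one] at this
        · refine Or.inr (Or.inl ?_)
          have := mul_mem h h'
          rw [e a⁻¹ a⁻¹ (inv_mem ha) (inv_mem ha)] at this
          rwa [← mul_inv_rev, inv_eq_of_mul_eq_one_right (hexp a ha)] at this
      one_mem' := ⟨one_mem _, Or.inl (one_mem _)⟩
      inv_mem' := by
        rintro x ⟨hx, hx'⟩
        refine ⟨inv_mem hx, ?_⟩
        rcases hx' with h | h | h
        · exact Or.inl (inv_mem h)
        · refine Or.inr (Or.inr ?_)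
          have := inv_mem h
          rwa [mul_inv_rev, hab _ (inv_mem ha) _ (inv_mem hx)] at this
        · refine Or.inr (Or.inl ?_)
          have := inv_mem h
          rwa [mul_inv_rev, inv_inv, hab _ ha _ (inv_mem hx)] at this }
  have hC : Dq ≤ C := by
    rw [← hsup]
    exact sup_le (fun x hx => ⟨hle hx, Or.inl hx⟩)
      (Subgroup.zpowers_le.2 ⟨ha, Or.inr (Or.inr (by rw [mul_inv_cancel]; exact one_mem _))⟩)
  have hga : g * a * g⁻¹ ∈ Dq := hnorm a ha
  rcases (hC hga).2 with h | h | h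
  · exfalso
    refine haH ?_
    have := hgmem _ (hgmem _ h)
    rwa [show g * (g * (g * a * g⁻¹) * g⁻¹) * g⁻¹ = (g * g * g) * a * (g * g * g)⁻¹ by group, hg3, one_mul,
      inv_one, mul_one] at this
  · exfalso
    refine haH ?_
    have h1 := hgmem _ h
    have h2 := inv_mem h
    have h3 : g * (g * a * g⁻¹) * g⁻¹ * a⁻¹ ∈ H₀ := by
      have := mul_mem h1 h2
      rwa [show g * (g * a * g⁻¹ * a) * g⁻¹ * (g * a * g⁻¹ * a)⁻¹ =
        g * (g * a * g⁻¹) * g⁻¹ * ((g * a * g⁻¹) * a⁻¹ * (g * a * g⁻¹)⁻¹) by group,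
        hab _ hga _ (inv_mem ha), mul_inv_cancel_right] at this
    have h4 := hgmem _ h3
    have h5 : a * (g * a * g⁻¹)⁻¹ ∈ H₀ := by
      convert h4 using 1
      rw [show g * (g * (g * a * g⁻¹) * g⁻¹ * a⁻¹) * g⁻¹ =
        (g * g * g) * a * (g * g * g)⁻¹ * (g * a * g⁻¹)⁻¹ by group, hg3, one_mul, inv_one, mul_one]
    have h6 : a * a ∈ H₀ := by
      have := mul_mem h5 h
      rwa [mul_assoc, inv_mul_cancel_left] at this
    have := inv_mem h6
    rwa [inv_eq_of_mul_eq_one_right (hexp a ha)] at this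
  · exact h

set_option maxHeartbeats 1000000 in
/-- The group acts trivially on small elementary abelian 2-groups. -/
theorem hom_eq_one {W : Type*} [AddCommGroup W] [Finite W] (f : U43 →* AddMonoid.End W)
    (hW : ∀ w : W, w + w = 0) (hc : Nat.card W < 4096) (p : U43) : f p = 1 := by
  obtain ⟨hodd, hab, hexp⟩ := Dq_facts
  haveI := pSU43_simple
  suffices hD : ∀ a ∈ Dq, f a = 1 by
    have hn : (f.ker : Subgroup U43) ≠ ⊥ := by
      intro e
      have : Dq ≤ ⊥ := fun a ha => e ▸ (MonoidHom.mem_ker.2 (hD a ha))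
      have := Subgroup.card_le_of_le this
      rw [card_Dq, Subgroup.card_bot] at this
      omega
    have := (IsSimpleGroup.eq_bot_or_eq_top_of_normal f.ker (MonoidHom.normal_ker f)).resolve_left hn
    exact MonoidHom.mem_ker.1 (this ▸ Subgroup.mem_top p)
  by_contra hne
  push Not at hne
  obtain ⟨H₀, hH₀⟩ := exists_weight f hW Dq hodd hab hexp hne
  -- the weights form a set of at most five hyperplanes
  let Wts := {H : Subgroup U43 // IsWeight f Dq H}
  have h5 : Nat.card Wts ≤ 5 := by
    by_contra h6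
    push Not at h6
    haveI := Fintype.ofFinite Wts
    rw [Nat.card_eq_fintype_card] at h6
    obtain ⟨g⟩ : Nonempty (Fin 6 ↪ Wts) :=
      Function.Embedding.nonempty_of_card_le (by rw [Fintype.card_fin]; omega)
    have := four_pow_le f hW Dq hodd hab hexp (fun i => (g i).1)
      (fun i j e => g.injective (Subtype.ext e)) fun i => (g i).2
    norm_num at this
    omega
  -- conjugation by monomial elements
  have hnorm : ∀ (n : N0) (a : U43), a ∈ Dq → ψ (toM n.1 n.2) * a * (ψ (toM n.1 n.2))⁻¹ ∈ Dq := by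
    rintro ⟨n, σ, c, hn, hs⟩ _ ⟨m, ⟨e, he⟩, rfl⟩
    refine ⟨toM n ⟨σ, c, hn, hs⟩ * m * (toM n ⟨σ, c, hn, hs⟩)⁻¹, ?_, by rw [map_mul, map_mul, map_inv]⟩
    refine ⟨fun i => c i * e (σ.symm i) * (c i)⁻¹, fun x => ?_⟩
    show (n * m.1 * n⁻¹) • x = _
    rw [mul_smul, mul_smul, hn, show m.1 • n⁻¹ • x = _ from he _, hn.inv]
    funext i
    simp [monV, Equiv.Perm.one_def, mul_assoc]
  have hmapD : ∀ n : N0, Dq.map (MulAut.conj (ψ (toM n.1 n.2))).toMonoidHom = Dq := fun n =>
    Subgroup.eq_of_le_of_card_ge (by rintro _ ⟨a, ha, rfl⟩; exact hnorm n a ha)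
      (Subgroup.card_map_of_injective (MulAut.conj _).injective).ge
  have hconj : ∀ (n : N0) (H : Subgroup U43), IsWeight f Dq H →
      IsWeight f Dq (H.map (MulAut.conj (ψ (toM n.1 n.2))).toMonoidHom) := by
    intro n H hH
    set g := ψ (toM n.1 n.2) with hg
    have hinj := (MulAut.conj g).injective
    refine ⟨(Subgroup.map_mono hH.1).trans (hmapD n).le, fun h0 => hH.2.1 ?_, fun h0 => hH.2.2.1 ?_, ?_⟩
    · have h1 : f g * wt' f Dq H * f g⁻¹ = 0 := by
        rw [wt', mul_add, add_mul, conj_avg, conj_avg, hmapD n]; exact h0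
      calc wt' f Dq H = f g⁻¹ * (f g * wt' f Dq H * f g⁻¹) * f g := by
            rw [mul_assoc (f g) (wt' f Dq H), ← mul_assoc (f g⁻¹) (f g), ← map_mul, inv_mul_cancel, map_one,
              one_mul, mul_assoc, ← map_mul, inv_mul_cancel, map_one, mul_one]
        _ = 0 := by rw [h1, mul_zero, zero_mul]
    · exact Subgroup.map_injective hinj (h0.trans (hmapD n).symm)
    · intro L hlt hle
      have hL : (L.map (MulAut.conj g).symm.toMonoidHom).map (MulAut.conj g).toMonoidHom = L := by
        rw [Subgroup.map_map]; ext x; simp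
      rw [← hL] at hlt hle ⊢
      rw [← hmapD n, Subgroup.map_le_map_iff_of_injective hinj] at hle
      rw [hH.2.2.2 _ ((Subgroup.map_lt_map_iff_of_injective hinj).1 hlt) hle, hmapD n]
  let τ : N0 → Equiv.Perm Wts := fun n =>
    { toFun := fun H => ⟨_, hconj n H.1 H.2⟩
      invFun := fun H => ⟨_, hconj n⁻¹ H.1 H.2⟩
      left_inv := fun H => Subtype.ext (by
        have : toM (n⁻¹ : N0).1 (n⁻¹ : N0).2 = (toM n.1 n.2)⁻¹ := rfl
        show (H.1.map _).map _ = H.1
        rw [Subgroup.map_map, this, map_inv]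
        ext x; simp [Subgroup.mem_map, mul_assoc])
      right_inv := fun H => Subtype.ext (by
        have : toM (n⁻¹ : N0).1 (n⁻¹ : N0).2 = (toM n.1 n.2)⁻¹ := rfl
        show (H.1.map _).map _ = H.1
        rw [Subgroup.map_map, this, map_inv]
        ext x; simp [Subgroup.mem_map, mul_assoc]) }
  let alt : alternatingGroup (Fin 6) →* Equiv.Perm Wts :=
    MonoidHom.mk' (fun σ => τ ⟨permS σ.1, mkMon_mem_N0 (Equiv.Perm.mem_alternatingGroup.1 σ.2) _⟩)
      fun σ ρ => Equiv.ext fun H => Subtype.ext (by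
        show H.1.map _ = (H.1.map _).map _
        rw [Subgroup.map_map]
        congr 1
        ext x
        have : toM (permS (σ.1 * ρ.1)) (mkMon_mem_N0 (Equiv.Perm.mem_alternatingGroup.1 (σ * ρ).2) _) =
            toM (permS σ.1) (mkMon_mem_N0 (Equiv.Perm.mem_alternatingGroup.1 σ.2) _) *
              toM (permS ρ.1) (mkMon_mem_N0 (Equiv.Perm.mem_alternatingGroup.1 ρ.2) _) :=
          Subtype.ext (permS_mul _ _)
        simp only [Subgroup.coe_mul, this, map_mul]
        simp [mul_assoc])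
  have halt : ∀ σ, alt σ = 1 := by
    haveI := alternatingGroup.isSimpleGroup (α := Fin 6) (by simp)
    intro σ
    by_contra hσ
    have hinj : Function.Injective alt := (MonoidHom.ker_eq_bot_iff alt).1
      ((IsSimpleGroup.eq_bot_or_eq_top_of_normal alt.ker inferInstance).resolve_right fun e =>
        hσ (MonoidHom.mem_ker.1 (e ▸ Subgroup.mem_top σ)))
    have h := Nat.card_le_card_of_injective alt hinj
    rw [Nat.card_perm] at h
    have : (Nat.card Wts).factorial ≤ Nat.factorial 5 := Nat.factorial_le h5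
    rw [nat_card_alternatingGroup, Nat.card_fin] at h
    norm_num [Nat.factorial] at h this
    omega
  -- so the hyperplane contains every commutator of a three-cycle with `D`
  have hH₀' : IsWeight f Dq H₀ := hH₀
  obtain ⟨hle, -, hne', hmaxH⟩ := hH₀
  let L : Subgroup S := (H₀.comap ψ).map (M : Subgroup S).subtype
  have hk : ∀ k : Fin 6, k ≠ 0 → diagS (dk k) ∈ L := by
    intro k hk
    obtain ⟨hp, hval⟩ := pre_spec k hk
    obtain ⟨s1, s2, s3, s4⟩ := spare_ok k hk
    set σ : Equiv.Perm (Fin 6) := Equiv.swap 0 k * Equiv.swap k (cyc k).1 with hσ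
    have hs : Equiv.Perm.sign σ = 1 := by
      rw [hσ, map_mul, Equiv.Perm.sign_swap (Ne.symm hk), Equiv.Perm.sign_swap (show k ≠ (cyc k).1 from Ne.symm s2)]; rfl
    have hσ3 : σ * σ * σ = 1 := cyc_cube k hk
    set n : N0 := ⟨permS σ, mkMon_mem_N0 hs _⟩ with hn
    set g := ψ (toM n.1 n.2) with hg
    have hgH : H₀.map (MulAut.conj g).toMonoidHom = H₀ :=
      congrArg Subtype.val (DFunLike.congr_fun
        (halt ⟨σ, Equiv.Perm.mem_alternatingGroup.2 hs⟩) (⟨H₀, hH₀'⟩ : Wts) :)
    have hgmem : ∀ x, x ∈ H₀ → g * x * g⁻¹ ∈ H₀ := fun x hx => hgH ▸ ⟨x, hx, rfl⟩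
    set a := ψ (toM (diagS ⟨pre k, hp⟩) (D_le_N0 (diagS_mem _))) with ha'
    have ha : a ∈ Dq := ψ_mem_Dq (diagS_mem _)
    have hg3 : g * g * g = 1 := by
      have e : toM n.1 n.2 * toM n.1 n.2 * toM n.1 n.2 = 1 := Subtype.ext (by
        show permS σ * permS σ * permS σ = 1
        rw [← permS_mul, ← permS_mul, hσ3]
        exact map_one permHom)
      rw [hg, ← map_mul, ← map_mul, e, map_one]
    have hc := commutator_mem hab hexp hle hmaxH hg3 (hnorm n) hgmem ha
    let P : M := toM n.1 n.2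
    let A : M := toM (diagS ⟨pre k, hp⟩) (D_le_N0 (diagS_mem _))
    have hψ : ψ (P * A * P⁻¹ * A⁻¹) = g * a * g⁻¹ * a⁻¹ := by
      rw [map_mul, map_mul, map_mul, map_inv, map_inv]
    have hval' : ((P * A * P⁻¹ * A⁻¹ : M) : S) = diagS (dk k) := by
      show permS σ * diagS ⟨pre k, hp⟩ * (permS σ)⁻¹ * (diagS ⟨pre k, hp⟩)⁻¹ = diagS (dk k)
      have hi : (diagS ⟨pre k, hp⟩)⁻¹ = diagS ⟨pre k, hp⟩ * diagS ⟨pre k, hp⟩ :=
        inv_eq_of_mul_eq_one_right ((mul_assoc _ _ _).symm.trans (diagS_cube ⟨pre k, hp⟩))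
      rw [hi, diag_conj, diagS_mul, diagS_mul]
      refine diagS_ext fun i => ?_
      rw [← hval i]
      show pre k (σ.symm i) * (pre k i * pre k i) = _
      rw [pow_two]
    rw [← hval']
    exact Subgroup.mem_map.2 ⟨_, Subgroup.mem_comap.2 (hψ.symm ▸ hc), rfl⟩
  refine hne' (le_antisymm hle ?_)
  rintro _ ⟨m, hm, rfl⟩
  obtain ⟨m', hm', e⟩ := D_le_of hk hm
  rw [show m = m' from Subtype.ext e.symm]
  exact hm'

end Unitary

end Cfsg.Agent.LargeExtra.Fischer
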