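import Cfsg.Agent.Lib.LargeExtra.Fischer.Eight

/-!
The involutions of the two elementary abelian groups of order sixteen are conjugate in the triple cover.
-/

set_option autoImplicit false

namespace Cfsg.Agent.LargeExtra.Fischer

open Cfsg.Agent.InvChar.Coset Matrix
open Cfsg.Agent.Components.UnitarySix

/-- The parameter of the element swapping the two orbits. -/
def b5 : Fin 4 → Bool := ![true, false, true, true]

set_option maxRecDepth 100000 in
theorem b5_link : ∀ i : Fin 6, pV 3 (radMap fv (pc 0) (pV 3 (e i))) = radMap fv (cOf b5) (e i) := by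
  decide +kernel

theorem elT_b5 : altK (dl 3) * gen 0 * altK (dl 3) = elT b5 := S_ext_e fun i => by
  rw [mul_smul, mul_smul, dl_smul, dl_smul, (cmap_facts fv0 (gen_mem 0).1).2.2, (gen_mem 0).2.2, elT_smul,
    b5_link]

set_option maxRecDepth 100000 in
theorem T_orbits : ∀ b : Fin 4 → Bool, cOf b ≠ 0 → ∃ x y u x' y' u' : Fin 5,
    (fun k => pc 0 ((cyc3 x y u).1.symm ((cyc3 x' y' u').1.symm k))) = cOf b ∨
    (fun k => cOf b5 ((cyc3 x y u).1.symm ((cyc3 x' y' u').1.symm k))) = cOf b := by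
  decide +kernel

/-- Conjugate to the first generator. -/
def IsG0 (x : S) : Prop := ∃ k ∈ K0, k * gen 0 * k⁻¹ = x

theorem IsG0.conj {x : S} (h : IsG0 x) {k : S} (hk : k ∈ K0) : IsG0 (k * x * k⁻¹) := by
  obtain ⟨l, hl, rfl⟩ := h
  exact ⟨k * l, mul_mem hk hl, by group⟩

theorem isG0_T {t : S} (ht : t ∈ T) (h1 : t ≠ 1) : IsG0 t := by
  obtain ⟨b, rfl⟩ := exists_elT ht
  have hb : cOf b ≠ 0 := fun e => h1 (cmap_inj fv0 ht.1 (one_mem _) (by rw [(elT_spec b).2, e, cmap_one]))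
  have h5 : IsG0 (elT b5) := ⟨altK (dl 3), (altK_mem _).1, by
    rw [← elT_b5, inv_eq_of_mul_eq_one_right]
    rw [← map_mul, show dl 3 * dl 3 = 1 by decide +kernel, map_one]⟩
  obtain ⟨x, y, u, x', y', u', h | h⟩ := T_orbits b hb
  · have hs := ((show IsG0 (gen 0) from ⟨1, one_mem _, by group⟩).conj (altK_mem (cyc3 x y u)).1).conj
      (altK_mem (cyc3 x' y' u')).1
    rwa [show altK (cyc3 x' y' u') * (altK (cyc3 x y u) * gen 0 * (altK (cyc3 x y u))⁻¹) *
      (altK (cyc3 x' y' u'))⁻¹ = elT b from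
      cmap_inj fv0 (altK_conj_T _ (altK_conj_T _ (gen_T 0))).1 ht.1 (by
        rw [cmap_altK (cyc3_zero ..), cmap_altK (cyc3_zero ..), (gen_mem 0).2.2, (elT_spec b).2, ← h])] at hs
  · have hs := (h5.conj (altK_mem (cyc3 x y u)).1).conj (altK_mem (cyc3 x' y' u')).1
    rwa [show altK (cyc3 x' y' u') * (altK (cyc3 x y u) * elT b5 * (altK (cyc3 x y u))⁻¹) *
      (altK (cyc3 x' y' u'))⁻¹ = elT b from
      cmap_inj fv0 (altK_conj_T _ (altK_conj_T _ (elT_spec b5).1)).1 ht.1 (by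
        rw [cmap_altK (cyc3_zero ..), cmap_altK (cyc3_zero ..), (elT_spec b5).2, (elT_spec b).2, ← h])] at hs

/-- A point for each member outside the radical group. -/
def vE (b : Fin 4 → Bool) (d : Fin 8) : V :=
  match d.val, b 0, b 2 with
  | 1, true, false => Upar 0 1 .w
  | 1, false, true => Upar 0 1 .w2
  | 1, true, true => Upar 1 .w 0
  | 1, false, false => Upar 1 0 1
  | 2, true, false => Upar 1 .w2 0
  | 2, false, true => Upar 1 0 .w2
  | 2, true, true => Upar 0 1 1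
  | 2, false, false => Upar 0 1 1
  | _, true, false => Upar 0 1 .w
  | _, false, true => Upar 0 1 .w2
  | _, true, true => Upar 1 0 .w
  | _, false, false => Upar 1 1 0

set_option maxRecDepth 100000 in
theorem vE_rad : ∀ b d, Ep b d → d ≠ 0 → O1 (vE b d) ∧ opV b d (vE b d) = vE b d ∧
    ∀ y : V, H y (vE b d) = 0 → ∃ l : FF, opV b d y = y + l • vE b d := by
  decide +kernel

theorem isG0_EU {x : S} (hx : x ∈ EU) (h1 : x ≠ 1) : IsG0 x := by
  obtain ⟨b, d, hE, rfl⟩ := mem_EU hx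
  by_cases hd : d = 0
  · subst hd
    have he : pe b 0 = elT b := by rw [pe, dl_zero, map_one, mul_one]
    rw [he] at h1 ⊢
    exact isG0_T (elT_spec b).1 h1
  obtain ⟨hO, hf, hr⟩ := vE_rad b d hE hd
  obtain ⟨k, hk, hkv⟩ := exists_K0_fv hO
  have hkv' : k⁻¹ • vE b d = fv := by rw [← hkv, inv_smul_smul]
  have hT : k⁻¹ * pe b d * k ∈ T := by
    refine ⟨⟨by rw [mul_smul, mul_smul, hkv, pe_smul, hf, hkv'], fun y hy => ?_⟩,
      K0.mul_mem (K0.mul_mem (K0.inv_mem hk) (P0_le (pe_mem b d)).1) hk⟩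
    obtain ⟨l, hl⟩ := hr (k • y) (by rw [← hkv, H_smul, hy])
    exact ⟨l, by rw [mul_smul, mul_smul, pe_smul, hl, smul_addV, smul_smulV, inv_smul_smul, hkv']⟩
  have := (isG0_T hT fun e => h1 (by
    have e' := congrArg (fun g => k * g * k⁻¹) e
    simpa [mul_assoc] using e')).conj hk
  rwa [show k * (k⁻¹ * pe b d * k) * k⁻¹ = pe b d by group] at this

end Cfsg.Agent.LargeExtra.Fischer
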