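import Cfsg.Agent.Lib.LargeExtra.Fischer.Facts

/-!
Fixed vectors of the first generator and those reached from the intersection of two extraspecial groups.
-/

set_option autoImplicit false

namespace Cfsg.Agent.LargeExtra.Fischer

open Cfsg.Agent.InvChar.Coset Matrix
open Cfsg.Agent.Components.UnitarySix

/-- The generator on vectors. -/
def g0V (y : V) : V := radMap fv (pc 0) y

theorem gen0_smul (y : V) : gen 0 • y = g0V y := by
  rw [(cmap_facts fv0 (gen_mem 0).1).2.2, (gen_mem 0).2.2]; rfl

/-- A fixed vector by four coordinates. -/
def fixP (p q r s : FF) : V := ![p, q, q, r, s, p + r + s]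

/-- A commutator vector. -/
def C0v (l m : FF) : V := ![l, m, m, l, l, l]

/-- The vectors reached. -/
def Cov (y : V) : Prop := ∃ l m : FF, InD (y + C0v l m) ∧ g0V (y + C0v l m) = y + C0v l m

instance (y : V) : Decidable (Cov y) := inferInstanceAs (Decidable (∃ _ _, _))

set_option maxRecDepth 100000 in
theorem fix_shape : ∀ y : V, g0V y = y → ∃ p q r s, y = fixP p q r s := by decide +kernel

set_option maxRecDepth 100000 in
theorem C0v_image : ∀ l m : FF, ∃ v : V, g0V v + v = C0v l m := by decide +kernel

set_option maxRecDepth 100000 in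
theorem shift_exists : ∃ d : V, InD d ∧ g0V d + d = fv := by decide +kernel

set_option maxRecDepth 100000 in
theorem cov_of_translates : ∀ p q r s : FF,
    H (fixP p q r s) (fixP p q r s) = 0 →
    (∀ a b c e : FF, InD (fixP a b c e) → H (fixP p q r s + fixP a b c e) (fixP p q r s + fixP a b c e) = 0) →
    Cov (fixP p q r s) := by decide +kernel

theorem fixP_fixed : ∀ p q r s : FF, g0V (fixP p q r s) = fixP p q r s := by decide +kernel

set_option maxRecDepth 100000 in
/-- Up to scalars every singular fixed vector is reached. -/
theorem cov_scalar : ∀ p q r s : FF, H (fixP p q r s) (fixP p q r s) = 0 →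
    ∃ l : FF, l ≠ 0 ∧ Cov (l • fixP p q r s) := by decide +kernel

set_option maxRecDepth 100000 in
/-- The reached vectors form a subgroup. -/
theorem cov_add : ∀ p q r s : FF, Cov (fixP p q r s) → ∀ a b c e : FF, Cov (fixP a b c e) →
    Cov (fixP p q r s + fixP a b c e) := by decide +kernel

end Cfsg.Agent.LargeExtra.Fischer
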