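import Cfsg.Agent.Lib.LargeExtra.Fischer.Facts

/-!
A Sylow 2-subgroup of the triple cover inside the stabiliser of the weight six vector, and its two largest
elementary abelian subgroups.
-/

set_option autoImplicit false

namespace Cfsg.Agent.LargeExtra.Fischer

open Cfsg.Agent.InvChar.Coset Matrix
open Cfsg.Agent.Components.UnitarySix

/-- The dihedral group of order eight, by tables. -/
def dperm : Fin 8 → Equiv.Perm (Fin 6) :=
  ![1, ⟨![1, 0, 2, 3, 5, 4], ![1, 0, 2, 3, 5, 4], by decide, by decide⟩,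
    ⟨![0, 1, 3, 2, 5, 4], ![0, 1, 3, 2, 5, 4], by decide, by decide⟩,
    ⟨![1, 0, 3, 2, 4, 5], ![1, 0, 3, 2, 4, 5], by decide, by decide⟩,
    ⟨![2, 3, 1, 0, 5, 4], ![3, 2, 0, 1, 5, 4], by decide, by decide⟩,
    ⟨![3, 2, 0, 1, 5, 4], ![2, 3, 1, 0, 5, 4], by decide, by decide⟩,
    ⟨![2, 3, 0, 1, 4, 5], ![2, 3, 0, 1, 4, 5], by decide, by decide⟩,
    ⟨![3, 2, 1, 0, 4, 5], ![3, 2, 1, 0, 4, 5], by decide, by decide⟩]

theorem dperm_facts : (∀ d, Equiv.Perm.sign (dperm d) = 1) ∧ Function.Injective dperm ∧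
    (∀ d d', ∃ d'', dperm d * dperm d' = dperm d'') := by decide +kernel

/-- The members. -/
def dl (d : Fin 8) : alternatingGroup (Fin 6) := ⟨dperm d, Equiv.Perm.mem_alternatingGroup.2 (dperm_facts.1 d)⟩

theorem dl_inj : Function.Injective dl := fun _ _ h => dperm_facts.2.1 (congrArg Subtype.val h)

theorem dl_zero : dl 0 = 1 := rfl

theorem dl_mul (d d' : Fin 8) : ∃ d'', dl d * dl d' = dl d'' :=
  (dperm_facts.2.2 d d').imp fun _ h => Subtype.ext h

/-- The Sylow subgroup of the alternating group. -/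
def D8 : Subgroup (alternatingGroup (Fin 6)) :=
  Subgroup.ofDiv (Set.range dl) ⟨1, ⟨0, rfl⟩⟩ (by
    rintro _ ⟨a, rfl⟩ _ ⟨b, rfl⟩
    have h : (dl b)⁻¹ ∈ Set.range dl := by
      have h' : ∀ b, ∃ c, dperm b * dperm c = 1 := by decide +kernel
      obtain ⟨c, hc⟩ := h' b
      exact ⟨c, (inv_eq_of_mul_eq_one_right (Subtype.ext hc)).symm⟩
    obtain ⟨c, hc⟩ := h
    obtain ⟨e, he⟩ := dl_mul a c
    exact ⟨e, by rw [← hc, he]⟩)

theorem mem_D8 {σ : alternatingGroup (Fin 6)} : σ ∈ D8 ↔ ∃ d, dl d = σ := Iff.rfl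

theorem card_D8 : Nat.card D8 = 8 := by
  show Nat.card (Set.range dl) = 8
  rw [Nat.card_range_of_injective dl_inj, Nat.card_fin]

/-- Every 2-subgroup of the alternating group is conjugate into it. -/
theorem exists_conj_D8 {L : Subgroup (alternatingGroup (Fin 6))} (hL : IsPGroup 2 L) :
    ∃ τ : alternatingGroup (Fin 6), ∀ σ ∈ L, τ * σ * τ⁻¹ ∈ D8 := by
  haveI : Fact (Nat.Prime 2) := ⟨Nat.prime_two⟩
  have hv : (Nat.card (alternatingGroup (Fin 6))).factorization 2 = 3 := by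
    rw [nat_card_alternatingGroup, Nat.card_fin]
    have e : Nat.factorial 6 / 2 = 2 ^ 3 * 45 := rfl
    rw [e, Nat.factorization_mul (by norm_num) (by norm_num), Nat.Prime.factorization_pow Nat.prime_two]
    simp [Nat.factorization_eq_zero_of_not_dvd (show ¬ 2 ∣ 45 by norm_num)]
  obtain ⟨P, hP⟩ := hL.exists_le_sylow
  have hD : Nat.card D8 = 2 ^ (Nat.card (alternatingGroup (Fin 6))).factorization 2 := by rw [card_D8, hv]; rfl
  obtain ⟨τ, hτ⟩ := MulAction.exists_smul_eq (alternatingGroup (Fin 6)) P (Sylow.ofCard D8 hD)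
  refine ⟨τ, fun σ hσ => ?_⟩
  have : τ * σ * τ⁻¹ ∈ ((τ • P : Sylow 2 (alternatingGroup (Fin 6))) : Subgroup (alternatingGroup (Fin 6))) :=
    ⟨σ, hP hσ, rfl⟩
  rwa [hτ] at this

/-! ### The Sylow subgroup of the model -/

/-- The group of order 128. -/
def P0 : Subgroup S where
  carrier := {x | ∃ t ∈ T, ∃ σ ∈ D8, x = t * altK σ}
  one_mem' := ⟨1, one_mem _, 1, one_mem _, by rw [map_one, mul_one]⟩
  mul_mem' := by
    rintro _ _ ⟨t, ht, σ, hσ, rfl⟩ ⟨t', ht', σ', hσ', rfl⟩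
    refine ⟨t * (altK σ * t' * (altK σ)⁻¹), mul_mem ht (altK_conj_T σ ht'), σ * σ', mul_mem hσ hσ', ?_⟩
    rw [map_mul]; group
  inv_mem' := by
    rintro _ ⟨t, ht, σ, hσ, rfl⟩
    refine ⟨altK σ⁻¹ * t⁻¹ * (altK σ⁻¹)⁻¹, altK_conj_T _ (inv_mem ht), σ⁻¹, inv_mem hσ, ?_⟩
    rw [map_inv]; group

theorem P0_le : P0 ≤ StabK fv := by
  rintro _ ⟨t, ht, σ, -, rfl⟩
  exact mul_mem (T_le ht) (altK_mem σ)

theorem T_le_P0 : T ≤ P0 := fun t ht => ⟨t, ht, 1, one_mem _, by rw [map_one, mul_one]⟩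

theorem tσ_unique {t t' : S} {σ σ' : alternatingGroup (Fin 6)} (ht : t ∈ T) (ht' : t' ∈ T)
    (h : t * altK σ = t' * altK σ') : t = t' ∧ σ = σ' := by
  have hm : altK (σ * σ'⁻¹) ∈ T := by
    rw [show altK (σ * σ'⁻¹) = t⁻¹ * t' by
      rw [map_mul, map_inv, mul_inv_eq_iff_eq_mul, mul_assoc, ← h, inv_mul_cancel_left]]
    exact mul_mem (inv_mem ht) ht'
  obtain rfl : σ = σ' := mul_inv_eq_one.1 (Subtype.ext (eq_one_of_permS_mem hm))
  exact ⟨mul_right_cancel h, rfl⟩

/-- The parametrisation. -/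
def pe (b : Fin 4 → Bool) (d : Fin 8) : S := elT b * altK (dl d)

theorem mem_P0 {x : S} (hx : x ∈ P0) : ∃ b d, x = pe b d := by
  obtain ⟨t, ht, _, ⟨d, rfl⟩, rfl⟩ := hx
  obtain ⟨b, rfl⟩ := exists_elT ht
  exact ⟨b, d, rfl⟩

theorem pe_mem (b : Fin 4 → Bool) (d : Fin 8) : pe b d ∈ P0 := ⟨_, (elT_spec b).1, _, ⟨d, rfl⟩, rfl⟩

theorem elT_inj : Function.Injective elT := fun a b h =>
  cOf_facts.1 (by rw [← (elT_spec a).2, ← (elT_spec b).2, h])

theorem pe_inj {b b' : Fin 4 → Bool} {d d' : Fin 8} (h : pe b d = pe b' d') : b = b' ∧ d = d' :=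
  ⟨elT_inj (tσ_unique (elT_spec b).1 (elT_spec b').1 h).1, dl_inj (tσ_unique (elT_spec b).1 (elT_spec b').1 h).2⟩

/-- The permutation of coordinates. -/
def pV (d : Fin 8) (v : V) : V := fun i => v ((dperm d).symm i)

/-- The action of a member. -/
def opV (b : Fin 4 → Bool) (d : Fin 8) (v : V) : V := radMap fv (cOf b) (pV d v)

theorem elT_smul (b : Fin 4 → Bool) (v : V) : elT b • v = radMap fv (cOf b) v := by
  rw [(cmap_facts fv0 (elT_spec b).1.1).2.2, (elT_spec b).2]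

theorem dl_smul (d : Fin 8) (v : V) : altK (dl d) • v = pV d v := altK_smul _ _

theorem pe_smul (b : Fin 4 → Bool) (d : Fin 8) (v : V) : pe b d • v = opV b d v := by
  rw [pe, mul_smul, dl_smul, elT_smul]; rfl

theorem S_ext_e {g k : S} (h : ∀ i : Fin 6, g • (e i : V) = k • (e i : V)) : g = k := by
  refine S_ext fun v => ?_
  rw [smul_def, smul_def, show Cfsg.Agent.Classical.Unitary.mat g = Cfsg.Agent.Classical.Unitary.mat k from ?_]
  refine Matrix.ext_of_mulVec_single fun i => ?_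
  exact h i

/-- Commuting parts. -/
def Cb (d : Fin 8) (b : Fin 4 → Bool) : Prop :=
  ∀ i : Fin 6, radMap fv (cOf b) (pV d (e i)) = pV d (radMap fv (cOf b) (e i))

instance (d : Fin 8) (b : Fin 4 → Bool) : Decidable (Cb d b) := inferInstanceAs (Decidable (∀ _, _))

theorem Cb_of_comm {d : Fin 8} {b : Fin 4 → Bool} (h : elT b * altK (dl d) = altK (dl d) * elT b) : Cb d b :=
  fun i => by
    have h' := congrArg (fun g : S => g • (e i : V)) h
    simpa only [mul_smul, elT_smul, dl_smul] using h'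

/-- The vectors with equal coordinates in three pairs. -/
def Upar (a b c : FF) : V := ![a, a, b, b, c, c]

/-- The maximal totally singular subspace of the second kind. -/
def InU2 (v : V) : Prop := v 0 = v 1 ∧ v 2 = v 3 ∧ v 4 = v 5

instance (v : V) : Decidable (InU2 v) := inferInstanceAs (Decidable (_ ∧ _))

theorem InU2_iff {v : V} : InU2 v ↔ ∃ a b c, v = Upar a b c := by
  refine ⟨fun ⟨h0, h1, h2⟩ => ⟨v 0, v 2, v 4, ?_⟩, ?_⟩
  · funext i; fin_cases i <;> simp [Upar, h0, h1, h2]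
  · rintro ⟨a, b, c, rfl⟩; exact ⟨rfl, rfl, rfl⟩

/-- Its pointwise stabiliser in the Sylow subgroup. -/
def EU : Subgroup S := P0 ⊓ fixingSubgroup S {v : V | InU2 v}

/-- The pairs of its members. -/
def Ep (b : Fin 4 → Bool) (d : Fin 8) : Prop := Cb 1 b ∧ d.val < 4

instance (b : Fin 4 → Bool) (d : Fin 8) : Decidable (Ep b d) := inferInstanceAs (Decidable (_ ∧ _))

set_option maxRecDepth 100000 in
theorem Ep_fix : ∀ b d, (Ep b d ↔ ∀ a c q : FF, opV b d (Upar a c q) = Upar a c q) := by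
  decide +kernel

theorem pe_mem_EU {b : Fin 4 → Bool} {d : Fin 8} : pe b d ∈ EU ↔ Ep b d := by
  rw [Ep_fix]
  refine ⟨fun h a c q => ?_, fun h => ⟨pe_mem b d, (mem_fixingSubgroup_iff S).2 fun v hv => ?_⟩⟩
  · rw [← pe_smul]; exact (mem_fixingSubgroup_iff S).1 h.2 _ (InU2_iff.2 ⟨a, c, q, rfl⟩)
  · obtain ⟨a, c, q, rfl⟩ := InU2_iff.1 hv
    rw [pe_smul, h]

theorem mem_EU {x : S} (hx : x ∈ EU) : ∃ b d, Ep b d ∧ x = pe b d := by
  obtain ⟨b, d, rfl⟩ := mem_P0 hx.1
  exact ⟨b, d, pe_mem_EU.1 hx, rfl⟩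

theorem card_EU : Nat.card EU = 16 := by
  have h : {p : (Fin 4 → Bool) × Fin 8 // Ep p.1 p.2} ≃ EU := Equiv.ofBijective
    (fun p => ⟨pe p.1.1 p.1.2, pe_mem_EU.2 p.2⟩)
    ⟨fun p p' h => Subtype.ext (Prod.ext (pe_inj (congrArg Subtype.val h)).1 (pe_inj (congrArg Subtype.val h)).2),
      fun ⟨x, hx⟩ => by
        obtain ⟨b, d, he, rfl⟩ := mem_EU hx
        exact ⟨⟨(b, d), he⟩, rfl⟩⟩
  rw [← Nat.card_congr h, Nat.card_eq_fintype_card]
  decide +kernel

set_option maxRecDepth 100000 in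
theorem Ep_elem : ∀ b d, Ep b d → (∀ i : Fin 6, opV b d (opV b d (e i)) = e i) ∧
    ∀ b' d', Ep b' d' → ∀ i : Fin 6, opV b d (opV b' d' (e i)) = opV b' d' (opV b d (e i)) := by
  decide +kernel

theorem EU_elem : (∀ x ∈ EU, x * x = 1) ∧ ∀ x ∈ EU, ∀ y ∈ EU, x * y = y * x := by
  refine ⟨fun x hx => ?_, fun x hx y hy => ?_⟩
  · obtain ⟨b, d, h, rfl⟩ := mem_EU hx
    exact S_ext_e fun i => by rw [mul_smul, pe_smul, pe_smul, one_smul, (Ep_elem b d h).1]
  · obtain ⟨b, d, h, rfl⟩ := mem_EU hx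
    obtain ⟨b', d', h', rfl⟩ := mem_EU hy
    exact S_ext_e fun i => by rw [mul_smul, mul_smul, pe_smul, pe_smul, pe_smul, pe_smul, (Ep_elem b d h).2 b' d' h']

/-! ### Fixed vectors -/

set_option maxRecDepth 100000 in
theorem fix_EU_list : ∀ v : V, opV (fun _ => false) 1 v = v → opV (fun _ => false) 2 v = v →
    opV ![true, true, false, false] 0 v = v → opV ![false, false, true, true] 0 v = v → InU2 v := by
  decide +kernel

theorem Ep_gens : Ep (fun _ => false) 1 ∧ Ep (fun _ => false) 2 ∧ Ep ![true, true, false, false] 0 ∧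
    Ep ![false, false, true, true] 0 := by decide +kernel

theorem fix_EU {v : V} (h : ∀ x ∈ EU, x • v = v) : InU2 v := by
  obtain ⟨h1, h2, h3, h4⟩ := Ep_gens
  apply fix_EU_list <;> rw [← pe_smul] <;> apply h <;> rw [pe_mem_EU] <;> assumption

set_option maxRecDepth 100000 in
theorem fix_T_list : ∀ v : V, (∀ k : Fin 4, radMap fv (pc k) v = v) → ∃ l : FF, v = l • fv := by
  decide +kernel

theorem fix_T {v : V} (h : ∀ x ∈ T, x • v = v) : ∃ l : FF, v = l • fv := by
  refine fix_T_list v fun k => ?_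
  rw [← (gen_mem k).2.2, ← (cmap_facts fv0 (gen_mem k).1).2.2]
  exact h _ (gen_T k)

/-! ### The elementary abelian subgroups -/

set_option maxRecDepth 100000 in
theorem card_Cb : ∀ d : Fin 8, d ≠ 0 → (Finset.univ.filter fun b => Cb d b).card ≤ 4 := by
  decide +kernel

set_option maxRecDepth 100000 in
theorem Cb_mix : ∀ d : Fin 8, d ≠ 0 → d.val < 4 → ∀ b : Fin 4 → Bool, Cb d b → Cb 1 b := by
  decide +kernel

set_option maxRecDepth 100000 in
theorem Cb_other : ∀ d : Fin 8, ¬ d.val < 4 → dperm d * dperm d = 1 → ∀ d' : Fin 8, d' ≠ 0 → d' ≠ d →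
    dperm d * dperm d' = dperm d' * dperm d → ∃ b : Fin 4 → Bool, Cb d b ∧ ¬ Cb d' b := by
  decide +kernel

set_option maxRecDepth 100000 in
theorem D8_comm : (∀ d : Fin 8, (∃ e, dperm d * dperm e ≠ dperm e * dperm d) →
      (Finset.univ.filter fun e => dperm e * dperm e = 1 ∧ dperm d * dperm e = dperm e * dperm d).card ≤ 4) ∧
    (Finset.univ.filter fun d => ∀ e, dperm d * dperm e = dperm e * dperm d).card ≤ 4 := by
  decide +kernel

/-- The largest elementary abelian subgroups. -/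
theorem elem_sub {A : Subgroup S} (hA : A ≤ P0) (hcomm : ∀ a ∈ A, ∀ b ∈ A, a * b = b * a)
    (hsq : ∀ a ∈ A, a * a = 1) : Nat.card A ≤ 16 ∧ (Nat.card A = 16 → A = T ∨ A = EU) := by
  classical
  choose tb σd hσ using fun a : A => mem_P0 (hA a.2)
  -- the projection
  let π : A →* alternatingGroup (Fin 6) := MonoidHom.mk' (fun a => dl (σd a)) fun a a' => by
    refine (tσ_unique (t := elT (tb (a * a'))) (σ' := dl (σd a) * dl (σd a')) (t' := elT (tb a) * (altK (dl (σd a)) * elT (tb a') *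
      (altK (dl (σd a)))⁻¹)) (elT_spec _).1
      (mul_mem (elT_spec _).1 (altK_conj_T _ (elT_spec _).1)) ?_).2
    show pe (tb (a * a')) (σd (a * a')) = _
    rw [← hσ, Subgroup.coe_mul, hσ a, hσ a', pe, pe, map_mul]; group
  have hker : ∀ a : A, a ∈ π.ker ↔ σd a = 0 := fun a => by
    rw [MonoidHom.mem_ker]
    exact ⟨fun h => dl_inj (h.trans dl_zero.symm), fun h => (congrArg dl h).trans dl_zero⟩
  have hkT : ∀ a : A, a ∈ π.ker → (a : S) = elT (tb a) := fun a ha => by
    rw [hσ a, pe, (hker a).1 ha, dl_zero, map_one, mul_one]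
  by_cases htriv : ∀ a, σd a = 0
  · have hAT : A ≤ T := fun x hx => by
      have e := hkT ⟨x, hx⟩ ((hker _).2 (htriv _))
      exact (show x = _ from e) ▸ (elT_spec _).1
    exact ⟨card_T ▸ Subgroup.card_le_of_le hAT, fun h => Or.inl (Subgroup.eq_of_le_of_card_ge hAT (by rw [h, card_T]))⟩
  simp only [not_forall] at htriv
  obtain ⟨a1, ha1⟩ := htriv
  have hk : ∀ a : A, ∀ k : A, k ∈ π.ker → Cb (σd a) (tb k) := by
    intro a k hk
    apply Cb_of_comm
    have h := hcomm a a.2 k k.2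
    rw [hkT k hk, hσ a, pe, mul_assoc, ← mul_assoc (elT (tb k)), T_comm (elT_spec (tb k)).1 (elT_spec (tb a)).1,
      mul_assoc (elT (tb a))] at h
    exact (mul_left_cancel h).symm
  have hinjk : Function.Injective fun k : π.ker => tb k.1 := fun k k' h => by
    refine Subtype.ext (Subtype.ext ?_)
    rw [hkT _ k.2, hkT _ k'.2]
    exact congrArg elT h
  have hkcard : ∀ a, σd a ≠ 0 → Nat.card π.ker ≤ (Finset.univ.filter fun b => Cb (σd a) b).card ∧
      (Nat.card π.ker = 4 → ∀ b, Cb (σd a) b → ∃ k : π.ker, tb k.1 = b) := by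
    intro a ha
    letI := Fintype.ofFinite π.ker
    have hsub : (Finset.univ.image fun k : π.ker => tb k.1) ⊆ Finset.univ.filter fun b => Cb (σd a) b := by
      intro b hb
      obtain ⟨k, -, rfl⟩ := Finset.mem_image.1 hb
      exact Finset.mem_filter.2 ⟨Finset.mem_univ _, hk a k.1 k.2⟩
    have hc : (Finset.univ.image fun k : π.ker => tb k.1).card = Nat.card π.ker := by
      rw [Finset.card_image_of_injective _ hinjk, Finset.card_univ, Nat.card_eq_fintype_card]
    refine ⟨hc ▸ Finset.card_le_card hsub, fun h4 b hb => ?_⟩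
    have he := Finset.eq_of_subset_of_card_le hsub (by rw [hc, h4]; exact card_Cb _ ha)
    have : b ∈ Finset.univ.image fun k : π.ker => tb k.1 := by rw [he]; simp [hb]
    obtain ⟨k, -, hk'⟩ := Finset.mem_image.1 this
    exact ⟨k, hk'⟩
  -- the image
  let I : Finset (Fin 8) := Finset.univ.filter fun d => ∃ a, σd a = d
  have hIinv : ∀ a a', dperm (σd a) * dperm (σd a) = 1 ∧
      dperm (σd a) * dperm (σd a') = dperm (σd a') * dperm (σd a) := fun a a' => by
    constructor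
    · exact congrArg Subtype.val (show π a * π a = 1 by
        rw [← map_mul, show a * a = 1 from Subtype.ext (hsq a a.2), map_one])
    · exact congrArg Subtype.val (show π a * π a' = π a' * π a by
        rw [← map_mul, ← map_mul, show a * a' = a' * a from Subtype.ext (hcomm a a.2 a' a'.2)])
  have hI4 : I.card ≤ 4 := by
    by_cases hc : ∀ a, ∀ e, dperm (σd a) * dperm e = dperm e * dperm (σd a)
    · refine le_trans (Finset.card_le_card ?_) D8_comm.2
      intro d hd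
      obtain ⟨-, a, rfl⟩ := Finset.mem_filter.1 hd
      exact Finset.mem_filter.2 ⟨Finset.mem_univ _, hc a⟩
    · simp only [not_forall] at hc
      obtain ⟨a, ha⟩ := hc
      refine le_trans (Finset.card_le_card ?_) (D8_comm.1 _ ha)
      intro d hd
      obtain ⟨-, a', rfl⟩ := Finset.mem_filter.1 hd
      exact Finset.mem_filter.2 ⟨Finset.mem_univ _, (hIinv a' a).1, (hIinv a a').2⟩
  have hrange : Nat.card π.range = I.card := by
    have : (π.range : Set (alternatingGroup (Fin 6))) = ↑(I.image dl) := by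
      ext x
      simp only [SetLike.mem_coe, MonoidHom.mem_range, Finset.coe_image, Set.mem_image, I, Finset.mem_filter,
        Finset.mem_univ, true_and]
      exact ⟨fun ⟨a, ha⟩ => ⟨_, ⟨a, rfl⟩, ha⟩, fun ⟨_, ⟨a, rfl⟩, ha⟩ => ⟨a, ha⟩⟩
    show Nat.card (π.range : Set (alternatingGroup (Fin 6))) = _
    rw [this, Nat.card_coe_set_eq, Set.ncard_coe_finset, Finset.card_image_of_injective _ dl_inj]
  have hmul : Nat.card π.ker * Nat.card π.range = Nat.card A := by
    rw [← Subgroup.index_ker, Subgroup.card_mul_index]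
  have hk4 := (hkcard a1 ha1).1.trans (card_Cb _ ha1)
  refine ⟨by rw [← hmul, hrange]; exact Nat.mul_le_mul hk4 hI4, fun h16 => Or.inr ?_⟩
  have h4 : Nat.card π.ker = 4 ∧ I.card = 4 := by
    rw [hrange] at hmul
    constructor <;> nlinarith
  have hmix : ∀ a, (σd a).val < 4 := by
    intro a
    by_contra hlt
    have ha0 : σd a ≠ 0 := fun e => hlt (by rw [e]; decide)
    obtain ⟨d', hd', hd0, hda⟩ : ∃ d' ∈ I, d' ≠ 0 ∧ d' ≠ σd a := by
      by_contra hne
      push Not at hne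
      have : I ⊆ {0, σd a} := fun d hd => by
        by_cases h0 : d = 0
        · simp [h0]
        · simp [hne d hd h0]
      have := (Finset.card_le_card this).trans Finset.card_le_two
      omega
    obtain ⟨-, a', rfl⟩ := Finset.mem_filter.1 hd'
    obtain ⟨b, hb, hb'⟩ := Cb_other _ hlt (hIinv a a).1 _ hd0 hda (hIinv a a').2
    obtain ⟨k, rfl⟩ := (hkcard a ha0).2 h4.1 b hb
    exact hb' (hk a' k.1 k.2)
  refine Subgroup.eq_of_le_of_card_ge (fun x hx => ?_) (by rw [h16, card_EU])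
  rw [show x = _ from hσ ⟨x, hx⟩, pe_mem_EU]
  refine ⟨?_, hmix _⟩
  set a : A := ⟨x, hx⟩
  by_cases h0 : σd a = 0
  · exact Cb_mix _ ha1 (hmix a1) _ (hk a1 a ((hker a).2 h0))
  · refine Cb_mix _ h0 (hmix a) _ (Cb_of_comm ?_)
    have h := hsq a a.2
    rw [hσ a, pe] at h
    have hd2 : altK (dl (σd a)) * altK (dl (σd a)) = 1 := by
      rw [← map_mul, show dl (σd a) * dl (σd a) = 1 from Subtype.ext (hIinv a a).1, map_one]
    have ht2 : elT (tb a) * elT (tb a) = 1 := T_sq (elT_spec _).1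
    calc elT (tb a) * altK (dl (σd a)) = (elT (tb a) * altK (dl (σd a)))⁻¹ := eq_inv_of_mul_eq_one_left h
      _ = altK (dl (σd a)) * elT (tb a) := by
        rw [_root_.mul_inv_rev, inv_eq_of_mul_eq_one_right hd2, inv_eq_of_mul_eq_one_right ht2]

end Cfsg.Agent.LargeExtra.Fischer
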