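import Cfsg.Agent.Lib.LargeExtra.Fischer.Lifts

/-!
The elementary abelian subgroup of order `2^11` of a Sylow 2-subgroup of the centralizer, and its uniqueness.
-/

set_option autoImplicit false

namespace Cfsg.Agent.LargeExtra.Fischer

open Cfsg.Agent.InvChar.Coset
open Cfsg.Agent.Components.UnitarySix
open Cfsg.Agent.MonsterOrbits (mem_center_iff')

theorem card_P0 : Nat.card P0 = 128 := by
  have h : (Fin 4 → Bool) × Fin 8 ≃ P0 := Equiv.ofBijective (fun p => ⟨pe p.1 p.2, pe_mem p.1 p.2⟩)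
    ⟨fun p p' h => Prod.ext (pe_inj (congrArg Subtype.val h)).1 (pe_inj (congrArg Subtype.val h)).2,
      fun ⟨x, hx⟩ => by
        obtain ⟨b, d, rfl⟩ := mem_P0 hx
        exact ⟨(b, d), rfl⟩⟩
  rw [← Nat.card_congr h]
  simp

variable {G : Type*} [Group G] [Finite G] {z : G} {Q : Subgroup (Cz z)} [Q.Normal] {M : Subgroup (Cz z)}

/-- The order is the order of the part in the kernel times the order of the image. -/
theorem card_split (B : Subgroup (Cz z)) :
    Nat.card B = Nat.card (B ⊓ Q : Subgroup (Cz z)) * Nat.card (B.map (QuotientGroup.mk' Q)) := by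
  let f : B →* Cz z ⧸ Q := (QuotientGroup.mk' Q).comp B.subtype
  have h := Subgroup.card_mul_index f.ker
  rw [Subgroup.index_ker] at h
  rw [← h]
  congr 1
  · refine Nat.card_congr
      { toFun := fun b => ⟨b.1.1, b.1.2, (QuotientGroup.eq_one_iff _).1 (MonoidHom.mem_ker.1 b.2)⟩
        invFun := fun b => ⟨⟨b.1, b.2.1⟩, MonoidHom.mem_ker.2 ((QuotientGroup.eq_one_iff _).2 b.2.2)⟩
        left_inv := fun _ => rfl
        right_inv := fun _ => rfl }
  · rw [show f.range = B.map (QuotientGroup.mk' Q) from by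
      rw [MonoidHom.range_comp, Subgroup.range_subtype]]

omit [Finite G] [Q.Normal] in
theorem comm_of_sq {B : Subgroup (Cz z)} (h : ∀ b ∈ B, b * b = 1) : ∀ a ∈ B, ∀ b ∈ B, a * b = b * a := by
  intro a ha b hb
  have h1 := h _ (mul_mem ha hb)
  calc a * b = (a * b)⁻¹ := eq_inv_of_mul_eq_one_left h1
    _ = b⁻¹ * a⁻¹ := mul_inv_rev a b
    _ = b * a := by rw [inv_eq_of_mul_eq_one_right (h a ha), inv_eq_of_mul_eq_one_right (h b hb)]

variable (hS : Cfsg.IsExtraspecialCentralizerSetting z Q 6) (F : Frame z Q M)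

/-- The preimage of the totally singular subspace. -/
def UT : Subgroup (Cz z) where
  carrier := {c | ∃ h : c ∈ Q, InU2 (F.φ ⟨c, h⟩)}
  one_mem' := ⟨one_mem _, by
    rw [show (⟨1, one_mem Q⟩ : Q) = 1 from rfl, F.φ_one]; exact ⟨rfl, rfl, rfl⟩⟩
  mul_mem' := by
    rintro a b ⟨ha, ha'⟩ ⟨hb, hb'⟩
    refine ⟨mul_mem ha hb, ?_⟩
    rw [show (⟨a * b, mul_mem ha hb⟩ : Q) = ⟨a, ha⟩ * ⟨b, hb⟩ from rfl, F.φ_mul]
    exact InU2_add ha' hb'
  inv_mem' := by
    rintro a ⟨ha, ha'⟩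
    refine ⟨inv_mem ha, ?_⟩
    have h : F.φ ⟨a⁻¹, inv_mem ha⟩ + F.φ ⟨a, ha⟩ = 0 := by
      rw [← F.φ_mul, show (⟨a⁻¹, inv_mem ha⟩ : Q) * ⟨a, ha⟩ = 1 from Subtype.ext (inv_mul_cancel a), F.φ_one]
    rw [show F.φ ⟨a⁻¹, inv_mem ha⟩ = F.φ ⟨a, ha⟩ from by
      calc F.φ ⟨a⁻¹, inv_mem ha⟩ = F.φ ⟨a⁻¹, inv_mem ha⟩ + (F.φ ⟨a, ha⟩ + F.φ ⟨a, ha⟩) := by
            rw [V_add_self, add_zero]
        _ = _ := by rw [← add_assoc, h, zero_add]]
    exact ha'

theorem UT_le : UT F ≤ Q := fun _ h => h.1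

theorem UT_sq : ∀ c ∈ UT F, c * c = 1 := by
  rintro c ⟨hc, hc'⟩
  obtain ⟨a, b, d, e⟩ := InU2_iff.1 hc'
  exact congrArg Subtype.val ((F.form ⟨c, hc⟩).2 (by rw [e]; exact U_facts a b d))

include hS in
/-- A subgroup of the extraspecial group inside the preimage of a set of vectors. -/
theorem card_le_two_mul {B : Subgroup (Cz z)} (hB : B ≤ Q) {p : V → Prop}
    (h : ∀ b (hb : b ∈ B), p (F.φ ⟨b, hB hb⟩)) : Nat.card B ≤ 2 * Nat.card {v : V // p v} := by
  obtain ⟨-, -, hE, -, -⟩ := id hS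
  let f : B →* Multiplicative V :=
    MonoidHom.mk' (fun b => Multiplicative.ofAdd (F.φ ⟨b, hB b.2⟩)) fun a b => by
      rw [← ofAdd_add, ← F.φ_mul]; rfl
  have h0 := Subgroup.card_mul_index f.ker
  rw [Subgroup.index_ker] at h0
  rw [← h0]
  refine Nat.mul_le_mul ?_ ?_
  · rw [← hE.2]
    refine Nat.card_le_card_of_injective
      (fun b : f.ker => (⟨⟨b.1.1, hB b.1.2⟩, (F.zero _).1 (Multiplicative.ofAdd.injective
        (MonoidHom.mem_ker.1 b.2))⟩ : Subgroup.center Q)) fun a b e => ?_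
    exact Subtype.ext (Subtype.ext (congrArg (fun q : Subgroup.center Q => (q.1 : Cz z)) e))
  · haveI : Finite {v : V // p v} := inferInstance
    refine Nat.card_le_card_of_injective (fun w : f.range => (⟨Multiplicative.toAdd w.1, by
      obtain ⟨_, b, rfl⟩ := w; exact h b.1 b.2⟩ : {v : V // p v})) fun a b e => ?_
    exact Subtype.ext (Multiplicative.toAdd.injective (congrArg (fun v : {v : V // p v} => v.1) e))

include hS in
theorem abelian_le {B : Subgroup (Cz z)} (hB : B ≤ Q) (hc : ∀ a ∈ B, ∀ b ∈ B, a * b = b * a) :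
    Nat.card B ≤ 128 := by
  obtain ⟨-, -, hE, hcard, -⟩ := id hS
  haveI : Fact (Nat.Prime 2) := ⟨Nat.prime_two⟩
  haveI : IsMulCommutative (B.subgroupOf Q) :=
    ⟨⟨fun a b => Subtype.ext (Subtype.ext (hc _ (Subgroup.mem_subgroupOf.1 a.2) _ (Subgroup.mem_subgroupOf.1 b.2)))⟩⟩
  have h := Cfsg.Agent.PGroups.Extraspecial.card_sq_le_of_abelian hE (B.subgroupOf Q)
  rw [Nat.card_congr (Subgroup.subgroupOfEquivOfLe hB).toEquiv, hcard] at h
  by_contra hlt
  have : 129 ^ 2 ≤ Nat.card B ^ 2 := Nat.pow_le_pow_left (by omega) 2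
  omega

include hS in
theorem card_UT : Nat.card (UT F) = 128 := by
  refine le_antisymm (abelian_le hS (UT_le F) (comm_of_sq (UT_sq F))) ?_
  obtain ⟨-, -, hE, -, -⟩ := id hS
  haveI : Fact (Nat.Prime 2) := ⟨Nat.prime_two⟩
  let f : UT F →* Multiplicative V :=
    MonoidHom.mk' (fun b => Multiplicative.ofAdd (F.φ ⟨b, UT_le F b.2⟩)) fun a b => by
      rw [← ofAdd_add, ← F.φ_mul]; rfl
  have h0 := Subgroup.card_mul_index f.ker
  rw [Subgroup.index_ker] at h0
  rw [← h0]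
  have hk : 2 ≤ Nat.card f.ker := by
    rw [← hE.2]
    refine Nat.card_le_card_of_injective (fun q : Subgroup.center Q =>
      (⟨⟨(q.1 : Cz z), q.1.2, by rw [(F.zero q.1).2 q.2]; exact ⟨rfl, rfl, rfl⟩⟩, MonoidHom.mem_ker.2 (by
        show Multiplicative.ofAdd (F.φ q.1) = 1
        rw [(F.zero q.1).2 q.2]; rfl)⟩ : f.ker)) fun a b e => ?_
    exact Subtype.ext (Subtype.ext (congrArg (fun q : f.ker => ((q.1 : UT F) : Cz z)) e))
  have hr : 64 ≤ Nat.card f.range := by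
    rw [← card_InU2]
    refine Nat.card_le_card_of_injective (fun v : {v : V // InU2 v} => (⟨Multiplicative.ofAdd v.1, ?_⟩ : f.range))
      fun a b e => Subtype.ext (Multiplicative.ofAdd.injective (congrArg (fun w : f.range => w.1) e))
    obtain ⟨a, ha⟩ := F.surj v.1
    exact ⟨⟨a, a.2, by rw [ha]; exact v.2⟩, congrArg Multiplicative.ofAdd ha⟩
  calc 128 = 2 * 64 := rfl
    _ ≤ _ := Nat.mul_le_mul hk hr

variable {x : Cz z}

/-- The large elementary abelian subgroup. -/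
def A0 (X : Scal F x) (hS : Cfsg.IsExtraspecialCentralizerSetting z Q 6) : Subgroup (Cz z) where
  carrier := {y | ∃ u ∈ UT F, ∃ c, (∃ e ∈ EU, IsLift F (x := x) e c) ∧ y = u * c}
  one_mem' := ⟨1, one_mem _, 1, ⟨1, one_mem _, fun v => by rw [map_one, one_smul]; rfl, by rw [one_mul, mul_one]⟩,
    (one_mul 1).symm⟩
  mul_mem' := by
    rintro _ _ ⟨u, hu, c, ⟨e, he, hc⟩, rfl⟩ ⟨u', hu', c', ⟨e', he', hc'⟩, rfl⟩
    refine ⟨u * u', mul_mem hu hu', c * c', ⟨e * e', mul_mem he he', hc.mul hc'⟩, ?_⟩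
    have h := lift_centralizes hS F X he hc (a := ⟨u', hu'.1⟩) hu'.2
    calc u * c * (u' * c') = u * (c * u') * c' := by group
      _ = u * (u' * c) * c' := by rw [h]
      _ = u * u' * (c * c') := by group
  inv_mem' := by
    rintro _ ⟨u, hu, c, ⟨e, he, hc⟩, rfl⟩
    refine ⟨u⁻¹, inv_mem hu, c⁻¹, ⟨e⁻¹, inv_mem he, hc.inv⟩, ?_⟩
    have h := lift_centralizes hS F X he hc (a := ⟨u, hu.1⟩) hu.2
    rw [← mul_inv_rev, h]

theorem A0_sq (X : Scal F x) : ∀ y ∈ A0 F X hS, y * y = 1 := by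
  rintro _ ⟨u, hu, c, ⟨e, he, hc⟩, rfl⟩
  have h := lift_centralizes hS F X he hc (a := ⟨u, hu.1⟩) hu.2
  rw [mul_assoc, ← mul_assoc c, h, mul_assoc u c, lift_sq_EU hS F X he hc, mul_one, UT_sq F u hu]

theorem A0_inf (X : Scal F x) : A0 F X hS ⊓ Q = UT F := by
  refine le_antisymm ?_ fun u hu => ⟨⟨u, hu, 1,
    ⟨1, one_mem _, fun v => by rw [map_one, one_smul]; rfl, by rw [one_mul, mul_one]⟩, (mul_one u).symm⟩, hu.1⟩
  rintro _ ⟨⟨u, hu, c, ⟨e, he, hc⟩, rfl⟩, hq⟩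
  have hcQ : c ∈ Q := (Q.mul_mem_cancel_left hu.1).1 hq
  have h1 : e = 1 := S_ext fun v => by rw [← hc.1, (F.ker c).2 hcQ, one_smul]; rfl
  subst h1
  obtain ⟨hz, hzQ⟩ := zmem hS
  refine mul_mem hu ?_
  rcases lift_kernel hS F X hz hc with e | e <;> rw [e]
  · exact one_mem _
  · refine ⟨hzQ hz, ?_⟩
    rw [(F.zero _).2 ((mem_center_iff' hS).2 (Or.inr rfl))]
    exact ⟨rfl, rfl, rfl⟩

theorem card_A0 (X : Scal F x) :
    Nat.card (A0 F X hS) = 2 ^ 11 ∧ Nat.card ((A0 F X hS).map (QuotientGroup.mk' Q)) = 16 := by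
  obtain ⟨L, hinj, -, hL⟩ := exists_lift F
  have h : Nat.card ((A0 F X hS).map (QuotientGroup.mk' Q)) = 16 := by
    have : (A0 F X hS).map (QuotientGroup.mk' Q) = (EU.subgroupOf K0).map L := by
      ext y
      constructor
      · rintro ⟨_, ⟨u, hu, c, ⟨e, he, hc⟩, rfl⟩, rfl⟩
        refine ⟨⟨e, (P0_le he.1).1⟩, he, ?_⟩
        rw [QuotientGroup.mk'_apply, QuotientGroup.mk_mul, (QuotientGroup.eq_one_iff u).2 hu.1, one_mul]
        exact ((hL _ c).2 hc.1).symm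
      · rintro ⟨⟨e, heK⟩, he, rfl⟩
        obtain ⟨c, -, hc⟩ := exists_lift_comm hS F X heK
        exact ⟨c, ⟨1, one_mem _, c, ⟨e, he, hc⟩, (one_mul c).symm⟩, (hL ⟨e, heK⟩ c).2 hc.1⟩
    rw [this, Subgroup.card_map_of_injective hinj,
      Nat.card_congr (Subgroup.subgroupOfEquivOfLe (show EU ≤ K0 from fun e he => (P0_le he.1).1)).toEquiv, card_EU]
  refine ⟨?_, h⟩
  rw [card_split (Q := Q), h, A0_inf hS F X, card_UT hS F]
  norm_num

/-- Vectors fixed by an antilinear transformation. -/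
theorem fixed_pair {σ : V → V} (hadd : ∀ u v, σ (u + v) = σ u + σ v) (hsm : ∀ v, σ (FF.w • v) = FF.w2 • σ v)
    {p : V → Prop} (hp : ∀ v, p v → σ v = v) {u u' v v' : V} (h1 : p u) (h2 : p u') (h3 : p v) (h4 : p v')
    (h : u + FF.w • u' = v + FF.w • v') : u = v ∧ u' = v' := by
  have h' := congrArg σ h
  rw [hadd, hadd, hsm, hsm, hp u h1, hp u' h2, hp v h3, hp v' h4] at h'
  constructor <;> funext i <;>
  · have e1 := congrFun h i
    have e2 := congrFun h' i
    simp only [Pi.add_apply, Pi.smul_apply, smul_eq_mul] at e1 e2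
    revert e1 e2
    generalize u i = a, u' i = b, v i = c, v' i = d
    revert a b c d
    decide

set_option maxHeartbeats 1000000 in
include hS in
/-- The largest elementary abelian subgroups of a Sylow subgroup in standard position. -/
theorem max_eq (hanti : ∀ c : Cz z, c ∉ M → ∀ v, F.act c (FF.w • v) = FF.w2 • F.act c v) (X : Scal F x)
    {B : Subgroup (Cz z)} (hBP : ∀ m ∈ B, m ∈ M → ∃ k ∈ P0, ∀ v, F.act m v = k • v)
    (hsq : ∀ b ∈ B, b * b = 1) (hbig : 2 ^ 11 ≤ Nat.card B) : B = A0 F X hS := by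
  classical
  have hcomm := comm_of_sq hsq
  haveI := F.normalM
  -- the linear part
  let Ab' : Subgroup S :=
    { carrier := {k | ∃ m ∈ B ⊓ M, ∀ v, F.act m v = k • v}
      one_mem' := ⟨1, one_mem _, fun v => by rw [map_one, one_smul]; rfl⟩
      mul_mem' := fun ⟨m, hm, e⟩ ⟨m', hm', e'⟩ => ⟨m * m', mul_mem hm hm', F.act_mul_smul e e'⟩
      inv_mem' := fun {k} ⟨m, hm, e⟩ => ⟨m⁻¹, inv_mem hm, fun v => by
        rw [map_inv]; exact (F.act m).symm_apply_eq.2 (by rw [e, smul_inv_smul])⟩ }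
  have hA : Ab' ≤ P0 := by
    rintro k ⟨m, hm, e⟩
    obtain ⟨k', hk', e'⟩ := hBP m hm.1 hm.2
    rwa [show k = k' from S_ext fun v => by rw [← e, e']]
  have hAK : ∀ k ∈ Ab', k ∈ K0 := fun k hk => (P0_le (hA hk)).1
  obtain ⟨h16, hcases⟩ := elem_sub hA
    (fun a ⟨m, hm, e⟩ b ⟨m', hm', e'⟩ => S_ext fun v => by
      rw [← F.act_mul_smul e e', ← F.act_mul_smul e' e, hcomm m hm.1 m' hm'.1])
    (fun a ⟨m, hm, e⟩ => S_ext fun v => by
      rw [← F.act_mul_smul e e, hsq m hm.1, map_one, one_smul]; rfl)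
  obtain ⟨L, hinj, -, hL⟩ := exists_lift F
  have himg : Nat.card ((B ⊓ M).map (QuotientGroup.mk' Q)) = Nat.card Ab' := by
    have : (B ⊓ M).map (QuotientGroup.mk' Q) = (Ab'.subgroupOf K0).map L := by
      ext y
      constructor
      · rintro ⟨m, hm, rfl⟩
        obtain ⟨k, hk, e⟩ := F.mem_M m hm.2
        exact ⟨⟨k, hk⟩, ⟨m, hm, e⟩, ((hL _ m).2 e).symm⟩
      · rintro ⟨⟨k, hk⟩, ⟨m, hm, e⟩, rfl⟩
        exact ⟨m, hm, (hL ⟨k, hk⟩ m).2 e⟩
    rw [this, Subgroup.card_map_of_injective hinj,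
      Nat.card_congr (Subgroup.subgroupOfEquivOfLe hAK).toEquiv]
  have hBQ : (B ⊓ M) ⊓ Q = B ⊓ Q := by
    rw [inf_assoc, inf_eq_right.2 F.le]
  set q := Nat.card (B ⊓ Q : Subgroup (Cz z)) with hq
  have hBM : Nat.card (B ⊓ M : Subgroup (Cz z)) = q * Nat.card Ab' := by rw [card_split (Q := Q), hBQ, himg]
  have hq128 : q ≤ 128 := abelian_le hS inf_le_right fun a ha b hb => hcomm a ha.1 b hb.1
  -- images are fixed
  have hfix : ∀ b ∈ B, ∀ (w : Cz z) (hw : w ∈ B ⊓ Q), F.act b (F.φ ⟨w, hw.2⟩) = F.φ ⟨w, hw.2⟩ := by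
    intro b hb w hw
    rw [← F.conj]
    congr 1
    refine Subtype.ext ?_
    rw [MulAut.conjNormal_apply]
    show b * w * b⁻¹ = w
    rw [hcomm b hb w hw.1, mul_inv_cancel_right]
  have hfixA : ∀ k ∈ Ab', ∀ (w : Cz z) (hw : w ∈ B ⊓ Q), k • F.φ ⟨w, hw.2⟩ = F.φ ⟨w, hw.2⟩ := by
    rintro k ⟨m, hm, e⟩ w hw
    rw [← e]; exact hfix m hm.1 w hw
  have hTcase : Ab' = T → q ≤ 8 := fun hT => by
    refine (card_le_two_mul hS F inf_le_right (p := fun v => ∃ l : FF, v = l • fv) fun w hw =>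
      fix_T fun k hk => hfixA k (hT ▸ hk) w hw).trans ?_
    rw [Nat.card_eq_fintype_card, Fintype.card_subtype]
    exact Nat.mul_le_mul_left 2 (show _ ≤ 4 by decide +kernel)
  by_cases hout : B ≤ M
  · rw [inf_eq_left.2 hout] at hBM
    have hA16 : Nat.card Ab' = 16 := by nlinarith
    have hq' : q = 128 := by nlinarith
    have hE : Ab' = EU := (hcases hA16).resolve_left fun hT => by
      have := hTcase hT; omega
    have hUeq : B ⊓ Q = UT F := by
      refine Subgroup.eq_of_le_of_card_ge (fun w hw => ⟨hw.2, fix_EU fun k hk => hfixA k (hE ▸ hk) w hw⟩) ?_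
      rw [card_UT hS F, ← hq, hq']
    refine Subgroup.eq_of_le_of_card_ge (fun b hb => ?_) (by rw [(card_A0 hS F X).1]; exact hbig)
    obtain ⟨k, hk, e⟩ := F.mem_M b (hout hb)
    have hkE : k ∈ EU := hE ▸ ⟨b, ⟨hb, hout hb⟩, e⟩
    obtain ⟨c, -, hc⟩ := exists_lift_comm hS F X hk
    have hqQ : b * c⁻¹ ∈ Q := (F.ker _).1 (Equiv.ext fun v => by
      rw [map_mul, map_inv, Equiv.Perm.mul_apply, e]
      exact (congrArg (k • ·) ((F.act c).symm_apply_eq.2 (show v = F.act c (k⁻¹ • v) by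
        rw [hc.1, smul_inv_smul]))).trans (smul_inv_smul k v))
    refine ⟨b * c⁻¹, ?_, c, ⟨k, hkE, hc⟩, (inv_mul_cancel_right b c).symm⟩
    -- it centralises the preimage, hence lies in it
    by_contra hnot
    have hsub : ∀ u ∈ UT F, (b * c⁻¹) * u = u * (b * c⁻¹) := fun u hu => by
      have hub : b * u = u * b := hcomm b hb u ((hUeq ▸ hu : u ∈ B ⊓ Q)).1
      have huc := lift_centralizes hS F X hkE hc (a := ⟨u, hu.1⟩) hu.2
      calc b * c⁻¹ * u = b * (c⁻¹ * (u * c)) * c⁻¹ := by group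
        _ = b * (c⁻¹ * (c * u)) * c⁻¹ := by rw [huc]
        _ = b * u * c⁻¹ := by group
        _ = u * (b * c⁻¹) := by rw [hub, mul_assoc]
    set Cl := Subgroup.closure ((UT F : Set (Cz z)) ∪ {b * c⁻¹})
    have hle : Cl ≤ Q := (Subgroup.closure_le _).2 (Set.union_subset (UT_le F) (by simpa using hqQ))
    haveI : IsMulCommutative Cl := Subgroup.isMulCommutative_closure (by
      rintro s (hs | rfl) t (ht | rfl)
      · exact comm_of_sq (UT_sq F) s hs t ht
      · exact (hsub s hs).symm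
      · exact hsub t ht
      · rfl)
    have h1 := abelian_le hS hle fun s hs t ht =>
      congrArg Subtype.val (mul_comm' (⟨s, hs⟩ : Cl) ⟨t, ht⟩)
    have he := Subgroup.eq_of_le_of_card_ge (H := UT F) (K := Cl) (fun u hu => Subgroup.subset_closure (Or.inl hu))
      (by rw [card_UT hS F]; exact h1)
    exact hnot (he ▸ Subgroup.subset_closure (Or.inr rfl))
  exfalso
  obtain ⟨b0, hb0, hb0M⟩ := SetLike.not_le_iff_exists.1 hout
  have h2 : Nat.card B ≤ 2 * Nat.card (B ⊓ M : Subgroup (Cz z)) := by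
    have h := Subgroup.card_mul_index (M.subgroupOf B)
    have hi : (M.subgroupOf B).index ≤ 2 := by
      have := Subgroup.relIndex_le_of_le_right (H := M) (K := B) le_top (by rw [Subgroup.relIndex_top_right, F.idx]; norm_num)
      rw [Subgroup.relIndex_top_right, F.idx] at this
      exact this
    rw [← h, show Nat.card (M.subgroupOf B) = Nat.card (B ⊓ M : Subgroup (Cz z)) from by
      rw [inf_comm, ← Subgroup.inf_subgroupOf_right, Nat.card_congr (Subgroup.subgroupOfEquivOfLe inf_le_right).toEquiv],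
      mul_comm 2]
    exact Nat.mul_le_mul_left _ hi
  -- the fixed real form
  let p : V → Prop := fun v => F.act b0 v = v ∧ ∀ k ∈ Ab', k • v = v
  have hqp : q ≤ 2 * Nat.card {v : V // p v} :=
    card_le_two_mul hS F inf_le_right fun w hw => ⟨hfix b0 hb0 w hw, fun k hk => hfixA k hk w hw⟩
  let pr : {v : V // p v} × {v : V // p v} → V := fun uv => uv.1.1 + FF.w • uv.2.1
  have hinjp : Function.Injective pr := fun uv uv' e => by
    obtain ⟨e1, e2⟩ := fixed_pair (F.act_add b0) (hanti b0 hb0M) (p := p) (fun v hv => hv.1) uv.1.2 uv.2.2 uv'.1.2 uv'.2.2 e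
    exact Prod.ext (Subtype.ext e1) (Subtype.ext e2)
  have hprfix : ∀ uv, ∀ k ∈ Ab', k • pr uv = pr uv := fun uv k hk => by
    show k • (uv.1.1 + FF.w • uv.2.1) = _
    rw [smul_addV, smul_smulV, uv.1.2.2 k hk, uv.2.2.2 k hk]
  set w := Nat.card {v : V // p v}
  have hprod : Nat.card ({v : V // p v} × {v : V // p v}) = w * w := Nat.card_prod _ _
  by_cases h : Nat.card Ab' = 16
  · rcases hcases h with hT | hE
    · have := hTcase hT
      rw [h] at hBM; nlinarith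
    · have hle := Nat.card_le_card_of_injective (fun uv => (⟨pr uv, fix_EU fun k hk => hprfix uv k (hE ▸ hk)⟩ : {v : V // InU2 v}))
        (fun uv uv' e => hinjp (congrArg Subtype.val e))
      rw [hprod, card_InU2] at hle
      have : w ≤ 8 := by nlinarith
      rw [h] at hBM; nlinarith
  have h8 : Nat.card Ab' ≤ 8 := by
    have hd := Subgroup.card_dvd_of_le hA
    rw [card_P0, show 128 = 2 ^ 7 from rfl, Nat.dvd_prime_pow Nat.prime_two] at hd
    obtain ⟨j, hj, he⟩ := hd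
    rw [he] at h h16 ⊢
    interval_cases j <;> omega
  have hw : 64 ≤ w := by nlinarith
  have hbij : Function.Bijective pr := hinjp.bijective_of_nat_card_le (by
    rw [hprod, show Nat.card V = 4096 by rw [Nat.card_fun, Nat.card_fin, Nat.card_eq_fintype_card, show Fintype.card FF = 4 from rfl]; norm_num]; nlinarith)
  have hA1 : Ab' = ⊥ := (Subgroup.eq_bot_iff_forall _).2 fun k hk => S_ext fun v => by
    obtain ⟨uv, rfl⟩ := hbij.2 v
    rw [hprfix uv k hk, one_smul]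
  rw [hA1, Subgroup.card_bot] at hBM
  omega

omit [Finite G] in
theorem act_inv_smul {F : Frame z Q M} {m : Cz z} {k : S} (h : ∀ v, F.act m v = k • v) :
    ∀ v, F.act m⁻¹ v = k⁻¹ • v := fun v => by
  rw [map_inv]; exact (F.act m).symm_apply_eq.2 (by rw [h, smul_inv_smul])

include hS in
/-- The preimage of the Sylow subgroup of the model is a 2-group of order `2^20`. -/
theorem preimage_P0 : ∃ R : Subgroup (Cz z), (∀ m, m ∈ R ↔ m ∈ M ∧ ∃ k ∈ P0, ∀ v, F.act m v = k • v) ∧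
    Nat.card R = 2 ^ 20 ∧ R ≤ M ∧ Q ≤ R := by
  obtain ⟨L, hinj, hr, hL⟩ := exists_lift F
  refine ⟨((P0.subgroupOf K0).map L).comap (QuotientGroup.mk' Q), fun m => ?_, ?_, ?_, ?_⟩
  · constructor
    · rintro ⟨k, hk, e⟩
      refine ⟨?_, k.1, hk, (hL k m).1 e.symm⟩
      have : L k ∈ L.range := ⟨k, rfl⟩
      rw [hr] at this
      obtain ⟨m', hm', e'⟩ := this
      rw [e] at e'
      have hq : m'⁻¹ * m ∈ Q := QuotientGroup.eq.1 e'
      simpa using M.mul_mem hm' (F.le hq)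
    · rintro ⟨-, k, hk, e⟩
      exact ⟨⟨k, (P0_le hk).1⟩, hk, ((hL ⟨k, (P0_le hk).1⟩ m).2 e).symm⟩
  · have h := card_split (Q := Q) (((P0.subgroupOf K0).map L).comap (QuotientGroup.mk' Q))
    have hQle : Q ≤ ((P0.subgroupOf K0).map L).comap (QuotientGroup.mk' Q) := fun q hq => by
      rw [Subgroup.mem_comap, QuotientGroup.mk'_apply, (QuotientGroup.eq_one_iff q).2 hq]; exact one_mem _
    rw [inf_eq_right.2 hQle,
      Subgroup.map_comap_eq_self_of_surjective (QuotientGroup.mk'_surjective Q),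
      Subgroup.card_map_of_injective hinj,
      Nat.card_congr (Subgroup.subgroupOfEquivOfLe (show P0 ≤ K0 from fun _ h => (P0_le h).1)).toEquiv, card_P0,
      hS.2.2.2.1] at h
    rw [h]; norm_num
  · intro m hm
    obtain ⟨k, -, e⟩ := hm
    have : L k ∈ L.range := ⟨k, rfl⟩
    rw [hr] at this
    obtain ⟨m', hm', e'⟩ := this
    rw [e] at e'
    simpa using M.mul_mem hm' (F.le (QuotientGroup.eq.1 e'))
  · intro q hq
    rw [Subgroup.mem_comap, QuotientGroup.mk'_apply, (QuotientGroup.eq_one_iff q).2 hq]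
    exact one_mem _

include hS F in
theorem T_inf_M_card (T2 : Sylow 2 (Cz z)) : 2 ^ 20 ≤ Nat.card ((T2 : Subgroup (Cz z)) ⊓ M : Subgroup (Cz z)) := by
  haveI : Fact (Nat.Prime 2) := ⟨Nat.prime_two⟩
  haveI := F.normalM
  obtain ⟨R, -, hR, hRM, -⟩ := preimage_P0 hS F
  have h2 : IsPGroup 2 R := IsPGroup.of_card hR
  obtain ⟨P, hP⟩ := h2.exists_le_sylow
  obtain ⟨g, hg⟩ := MulAction.exists_smul_eq (Cz z) P T2
  have hle : R.map (MulAut.conj g).toMonoidHom ≤ (T2 : Subgroup (Cz z)) ⊓ M := by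
    rintro _ ⟨r, hr, rfl⟩
    exact ⟨hg ▸ ⟨r, hP hr, rfl⟩, F.normalM.conj_mem r (hRM hr) g⟩
  have := Subgroup.card_le_of_le hle
  rwa [Subgroup.card_map_of_injective (MulAut.conj g).injective, hR] at this

include F in
/-- A position in which the Sylow subgroup acts inside the model's Sylow subgroup. -/
theorem exists_position (T2 : Sylow 2 (Cz z)) : ∃ F' : Frame z Q M,
    ∀ m ∈ (T2 : Subgroup (Cz z)), m ∈ M → ∃ k ∈ P0, ∀ v, F'.act m v = k • v := by
  classical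
  haveI : Fact (Nat.Prime 2) := ⟨Nat.prime_two⟩
  -- a fixed point
  have hpres : ∀ (c : Cz z) (v : V), O1 v ↔ O1 (F.act c v) := by
    intro c v
    refine ⟨fun h => ⟨F.act_Iso c h.1, fun h' => h.2 ((F.InO_act_iff c).1 h')⟩, fun h => ⟨?_, fun h' => h.2 (F.InO_act c h')⟩⟩
    have := F.act_Iso c⁻¹ h.1
    rwa [← Equiv.Perm.mul_apply, ← map_mul, inv_mul_cancel, map_one] at this
  letI : MulAction T2 {v : V // O1 v} :=
    { smul := fun t v => ⟨F.act t v.1, (hpres t v.1).1 v.2⟩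
      one_smul := fun v => Subtype.ext (by show F.act ((1 : T2) : Cz z) v.1 = v.1; rw [Subgroup.coe_one, map_one]; rfl)
      mul_smul := fun s t v => Subtype.ext (by
        show F.act ((s * t : T2) : Cz z) v.1 = F.act s (F.act t v.1)
        rw [Subgroup.coe_mul, map_mul]; rfl) }
  obtain ⟨⟨v, hv⟩, hvf⟩ := T2.2.nonempty_fixed_point_of_prime_not_dvd_card {v : V // O1 v}
    (by rw [card_O1]; norm_num)
  obtain ⟨k0, hk0, rfl⟩ := exists_K0_fv hv
  let F1 := F.twist (inv_mem hk0)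
  have hfix : ∀ m ∈ (T2 : Subgroup (Cz z)), m ∈ M → ∃ k ∈ StabK fv, ∀ v, F1.act m v = k • v := by
    intro m hm hM
    obtain ⟨k, hk, e⟩ := F1.mem_M m hM
    refine ⟨k, ⟨hk, ?_⟩, e⟩
    show k • fv = fv
    rw [← e]
    show k0⁻¹ • F.act m (k0⁻¹⁻¹ • fv) = fv
    rw [inv_inv, show F.act m (k0 • fv) = k0 • fv from congrArg Subtype.val (hvf ⟨m, hm⟩), inv_smul_smul]
  -- the image in the alternating group
  let Lσ : Subgroup (alternatingGroup (Fin 6)) :=
    { carrier := {σ | ∃ t ∈ T, ∃ m ∈ (T2 : Subgroup (Cz z)) ⊓ M, ∀ v, F1.act m v = (t * altK σ) • v}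
      one_mem' := ⟨1, one_mem _, 1, one_mem _, fun v => by
        rw [map_one, map_one, one_mul, one_smul]; rfl⟩
      mul_mem' := by
        rintro σ σ' ⟨t, ht, m, hm, e⟩ ⟨t', ht', m', hm', e'⟩
        refine ⟨t * (altK σ * t' * (altK σ)⁻¹), mul_mem ht (altK_conj_T σ ht'), m * m', mul_mem hm hm', fun v => ?_⟩
        rw [F1.act_mul_smul e e', map_mul]
        congr 1
        group
      inv_mem' := by
        rintro σ ⟨t, ht, m, hm, e⟩
        refine ⟨altK σ⁻¹ * t⁻¹ * (altK σ⁻¹)⁻¹, altK_conj_T _ (inv_mem ht), m⁻¹, inv_mem hm, fun v => ?_⟩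
        rw [act_inv_smul e, map_inv]
        congr 1
        group }
  have hL2 : IsPGroup 2 Lσ := by
    rintro ⟨σ, t, ht, m, hm, e⟩
    obtain ⟨j, hj⟩ := T2.2 ⟨m, hm.1⟩
    refine ⟨j, Subtype.ext ?_⟩
    have hn : ∀ n : ℕ, ∃ t' ∈ T, ∀ v, F1.act (m ^ n) v = (t' * altK (σ ^ n)) • v := by
      intro n
      induction n with
      | zero => exact ⟨1, one_mem _, fun v => by rw [pow_zero, pow_zero, map_one, map_one, one_mul, one_smul]; rfl⟩
      | succ n ih =>
        obtain ⟨t', ht', e'⟩ := ih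
        refine ⟨t' * (altK (σ ^ n) * t * (altK (σ ^ n))⁻¹), mul_mem ht' (altK_conj_T _ ht), fun v => ?_⟩
        rw [pow_succ, pow_succ, F1.act_mul_smul e' e, map_mul]
        congr 1
        group
    obtain ⟨t', ht', e'⟩ := hn (2 ^ j)
    have hm1 : m ^ 2 ^ j = 1 := congrArg Subtype.val hj
    show σ ^ 2 ^ j = 1
    exact (tσ_unique ht' (one_mem _) (show t' * altK (σ ^ 2 ^ j) = 1 * altK 1 from S_ext fun v => by
      rw [← e', hm1, map_one, map_one, one_mul, one_smul]; rfl)).2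
  obtain ⟨τ, hτ⟩ := exists_conj_D8 hL2
  refine ⟨F1.twist (altK_mem τ).1, fun m hm hM => ?_⟩
  obtain ⟨k, hk, e⟩ := hfix m hm hM
  obtain ⟨t, ht, σ, rfl⟩ := StabK_fv_eq hk
  refine ⟨altK τ * (t * altK σ) * (altK τ)⁻¹, ⟨altK τ * t * (altK τ)⁻¹, altK_conj_T τ ht, τ * σ * τ⁻¹,
    hτ σ ⟨t, ht, m, ⟨hm, hM⟩, e⟩, by rw [map_mul, map_mul, map_inv]; group⟩, fun v => ?_⟩
  show altK τ • F1.act m ((altK τ)⁻¹ • v) = _
  rw [e, mul_smul, mul_smul, mul_smul, mul_smul]

end Cfsg.Agent.LargeExtra.Fischer
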