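import Cfsg.Agent.Lib.LargeExtra.Fischer.Stab

/-!
Computations in the stabiliser of the weight six vector: its module of order sixteen and the absence of an
invariant complement to the line of the vector in its orthogonal space.
-/

set_option autoImplicit false

namespace Cfsg.Agent.LargeExtra.Fischer

open Cfsg.Agent.InvChar.Coset Matrix
open Cfsg.Agent.Components.UnitarySix

/-- The image of the intersection of the two extraspecial groups. -/
def InD (v : V) : Prop := H v fv = 0 ∧ ∀ b, H v (cOf b) = 0 ∨ H v (cOf b) = 1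

instance (v : V) : Decidable (InD v) := inferInstanceAs (Decidable (_ ∧ _))

set_option maxRecDepth 100000 in
theorem InD_of_fix : ∀ v : V,
    (∀ b, radMap fv (cOf b) v = v ∨ radMap fv (cOf b) v = v + fv) → InD v := by
  decide +kernel

set_option maxRecDepth 100000 in
theorem card_InD : Nat.card {v : V // InD v} = 64 := by
  rw [Nat.card_eq_fintype_card, Fintype.card_subtype]
  decide +kernel

theorem InD_line : ∀ l : FF, InD (l • fv) := by decide +kernel

/-- A vector whose products with the vector is not real. -/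
def v0 : V := ![.w, 0, 0, 0, 0, 0]

theorem v0_moves : ∃ b, ¬ InD (v0 + radMap fv (cOf b) v0) := by decide +kernel

/-- Coordinates permuted by a table. -/
def permV (p : Fin 6 → Fin 6) (v : V) : V := fun i => v (p i)

/-- The table of the product of two three-cycles. -/
def sT : Fin 6 → Fin 6 := ![2, 0, 1, 5, 3, 4]

/-- The table of one three-cycle. -/
def tT : Fin 6 → Fin 6 := ![3, 0, 2, 1, 4, 5]

/-- The vectors with both partial sums zero. -/
def InU (v : V) : Bool := decide (v 0 + v 1 + v 2 = 0) && decide (v 3 + v 4 + v 5 = 0)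

/-- Stability up to a given depth. -/
def stb (c : V) : ℕ → V → Bool
  | 0, v => InU v
  | n + 1, v => stb c n v && stb c n (radMap fv c (permV tT v)) && stb c n (permV sT v)

set_option maxRecDepth 100000 in
theorem stb_zero : ∀ (b : Fin 4 → Bool) (p q r s : FF),
    stb (cOf b) 4 ![p, q, p + q, r, s, r + s] = true → p = 0 ∧ q = 0 ∧ r = 0 ∧ s = 0 := by
  decide +kernel

theorem third : ∀ p q r : FF, p + q + r = 0 → r = p + q := by decide

theorem InU_shape {v : V} (h : InU v = true) : v = ![v 0, v 1, v 0 + v 1, v 3, v 4, v 3 + v 4] := by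
  simp only [InU, Bool.and_eq_true, decide_eq_true_eq] at h
  funext i
  fin_cases i <;> simp [third _ _ _ h.1, third _ _ _ h.2]

theorem InU_of_stb {c : V} : ∀ {n : ℕ} {v : V}, stb c n v = true → InU v = true
  | 0, _, h => h
  | n + 1, v, h => by
    simp only [stb, Bool.and_eq_true] at h
    exact InU_of_stb h.1.1

/-- No non-zero vector stays there. -/
theorem eq_zero_of_stb {b : Fin 4 → Bool} {v : V} (h : stb (cOf b) 4 v = true) : v = 0 := by
  have h0 : InU v = true := InU_of_stb h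
  rw [InU_shape h0] at h ⊢
  obtain ⟨hp, hq, hr, hs⟩ := stb_zero _ _ _ _ _ h
  rw [hp, hq, hr, hs]
  decide

/-- The two three-cycles. -/
def sA : alternatingGroup (Fin 6) :=
  ⟨Equiv.swap 0 1 * Equiv.swap 1 2 * (Equiv.swap 3 4 * Equiv.swap 4 5), Equiv.Perm.mem_alternatingGroup.2 (by decide)⟩

/-- One three-cycle. -/
def tA : alternatingGroup (Fin 6) :=
  ⟨Equiv.swap 0 1 * Equiv.swap 1 3, Equiv.Perm.mem_alternatingGroup.2 (by decide)⟩

theorem tables : (∀ i : Fin 6, sA.1.symm i = sT i) ∧ ∀ i : Fin 6, tA.1.symm i = tT i := by decide +kernel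

theorem altK_smul (σ : alternatingGroup (Fin 6)) (v : V) : altK σ • v = fun i => v (σ.1.symm i) := by
  funext i
  show (permS σ.1 • v) i = _
  rw [permS_smul]

theorem sA_smul (v : V) : altK sA • v = permV sT v := by
  rw [altK_smul]; funext i; rw [tables.1 i]; rfl

theorem tA_smul (v : V) : altK tA • v = permV tT v := by
  rw [altK_smul]; funext i; rw [tables.2 i]; rfl

theorem sA_cube : sA * sA * sA = 1 := by decide +kernel

set_option maxRecDepth 100000 in
theorem sA_fixes : ∀ b : Fin 4 → Bool,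
    permV sT (radMap fv (cOf b) (e 0)) = radMap fv (cOf b) (permV sT (e 0)) → cOf b = 0 := by
  decide +kernel

/-- The product of the two three-cycles centralises nothing in the module. -/
theorem sA_fpf {t : S} (ht : t ∈ T) (h : altK sA * t = t * altK sA) : t = 1 := by
  obtain ⟨b, rfl⟩ := exists_elT ht
  obtain ⟨hm, hc⟩ := elT_spec b
  have h3 := (cmap_facts fv0 hm.1).2.2
  have e1 := congrArg (fun g : S => g • (e 0 : V)) h
  simp only [mul_smul, h3, hc, sA_smul] at e1
  refine cmap_inj fv0 hm.1 (one_mem _) ?_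
  rw [hc, cmap_one]
  exact sA_fixes b e1

/-! ### The module -/

/-- A product of two transpositions with the given points, fixing zero. -/
def cyc3 (a b c : Fin 5) : alternatingGroup (Fin 6) :=
  if h : a ≠ b ∧ b ≠ c then
    ⟨Equiv.swap a.succ b.succ * Equiv.swap b.succ c.succ, Equiv.Perm.mem_alternatingGroup.2 (by
      rw [Equiv.Perm.sign_mul, Equiv.Perm.sign_swap, Equiv.Perm.sign_swap] <;> simp [Fin.succ_inj, h.1, h.2])⟩
  else 1

theorem cyc3_zero (a b c : Fin 5) : (cyc3 a b c).1 0 = 0 := by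
  unfold cyc3
  split
  · simp [Equiv.swap_apply_of_ne_of_ne, (Fin.succ_ne_zero _).symm]
  · simp

theorem cmap_altK {σ : alternatingGroup (Fin 6)} (hσ : σ.1 0 = 0) (g : S) :
    cmap (altK σ * g * (altK σ)⁻¹) = fun i => cmap g (σ.1.symm i) := by
  show cmap (permS σ.1 * g * (permS σ.1)⁻¹) = _
  rw [cmap_conj hσ]
  funext i
  rw [permS_smul]

/-- The pairs away from zero. -/
def IsPair (c : V) : Prop := ∃ i j : Fin 5, i ≠ j ∧ c = fun k => if k = i.succ ∨ k = j.succ then .w2 else 1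

instance (c : V) : Decidable (IsPair c) := inferInstanceAs (Decidable (∃ _, _))

set_option maxRecDepth 100000 in
theorem exists_pair : ∀ b : Fin 4 → Bool, cOf b ≠ 0 → ∃ x y u : Fin 5,
    IsPair (mulC fv (fun i => cOf b ((cyc3 x y u).1.symm i)) (cOf b)) := by
  decide +kernel

set_option maxRecDepth 100000 in
theorem pair_to_first : ∀ i j : Fin 5, i ≠ j → ∃ x y u x' y' u' : Fin 5,
    (fun k => (fun k : Fin 6 => if k = i.succ ∨ k = j.succ then FF.w2 else 1)
      ((cyc3 x y u).1.symm ((cyc3 x' y' u').1.symm k))) = pc 0 := by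
  decide +kernel

set_option maxRecDepth 100000 in
theorem first_to_gen : ∀ k : Fin 4, ∃ x y u x' y' u' : Fin 5,
    (fun i => pc 0 ((cyc3 x y u).1.symm ((cyc3 x' y' u').1.symm i))) = pc k := by
  decide +kernel

theorem gen_T (k : Fin 4) : gen k ∈ T := ⟨(gen_mem k).1, (gen_mem k).2.1⟩

theorem altK_G (σ : alternatingGroup (Fin 6)) : altK σ ∈ Cfsg.Agent.Components.UnitarySix.G FF.w :=
  K0_le_G (altK_mem σ).1

theorem altK_conj_T (σ : alternatingGroup (Fin 6)) {t : S} (ht : t ∈ T) : altK σ * t * (altK σ)⁻¹ ∈ T :=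
  T_conj (altK_G σ) (altK_mem σ).2 ht

theorem gen_conj (k : Fin 4) : ∃ σ, altK σ * gen 0 * (altK σ)⁻¹ = gen k := by
  obtain ⟨x, y, u, x', y', u', h⟩ := first_to_gen k
  refine ⟨cyc3 x' y' u' * cyc3 x y u,
    cmap_inj fv0 (altK_conj_T _ (gen_T 0)).1 (gen_mem k).1 ?_⟩
  rw [map_mul, show altK (cyc3 x' y' u') * altK (cyc3 x y u) * gen 0 *
    (altK (cyc3 x' y' u') * altK (cyc3 x y u))⁻¹ = altK (cyc3 x' y' u') *
      (altK (cyc3 x y u) * gen 0 * (altK (cyc3 x y u))⁻¹) * (altK (cyc3 x' y' u'))⁻¹ by group,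
    cmap_altK (cyc3_zero ..), cmap_altK (cyc3_zero ..), (gen_mem 0).2.2, (gen_mem k).2.2, ← h]

theorem elT_mem_closure (b : Fin 4 → Bool) {L : Subgroup S} (h : ∀ k, gen k ∈ L) : elT b ∈ L := by
  have hk : ∀ k, (bif b k then gen k else 1) ∈ L := fun k => by
    cases b k
    · exact one_mem _
    · exact h k
  exact mul_mem (hk 0) (mul_mem (hk 1) (mul_mem (hk 2) (hk 3)))

/-- An invariant subgroup containing a non-trivial element is everything. -/
theorem T_le_of_inv {L : Subgroup S} (hinv : ∀ σ, ∀ t ∈ T, t ∈ L → altK σ * t * (altK σ)⁻¹ ∈ L)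
    {t : S} (htT : t ∈ T) (htL : t ∈ L) (ht : t ≠ 1) : T ≤ L := by
  obtain ⟨b, rfl⟩ := exists_elT htT
  have hb : cOf b ≠ 0 := fun e => ht (cmap_inj fv0 htT.1 (one_mem _) (by rw [(elT_spec b).2, e, cmap_one]))
  obtain ⟨x, y, u, i, j, hij, hp⟩ := exists_pair b hb
  set t' := altK (cyc3 x y u) * elT b * (altK (cyc3 x y u))⁻¹ * elT b with ht'
  have hc' : altK (cyc3 x y u) * elT b * (altK (cyc3 x y u))⁻¹ ∈ T := altK_conj_T _ htT
  have ht'T : t' ∈ T := mul_mem hc' htT
  have ht'L : t' ∈ L := mul_mem (hinv _ _ htT htL) htL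
  have hct' : cmap t' = fun k => if k = i.succ ∨ k = j.succ then FF.w2 else 1 := by
    rw [ht', cmap_mul fv0 hc'.1 htT.1, cmap_altK (cyc3_zero ..), (elT_spec b).2, hp]
  obtain ⟨x1, y1, u1, x2, y2, u2, h2⟩ := pair_to_first i j hij
  have hg0 : gen 0 ∈ L := by
    have h1 := hinv (cyc3 x2 y2 u2) _ (altK_conj_T _ ht'T) (hinv (cyc3 x1 y1 u1) _ ht'T ht'L)
    rwa [show altK (cyc3 x2 y2 u2) * (altK (cyc3 x1 y1 u1) * t' * (altK (cyc3 x1 y1 u1))⁻¹) *
      (altK (cyc3 x2 y2 u2))⁻¹ = gen 0 from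
      cmap_inj fv0 (altK_conj_T _ (altK_conj_T _ ht'T)).1 (gen_mem 0).1 (by
        rw [cmap_altK (cyc3_zero ..), cmap_altK (cyc3_zero ..), hct', (gen_mem 0).2.2, ← h2])] at h1
  have hg : ∀ k, gen k ∈ L := fun k => by
    obtain ⟨σ, hσ⟩ := gen_conj k
    exact hσ ▸ hinv σ _ (gen_T 0) hg0
  intro t ht
  obtain ⟨b, rfl⟩ := exists_elT ht
  exact elT_mem_closure b hg

theorem relation_values :
    (fun i => pc 0 ((cyc3 0 1 2).1.symm i)) = mulC fv (pc 1) (pc 0) := by decide +kernel

/-- A conjugate of the first generator is the product of the first two. -/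
theorem gen_relation : altK (cyc3 0 1 2) * gen 0 * (altK (cyc3 0 1 2))⁻¹ = gen 1 * gen 0 :=
  cmap_inj fv0 (altK_conj_T _ (gen_T 0)).1 (mul_mem (gen_mem 1).1 (gen_mem 0).1) (by
    rw [cmap_altK (cyc3_zero ..), cmap_mul fv0 (gen_mem 1).1 (gen_mem 0).1, (gen_mem 0).2.2, (gen_mem 1).2.2,
      relation_values])

set_option maxRecDepth 100000 in
theorem fixed_first : ∀ b : Fin 4 → Bool, (fun i => cOf b ((cyc3 2 3 4).1.symm i)) = cOf b →
    (fun i => cOf b ((cyc3 0 1 2 * cyc3 1 2 3).1.symm i)) = cOf b → cOf b = 0 ∨ cOf b = pc 0 := by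
  decide +kernel

theorem fixes_first : (fun i => pc 0 ((cyc3 2 3 4).1.symm i)) = pc 0 ∧
    (fun i => pc 0 ((cyc3 0 1 2 * cyc3 1 2 3).1.symm i)) = pc 0 := by decide +kernel

theorem cyc3_prod_zero : (cyc3 0 1 2 * cyc3 1 2 3).1 0 = 0 := by decide +kernel

/-- Only the first generator shares its stabiliser. -/
theorem eq_gen_of_fixed {y : S} (hy : y ∈ T)
    (h : ∀ σ, altK σ * gen 0 * (altK σ)⁻¹ = gen 0 → altK σ * y * (altK σ)⁻¹ = y) : y = 1 ∨ y = gen 0 := by
  obtain ⟨b, rfl⟩ := exists_elT hy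
  have key : ∀ σ : alternatingGroup (Fin 6), σ.1 0 = 0 → (fun i => pc 0 (σ.1.symm i)) = pc 0 → (fun i => cOf b (σ.1.symm i)) = cOf b := by
    intro σ hσ h0
    have h1 := h σ (cmap_inj fv0 (altK_conj_T _ (gen_T 0)).1 (gen_mem 0).1 (by
      rw [cmap_altK hσ, (gen_mem 0).2.2, h0]))
    have h2 := congrArg cmap h1
    rwa [cmap_altK hσ, (elT_spec b).2] at h2
  rcases fixed_first b (key _ (cyc3_zero ..) fixes_first.1) (key _ cyc3_prod_zero fixes_first.2) with e | e
  · exact Or.inl (cmap_inj fv0 hy.1 (one_mem _) (by rw [(elT_spec b).2, e, cmap_one]))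
  · exact Or.inr (cmap_inj fv0 hy.1 (gen_mem 0).1 (by rw [(elT_spec b).2, e, (gen_mem 0).2.2]))

theorem gen_ne_one : gen 0 ≠ 1 := fun h => by
  have := congrArg cmap h
  rw [(gen_mem 0).2.2, cmap_one] at this
  exact absurd this (by decide +kernel)

end Cfsg.Agent.LargeExtra.Fischer
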