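import Cfsg.Agent.Lib.LargeExtra.Fischer.InnerOrbit
import Cfsg.Agent.Lib.Components.Fitting
import Cfsg.Agent.S1696
import Cfsg.Agent.S1713
import Cfsg.Agent.S2079

/-!
The centralizer of an involution of the small orbit: its subgroup of index two is a double cover of the
Fischer group on 22 points and the quotient by the involution is the automorphism group.
-/

set_option autoImplicit false
set_option linter.style.haveILetI false

namespace Cfsg.Agent.LargeExtra.Fischer

open Cfsg.Agent.InvChar.Coset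
open Cfsg.Agent.Components.UnitarySix
open Cfsg.Agent.MonsterOrbits (bigQ mem_bigQ ctr_bigQ mem_center_iff')
open Cfsg.Agent.LargeExtra.PairGraph (Pg Pg_conj IsMathieuSub mathieu)
open scoped commutatorElement

/-- An image of a quasisimple group is quasisimple or trivial. -/
theorem quasisimple_image {A B : Type*} [Group A] [Group B] (h : Cfsg.IsQuasisimple A) (f : A →* B)
    (hf : Function.Surjective f) (hne : Nontrivial B) : Cfsg.IsQuasisimple B := by
  haveI := h.1
  refine Components.Basic.isQuasisimple_of_normal (Group.IsPerfect.ofSurjective (f := f) hf) hne fun N hN => ?_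
  haveI := hN
  rcases Components.Basic.quasisimple_eq_top_or_le_center_of_normal h (N.comap f) with e | e
  · refine Or.inl ?_
    rw [← Subgroup.map_comap_eq_self_of_surjective hf N, e, Subgroup.map_top_of_surjective _ hf]
  · refine Or.inr fun y hy => ?_
    obtain ⟨a, rfl⟩ := hf y
    refine Subgroup.mem_center_iff.2 fun w => ?_
    obtain ⟨b, rfl⟩ := hf w
    rw [← map_mul, ← map_mul, Subgroup.mem_center_iff.1 (e (Subgroup.mem_comap.2 hy)) b]

/-- The property of the centralizer. -/
def CentProp {G : Type*} [Group G] (t : G) : Prop :=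
  ∀ (K : Subgroup ↥(Subgroup.centralizer ({t} : Set G))),
    K = Cfsg.generalizedFittingSubgroup ↥(Subgroup.centralizer ({t} : Set G)) →
    ∀ [((Subgroup.zpowers t).subgroupOf (Subgroup.centralizer ({t} : Set G))).Normal],
    Cfsg.IsQuasisimple ↥K ∧ K.index = 2 ∧
      (∃ htc : t ∈ Subgroup.centralizer ({t} : Set G), (⟨t, htc⟩ : ↥(Subgroup.centralizer ({t} : Set G))) ∈ K) ∧
      Nonempty (↥(Subgroup.centralizer ({t} : Set G)) ⧸
        (Subgroup.zpowers t).subgroupOf (Subgroup.centralizer ({t} : Set G)) ≃* MulAut Cfsg.Spor.Fi22)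

variable {G : Type*} [Group G] [Finite G]

theorem CentProp.conj {t : G} (c : G) (h : CentProp t) : CentProp (c * t * c⁻¹) := by
  intro K hK _
  set f := MulAut.conj c
  have hL : (Subgroup.centralizer ({t} : Set G)).map f.toMonoidHom =
      Subgroup.centralizer ({c * t * c⁻¹} : Set G) := by
    ext y
    rw [conj_sq_mem, Subgroup.mem_centralizer_singleton_iff, Subgroup.mem_centralizer_singleton_iff]
    constructor <;> intro e
    · calc y * (c * t * c⁻¹) = c * (c⁻¹ * y * c * t) * c⁻¹ := by group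
        _ = _ := by rw [e]; group
    · calc c⁻¹ * y * c * t = c⁻¹ * (y * (c * t * c⁻¹)) * c := by group
        _ = _ := by rw [e]; group
  let e : Subgroup.centralizer ({t} : Set G) ≃* Subgroup.centralizer ({c * t * c⁻¹} : Set G) :=
    (f.subgroupMap _).trans (MulEquiv.subgroupCongr hL)
  have he : ∀ y, ((e y : Subgroup.centralizer ({c * t * c⁻¹} : Set G)) : G) = c * (y : G) * c⁻¹ := fun y => rfl
  have hT : ((Subgroup.zpowers t).subgroupOf (Subgroup.centralizer ({t} : Set G))).map e.toMonoidHom =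
      (Subgroup.zpowers (c * t * c⁻¹)).subgroupOf _ := by
    ext y
    obtain ⟨x, rfl⟩ := e.surjective y
    rw [Subgroup.mem_subgroupOf, he, Subgroup.mem_map_equiv, e.symm_apply_apply, Subgroup.mem_subgroupOf,
      show Subgroup.zpowers (c * t * c⁻¹) = (Subgroup.zpowers t).map f.toMonoidHom from
        (MonoidHom.map_zpowers f.toMonoidHom t).symm, conj_sq_mem]
    rw [show c⁻¹ * (c * (x : G) * c⁻¹) * c = (x : G) by group]
  haveI : ((Subgroup.zpowers t).subgroupOf (Subgroup.centralizer ({t} : Set G))).Normal := by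
    have : (Subgroup.zpowers t).subgroupOf (Subgroup.centralizer ({t} : Set G)) =
        ((Subgroup.zpowers (c * t * c⁻¹)).subgroupOf _).comap e.toMonoidHom := by
      rw [← hT, Subgroup.comap_map_eq_self_of_injective e.injective]
    rw [this]
    infer_instance
  obtain ⟨hq, hi, ⟨ht, htK⟩, ⟨eA⟩⟩ := h _ rfl
  have hKe : (Cfsg.generalizedFittingSubgroup ↥(Subgroup.centralizer ({t} : Set G))).map e.toMonoidHom = K := by
    rw [hK, Cfsg.generalizedFittingSubgroup, Cfsg.generalizedFittingSubgroup, Subgroup.map_sup,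
      Components.Basic.layer_map_equiv, Components.Fitting.fitting_map_equiv]
  subst hKe
  refine ⟨(Components.Basic.isQuasisimple_congr (e.subgroupMap _)).1 hq, ?_, ⟨?_, ?_⟩,
    ⟨(QuotientGroup.congr _ _ e hT).symm.trans eA⟩⟩
  · rw [Subgroup.index_map_of_bijective (f := e.toMonoidHom) e.bijective]; exact hi
  · exact Subgroup.mem_centralizer_singleton_iff.2 rfl
  · exact ⟨⟨t, ht⟩, htK, Subtype.ext (he _)⟩

variable {z : G} {Q : Subgroup (Cz z)} [Q.Normal] {M : Subgroup (Cz z)}
variable (hS : Cfsg.IsExtraspecialCentralizerSetting z Q 6) {F : Frame z Q M} {W : Four F}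

namespace Inner

variable (I : Inner W)

/-- The subgroup inside the centralizer. -/
def K0 : Subgroup W.L := I.K.subgroupOf W.L

instance K0_normal : I.K0.Normal := Subgroup.normal_of_index_eq_two I.idx

include hS in
theorem t_mem_K : inQ Q W.t ∈ I.K := I.hC (W.E_le_C hS W.t_mem)

/-- The first member in it. -/
def tK : I.K0 := ⟨⟨inQ Q W.t, W.mem_L.2 rfl⟩, Subgroup.mem_subgroupOf.2 (I.t_mem_K hS)⟩

/-- The subgroup generated by it. -/
def T0 : Subgroup I.K0 := Subgroup.zpowers (I.tK hS)

theorem T0_le_center : I.T0 hS ≤ Subgroup.center I.K0 :=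
  Subgroup.zpowers_le.2 (Subgroup.mem_center_iff.2 fun k =>
    Subtype.ext (Subtype.ext (W.mem_L.1 k.1.2)))

instance T0_normal : (I.T0 hS).Normal := ⟨fun n hn g => by
  rw [Subgroup.mem_center_iff.1 (I.T0_le_center hS hn) g, mul_inv_cancel_right]; exact hn⟩

end Inner

/-- An involution with centralizer a quasisimple double cover of the unitary group, not weakly closed. -/
def HasUnitaryInvolution (A : Type*) [Group A] : Prop :=
  ∃ d : A, orderOf d = 2 ∧ Cfsg.IsQuasisimple ↥(Subgroup.centralizer ({d} : Set A)) ∧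
    (∃ (K : Type) (_ : Field K) (_ : Fintype K), Fintype.card K = 4 ∧
      ∃ _ : ((Subgroup.zpowers d).subgroupOf (Subgroup.centralizer ({d} : Set A))).Normal,
        Nonempty (↥(Subgroup.centralizer ({d} : Set A)) ⧸
          (Subgroup.zpowers d).subgroupOf (Subgroup.centralizer ({d} : Set A)) ≃* Cfsg.PSU 6 K 2)) ∧
    ∃ g, g * d * g⁻¹ ∈ Subgroup.centralizer ({d} : Set A) ∧ g * d * g⁻¹ ≠ d

/-- What is known about the subgroup of index two. -/
structure Fi22Data (I : Inner W) : Prop where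
  prop : CentProp (inQ Q W.t)
  qs : Cfsg.IsQuasisimple I.K0
  invol : HasUnitaryInvolution (I.K0 ⧸ I.T0 hS)
  realise : ∀ β : MulAut (I.K0 ⧸ I.T0 hS), ∃ g : W.L, ∀ k : I.K0,
    β (QuotientGroup.mk k) = QuotientGroup.mk (MulAut.conjNormal g k)

include hS in
theorem Inner.fi22Data (I : Inner W) {x : Cz z} (X : Scal F x) (d : IsMathieuSub z (AG hS F X))
    (hJ : ∀ T : Sylow 2 G, Cfsg.IsElementaryAbelian 2 (Cfsg.thompsonSubgroupOf 2 (T : Subgroup G)) ∧
      Nat.card (Cfsg.thompsonSubgroupOf 2 (T : Subgroup G)) = 2 ^ 11) : Fi22Data hS I := by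
  classical
  obtain ⟨m, hm, hmne, hmz⟩ := W.exists_mover hS X d
  obtain ⟨hqC, ⟨eU⟩⟩ := W.quasisimple hS hm hmne hmz
  haveI hsU : IsSimpleGroup (Cfsg.PSU 6 FF 2) :=
    Cfsg.Agent.Classical.Unitary.isSimpleGroup_PSU (show Fintype.card FF = 2 ^ 2 from rfl) (by norm_num) (by norm_num)
  obtain ⟨htt, huu, htu⟩ := W.sq hS
  obtain ⟨-, ⟨htne, -⟩, hune, -⟩ := W.mem_AG hS X
  set t := inQ Q W.t with htdef
  set u := inQ Q W.u with hudef
  have hTT : t * t = 1 := by rw [← map_mul, htt, map_one]
  have hUU : u * u = 1 := by rw [← map_mul, huu, map_one]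
  have hTU : t * u = u * t := by rw [← map_mul, ← map_mul, htu]
  have hzt : ∀ y ∈ Subgroup.zpowers t, y = 1 ∨ y = t := by
    rintro _ ⟨k, rfl⟩
    have h2 : t ^ (2 : ℤ) = 1 := by rw [zpow_two, hTT]
    rcases Int.even_or_odd' k with ⟨j, rfl | rfl⟩
    · exact Or.inl (by show t ^ (2 * j) = 1; rw [zpow_mul, h2, one_zpow])
    · exact Or.inr (by show t ^ (2 * j + 1) = t; rw [zpow_add_one, zpow_mul, h2, one_zpow, one_mul])
  have htu_ne : u ≠ t := fun e => line_distinct.2.2.2.1 (by
    rw [← W.hu, ← W.ht, (inQ_injective e : W.u = W.t)])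
  have huT : u ∉ Subgroup.zpowers t := fun h => (hzt u h).elim hune htu_ne
  set L := W.L
  set K0 := I.K0
  let tK : K0 := I.tK hS
  let T0 : Subgroup K0 := Subgroup.zpowers tK
  have hT0c : T0 ≤ Subgroup.center K0 := I.T0_le_center hS
  haveI hT0n : T0.Normal := I.T0_normal hS
  have hT0 : ∀ k : K0, k ∈ T0 ↔ ((k : L) : G) ∈ Subgroup.zpowers t := fun k => by
    have e : T0.map (L.subtype.comp K0.subtype) = Subgroup.zpowers t := MonoidHom.map_zpowers _ _
    rw [← e]
    exact (Subgroup.mem_map_iff_mem (f := L.subtype.comp K0.subtype)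
      fun a b h => Subtype.ext (Subtype.ext h)).symm
  have hCE : W.E ≤ W.C := W.E_le_C hS
  let ι : W.C →* K0 := MonoidHom.mk' (fun c =>
    ⟨⟨(c : G), W.C_le_L hS c.2⟩, Subgroup.mem_subgroupOf.2 (I.hC c.2)⟩) fun _ _ => rfl
  let uK : K0 := ι ⟨u, hCE W.u_mem⟩
  let π : K0 →* K0 ⧸ T0 := QuotientGroup.mk' T0
  have hπ : ∀ k, π k = 1 ↔ ((k : L) : G) ∈ Subgroup.zpowers t := fun k => by
    rw [← hT0, ← MonoidHom.mem_ker, QuotientGroup.ker_mk']
  have hπs : Function.Surjective π := QuotientGroup.mk'_surjective T0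
  set ub : K0 ⧸ T0 := π uK
  have hub1 : ub ≠ 1 := fun e => huT ((hπ uK).1 e)
  have hub : orderOf ub = 2 := orderOf_eq_prime (by
    rw [← map_pow, show uK ^ 2 = 1 from Subtype.ext (Subtype.ext (by
      show u ^ 2 = 1; rw [pow_two, hUU])), map_one]) hub1
  -- the centralizer of the image
  set Cb := Subgroup.centralizer ({ub} : Set (K0 ⧸ T0))
  have hcomm : ∀ k : K0, π k * ub * (π k)⁻¹ = ub ↔ ((k : L) : G) ∈ W.C := fun k => by
    constructor
    · intro e
      rw [← map_inv, ← map_mul, ← map_mul, ← inv_mul_eq_one, ← map_inv, ← map_mul, hπ] at e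
      change (((k : L) : G) * u * ((k : L) : G)⁻¹)⁻¹ * u ∈ Subgroup.zpowers t at e
      have hk : ((k : L) : G) ∈ I.K := Subgroup.mem_subgroupOf.1 k.2
      rcases hzt _ e with e | e
      · exact Inner.mem_C hS k.1.2 (inv_mul_eq_one.1 e)
      · refine absurd ?_ (I.not_swap hS X d hJ hk)
        show ((k : L) : G) * u * ((k : L) : G)⁻¹ = t * u
        have e' : u = ((k : L) : G) * u * ((k : L) : G)⁻¹ * t := by rw [← e, mul_inv_cancel_left]
        calc ((k : L) : G) * u * ((k : L) : G)⁻¹ = ((k : L) : G) * u * ((k : L) : G)⁻¹ * (t * t) := by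
              rw [hTT, mul_one]
          _ = u * t := by rw [← mul_assoc, ← e']
          _ = _ := hTU.symm
    · intro hk
      rw [← map_inv, ← map_mul, ← map_mul]
      refine congrArg π (Subtype.ext (Subtype.ext ?_))
      show ((k : L) : G) * u * ((k : L) : G)⁻¹ = u
      rw [((W.mem_C hS).1 hk).2, mul_inv_cancel_right]
  let φC : W.C →* Cb := (π.comp ι).codRestrict Cb fun c =>
    Subgroup.mem_centralizer_singleton_iff.2 (mul_inv_eq_iff_eq_mul.1 ((hcomm (ι c)).2 c.2))
  have hφs : Function.Surjective φC := by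
    rintro ⟨w, hw⟩
    obtain ⟨k, rfl⟩ := hπs w
    refine ⟨⟨_, (hcomm k).1 (mul_inv_eq_iff_eq_mul.2 (Subgroup.mem_centralizer_singleton_iff.1 hw))⟩, rfl⟩
  have hφker : φC.ker ≤ (QuotientGroup.mk' W.E').ker := fun c hc => by
    rw [QuotientGroup.ker_mk', Four.E', Subgroup.mem_subgroupOf]
    rcases hzt _ ((hπ (ι c)).1 (congrArg Subtype.val (MonoidHom.mem_ker.1 hc))) with e | e
    · exact (show (c : G) = 1 from e) ▸ one_mem _
    · exact (show (c : G) = t from e) ▸ W.t_mem
  let ψb : Cb →* W.C ⧸ W.E' := φC.liftOfSurjective hφs ⟨QuotientGroup.mk' W.E', hφker⟩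
  have hψ : ∀ c, ψb (φC c) = QuotientGroup.mk c := fun c => MonoidHom.liftOfRightInverse_comp_apply _ _ _ _ c
  haveI : Nontrivial (W.C ⧸ W.E') := eU.toEquiv.nontrivial
  have hψs : Function.Surjective ψb := fun y => by
    obtain ⟨c, rfl⟩ := QuotientGroup.mk_surjective y
    exact ⟨φC c, hψ c⟩
  haveI : Nontrivial Cb := hψs.nontrivial
  have hqb : Cfsg.IsQuasisimple Cb := quasisimple_image hqC φC hφs inferInstance
  have hψker : ψb.ker = (Subgroup.zpowers ub).subgroupOf Cb := by
    refine le_antisymm (fun y hy => ?_) fun y hy => ?_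
    · obtain ⟨c, rfl⟩ := hφs y
      rw [MonoidHom.mem_ker, hψ, QuotientGroup.eq_one_iff, Four.E', Subgroup.mem_subgroupOf] at hy
      obtain ⟨q, hq, e⟩ := hy
      rw [Subgroup.mem_subgroupOf]
      have e' : (c : G) = inQ Q q := e.symm
      show π (ι c) ∈ Subgroup.zpowers ub
      rcases W.mem_qs hS hq with h | h | h | h <;> rw [h] at e'
      · rw [(hπ (ι c)).2 (by show (c : G) ∈ _; rw [e', map_one]; exact one_mem _)]
        exact one_mem _
      · rw [(hπ (ι c)).2 (by show (c : G) ∈ _; rw [e']; exact Subgroup.mem_zpowers t)]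
        exact one_mem _
      · rw [show ι c = uK from Subtype.ext (Subtype.ext e')]
        exact Subgroup.mem_zpowers ub
      · rw [show ι c = tK * uK from Subtype.ext (Subtype.ext (e'.trans (map_mul _ _ _))), map_mul,
          (hπ tK).2 (Subgroup.mem_zpowers t), one_mul]
        exact Subgroup.mem_zpowers ub
    · obtain ⟨j, hj⟩ := Subgroup.mem_subgroupOf.1 hy
      have hub' : ub ∈ Cb := Subgroup.mem_centralizer_singleton_iff.2 rfl
      rw [show y = (⟨ub, hub'⟩ : Cb) ^ j from Subtype.ext (hj.symm.trans (by simp))]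
      refine Subgroup.zpow_mem _ (MonoidHom.mem_ker.2 ?_) j
      rw [show (⟨ub, hub'⟩ : Cb) = φC ⟨u, hCE W.u_mem⟩ from rfl, hψ, QuotientGroup.eq_one_iff]
      exact Subgroup.mem_subgroupOf.2 W.u_mem
  haveI hnb : ((Subgroup.zpowers ub).subgroupOf Cb).Normal := hψker ▸ ψb.normal_ker
  let eb := ((QuotientGroup.quotientMulEquivOfEq hψker.symm).trans
    (QuotientGroup.quotientKerEquivOfSurjective ψb hψs)).trans eU
  obtain ⟨k0, hk0, hne1, hne2, hk0c⟩ := I.exists_move hS X d
  let kK : K0 := ⟨⟨k0, I.le hk0⟩, Subgroup.mem_subgroupOf.2 hk0⟩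
  have hkne : π kK * ub * (π kK)⁻¹ ≠ ub := fun e => hne1 (by
    rw [((W.mem_C hS).1 ((hcomm kK).1 e)).2, mul_inv_cancel_right])
  have hnwc : ∃ g : K0 ⧸ T0, g * ub * g⁻¹ ∈ Cb ∧ g * ub * g⁻¹ ≠ ub := by
    refine ⟨π kK, Subgroup.mem_centralizer_singleton_iff.2 ?_, hkne⟩
    rw [← map_inv, ← map_mul, ← map_mul, ← map_mul, ← map_mul]
    exact congrArg π (Subtype.ext (Subtype.ext hk0c.eq))
  obtain ⟨eFi⟩ := S1713.result ub hub hqb FF rfl eb hnwc
  obtain ⟨hsim, -⟩ := S1696.result
  haveI := hsim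
  haveI : Nontrivial (K0 ⧸ T0) := ⟨ub, 1, hub1⟩
  haveI hsimK : IsSimpleGroup (K0 ⧸ T0) :=
    IsSimpleGroup.isSimpleGroup_of_surjective eFi.symm.toMonoidHom eFi.symm.surjective
  have hcen : Subgroup.center (K0 ⧸ T0) = ⊥ :=
    ((inferInstance : (Subgroup.center (K0 ⧸ T0)).Normal).eq_bot_or_eq_top).resolve_right fun h => hkne
      (mul_inv_eq_iff_eq_mul.2 (Subgroup.mem_center_iff.1 (h.ge (Subgroup.mem_top ub)) (π kK)))
  have hperfb : commutator (K0 ⧸ T0) = ⊤ := by
    refine ((inferInstance : (commutator (K0 ⧸ T0)).Normal).eq_bot_or_eq_top).resolve_left fun h => hkne ?_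
    exact mul_inv_eq_iff_eq_mul.2 (commutatorElement_eq_one_iff_mul_comm.1 (Subgroup.mem_bot.1
      (h.le (Subgroup.commutator_mem_commutator (Subgroup.mem_top (π kK)) (Subgroup.mem_top ub)))))
  haveI := hqC.1
  have htcomm : T0 ≤ commutator K0 := Subgroup.zpowers_le.2 (by
    have h : (⟨t, hCE W.t_mem⟩ : W.C) ∈ commutator W.C :=
      (Group.IsPerfect.commutator_eq_top (G := W.C)).ge (Subgroup.mem_top _)
    have h' : ι ⟨t, hCE W.t_mem⟩ ∈ (commutator W.C).map ι := ⟨_, h, rfl⟩
    rw [_root_.commutator_def, Subgroup.map_commutator] at h'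
    exact Subgroup.commutator_mono le_top le_top h')
  have hperf : commutator K0 = ⊤ := by
    have h : (commutator K0).map π = ⊤ := by
      rw [_root_.commutator_def, Subgroup.map_commutator, Subgroup.map_top_of_surjective _ hπs,
        ← _root_.commutator_def, hperfb]
    have h' := congrArg (Subgroup.comap π) h
    rwa [Subgroup.comap_map_eq, QuotientGroup.ker_mk', sup_eq_left.2 htcomm, Subgroup.comap_top] at h'
  haveI hpK : Group.IsPerfect K0 := ⟨hperf⟩
  haveI : Nontrivial K0 := hπs.nontrivial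
  have hqK : Cfsg.IsQuasisimple K0 := by
    refine Components.Basic.isQuasisimple_of_normal hpK inferInstance fun N hN => ?_
    rcases (hN.map π hπs).eq_bot_or_eq_top with h | h
    · rw [Subgroup.map_eq_bot_iff, QuotientGroup.ker_mk'] at h
      exact Or.inr (h.trans hT0c)
    · left
      have h' := congrArg (Subgroup.comap π) h
      rw [Subgroup.comap_map_eq, QuotientGroup.ker_mk', Subgroup.comap_top] at h'
      haveI := hN
      haveI : IsMulCommutative T0 := ⟨⟨fun a b => Subtype.ext (Subgroup.mem_center_iff.1 (hT0c b.2) a)⟩⟩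
      rw [eq_top_iff, ← hperf]
      exact Subgroup.Normal.commutator_le_of_self_sup_commutative_eq_top h' inferInstance
  -- the action on the quotient
  let T1 := (Subgroup.zpowers t).subgroupOf L
  have hcong : ∀ g : L, T0.map (MulAut.conjNormal g : MulAut K0).toMonoidHom = T0 := fun g => by
    rw [MonoidHom.map_zpowers]
    congr 1
    refine Subtype.ext (Subtype.ext ?_)
    show (((MulAut.conjNormal g) tK : L) : G) = t
    rw [MulAut.conjNormal_apply]
    show (g : G) * t * (g : G)⁻¹ = t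
    rw [W.mem_L.1 g.2, mul_inv_cancel_right]
  let α : L →* MulAut (K0 ⧸ T0) := MonoidHom.mk'
    (fun g => QuotientGroup.congr T0 T0 (MulAut.conjNormal g) (hcong g)) fun g h => by
      ext w
      obtain ⟨k, rfl⟩ := QuotientGroup.mk_surjective w
      show QuotientGroup.mk' T0 (MulAut.conjNormal (g * h) k) =
        QuotientGroup.mk' T0 (MulAut.conjNormal g (MulAut.conjNormal h k))
      rw [map_mul]; rfl
  have hα : ∀ g k, α g (π k) = π (MulAut.conjNormal g k) := fun g k => rfl
  have hαker : α.ker = T1 := by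
    refine le_antisymm (fun g hg => ?_) fun g hg => ?_
    · have hfix : ∀ k : K0, π (MulAut.conjNormal g k) = π k := fun k => by
        rw [← hα, MonoidHom.mem_ker.1 hg]; rfl
      have hb : ∀ c : W.C, (g : G) * c * (g : G)⁻¹ * (c : G)⁻¹ ∈ Subgroup.zpowers t := fun c => by
        have := (hπ (MulAut.conjNormal g (ι c) * (ι c)⁻¹)).1 (by rw [map_mul, map_inv, hfix, mul_inv_cancel])
        simpa [MulAut.conjNormal_apply, ι] using this
      have hctr : ∀ y ∈ Subgroup.zpowers t, ∀ c : G, c * t = t * c → c * y = y * c := fun y hy c hc => by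
        rcases hzt y hy with rfl | rfl
        · rw [one_mul, mul_one]
        · exact hc
      let χ : W.C →* Subgroup.zpowers t := MonoidHom.mk'
        (fun c => ⟨(g : G) * c * (g : G)⁻¹ * (c : G)⁻¹, hb c⟩) fun a b => Subtype.ext (by
          have e := hctr _ (hb b) a ((W.mem_C hS).1 a.2).1
          calc (g : G) * (a * b : W.C) * (g : G)⁻¹ * ((a * b : W.C) : G)⁻¹
              = (g : G) * a * (g : G)⁻¹ * ((g : G) * b * (g : G)⁻¹ * (b : G)⁻¹) * (a : G)⁻¹ := by
                push_cast; group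
            _ = (g : G) * a * (g : G)⁻¹ * (a : G)⁻¹ * ((a : G) * ((g : G) * b * (g : G)⁻¹ * (b : G)⁻¹) *
                (a : G)⁻¹) := by group
            _ = _ := by rw [e, mul_inv_cancel_right]; rfl)
      have hχ : commutator W.C ≤ χ.ker := by
        haveI : IsMulCommutative (Subgroup.zpowers t) := inferInstance
        rw [_root_.commutator_def, Subgroup.commutator_le]
        intro a _ b _
        rw [MonoidHom.mem_ker, map_commutatorElement, commutatorElement_eq_one_iff_mul_comm]
        exact mul_comm' _ _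
      have hu' := congrArg Subtype.val (MonoidHom.mem_ker.1 (hχ
        ((Group.IsPerfect.commutator_eq_top (G := W.C)).ge (Subgroup.mem_top ⟨u, hCE W.u_mem⟩))))
      have hgu : (g : G) * u * (g : G)⁻¹ = u := mul_inv_eq_one.1 hu'
      have hgC : (g : G) ∈ W.C := Inner.mem_C hS g.2 hgu
      let gK : K0 := ⟨g, Subgroup.mem_subgroupOf.2 (I.hC hgC)⟩
      have hcg : π gK ∈ Subgroup.center (K0 ⧸ T0) := Subgroup.mem_center_iff.2 fun w => by
        obtain ⟨k, rfl⟩ := hπs w
        have e := hfix k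
        rw [show MulAut.conjNormal g k = gK * k * gK⁻¹ from Subtype.ext (by
          rw [MulAut.conjNormal_apply]; rfl), map_mul, map_mul, map_inv, mul_inv_eq_iff_eq_mul] at e
        exact e.symm
      rw [hcen, Subgroup.mem_bot, hπ] at hcg
      exact Subgroup.mem_subgroupOf.2 hcg
    · refine MonoidHom.mem_ker.2 (MulEquiv.ext fun w => ?_)
      obtain ⟨k, rfl⟩ := hπs w
      rw [hα]
      refine congrArg π (Subtype.ext (Subtype.ext ?_))
      rw [MulAut.conjNormal_apply]
      show (g : G) * ((k : L) : G) * (g : G)⁻¹ = ((k : L) : G)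
      rcases hzt _ (Subgroup.mem_subgroupOf.1 hg) with e | e <;> rw [e]
      · rw [one_mul, inv_one, mul_one]
      · rw [← W.mem_L.1 k.1.2, mul_inv_cancel_right]
  have hidx : K0.index = 2 := I.idx
  have hcT : Nat.card T0 = Nat.card T1 := by
    rw [Nat.card_zpowers, Nat.card_congr (Subgroup.subgroupOfEquivOfLe (Subgroup.zpowers_le.2
      (W.mem_L.2 rfl : t ∈ L))).toEquiv, Nat.card_zpowers,
      ← orderOf_injective (L.subtype.comp K0.subtype) (fun a b h => Subtype.ext (Subtype.ext h)) tK]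
    rfl
  have hcL : Nat.card (L ⧸ T1) = 2 * Nat.card (K0 ⧸ T0) := by
    refine Nat.eq_of_mul_eq_mul_right (Nat.card_pos (α := T1)) ?_
    rw [← Subgroup.card_eq_card_quotient_mul_card_subgroup, ← hcT, mul_assoc,
      ← Subgroup.card_eq_card_quotient_mul_card_subgroup, ← hidx, mul_comm, Subgroup.card_mul_index]
  have hcA : Nat.card (MulAut (K0 ⧸ T0)) = 2 * Nat.card (K0 ⧸ T0) := by
    have e : Nat.card (MulAut (K0 ⧸ T0)) = Nat.card (Cfsg.Out (K0 ⧸ T0)) * Nat.card (Cfsg.Inn (K0 ⧸ T0)) :=
      Subgroup.card_eq_card_quotient_mul_card_subgroup _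
    have hinj : Function.Injective (MulAut.conj : (K0 ⧸ T0) →* MulAut (K0 ⧸ T0)) := by
      rw [← MonoidHom.ker_eq_bot_iff, eq_bot_iff, ← hcen]
      intro a ha
      refine Subgroup.mem_center_iff.2 fun w => ?_
      have h := DFunLike.congr_fun (MonoidHom.mem_ker.1 ha) w
      exact (mul_inv_eq_iff_eq_mul.1 (show a * w * a⁻¹ = w from h)).symm
    have hout : Nat.card (Cfsg.Out (K0 ⧸ T0)) = 2 := by
      rw [← S2079.result]
      refine Nat.card_congr (QuotientGroup.congr _ _ (MulAut.congr eFi) ?_).toEquiv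
      refine le_antisymm ?_ ?_
      · rintro _ ⟨_, ⟨a, rfl⟩, rfl⟩
        exact ⟨eFi a, MulEquiv.ext fun w => by simp [MulAut.congr]⟩
      · rintro _ ⟨a, rfl⟩
        exact ⟨MulAut.conj (eFi.symm a), ⟨_, rfl⟩, MulEquiv.ext fun w => by simp [MulAut.congr]⟩
    rw [e, hout, Nat.card_congr (MonoidHom.ofInjective hinj).toEquiv.symm]
  haveI hT1n : T1.Normal := hαker ▸ α.normal_ker
  let αb : L ⧸ T1 →* MulAut (K0 ⧸ T0) := QuotientGroup.lift T1 α hαker.ge
  haveI : Finite (MulAut (K0 ⧸ T0)) :=
    Finite.of_injective (fun σ : MulAut (K0 ⧸ T0) => (σ : K0 ⧸ T0 → K0 ⧸ T0)) DFunLike.coe_injective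
  have hbij : Function.Bijective αb := (Nat.bijective_iff_injective_and_card _).2 ⟨by
    rw [← MonoidHom.ker_eq_bot_iff, eq_bot_iff]
    intro y hy
    obtain ⟨g, rfl⟩ := QuotientGroup.mk_surjective y
    exact (QuotientGroup.eq_one_iff g).2 (hαker.le hy), hcL.trans hcA.symm⟩
  -- the generalized Fitting subgroup
  have hKeq : Cfsg.generalizedFittingSubgroup L = K0 := by
    refine le_antisymm (sup_le (Components.Basic.layer_le fun X hX => ?_) (sSup_le fun R hR => ?_))
      (le_sup_of_le_left (Components.Basic.le_layer ⟨Subgroup.Normal.isSubnormal inferInstance, hqK⟩))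
    · rw [← Components.Basic.component_commutator_self hX, Subgroup.commutator_le]
      intro a _ b _
      rw [commutatorElement_def]
      simp [Subgroup.mul_mem_iff_of_index_two hidx]
      tauto
    · obtain ⟨hRn, hRnil⟩ := hR
      haveI := hRn
      haveI := hRnil
      have hsub : (R.subgroupOf K0) ≤ T0 := by
        have hm := (inferInstance : (R.subgroupOf K0).Normal).map π hπs
        rcases hm.eq_bot_or_eq_top with h | h
        · rwa [Subgroup.map_eq_bot_iff, QuotientGroup.ker_mk'] at h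
        · exfalso
          have h' := congrArg (Subgroup.comap π) h
          rw [Subgroup.comap_map_eq, QuotientGroup.ker_mk', Subgroup.comap_top] at h'
          haveI : IsMulCommutative T0 := ⟨⟨fun a b => Subtype.ext (Subgroup.mem_center_iff.1 (hT0c b.2) a)⟩⟩
          have htop : R.subgroupOf K0 = ⊤ := eq_top_iff.2 (hperf ▸
            Subgroup.Normal.commutator_le_of_self_sup_commutative_eq_top h' inferInstance)
          have hle : K0 ≤ R := Subgroup.subgroupOf_eq_top.1 htop
          haveI : Group.IsNilpotent K0 := Group.nilpotent_of_mulEquiv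
            ((Subgroup.subgroupOfEquivOfLe hle) : K0.subgroupOf R ≃* K0)
          exact Components.Basic.quasisimple_not_isSolvable hqK inferInstance
      intro r hr
      refine (show r ∈ T1 → r ∈ K0 from fun h => ?_) (hαker.le (MonoidHom.mem_ker.2 (MulEquiv.ext fun w => ?_)))
      · rcases hzt _ (Subgroup.mem_subgroupOf.1 h) with e | e
        · rw [show r = 1 from Subtype.ext e]; exact one_mem _
        · exact Subgroup.mem_subgroupOf.2 (e ▸ I.t_mem_K hS)
      · obtain ⟨k, rfl⟩ := hπs w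
        rw [hα]
        show π (MulAut.conjNormal r k) = π k
        rw [← mul_inv_eq_one, ← map_inv, ← map_mul, hπ, ← hT0]
        refine hsub (Subgroup.mem_subgroupOf.2 ?_)
        rw [Subgroup.coe_mul, InvMemClass.coe_inv, MulAut.conjNormal_apply, mul_assoc r, mul_assoc r]
        exact mul_mem hr (hRn.conj_mem _ (inv_mem hr) _)
  refine ⟨fun K hK hn => ?_, hqK, ⟨ub, hub, hqb, ⟨FF, inferInstance, inferInstance, rfl, hnb, ⟨eb⟩⟩, hnwc⟩,
    fun β => ?_⟩
  · have hK' := hK.trans hKeq
    subst hK'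
    exact ⟨hqK, hidx, ⟨W.mem_L.2 rfl, Subgroup.mem_subgroupOf.2 (I.t_mem_K hS)⟩,
      ⟨(MulEquiv.ofBijective αb hbij).trans (MulAut.congr eFi)⟩⟩
  · obtain ⟨y, rfl⟩ := hbij.2 β
    obtain ⟨g, rfl⟩ := QuotientGroup.mk_surjective y
    exact ⟨g, fun k => rfl⟩

include hS in
theorem Four.centProp (W : Four F) {x : Cz z} (X : Scal F x) (d : IsMathieuSub z (AG hS F X))
    (hJ : ∀ T : Sylow 2 G, Cfsg.IsElementaryAbelian 2 (Cfsg.thompsonSubgroupOf 2 (T : Subgroup G)) ∧
      Nat.card (Cfsg.thompsonSubgroupOf 2 (T : Subgroup G)) = 2 ^ 11) : CentProp (inQ Q W.t) := by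
  obtain ⟨I⟩ := W.exists_inner hS X d
  exact (I.fi22Data hS X d hJ).prop

end Cfsg.Agent.LargeExtra.Fischer
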