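import Cfsg.Agent.Lib.LargeExtra.Fischer.Line
import Cfsg.Agent.Lib.LargeExtra.Affine
import Cfsg.Agent.Lib.LargeExtra.Fischer.ANorm
import Cfsg.Agent.Lib.Fusion.Normal
import Cfsg.Agent.S0822

/-!
A four-group in the extraspecial group above a point of the small orbit, and the centralizer of the
central involution in its centralizer.
-/

set_option autoImplicit false

namespace Cfsg.Agent.LargeExtra.Fischer

open Cfsg.Agent.InvChar.Coset
open Cfsg.Agent.Components.UnitarySix
open Cfsg.Agent.MonsterOrbits (bigQ mem_bigQ ctr_bigQ mem_center_iff')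
open scoped commutatorElement

section Facts

theorem line_InO : ∀ l : FF, l ≠ 0 → InO FF.w (l • e01) := by decide +kernel

theorem line_trace : ∀ l m : FF, trH (l • e01) (m • e01) = 0 ∧ H (l • e01) (l • e01) = 0 := by decide +kernel

theorem line_distinct : e01 ≠ 0 ∧ FF.w • e01 ≠ 0 ∧ e01 + FF.w • e01 = FF.w2 • e01 ∧ e01 ≠ FF.w • e01 ∧
    FF.w2 • e01 ≠ 0 := by
  decide +kernel

theorem trace_line : ∀ a : FF, (a + a ^ 2 = 0 ∧ FF.w2 * a + FF.w * a ^ 2 = 0) ↔ a = 0 := by decide

theorem trH_line (y : V) (l : FF) : trH y (l • e01) = l ^ 2 * H y e01 + l * H e01 y := by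
  rw [trH]
  simp only [Cfsg.hermForm, Pi.smul_apply, smul_eq_mul, mul_pow, Finset.mul_sum]
  congr 1 <;> refine Finset.sum_congr rfl fun i _ => ?_ <;> ring

theorem H_e01_symm (y : V) : H e01 y = H y e01 ^ 2 := by
  rw [H_e01]
  simp [e01, Cfsg.hermForm, Fin.sum_univ_six, Pi.single_apply]
  generalize y 0 = a, y 1 = b
  revert a b
  decide

theorem orth_line (y : V) :
    (trH y e01 = 0 ∧ trH y (FF.w • e01) = 0) ↔ H y e01 = 0 := by
  rw [← trace_line (H y e01)]
  conv_lhs => rw [show trH y e01 = trH y ((1 : FF) • e01) by rw [one_smul], trH_line, trH_line, H_e01_symm]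
  rw [one_pow, one_mul, one_mul, show (FF.w : FF) ^ 2 = FF.w2 from rfl]

theorem correctors :
    (trH (e 0) e01 = 0 ∧ trH (e 0) (FF.w • e01) = 1) ∧
      (trH (FF.w • e 0) e01 = 1 ∧ trH (FF.w • e 0) (FF.w • e01) = 0) := by
  decide +kernel

theorem coord_trace : ∀ a : FF, (∀ l : FF, a * l ^ 2 + a ^ 2 * l = 0) → a = 0 := by decide

theorem orth_radical {x : V} (hx : H x e01 = 0)
    (h : ∀ y : V, H y e01 = 0 → trH x y = 0) : x = x 0 • e01 := by
  have hi : ∀ i : Fin 4, x i.succ.succ = 0 := fun i => coord_trace _ fun l => by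
    have h1 := h (ext4 (Pi.single i l)) (ext4_orth _)
    rw [trH] at h1
    have e1 : H x (ext4 (Pi.single i l)) = x i.succ.succ * l ^ 2 ∧
        H (ext4 (Pi.single i l)) x = l * x i.succ.succ ^ 2 := by
      constructor <;>
      · simp [Cfsg.hermForm, ext4, Fin.sum_univ_succ (n := 5), Fin.sum_univ_succ (n := 4), Pi.single_apply]
    rw [e1.1, e1.2, mul_comm l] at h1
    exact h1
  conv_lhs => rw [e01_orth_eq hx]
  rw [show tail4 x = 0 from funext hi, add_eq_right]
  funext i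
  refine Fin.cases rfl (fun j => Fin.cases rfl (fun k => rfl) j) i

theorem dS_shift : ∀ l : FF, dS • e 2 + e 2 ≠ l • e01 := by decide +kernel

theorem e2_orth : H (e 2) e01 = 0 ∧ H (FF.w • e 2) e01 = 0 ∧ trH (e 2) (FF.w • e 2) = 1 := by
  decide +kernel

end Facts

variable {G : Type*} [Group G] [Finite G] {z : G} {Q : Subgroup (Cz z)} [Q.Normal] {M : Subgroup (Cz z)}

/-- The extraspecial group in the whole group. -/
def inQ (Q : Subgroup (Cz z)) : Q →* G := (Cz z).subtype.comp Q.subtype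

omit [Finite G] [Q.Normal] in
theorem inQ_injective : Function.Injective (inQ Q) := fun _ _ e => Subtype.ext (Subtype.ext e)

theorem inQ_mem (q : Q) : inQ Q q ∈ bigQ Q := mem_bigQ.2 ⟨(q : Cz z).2, q.2⟩

variable (hS : Cfsg.IsExtraspecialCentralizerSetting z Q 6) (F : Frame z Q M)

include hS in
/-- Commutation is the trace of the form. -/
theorem commute_iff_trace (q d : Q) : q * d = d * q ↔ trH (F.φ q) (F.φ d) = 0 := by
  obtain ⟨hzC, hzQ⟩ := zmem hS
  set zq : Q := ⟨⟨z, hzC⟩, hzQ hzC⟩ with hzq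
  have hcen : ∀ c, c ∈ Subgroup.center Q → c = 1 ∨ c = zq := fun c hc =>
    ((mem_center_iff' hS).1 hc).imp (fun e => Subtype.ext (Subtype.ext e)) fun e => Subtype.ext (Subtype.ext e)
  have hzz : zq * zq = 1 := Subtype.ext (Subtype.ext (by
    show z * z = 1
    rw [← pow_two, ← hS.1, pow_orderOf_eq_one]))
  have hz1 : zq ≠ 1 := fun e => (ctr_bigQ hS).ne_one (congrArg (fun c : Q => ((c : Cz z) : G)) e)
  have hzc : zq ∈ Subgroup.center Q := (mem_center_iff' hS).2 (Or.inr rfl)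
  have hsq : ∀ r : Q, r * r = 1 ∧ H (F.φ r) (F.φ r) = 0 ∨ r * r = zq ∧ H (F.φ r) (F.φ r) = 1 := fun r => by
    have hr : r * r ∈ Subgroup.center Q := (F.zero _).1 (by rw [F.φ_mul, V_add_self])
    rcases hcen _ hr with e | e
    · exact Or.inl ⟨e, (F.form r).1 e⟩
    · exact Or.inr ⟨e, (H_self_cases _).resolve_left fun h => hz1 (e.symm.trans ((F.form r).2 h))⟩
  have hadd : H (F.φ (q * d)) (F.φ (q * d)) = H (F.φ q) (F.φ q) + trH (F.φ q) (F.φ d) + H (F.φ d) (F.φ d) := by
    rw [F.φ_mul, H_add_self]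
  have h11 : (1 : FF) + 1 = 0 := by decide
  constructor
  · intro h
    have h2 : q * d * (q * d) = q * q * (d * d) := by
      calc q * d * (q * d) = q * (d * q) * d := by group
        _ = q * (q * d) * d := by rw [h]
        _ = q * q * (d * d) := by group
    rcases hsq q with ⟨a, a'⟩ | ⟨a, a'⟩ <;> rcases hsq d with ⟨b, b'⟩ | ⟨b, b'⟩ <;>
      rcases hsq (q * d) with ⟨c, c'⟩ | ⟨c, c'⟩ <;>
      rw [a', b', c'] at hadd <;> rw [a, b, c] at h2 <;>
      first
        | (revert hadd; generalize trH (F.φ q) (F.φ d) = t; revert t; decide)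
        | simp [hzz, hz1, Ne.symm hz1] at h2
  · intro h
    have hphi : F.φ (q⁻¹ * d * q) = F.φ d := by
      rw [F.φ_mul, F.φ_mul, φ_inv' F, add_comm (F.φ q) (F.φ d), add_assoc, V_add_self, add_zero]
    rcases F.eq_or_mul_z hS hphi.symm with e | e
    · have e' : q⁻¹ * d * q = d := Subtype.ext (Subtype.ext e)
      calc q * d = q * (q⁻¹ * d * q) := by rw [e']
        _ = d * q := by group
    · exfalso
      have e' : q⁻¹ * d * q = d * zq := Subtype.ext (Subtype.ext e)
      have h2 : q * d * (q * d) = q * q * (d * d * zq) := by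
        calc q * d * (q * d) = q * q * (q⁻¹ * d * q) * d := by group
          _ = q * q * (d * zq * d) := by rw [e']; group
          _ = q * q * (d * (zq * d)) := by group
          _ = q * q * (d * (d * zq)) := by rw [Subgroup.mem_center_iff.1 hzc d]
          _ = _ := by group
      rw [h] at hadd
      rcases hsq q with ⟨a, a'⟩ | ⟨a, a'⟩ <;> rcases hsq d with ⟨b, b'⟩ | ⟨b, b'⟩ <;>
        rcases hsq (q * d) with ⟨c, c'⟩ | ⟨c, c'⟩ <;>
        rw [a', b', c'] at hadd <;> rw [a, b, c] at h2 <;>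
        first
          | exact absurd hadd (by decide)
          | simp [hzz, hz1, Ne.symm hz1] at h2

include hS in
/-- Involutions of the small orbit are not conjugate to the central one. -/
theorem not_conj_of_InO {q : Q} (h : InO FF.w (F.φ q)) : ¬ IsConj z (inQ Q q) := by
  intro hc
  obtain ⟨g, hg⟩ := isConj_iff.1 hc
  obtain ⟨-, hne⟩ := invol_of_iso hS F (InO_Iso h)
  exact (O1_of_conj hS F (g := g) (a := q) (hg ▸ inQ_mem q) (fun e => hne (hg.symm.trans e)) hg.symm).2 h

/-- Two members above a line. -/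
structure Four (F : Frame z Q M) where
  /-- the first -/
  t : Q
  /-- the second -/
  u : Q
  ht : F.φ t = e01
  hu : F.φ u = FF.w • e01

theorem exists_four : Nonempty (Four F) := by
  obtain ⟨t, ht⟩ := F.surj e01
  obtain ⟨u, hu⟩ := F.surj (FF.w • e01)
  exact ⟨⟨t, u, ht, hu⟩⟩

variable {F} (W : Four F)

namespace Four

include hS in
theorem sq : W.t * W.t = 1 ∧ W.u * W.u = 1 ∧ W.t * W.u = W.u * W.t := by
  refine ⟨(F.form _).2 ?_, (F.form _).2 ?_, (commute_iff_trace hS F _ _).2 ?_⟩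
  · rw [W.ht, ← one_smul FF e01]; exact (line_trace 1 1).2
  · rw [W.hu]; exact (line_trace _ 1).2
  · rw [W.ht, W.hu, ← one_smul FF e01]; exact (line_trace 1 _).1

/-- The four elements. -/
def qs : Set Q := {1, W.t, W.u, W.t * W.u}

/-- The four-group. -/
def E : Subgroup G := (Subgroup.closure W.qs).map (inQ Q)

theorem t_mem : inQ Q W.t ∈ W.E := ⟨_, Subgroup.subset_closure (by simp [qs]), rfl⟩

theorem u_mem : inQ Q W.u ∈ W.E := ⟨_, Subgroup.subset_closure (by simp [qs]), rfl⟩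

theorem le_bigQ : W.E ≤ bigQ Q := by rintro _ ⟨q, -, rfl⟩; exact inQ_mem q

include hS in
theorem mem_qs {q : Q} (hq : q ∈ Subgroup.closure W.qs) : q ∈ W.qs := by
  obtain ⟨h1, h2, h3⟩ := W.sq hS
  have h3' : Commute W.t W.u := h3
  refine Subgroup.closure_induction (fun x hx => hx) (by simp [qs]) (fun x y _ _ hx hy => ?_) (fun x _ hx => ?_) hq
  · simp only [qs, Set.mem_insert_iff, Set.mem_singleton_iff] at hx hy ⊢
    have a1 : ∀ r, W.t * (W.t * r) = r := fun r => by rw [← mul_assoc, h1, one_mul]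
    have a2 : ∀ r, W.u * (W.u * r) = r := fun r => by rw [← mul_assoc, h2, one_mul]
    have a3 : ∀ r, W.u * (W.t * r) = W.t * (W.u * r) := fun r => by rw [← mul_assoc, ← h3, mul_assoc]
    rcases hx with rfl | rfl | rfl | rfl <;> rcases hy with rfl | rfl | rfl | rfl <;>
      simp [mul_assoc, a1, a2, a3, h1, h2, ← h3]
  · simp only [qs, Set.mem_insert_iff, Set.mem_singleton_iff] at hx ⊢
    have i1 := inv_eq_of_mul_eq_one_right h1
    have i2 := inv_eq_of_mul_eq_one_right h2
    rcases hx with rfl | rfl | rfl | rfl <;> simp [i1, i2, h3]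

include hS in
theorem φ_qs {q : Q} (hq : q ∈ W.qs) : q = 1 ∨ ∃ l : FF, l ≠ 0 ∧ F.φ q = l • e01 := by
  rcases hq with rfl | rfl | rfl | rfl
  · exact Or.inl rfl
  · exact Or.inr ⟨1, one_ne_zero, by rw [W.ht, one_smul]⟩
  · exact Or.inr ⟨_, by decide, W.hu⟩
  · exact Or.inr ⟨FF.w2, by decide, by rw [F.φ_mul, W.ht, W.hu, line_distinct.2.2.1]⟩

include hS in
theorem cases {x : G} (hx : x ∈ W.E) (h1 : x ≠ 1) :
    ∃ q : Q, inQ Q q = x ∧ InO FF.w (F.φ q) ∧ ∃ l : FF, F.φ q = l • e01 := by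
  obtain ⟨q, hq, rfl⟩ := hx
  rcases W.φ_qs hS (W.mem_qs hS hq) with rfl | ⟨l, hl, e⟩
  · exact absurd (map_one _) h1
  · exact ⟨q, rfl, e ▸ line_InO l hl, l, e⟩

include hS in
theorem not_conj {x : G} (hx : x ∈ W.E) (h1 : x ≠ 1) : ¬ IsConj z x := by
  obtain ⟨q, rfl, h, -⟩ := W.cases hS hx h1
  exact not_conj_of_InO hS F h

include hS in
theorem z_not_mem : z ∉ W.E := fun h => W.not_conj hS h (ctr_bigQ hS).ne_one (IsConj.refl z)

include hS in
theorem elem : Cfsg.IsElementaryAbelian 2 W.E ∧ Nat.card W.E = 4 := by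
  obtain ⟨h1, h2, h3⟩ := W.sq hS
  have hsq : ∀ x ∈ W.E, x * x = 1 := by
    intro x hx
    by_cases hx1 : x = 1
    · rw [hx1, one_mul]
    obtain ⟨q, rfl, -, l, hl⟩ := W.cases hS hx hx1
    rw [← map_mul, (F.form q).2 (by rw [hl]; exact (line_trace l l).2), map_one]
  refine ⟨⟨⟨⟨fun a b => Subtype.ext ?_⟩⟩, fun a ha => by rw [pow_two]; exact hsq a ha⟩, ?_⟩
  · have h : ∀ y ∈ W.E, y⁻¹ = y := fun y hy => inv_eq_of_mul_eq_one_right (hsq y hy)
    have e := h _ (W.E.mul_mem a.2 b.2)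
    rw [mul_inv_rev, h _ a.2, h _ b.2] at e
    exact e.symm
  · have hset : ((Subgroup.closure W.qs : Subgroup Q) : Set Q) = W.qs :=
      Set.Subset.antisymm (fun q hq => W.mem_qs hS hq) Subgroup.subset_closure
    rw [E, Subgroup.card_map_of_injective inQ_injective, ← SetLike.coe_sort_coe, hset, Nat.card_coe_set_eq]
    have ne : ∀ {a b : Q}, F.φ a ≠ F.φ b → a ≠ b := fun h e => h (congrArg F.φ e)
    obtain ⟨d1, d2, d3, d4, d5⟩ := line_distinct
    have φtu : F.φ (W.t * W.u) = FF.w2 • e01 := by rw [F.φ_mul, W.ht, W.hu, d3]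
    have e12 : e01 ≠ FF.w2 • e01 := by decide +kernel
    have ew2 : FF.w • e01 ≠ FF.w2 • e01 := by decide +kernel
    rw [qs, Set.ncard_insert_of_notMem, Set.ncard_insert_of_notMem, Set.ncard_insert_of_notMem, Set.ncard_singleton]
    · simp only [Set.mem_singleton_iff]
      exact ne (by rw [W.hu, φtu]; exact ew2)
    · simp only [Set.mem_insert_iff, Set.mem_singleton_iff]
      rintro (h | h)
      · exact ne (by rw [W.ht, W.hu]; exact d4) h
      · exact ne (by rw [W.ht, φtu]; exact e12) h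
    · simp only [Set.mem_insert_iff, Set.mem_singleton_iff]
      rintro (h | h | h)
      · exact ne (by rw [W.ht, F.φ_one]; exact d1.symm) h
      · exact ne (by rw [W.hu, F.φ_one]; exact d2.symm) h
      · exact ne (by rw [φtu, F.φ_one]; exact d5.symm) h

/-- The centralizer. -/
def C : Subgroup G := Subgroup.centralizer (W.E : Set G)

/-- Its part in the centralizer of the central involution. -/
def D : Subgroup (Cz z) := W.C.subgroupOf (Cz z)

include hS in
theorem mem_C {g : G} : g ∈ W.C ↔ g * inQ Q W.t = inQ Q W.t * g ∧ g * inQ Q W.u = inQ Q W.u * g := by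
  rw [C, Subgroup.mem_centralizer_iff]
  refine ⟨fun h => ⟨(h _ W.t_mem).symm, (h _ W.u_mem).symm⟩, fun ⟨h1, h2⟩ => ?_⟩
  rintro _ ⟨q, hq, rfl⟩
  rcases W.mem_qs hS hq with rfl | rfl | rfl | rfl
  · rw [map_one, one_mul, mul_one]
  · exact h1.symm
  · exact h2.symm
  · rw [map_mul, mul_assoc, ← h2, ← mul_assoc, ← h1, mul_assoc]

include hS in
theorem mem_D {c : Cz z} : c ∈ W.D ↔
    MulAut.conjNormal c W.t = W.t ∧ MulAut.conjNormal c W.u = W.u := by
  rw [D, Subgroup.mem_subgroupOf, W.mem_C hS]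
  have h : ∀ q : Q, MulAut.conjNormal c q = q ↔ (c : G) * inQ Q q = inQ Q q * c := fun q => by
    rw [← inQ_injective.eq_iff, ← mul_inv_eq_iff_eq_mul (G := G)]
    rw [show inQ Q (MulAut.conjNormal c q) = (c : G) * inQ Q q * (c : G)⁻¹ from by
      show ((MulAut.conjNormal c q : Cz z) : G) = _
      rw [MulAut.conjNormal_apply]; rfl]
  exact (and_congr (h _) (h _)).symm

include hS in
theorem mem_D_inQ (q : Q) : (q : Cz z) ∈ W.D ↔ H (F.φ q) e01 = 0 := by
  rw [W.mem_D hS, conjNormal_self, conjNormal_self, mul_inv_eq_iff_eq_mul, mul_inv_eq_iff_eq_mul,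
    commute_iff_trace hS F, commute_iff_trace hS F, W.ht, W.hu, orth_line]

include hS in
/-- The stabiliser lifts. -/
theorem exists_D {k : S} (hk : k ∈ StabK e01) : ∃ c ∈ W.D, ∀ v, F.act c v = k • v := by
  obtain ⟨hk0, hkv⟩ := mem_StabK.1 hk
  obtain ⟨m, -, hm⟩ := F.of_K0 k hk0
  obtain ⟨ct, hct⟩ := F.surj (FF.w • e 0)
  obtain ⟨cu, hcu⟩ := F.surj (e 0)
  obtain ⟨⟨u1, u2⟩, ⟨v1, v2⟩⟩ := correctors
  have fixT : MulAut.conjNormal (ct : Cz z) W.u = W.u := by
    rw [conjNormal_self, mul_inv_eq_iff_eq_mul, commute_iff_trace hS F, hct, W.hu, v2]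
  have fixU : MulAut.conjNormal (cu : Cz z) W.t = W.t := by
    rw [conjNormal_self, mul_inv_eq_iff_eq_mul, commute_iff_trace hS F, hcu, W.ht, u1]
  -- the two values of a conjugate
  have two : ∀ (x p : Q) (c : Cz z), F.φ (MulAut.conjNormal c x) = F.φ x →
      trH (F.φ p) (F.φ x) = 1 →
      MulAut.conjNormal c x = x ∨ MulAut.conjNormal ((p : Cz z) * c) x = x := by
    intro x p c hc htr
    by_contra hne
    push Not at hne
    obtain ⟨n1, n2⟩ := hne
    obtain e | e := F.eq_or_mul_z hS hc.symm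
    · exact n1 (Subtype.ext (Subtype.ext e))
    · have hp : F.φ (MulAut.conjNormal (p : Cz z) x) = F.φ x := by
        rw [F.conj, (F.ker _).2 p.2]; rfl
      obtain e' | e' := F.eq_or_mul_z hS hp.symm
      · have e'' : MulAut.conjNormal (p : Cz z) x = x := Subtype.ext (Subtype.ext e')
        rw [conjNormal_self, mul_inv_eq_iff_eq_mul, commute_iff_trace hS F, htr] at e''
        exact absurd e'' (by decide)
      · refine n2 (Subtype.ext (Subtype.ext ?_))
        rw [map_mul, MulAut.mul_apply]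
        have hz : ((p : Cz z) : G) * z = z * ((p : Cz z) : G) :=
          Subgroup.mem_centralizer_singleton_iff.1 (p : Cz z).2
        have hzz : z * z = 1 := by rw [← pow_two, ← hS.1, pow_orderOf_eq_one]
        simp only [MulAut.conjNormal_apply, Subgroup.coe_mul, Subgroup.coe_inv] at e e' ⊢
        rw [e]
        calc ((p : Cz z) : G) * (((x : Cz z) : G) * z) * ((p : Cz z) : G)⁻¹
            = ((p : Cz z) : G) * ((x : Cz z) : G) * (z * ((p : Cz z) : G)⁻¹) := by group
          _ = ((p : Cz z) : G) * ((x : Cz z) : G) * (((p : Cz z) : G)⁻¹ * z) := by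
              rw [show z * ((p : Cz z) : G)⁻¹ = ((p : Cz z) : G)⁻¹ * z from
                ((show Commute ((p : Cz z) : G) z from hz).inv_left).eq.symm]
          _ = ((p : Cz z) : G) * ((x : Cz z) : G) * ((p : Cz z) : G)⁻¹ * z := by group
          _ = _ := by rw [e', mul_assoc, hzz, mul_one]
  have hφt : F.φ (MulAut.conjNormal m W.t) = F.φ W.t := by rw [F.conj, hm, W.ht, hkv]
  obtain ⟨c1, hc1, h1⟩ : ∃ c1 : Cz z, (∀ v, F.act c1 v = k • v) ∧ MulAut.conjNormal c1 W.t = W.t := by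
    rcases two W.t ct m hφt (by rw [hct, W.ht, v1]) with h | h
    · exact ⟨m, hm, h⟩
    · exact ⟨_, fun v => by rw [map_mul, (F.ker _).2 ct.2, one_mul, hm], h⟩
  have hφu : F.φ (MulAut.conjNormal c1 W.u) = F.φ W.u := by rw [F.conj, hc1, W.hu, smul_smulV, hkv]
  rcases two W.u cu c1 hφu (by rw [hcu, W.hu, u2]) with h | h
  · exact ⟨c1, (W.mem_D hS).2 ⟨h1, h⟩, hc1⟩
  · refine ⟨_, (W.mem_D hS).2 ⟨?_, h⟩, fun v => by rw [map_mul, (F.ker _).2 cu.2, one_mul, hc1]⟩
    rw [map_mul, MulAut.mul_apply, h1, fixU]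

include hS in
/-- Its members act by the stabiliser. -/
theorem D_act {c : Cz z} (hc : c ∈ W.D) : ∃ k ∈ StabK e01, ∀ v, F.act c v = k • v := by
  obtain ⟨h1, h2⟩ := (W.mem_D hS).1 hc
  have e1 : F.act c e01 = e01 := by rw [← W.ht, ← F.conj, h1]
  have e2 : F.act c (FF.w • e01) = FF.w • e01 := by rw [← W.hu, ← F.conj, h2]
  have hM : c ∈ M := by
    by_contra hn
    obtain ⟨g, ⟨hq, hqQ⟩, hne⟩ := hS.2.2.2.2
    have := antilinear hS F (g := g) (a := ⟨⟨_, hq⟩, hqQ⟩) ⟨_, hqQ, rfl⟩ hne rfl hn e01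
    rw [e1, e2] at this
    exact absurd this (by decide +kernel)
  obtain ⟨k, hk, he⟩ := F.mem_M c hM
  exact ⟨k, mem_StabK.2 ⟨hk, by rw [← he, e1]⟩, he⟩

/-- The representation on the stabiliser. -/
noncomputable def rep : W.D →* StabK e01 :=
  MonoidHom.mk' (fun c => ⟨(W.D_act hS c.2).choose, (W.D_act hS c.2).choose_spec.1⟩) fun c d =>
    Subtype.ext (S_ext fun v => by
      show _ = ((W.D_act hS c.2).choose * (W.D_act hS d.2).choose) • v
      rw [← (W.D_act hS (c * d).2).choose_spec.2 v, mul_smul, ← (W.D_act hS d.2).choose_spec.2,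
        ← (W.D_act hS c.2).choose_spec.2, Subgroup.coe_mul, map_mul, Equiv.Perm.mul_apply])

theorem rep_spec (c : W.D) (v : V) : F.act (c : Cz z) v = (W.rep hS c : S) • v :=
  (W.D_act hS c.2).choose_spec.2 v

theorem rep_surjective : Function.Surjective (W.rep hS) := fun ⟨k, hk⟩ => by
  obtain ⟨c, hc, hck⟩ := W.exists_D hS hk
  exact ⟨⟨c, hc⟩, Subtype.ext (S_ext fun v => by rw [← W.rep_spec hS ⟨c, hc⟩, hck])⟩

theorem rep_eq_one (c : W.D) : W.rep hS c = 1 ↔ (c : Cz z) ∈ Q := by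
  rw [← F.ker]
  exact ⟨fun e => Equiv.ext fun v => by rw [W.rep_spec hS, e]; exact one_smul S v,
    fun e => Subtype.ext (S_ext fun v => by rw [← W.rep_spec hS, e]; exact (one_smul S v).symm)⟩

include hS in
theorem card_DQ : Nat.card {q : Q // (q : Cz z) ∈ W.D} = 2 ^ 11 := by
  let f : Q →* Multiplicative FF :=
    MonoidHom.mk' (fun q => Multiplicative.ofAdd (H (F.φ q) e01)) fun q r => by
      rw [F.φ_mul, H_addL, ofAdd_add]
  have hsurj : Function.Surjective f := fun a => by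
    obtain ⟨q, hq⟩ := F.surj (Multiplicative.toAdd a • e 0)
    refine ⟨q, congrArg Multiplicative.ofAdd (show H (F.φ q) e01 = Multiplicative.toAdd a from ?_)⟩
    rw [hq, H_smulL, show H (e 0) e01 = 1 from by decide +kernel, mul_one]
  have h := Subgroup.card_mul_index f.ker
  rw [Subgroup.index_ker, MonoidHom.range_eq_top.2 hsurj, Subgroup.card_top, hS.2.2.2.1,
    Nat.card_congr Multiplicative.toAdd,
    show Nat.card FF = 4 from Nat.card_eq_fintype_card] at h
  rw [Nat.card_congr (show {q : Q // (q : Cz z) ∈ W.D} ≃ f.ker from Equiv.subtypeEquivRight fun q => by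
    rw [W.mem_D_inQ hS, MonoidHom.mem_ker]; rfl)]
  omega

end Four

end Cfsg.Agent.LargeExtra.Fischer
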