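import Cfsg.Agent.Lib.LargeExtra.Fischer.FourGroupQuot
import Cfsg.Agent.Lib.LargeExtra.Fischer.Classes
import Cfsg.Agent.Lib.Classical.UnitarySimple

/-!
The centralizer of the four-group is quasisimple.
-/

set_option autoImplicit false

namespace Cfsg.Agent.LargeExtra.Fischer

open Cfsg.Agent.InvChar.Coset
open Cfsg.Agent.Components.UnitarySix
open Cfsg.Agent.MonsterOrbits (bigQ mem_bigQ ctr_bigQ mem_center_iff')
open scoped commutatorElement

section Facts

theorem dS_diff : ∀ (i : Fin 6), i = 2 ∨ i = 3 ∨ i = 4 → ∀ l : FF,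
    dS • (FF.w * l) • (e i : V) + (FF.w * l) • (e i : V) = l • (e i : V) := by
  decide +kernel

theorem perm_diff : ∀ l : FF,
    ((fun k => (l • (e 5 : V)) ((cyc3 2 3 4).1.symm k)) = l • (e 3 : V) ∨
      (fun k => (l • (e 5 : V)) ((cyc3 2 3 4).1.symm k)) = l • (e 4 : V)) ∧
    (fun k => e01 ((cyc3 2 3 4).1.symm k)) = e01 := by
  decide +kernel

set_option maxRecDepth 100000 in
theorem alpha_diff : ∃ b d, Ep b d ∧ ∀ l : FF, ∃ m : FF, (opV b d (m • (e 2 : V)) + m • (e 2 : V)) 0 = l := by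
  decide +kernel

theorem split_coords (v : V) (h : H v e01 = 0) :
    v 0 • e01 = v + v 2 • (e 2 : V) + v 3 • (e 3 : V) + v 4 • (e 4 : V) + v 5 • (e 5 : V) := by
  rw [H_e01] at h
  have h1 : v 1 = v 0 := by
    rw [← add_zero (v 1), ← char_two (v 0), ← add_assoc, add_comm (v 1), h, zero_add]
  funext i
  fin_cases i <;> simp [e01, Pi.single_apply, h1, char_two]

end Facts

variable {G : Type*} [Group G] [Finite G] {z : G} {Q : Subgroup (Cz z)} [Q.Normal] {M : Subgroup (Cz z)}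
variable (hS : Cfsg.IsExtraspecialCentralizerSetting z Q 6) {F : Frame z Q M} (W : Four F)

namespace Four

/-- The derived group in the whole group. -/
def P : Subgroup G := (commutator W.C).map W.C.subtype

theorem comm_mem_P {a b : G} (ha : a ∈ W.C) (hb : b ∈ W.C) : ⁅a, b⁆ ∈ W.P :=
  ⟨⁅(⟨a, ha⟩ : W.C), ⟨b, hb⟩⁆, Subgroup.commutator_mem_commutator (Subgroup.mem_top _) (Subgroup.mem_top _), rfl⟩

/-- The vectors of members of the derived group. -/
def SS (v : V) : Prop := ∃ q : Q, F.φ q = v ∧ inQ Q q ∈ W.P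

theorem SS_add {u v : V} (hu : W.SS u) (hv : W.SS v) : W.SS (u + v) := by
  obtain ⟨q, rfl, hq⟩ := hu
  obtain ⟨r, rfl, hr⟩ := hv
  exact ⟨q * r, F.φ_mul q r, by rw [map_mul]; exact mul_mem hq hr⟩

include hS in
theorem SS_diff {k : S} (hk : k ∈ StabK e01) {v : V} (hv : H v e01 = 0) : W.SS (k • v + v) := by
  obtain ⟨c, hc, hck⟩ := W.exists_D hS hk
  obtain ⟨q, hq, hqv, -⟩ := W.exists_π hS v hv
  refine ⟨MulAut.conjNormal c q * q⁻¹, by rw [F.φ_mul, φ_inv' F, F.conj, hqv, hck], ?_⟩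
  have e : inQ Q (MulAut.conjNormal c q * q⁻¹) = ⁅(c : G), inQ Q q⁆ := by
    rw [map_mul, map_inv, commutatorElement_def]
    congr 1
  rw [e]
  exact W.comm_mem_P (Subgroup.mem_subgroupOf.1 hc) (Subgroup.mem_subgroupOf.1 hq)

include hS in
theorem z_mem_P : z ∈ W.P := by
  obtain ⟨h1, h2, h3⟩ := e2_orth
  obtain ⟨q, hq, hqv, -⟩ := W.exists_π hS _ h1
  obtain ⟨r, hr, hrv, -⟩ := W.exists_π hS _ h2
  have hne : q * r ≠ r * q := fun e => by
    have h := (commute_iff_trace hS F q r).1 e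
    rw [hqv, hrv, h3] at h
    exact one_ne_zero h
  have hcen : ⁅q, r⁆ ∈ Subgroup.center Q := (F.zero _).1 (by
    rw [commutatorElement_def, F.φ_mul, F.φ_mul, F.φ_mul, φ_inv' F, φ_inv' F, add_comm (F.φ q) (F.φ r),
      add_assoc (F.φ r), V_add_self, add_zero, V_add_self])
  have hP := W.comm_mem_P (Subgroup.mem_subgroupOf.1 hq) (Subgroup.mem_subgroupOf.1 hr)
  rcases (mem_center_iff' hS).1 hcen with e | e
  · exact absurd (commutatorElement_eq_one_iff_mul_comm.1 (Subtype.ext (Subtype.ext e))) hne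
  · have e' : ⁅((q : Cz z) : G), ((r : Cz z) : G)⁆ = z := e
    rw [e'] at hP
    exact hP

include hS in
theorem SS_line (l : FF) : W.SS (l • e01) := by
  have h234 : ∀ (i : Fin 6), i = 2 ∨ i = 3 ∨ i = 4 → ∀ l : FF, W.SS (l • (e i : V)) := fun i hi l => by
    rw [← dS_diff i hi l]
    refine W.SS_diff hS dS_mem ?_
    rw [H_smulL, H_e01]
    rcases hi with rfl | rfl | rfl <;> simp
  have h5 : ∀ l : FF, W.SS (l • (e 5 : V)) := fun l => by
    obtain ⟨hcases, hfix⟩ := perm_diff l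
    have hk : altK (cyc3 2 3 4) ∈ StabK e01 :=
      mem_StabK.2 ⟨(mem_StabK.1 (altK_mem _)).1, by rw [altK_smul]; exact hfix⟩
    have hd := W.SS_diff hS hk (v := l • (e 5 : V)) (by rw [H_smulL, H_e01]; simp)
    rw [altK_smul] at hd
    rcases hcases with h | h <;> rw [h] at hd
    · have := W.SS_add hd (h234 3 (by simp) l)
      rwa [add_comm (l • (e 3 : V)), add_assoc, V_add_self, add_zero] at this
    · have := W.SS_add hd (h234 4 (by simp) l)
      rwa [add_comm (l • (e 4 : V)), add_assoc, V_add_self, add_zero] at this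
  obtain ⟨b, d, hbd, hm⟩ := alpha_diff
  obtain ⟨m, hml⟩ := hm l
  have hpe : pe b d ∈ StabK e01 := by
    have h := pe_mem_EU.2 hbd
    exact mem_StabK.2 ⟨(P0_le h.1).1, (mem_fixingSubgroup_iff S).1 h.2 e01 e01_U.1⟩
  have horth : H (m • (e 2 : V)) e01 = 0 := by rw [H_smulL, e2_orth.1, mul_zero]
  have hv := W.SS_diff hS hpe horth
  set v := pe b d • m • (e 2 : V) + m • (e 2 : V) with hvdef
  have hv0 : v 0 = l := by rw [hvdef, pe_smul]; exact hml
  have hvo : H v e01 = 0 := by rw [hvdef, H_addL, orth_smul (mem_StabK.1 hpe).2 horth, horth, add_zero]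
  rw [← hv0, split_coords v hvo]
  exact W.SS_add (W.SS_add (W.SS_add (W.SS_add hv (h234 2 (by simp) _)) (h234 3 (by simp) _))
    (h234 4 (by simp) _)) (h5 _)

include hS in
theorem E_le_P : W.E ≤ W.P := by
  intro x hx
  by_cases h1 : x = 1
  · exact h1 ▸ one_mem _
  obtain ⟨q, rfl, -, l, hl⟩ := W.cases hS hx h1
  obtain ⟨r, hrv, hr⟩ := W.SS_line hS l
  rcases F.eq_or_mul_z hS (hrv.trans hl.symm) with e | e
  · exact (show inQ Q q = inQ Q r from e) ▸ hr
  · rw [show inQ Q q = inQ Q r * z from e]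
    exact mul_mem hr (W.z_mem_P hS)

include hS in
/-- The conclusion. -/
theorem quasisimple {m : G} (hm : m ∈ W.C) (hne : m * z * m⁻¹ ≠ z) (hmz : m * z * m⁻¹ ∈ Cz z) :
    Cfsg.IsQuasisimple W.C ∧ Nonempty (W.C ⧸ W.E' ≃* Cfsg.PSU 6 FF 2) := by
  obtain ⟨⟨eU⟩, hout⟩ := W.quotient_equiv hS hm hne hmz
  haveI : IsSimpleGroup (Cfsg.PSU 6 FF 2) :=
    Cfsg.Agent.Classical.Unitary.isSimpleGroup_PSU (show Fintype.card FF = 2 ^ 2 from rfl) (by norm_num) (by norm_num)
  haveI : Nontrivial (W.C ⧸ W.E') := eU.toEquiv.nontrivial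
  haveI hsim : IsSimpleGroup (W.C ⧸ W.E') :=
    IsSimpleGroup.isSimpleGroup_of_surjective eU.symm.toMonoidHom eU.symm.surjective
  have hab : ¬ ∀ a b : W.C ⧸ W.E', a * b = b * a := fun h => hout (h _ _)
  have hperfQ : commutator (W.C ⧸ W.E') = ⊤ := by
    rcases (inferInstance : (commutator (W.C ⧸ W.E')).Normal).eq_bot_or_eq_top with h | h
    · refine absurd (fun a b => commutatorElement_eq_one_iff_mul_comm.1 ?_) hab
      exact Subgroup.mem_bot.1 (h ▸ Subgroup.commutator_mem_commutator (Subgroup.mem_top a) (Subgroup.mem_top b))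
    · exact h
  have hEle : W.E' ≤ commutator W.C := fun x hx => by
    obtain ⟨y, hy, e⟩ := W.E_le_P hS (Subgroup.mem_subgroupOf.1 hx)
    exact (Subtype.ext e : y = x) ▸ hy
  have hperf : commutator W.C = ⊤ := by
    have h : (commutator W.C).map (QuotientGroup.mk' W.E') = ⊤ := by
      rw [_root_.commutator_def, Subgroup.map_commutator,
        Subgroup.map_top_of_surjective _ (QuotientGroup.mk'_surjective _), ← _root_.commutator_def, hperfQ]
    have h' := congrArg (Subgroup.comap (QuotientGroup.mk' W.E')) h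
    rwa [Subgroup.comap_map_eq, QuotientGroup.ker_mk', sup_eq_left.2 hEle, Subgroup.comap_top] at h'
  have hcen : Subgroup.center W.C = W.E' := by
    refine le_antisymm ?_ W.E'_le
    have hn : ((Subgroup.center W.C).map (QuotientGroup.mk' W.E')).Normal :=
      (inferInstance : (Subgroup.center W.C).Normal).map _ (QuotientGroup.mk'_surjective _)
    rcases hn.eq_bot_or_eq_top with h | h
    · rwa [Subgroup.map_eq_bot_iff, QuotientGroup.ker_mk'] at h
    · refine absurd (fun a b => ?_) hab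
      obtain ⟨a', ha', rfl⟩ := h ▸ Subgroup.mem_top a
      obtain ⟨b', rfl⟩ := QuotientGroup.mk_surjective b
      show (a' : W.C ⧸ W.E') * b' = b' * a'
      rw [← QuotientGroup.mk_mul, ← QuotientGroup.mk_mul, Subgroup.mem_center_iff.1 ha' b']
  refine ⟨⟨⟨hperf⟩, ?_⟩, ⟨eU⟩⟩
  haveI : Nontrivial (W.C ⧸ Subgroup.center W.C) := (QuotientGroup.quotientMulEquivOfEq hcen).toEquiv.nontrivial
  exact IsSimpleGroup.isSimpleGroup_of_surjective (QuotientGroup.quotientMulEquivOfEq hcen).symm.toMonoidHom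
    (QuotientGroup.quotientMulEquivOfEq hcen).symm.surjective

end Four

end Cfsg.Agent.LargeExtra.Fischer
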