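import Cfsg.Agent.Lib.LargeExtra.Fischer.PairSteiner
import Cfsg.Agent.Lib.Golay.SteinerCode
import Cfsg.Agent.Lib.Golay.AutBig
import Cfsg.Agent.S0364
import Cfsg.Agent.S0365

/-!
An elementary abelian self-centralising subgroup of order `2^11` with 276 members of one class in the pattern
of pairs: its normalizer modulo itself is the Mathieu group of degree 24, and the centralizer of a member of
that class goes to the stabiliser of a pair.
-/

set_option autoImplicit false

namespace Cfsg.Agent.LargeExtra.PairGraph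

open Cfsg
open scoped Pointwise

universe u

variable {G : Type u} [Group G]

/-- The other class. -/
def Pg (z y : G) : Prop := y ≠ 1 ∧ ¬ IsConj z y

theorem Pg_conj {z : G} (k y : G) : Pg z (k * y * k⁻¹) ↔ Pg z y := by
  have h : IsConj y (k * y * k⁻¹) := isConj_iff.2 ⟨k, rfl⟩
  rw [Pg, Pg, ne_eq, conj_eq_one_iff]
  exact and_congr_right fun _ => not_congr ⟨fun e => e.trans h.symm, fun e => e.trans h⟩

/-- The hypotheses in the group. -/
structure IsMathieuSub (z : G) (A : Subgroup G) : Prop where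
  sq : ∀ a ∈ A, a * a = 1
  card : Nat.card A = 2 ^ 11
  cent : ∀ g, (∀ a ∈ A, g * a = a * g) → g ∈ A
  zmem : z ∈ A
  zne : z ≠ 1
  fus : ∀ a ∈ A, IsConj z a → ∃ m ∈ Subgroup.normalizer (A : Set G), m * z * m⁻¹ = a
  cardZ : Nat.card {y : A // IsConj z (y : G)} = 1771
  cardP : Nat.card {y : A // Pg z (y : G)} = 276
  card36 : Nat.card {y : A // Pg z (y : G) ∧ Pg z ((y : G) * z)} = 36
  lines : ∀ a ∈ A, Pg z a → Pg z (a * z) →
    Nat.card {y : A // (Pg z (y : G) ∧ Pg z ((y : G) * z)) ∧ Pg z (a * (y : G))} = 4 ∧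
      ∀ y ∈ A, Pg z y → Pg z (y * z) → Pg z (a * y) → Pg z (a * y * z)
  dvd : 2 ^ 13 * 2160 ∣
    Nat.card (Subgroup.normalizer (A : Set G) ⊓ Subgroup.centralizer ({z} : Set G) : Subgroup G)

variable {z : G} {A : Subgroup G} (d : IsMathieuSub z A)
include d

theorem IsMathieuSub.comm : ∀ a ∈ A, ∀ b ∈ A, a * b = b * a := fun a ha b hb => by
  have h := inv_eq_of_mul_eq_one_right (d.sq _ (A.mul_mem ha hb))
  rw [mul_inv_rev, inv_eq_of_mul_eq_one_right (d.sq a ha), inv_eq_of_mul_eq_one_right (d.sq b hb)] at h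
  exact h.symm

variable [Finite G]

/-- The main consequence. -/
theorem mathieu :
    (∃ _ : (A.subgroupOf (Subgroup.normalizer (A : Set G))).Normal,
      Nonempty (↥(Subgroup.normalizer (A : Set G)) ⧸ A.subgroupOf (Subgroup.normalizer (A : Set G)) ≃*
        ↥Cfsg.M24)) ∧
    ∀ t ∈ A, Pg z t →
      ∃ _ : (A.subgroupOf (Subgroup.normalizer (A : Set G) ⊓ Subgroup.centralizer ({t} : Set G))).Normal,
        Nonempty (↥(Subgroup.normalizer (A : Set G) ⊓ Subgroup.centralizer ({t} : Set G)) ⧸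
            A.subgroupOf (Subgroup.normalizer (A : Set G) ⊓ Subgroup.centralizer ({t} : Set G)) ≃*
          ↥(Cfsg.M24 ⊓ MulAction.stabilizer (Equiv.Perm Cfsg.GolayPt) ({none, some 0} : Set Cfsg.GolayPt))) := by
  classical
  letI : CommGroup A :=
    { (inferInstance : Group A) with mul_comm := fun a b => Subtype.ext (d.comm _ a.2 _ b.2) }
  letI := Fintype.ofFinite A
  set N := Subgroup.normalizer (A : Set G)
  let ρ : N →* Equiv.Perm (Additive A) := MonoidHom.mk'
    (fun n => Additive.ofMul.permCongr (A.normalizerMonoidHom n).toEquiv) fun n m => by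
      ext w; simp [Equiv.permCongr_apply]
  have hρ : ∀ (n : N) (w : Additive A), ((Additive.toMul (ρ n w) : A) : G) = n * (Additive.toMul w : A) * (n : G)⁻¹ :=
    fun n w => rfl
  have hadd : ∀ n (x y : Additive A), ρ n (x + y) = ρ n x + ρ n y := fun n x y => by
    show Additive.ofMul ((A.normalizerMonoidHom n) (Additive.toMul x * Additive.toMul y)) = _
    rw [map_mul]; rfl
  set P : Finset (Additive A) := Finset.univ.filter fun w => Pg z ((Additive.toMul w : A) : G)
  have hmP : ∀ w, w ∈ P ↔ Pg z ((Additive.toMul w : A) : G) := by simp [P]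
  have hPρ : ∀ n, ∀ w ∈ P, ρ n w ∈ P := fun n w hw => by
    rw [hmP, hρ, Pg_conj, ← hmP]; exact hw
  have hPiff : ∀ n w, ρ n w ∈ P ↔ w ∈ P := fun n w => by rw [hmP, hρ, Pg_conj, hmP]
  have cardEq : ∀ (q : Additive A → Prop) [DecidablePred q] (r : A → Prop),
      (∀ y, q (Additive.ofMul y) ↔ r y) → (Finset.univ.filter q).card = Nat.card {y : A // r y} := by
    intro q _ r hqr
    rw [← Fintype.card_subtype, ← Nat.card_eq_fintype_card]
    exact Nat.card_congr (Additive.toMul.subtypeEquiv fun w => hqr (Additive.toMul w))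
  let c0 : Additive A := Additive.ofMul ⟨z, d.zmem⟩
  have h36 : (Sc P c0).card = 36 := by
    rw [← d.card36, ← cardEq (fun w => w ∈ P ∧ w + c0 ∈ P) _ fun y => by rw [hmP, hmP]; rfl]
    congr 1
    ext w
    simp [Sc]
  have h4 : ∀ a ∈ Sc P c0, ((Sc P c0).filter fun x => a + x ∈ P).card = 4 ∧
      ∀ x ∈ Sc P c0, a + x ∈ P → a + x + c0 ∈ P := by
    intro a ha
    obtain ⟨ha1, ha2⟩ := Finset.mem_filter.1 ha
    rw [hmP] at ha1 ha2
    obtain ⟨hc, hcl⟩ := d.lines _ (Additive.toMul a : A).2 ha1 ha2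
    refine ⟨?_, fun x hx hax => ?_⟩
    · rw [← hc, ← cardEq (fun w => (w ∈ P ∧ w + c0 ∈ P) ∧ a + w ∈ P) _ fun y => by
        rw [hmP, hmP, hmP]; rfl]
      congr 1
      ext w
      simp [Sc]
    · obtain ⟨hx1, hx2⟩ := Finset.mem_filter.1 hx
      rw [hmP] at hx1 hx2 hax ⊢
      exact hcl _ (Additive.toMul x : A).2 hx1 hx2 hax
  have hP : IsPairs P := by
    refine ⟨fun w => ?_, fun h => ?_, ?_, fun c hc0 hcP => ?_⟩
    · exact congrArg Additive.ofMul (Subtype.ext (d.sq _ (Additive.toMul w : A).2) :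
        (Additive.toMul w : A) * Additive.toMul w = 1)
    · exact ((hmP _).1 h).1 rfl
    · rw [← d.cardP]
      exact cardEq _ _ fun y => Iff.rfl
    have hconj : IsConj z ((Additive.toMul c : A) : G) := by
      by_contra hn
      exact hcP ((hmP c).2 ⟨fun e => hc0 (congrArg Additive.ofMul (Subtype.ext e : (Additive.toMul c : A) = 1)), hn⟩)
    obtain ⟨m, hm, e⟩ := d.fus _ (Additive.toMul c : A).2 hconj
    set n : N := ⟨m, hm⟩
    have hc : ρ n c0 = c := congrArg Additive.ofMul (Subtype.ext e :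
      (Additive.toMul (ρ n c0) : A) = Additive.toMul c)
    have hS : Sc P c = (Sc P c0).image (ρ n) := by
      ext w
      obtain ⟨v, rfl⟩ := (ρ n).surjective w
      rw [Finset.mem_image]
      simp only [(ρ n).injective.eq_iff, exists_eq_right, Sc, Finset.mem_filter, ← hc, ← hadd, hPiff]
    refine ⟨by rw [hS, Finset.card_image_of_injective _ (ρ n).injective, h36], fun a ha => ?_⟩
    rw [hS] at ha ⊢
    obtain ⟨a0, ha0, rfl⟩ := Finset.mem_image.1 ha
    obtain ⟨h4a, h4b⟩ := h4 a0 ha0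
    refine ⟨?_, fun x hx hax => ?_⟩
    · rw [Finset.filter_image, Finset.card_image_of_injective _ (ρ n).injective, ← h4a]
      congr 1
      ext w
      simp only [Finset.mem_filter, ← hadd, hPiff]
    · obtain ⟨x0, hx0, rfl⟩ := Finset.mem_image.1 hx
      rw [← hadd, hPiff] at hax
      rw [← hc, ← hadd, ← hadd, hPiff]
      exact h4b x0 hx0 hax
  -- to the standard code
  obtain ⟨ε, hε⟩ := Cfsg.Agent.Golay.SteinerCode.iso_octads (card_pts hP) (steiner hP)
  let η : setSystemAut (blocks hP) ≃* Cfsg.M24 :=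
    (Cfsg.Agent.Golay.DesignIso.autEquiv ε hε).trans (MulEquiv.subgroupCongr Cfsg.Agent.S0369.result.symm)
  let Φ : N →* Cfsg.M24 := η.toMonoidHom.comp (autHom hP ρ hadd hPρ)
  have hΦ : ∀ (n : N) (p : Pt P), (Φ n : Equiv.Perm GolayPt) (ε p) = ε (ptAct hP ρ hadd hPρ n p) := fun n p =>
    Cfsg.Agent.Golay.DesignIso.autEquiv_apply ε hε (autHom hP ρ hadd hPρ n) p
  have hker : Φ.ker = A.subgroupOf N := by
    ext n
    rw [MonoidHom.mem_ker, Subgroup.mem_subgroupOf, show Φ n = η (autHom hP ρ hadd hPρ n) from rfl,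
      MulEquiv.map_eq_one_iff, autHom_ker]
    refine ⟨fun e => d.cent _ fun a ha => ?_, fun hn => Equiv.ext fun w => ?_⟩
    · have := hρ n (Additive.ofMul ⟨a, ha⟩)
      rw [e] at this
      exact mul_inv_eq_iff_eq_mul.1 this.symm
    · refine congrArg Additive.ofMul (Subtype.ext ?_ : (Additive.toMul (ρ n w) : A) = Additive.toMul w)
      rw [hρ, d.comm _ hn _ (Additive.toMul w : A).2, mul_inv_cancel_right]
  have hAN : A ≤ N := Subgroup.le_normalizer
  have hrange : Φ.range = ⊤ := by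
    have hN : 1771 * (2 ^ 13 * 2160) ∣ Nat.card N := by
      letI : MulAction N G := MulAction.compHom G ((MulAut.conj : G →* MulAut G).comp N.subtype)
      have horb : MulAction.orbit N z = A.subtype '' {y : A | IsConj z (y : G)} := by
        ext y
        constructor
        · rintro ⟨m, rfl⟩
          exact ⟨⟨_, (Subgroup.mem_normalizer_iff.1 m.2 z).1 d.zmem⟩, isConj_iff.2 ⟨(m : G), rfl⟩, rfl⟩
        · rintro ⟨a, ha, rfl⟩
          obtain ⟨m, hm, e⟩ := d.fus a a.2 ha
          exact ⟨⟨m, hm⟩, e⟩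
      have h1 : (MulAction.stabilizer N z).index = 1771 := by
        rw [MulAction.index_stabilizer, horb, Set.ncard_image_of_injective _ A.subtype_injective,
          ← Nat.card_coe_set_eq]
        exact d.cardZ
      rw [← (MulAction.stabilizer N z).card_mul_index, h1, mul_comm _ 1771]
      refine mul_dvd_mul_left _ (d.dvd.trans (dvd_of_eq (Nat.card_congr
        { toFun := fun g => ⟨⟨g.1, g.2.1⟩, ?_⟩
          invFun := fun g => ⟨g.1.1, g.1.2, ?_⟩
          left_inv := fun _ => rfl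
          right_inv := fun _ => rfl })))
      · show (g : G) * z * (g : G)⁻¹ = z
        rw [Subgroup.mem_centralizer_singleton_iff.1 g.2.2, mul_inv_cancel_right]
      · have := g.2
        exact Subgroup.mem_centralizer_singleton_iff.2 (mul_inv_eq_iff_eq_mul.1 this)
    have h2 := Subgroup.card_mul_index Φ.ker
    rw [Subgroup.index_ker, hker, Nat.card_congr (Subgroup.subgroupOfEquivOfLe hAN).toEquiv, d.card] at h2
    have h3 := Φ.range.card_mul_index
    rw [Cfsg.Agent.S0364.result] at h3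
    have h4' : 15301440 ∣ Nat.card Φ.range := by
      refine Nat.dvd_of_mul_dvd_mul_left (show 0 < 2 ^ 11 by positivity) ?_
      rw [h2]
      exact (show 2 ^ 11 * 15301440 ∣ 1771 * (2 ^ 13 * 2160) by norm_num).trans hN
    obtain ⟨j, hj⟩ := h4'
    have h16 : j * Φ.range.index = 16 := by
      rw [hj, mul_assoc] at h3
      omega
    have hle : Φ.range.index ≤ 16 := Nat.le_of_dvd (by norm_num) (h16 ▸ Dvd.intro_left _ rfl)
    haveI : IsSimpleGroup Cfsg.M24 := Cfsg.Agent.S0365.result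
    rcases IsSimpleGroup.eq_bot_or_eq_top_of_normal Φ.range.normalCore inferInstance with e | e
    swap
    · exact top_le_iff.1 (e ▸ Subgroup.normalCore_le _)
    exfalso
    rw [Subgroup.normalCore_eq_ker] at e
    have h5 := Subgroup.card_dvd_of_injective _ ((MonoidHom.ker_eq_bot_iff _).1 e)
    rw [Cfsg.Agent.S0364.result, Nat.card_perm, show Nat.card (Cfsg.M24 ⧸ Φ.range) = Φ.range.index from rfl] at h5
    have h6 := (show 23 ∣ 244823040 by norm_num).trans h5
    have h7 := ((show Nat.Prime 23 by norm_num).dvd_factorial).1 h6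
    omega
  refine ⟨?_, fun t htA htP => ?_⟩
  · haveI hn : (A.subgroupOf N).Normal := hker ▸ Φ.normal_ker
    refine ⟨hn, ?_⟩
    exact ⟨(QuotientGroup.quotientMulEquivOfEq hker.symm).trans
      (QuotientGroup.quotientKerEquivOfSurjective Φ (MonoidHom.range_eq_top.1 hrange))⟩
  -- the stabiliser of a pair
  set w : Additive A := Additive.ofMul ⟨t, htA⟩
  obtain ⟨s, hs, hsw⟩ := pair_surj hP ((hmP w).2 htP)
  obtain ⟨g, hg, hgs⟩ := Cfsg.Agent.Golay.AutBig.exists_image24 (T := s.image ε)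
    (T' := ({none, some 0} : Finset GolayPt))
    (by rw [Finset.card_image_of_injective _ ε.injective, hs]; rfl)
    (by rw [Finset.card_image_of_injective _ ε.injective, hs]; norm_num)
  set L := N ⊓ Subgroup.centralizer ({t} : Set G)
  set St := Cfsg.M24 ⊓ MulAction.stabilizer (Equiv.Perm Cfsg.GolayPt) ({none, some 0} : Set Cfsg.GolayPt)
  let γ : N →* Cfsg.M24 := (MulAut.conj (⟨g, hg⟩ : Cfsg.M24)).toMonoidHom.comp Φ
  have hst : ∀ n : N, (n : G) ∈ Subgroup.centralizer ({t} : Set G) ↔ (γ n : Equiv.Perm GolayPt) ∈ St := by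
    intro n
    have e1 : (n : G) ∈ Subgroup.centralizer ({t} : Set G) ↔ s.image (ptAct hP ρ hadd hPρ n) = s := by
      rw [pair_fix hP ρ hadd hPρ n hs, hsw, Subgroup.mem_centralizer_singleton_iff, ← mul_inv_eq_iff_eq_mul]
      exact ⟨fun e => congrArg Additive.ofMul (Subtype.ext e : (Additive.toMul (ρ n w) : A) = ⟨t, htA⟩),
        fun e => congrArg (fun v : Additive A => ((Additive.toMul v : A) : G)) e⟩
    have e2 : (s.image (ptAct hP ρ hadd hPρ n)).image ε = (Φ n : Equiv.Perm GolayPt) • s.image ε := by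
      show _ = (s.image ε).image _
      rw [Finset.image_image, Finset.image_image]
      exact Finset.image_congr fun p _ => (hΦ n p).symm
    rw [e1, ← (Finset.image_injective ε.injective).eq_iff, e2]
    rw [Subgroup.mem_inf, and_iff_right (γ n).2, MulAction.mem_stabilizer_iff,
      show ({none, some 0} : Set GolayPt) = ((g • s.image ε : Finset GolayPt) : Set GolayPt) by rw [hgs]; simp,
      ← Finset.coe_smul_finset, Finset.coe_inj,
      show (γ n : Equiv.Perm GolayPt) = g * (Φ n : Equiv.Perm GolayPt) * g⁻¹ from rfl, mul_smul, mul_smul,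
      inv_smul_smul, smul_left_cancel_iff]
  let Ψ : L →* St := ((Cfsg.M24.subtype.comp γ).comp (Subgroup.inclusion inf_le_left)).codRestrict St
    fun n => (hst ⟨n.1, n.2.1⟩).1 n.2.2
  have hΨs : Function.Surjective Ψ := by
    intro y
    obtain ⟨n, hn⟩ := (MonoidHom.range_eq_top.1 hrange) ((MulAut.conj (⟨g, hg⟩ : Cfsg.M24)).symm ⟨y.1, y.2.1⟩)
    have hy : γ n = ⟨y.1, y.2.1⟩ := by
      show (MulAut.conj (⟨g, hg⟩ : Cfsg.M24)) (Φ n) = _
      rw [hn, MulEquiv.apply_symm_apply]
    have hmem : (γ n : Equiv.Perm GolayPt) ∈ St := hy ▸ y.2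
    exact ⟨⟨n.1, n.2, (hst n).2 hmem⟩, Subtype.ext (congrArg (fun u : Cfsg.M24 => (u : Equiv.Perm GolayPt)) hy)⟩
  have hkerΨ : Ψ.ker = A.subgroupOf L := by
    ext n
    rw [MonoidHom.mem_ker, Subgroup.mem_subgroupOf]
    have h1 : Ψ n = 1 ↔ Φ ⟨n.1, n.2.1⟩ = 1 := by
      rw [Subtype.ext_iff]
      show (γ ⟨n.1, n.2.1⟩ : Equiv.Perm GolayPt) = ((1 : Cfsg.M24) : Equiv.Perm GolayPt) ↔ _
      rw [← Subtype.ext_iff]
      exact MulEquiv.map_eq_one_iff (MulAut.conj (⟨g, hg⟩ : Cfsg.M24))
    rw [h1, ← MonoidHom.mem_ker, hker, Subgroup.mem_subgroupOf]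
  haveI hn : (A.subgroupOf L).Normal := hkerΨ ▸ Ψ.normal_ker
  refine ⟨hn, ?_⟩
  exact ⟨(QuotientGroup.quotientMulEquivOfEq hkerΨ.symm).trans (QuotientGroup.quotientKerEquivOfSurjective Ψ hΨs)⟩

end Cfsg.Agent.LargeExtra.PairGraph
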