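import Cfsg.Agent.Lib.LargeExtra.Fischer.ANormCount
import Cfsg.Agent.Lib.LargeExtra.Fischer.MathieuMain

/-!
The Thompson subgroup in the large Fischer setting satisfies the hypotheses of the reconstruction, and the
results move to every Sylow subgroup.
-/

set_option autoImplicit false

namespace Cfsg.Agent.LargeExtra.Fischer

open Cfsg.Agent.InvChar.Coset
open Cfsg.Agent.Components.UnitarySix
open Cfsg.Agent.MonsterOrbits (bigQ mem_bigQ ctr_bigQ mem_center_iff')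
open Cfsg.Agent.LargeExtra.PairGraph (Pg IsMathieuSub mathieu)
open scoped Pointwise

/-- Moving a quotient by conjugation. -/
theorem transport {G : Type*} [Group G] {H : Type*} [Group H] {L A L' A' : Subgroup G} (k : G)
    (hL : L' = L.map (MulAut.conj k).toMonoidHom) (hA : A' = A.map (MulAut.conj k).toMonoidHom)
    (h : ∃ _ : (A.subgroupOf L).Normal, Nonempty (↥L ⧸ A.subgroupOf L ≃* H)) :
    ∃ _ : (A'.subgroupOf L').Normal, Nonempty (↥L' ⧸ A'.subgroupOf L' ≃* H) := by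
  subst hL hA
  obtain ⟨hn, ⟨e⟩⟩ := h
  let f : L ≃* L.map (MulAut.conj k).toMonoidHom := (MulAut.conj k).subgroupMap L
  have hf : (A.subgroupOf L).map f.toMonoidHom =
      (A.map (MulAut.conj k).toMonoidHom).subgroupOf (L.map (MulAut.conj k).toMonoidHom) := by
    ext y
    rw [Subgroup.mem_subgroupOf, Subgroup.mem_map]
    constructor
    · rintro ⟨a, ha, rfl⟩; exact ⟨a, ha, rfl⟩
    · rintro ⟨a, ha, e'⟩
      obtain ⟨l, rfl⟩ := f.surjective y
      exact ⟨l, Subgroup.mem_subgroupOf.2 ((MulAut.conj k).injective (show (MulAut.conj k) a = (MulAut.conj k) (l : G)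
        from e') ▸ ha), rfl⟩
  haveI hn' : ((A.map (MulAut.conj k).toMonoidHom).subgroupOf (L.map (MulAut.conj k).toMonoidHom)).Normal :=
    hf ▸ hn.map _ f.surjective
  exact ⟨hn', ⟨(QuotientGroup.congr _ _ f hf).symm.trans e⟩⟩

variable {G : Type*} [Group G] [Finite G] {z : G} {Q : Subgroup (Cz z)} [Q.Normal]

theorem mathieuSub {M : Subgroup (Cz z)} (hS : Cfsg.IsExtraspecialCentralizerSetting z Q 6) (F : Frame z Q M)
    {x : Cz z} (X : Scal F x) (hT : FusTwo z (AG hS F X)) : IsMathieuSub z (AG hS F X) := by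
  obtain ⟨-, hcard, hsq⟩ := AG_facts hS F X
  have tr : ∀ (r : G → Prop) (r' : Cz z → Prop), (∀ a, r ((a : Cz z) : G) ↔ r' a) →
      Nat.card {y : AG hS F X // r (y : G)} = Nat.card {a : Cz z // a ∈ A0 F X hS ∧ r' a} := by
    intro r r' h
    refine (Nat.card_congr (Equiv.ofBijective
      (fun a : {a : Cz z // a ∈ A0 F X hS ∧ r' a} =>
        (⟨⟨(a.1 : G), a.1, a.2.1, rfl⟩, (h a.1).2 a.2.2⟩ : {y : AG hS F X // r (y : G)})) ⟨?_, ?_⟩)).symm
    · intro a b e
      exact Subtype.ext (Subtype.ext (congrArg (fun v : {y : AG hS F X // r (y : G)} => ((v.1 : AG hS F X) : G)) e))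
    · rintro ⟨⟨_, a, ha, rfl⟩, hr⟩
      exact ⟨⟨a, ha, (h a).1 hr⟩, rfl⟩
  have hP : ∀ a : Cz z, Pg z (a : G) ↔ Pc a := fun a =>
    and_congr_left fun _ => not_congr ⟨fun e => Subtype.ext e, fun e => congrArg Subtype.val e⟩
  refine
    { sq := hsq, card := hcard, cent := fun g => cent_AG hS F X, zmem := mem_AG_z hS F X
      zne := (ctr_bigQ hS).ne_one
      fus := fun a ha hz => ?_
      cardZ := (tr _ Zc fun a => Iff.rfl).trans (counts hS F X hT).2
      cardP := (tr _ Pc hP).trans (card_Pc hS F X hT)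
      card36 := ?_
      lines := ?_
      dvd := ?_ }
  · obtain ⟨g, hg⟩ := isConj_iff.1 hz
    obtain ⟨m, hm, e⟩ := hT.1 z (mem_AG_z hS F X) g (hg ▸ ha)
    exact ⟨m, hm, e.trans hg⟩
  · rw [tr (fun y => Pg z y ∧ Pg z (y * z)) (fun a => Pc a ∧ Pc (a * zC z))
      fun a => and_congr (hP a) (hP (a * zC z))]
    exact card_Sz hS F X hT
  · rintro _ ⟨a, ha, rfl⟩ h1 h2
    obtain ⟨h4, hcl⟩ := pencil_pairs hS F X hT (a := a) ⟨ha, (hP a).1 h1, (hP (a * zC z)).1 h2⟩
    refine ⟨?_, ?_⟩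
    · rw [tr (fun y => (Pg z y ∧ Pg z (y * z)) ∧ Pg z ((Cz z).subtype a * y))
        (fun y => (Pc y ∧ Pc (y * zC z)) ∧ Pc (a * y))
        fun y => and_congr (and_congr (hP y) (hP (y * zC z))) (hP (a * y)), ← h4]
      exact Nat.card_congr (Equiv.subtypeEquivRight fun y => by simp [Sz, and_assoc])
    · rintro _ ⟨y, hy, rfl⟩ h5 h6 h7
      exact (hP (a * y * zC z)).2 (hcl y ⟨hy, (hP y).1 h5, (hP (y * zC z)).1 h6⟩ ((hP (a * y)).1 h7))
  · refine (dvd_card_NC hS F X).trans ?_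
    rw [← Subgroup.card_map_of_injective (K := NC hS F X) (Cz z).subtype_injective]
    refine Subgroup.card_dvd_of_le ?_
    rintro _ ⟨c, hc, rfl⟩
    refine ⟨Subgroup.mem_normalizer_fintype ?_, c.2⟩
    rintro _ ⟨a, ha, rfl⟩
    exact ⟨c * a * c⁻¹, (Subgroup.mem_normalizer_iff.1 hc a).1 ha, rfl⟩

/-- The Thompson subgroup of some Sylow subgroup. -/
theorem exists_mathieuSub (hF : Cfsg.IsOfLargeFischerTypeAt z Q) : ∃ (P : Sylow 2 G) (A : Subgroup G),
    Cfsg.thompsonSubgroupOf 2 (P : Subgroup G) = A ∧ Cfsg.IsElementaryAbelian 2 A ∧ IsMathieuSub z A := by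
  classical
  haveI : Fact (Nat.Prime 2) := ⟨Nat.prime_two⟩
  obtain ⟨M, ⟨F0⟩⟩ := exists_frame hF
  have hS := hF.1
  let TH : Sylow 2 (Cz z) := Classical.arbitrary _
  obtain ⟨F, x, X, hAT, huniq⟩ := exists_A0 hS F0 TH
  obtain ⟨P, hP⟩ := sylow_extends hS TH
  obtain ⟨hel, hcA, hsq⟩ := AG_facts hS F X
  have hAP : AG hS F X ≤ (P : Subgroup G) := hP ▸ Subgroup.map_mono hAT
  have hJ : Cfsg.thompsonSubgroupOf 2 (P : Subgroup G) = AG hS F X := by
    refine thompson_of_unique hAP hsq fun B hB hBsq hle => ?_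
    have hBC : B ≤ Cz z := fun b hb => by
      obtain ⟨c, -, e⟩ := (hP ▸ hB) hb
      exact e ▸ c.2
    have h := huniq (B.subgroupOf (Cz z)) (fun b hb => by
      obtain ⟨c, hc, e⟩ := (hP ▸ hB) (Subgroup.mem_subgroupOf.1 hb)
      exact (Subtype.ext e : c = b) ▸ hc)
      (fun b hb => Subtype.ext (hBsq _ hb))
      (by rw [Nat.card_congr (Subgroup.subgroupOfEquivOfLe hBC).toEquiv]; exact hcA ▸ hle)
    rw [AG, ← h, Subgroup.map_subgroupOf_eq_of_le hBC]
  obtain ⟨P', A', hJ', hT'⟩ := fischer_A hF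
  obtain ⟨k, hk⟩ := MulAction.exists_smul_eq G P' P
  have hT : FusTwo z (AG hS F X) := by
    rw [← hJ, ← hk, thompson_conj, hJ']
    exact hT'.map k
  exact ⟨P, AG hS F X, hJ, hel, mathieuSub hS F X hT⟩

/-- The two quotients at every Sylow subgroup. -/
theorem thompson_mathieu (hF : Cfsg.IsOfLargeFischerTypeAt z Q) (T : Sylow 2 G) :
    (Cfsg.IsElementaryAbelian 2 (Cfsg.thompsonSubgroupOf 2 (T : Subgroup G)) ∧
      Nat.card (Cfsg.thompsonSubgroupOf 2 (T : Subgroup G)) = 2 ^ 11) ∧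
    (∃ _ : ((Cfsg.thompsonSubgroupOf 2 (T : Subgroup G)).subgroupOf
        (Subgroup.normalizer (Cfsg.thompsonSubgroupOf 2 (T : Subgroup G) : Set G))).Normal,
      Nonempty (↥(Subgroup.normalizer (Cfsg.thompsonSubgroupOf 2 (T : Subgroup G) : Set G)) ⧸
        (Cfsg.thompsonSubgroupOf 2 (T : Subgroup G)).subgroupOf
          (Subgroup.normalizer (Cfsg.thompsonSubgroupOf 2 (T : Subgroup G) : Set G)) ≃* ↥Cfsg.M24)) ∧
    ∀ t ∈ Cfsg.thompsonSubgroupOf 2 (T : Subgroup G), t ≠ 1 → ¬ IsConj z t →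
      ∃ _ : ((Cfsg.thompsonSubgroupOf 2 (T : Subgroup G)).subgroupOf
          (Subgroup.normalizer (Cfsg.thompsonSubgroupOf 2 (T : Subgroup G) : Set G) ⊓
            Subgroup.centralizer ({t} : Set G))).Normal,
        Nonempty (↥(Subgroup.normalizer (Cfsg.thompsonSubgroupOf 2 (T : Subgroup G) : Set G) ⊓
            Subgroup.centralizer ({t} : Set G)) ⧸
          (Cfsg.thompsonSubgroupOf 2 (T : Subgroup G)).subgroupOf
            (Subgroup.normalizer (Cfsg.thompsonSubgroupOf 2 (T : Subgroup G) : Set G) ⊓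
              Subgroup.centralizer ({t} : Set G)) ≃*
          ↥(Cfsg.M24 ⊓ MulAction.stabilizer (Equiv.Perm Cfsg.GolayPt) ({none, some 0} : Set Cfsg.GolayPt))) := by
  haveI : Fact (Nat.Prime 2) := ⟨Nat.prime_two⟩
  obtain ⟨P, A, hJ, hel, hM⟩ := exists_mathieuSub hF
  obtain ⟨k, rfl⟩ := MulAction.exists_smul_eq G P T
  rw [thompson_conj, hJ]
  set f := (MulAut.conj k).toMonoidHom with hf
  have hmap : ∀ {y : G}, y ∈ A.map f ↔ k⁻¹ * y * k ∈ A := fun {y} => by
    rw [hf, Subgroup.mem_map_equiv, MulAut.conj_symm_apply]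
  have hN : Subgroup.normalizer (A.map f : Set G) = (Subgroup.normalizer (A : Set G)).map f := by
    rw [hf, Subgroup.map_equiv_normalizer_eq]
  obtain ⟨h1, h2⟩ := mathieu hM
  refine ⟨⟨⟨⟨⟨fun a b => Subtype.ext ?_⟩⟩, ?_⟩, ?_⟩, transport k hN rfl h1, fun t ht ht1 htz => ?_⟩
  · obtain ⟨u, hu, e⟩ := a.2
    obtain ⟨v, hv, e'⟩ := b.2
    show (a : G) * (b : G) = (b : G) * (a : G)
    rw [← e, ← e', ← map_mul, ← map_mul, hM.comm u hu v hv]
  · rintro _ ⟨u, hu, rfl⟩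
    rw [← map_pow, pow_two, hM.sq u hu, map_one]
  · rw [Subgroup.card_map_of_injective (MulAut.conj k).injective, hM.card]
  obtain ⟨u, hu, rfl⟩ := ht
  have hu' : Pg z u := by
    refine ⟨fun e => ht1 (by rw [e, map_one]), fun e => htz (e.trans (isConj_iff.2 ⟨k, rfl⟩))⟩
  refine transport k ?_ rfl (h2 u hu hu')
  rw [hN, Subgroup.map_inf _ _ _ (MulAut.conj k).injective]
  congr 1
  ext y
  rw [hf, Subgroup.mem_map_equiv, MulAut.conj_symm_apply, Subgroup.mem_centralizer_singleton_iff,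
    Subgroup.mem_centralizer_singleton_iff]
  show y * (k * u * k⁻¹) = k * u * k⁻¹ * y ↔ _
  constructor
  · intro e
    calc k⁻¹ * y * k * u = k⁻¹ * (y * (k * u * k⁻¹)) * k := by group
      _ = u * (k⁻¹ * y * k) := by rw [e]; group
  · intro e
    calc y * (k * u * k⁻¹) = k * (k⁻¹ * y * k * u) * k⁻¹ := by group
      _ = k * u * k⁻¹ * y := by rw [e]; group

end Cfsg.Agent.LargeExtra.Fischer
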