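import Cfsg.Agent.Lib.LargeExtra.Fischer.FourGroup
import Cfsg.Agent.Lib.LargeExtra.Fischer.ThompsonMathieu
import Cfsg.Agent.Lib.Golay.M24
import Cfsg.Agent.Lib.FullSylow.Small
import Cfsg.Agent.Lib.Cores.Basic
import Cfsg.Agent.Lib.TimesPSLTwo.AffineBad
import Cfsg.Agent.Lib.ZStar.Main
import Cfsg.Agent.S3230

/-!
The centralizer of the four-group modulo the four-group: centralizer of an involution, and a member moving
the central involution.
-/

set_option autoImplicit false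

namespace Cfsg.Agent.LargeExtra.Fischer

open Cfsg.Agent.InvChar.Coset
open Cfsg.Agent.Components.UnitarySix
open Cfsg.Agent.MonsterOrbits (bigQ mem_bigQ ctr_bigQ mem_center_iff')
open Cfsg.Agent.LargeExtra.PairGraph (Pg Pg_conj IsMathieuSub mathieu)
open scoped commutatorElement

theorem dS_moves : ¬ InU2 (dS • (Upar 0 1 1 : V)) ∧ InU2 (Upar 0 1 1 : V) := by decide +kernel

variable {G : Type*} [Group G] [Finite G] {z : G} {Q : Subgroup (Cz z)} [Q.Normal] {M : Subgroup (Cz z)}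

/-- The frame of the large elementary group. -/
theorem exists_setup (hF : Cfsg.IsOfLargeFischerTypeAt z Q) :
    ∃ (M : Subgroup (Cz z)) (F : Frame z Q M) (x : Cz z) (X : Scal F x), IsMathieuSub z (AG hF.1 F X) := by
  classical
  haveI : Fact (Nat.Prime 2) := ⟨Nat.prime_two⟩
  obtain ⟨M, ⟨F0⟩⟩ := exists_frame hF
  have hS := hF.1
  let TH : Sylow 2 (Cz z) := Classical.arbitrary _
  obtain ⟨F, x, X, hAT, huniq⟩ := exists_A0 hS F0 TH
  obtain ⟨P, hP⟩ := sylow_extends hS TH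
  obtain ⟨-, hcA, -⟩ := AG_facts hS F X
  have hAP : AG hS F X ≤ (P : Subgroup G) := hP ▸ Subgroup.map_mono hAT
  have hJ : Cfsg.thompsonSubgroupOf 2 (P : Subgroup G) = AG hS F X := by
    refine thompson_of_unique hAP (AG_facts hS F X).2.2 fun B hB hBsq hle => ?_
    have hBC : B ≤ Cz z := fun b hb => by
      obtain ⟨c, -, e⟩ := (hP ▸ hB) hb
      exact e ▸ c.2
    have h := huniq (B.subgroupOf (Cz z)) (fun b hb => by
      obtain ⟨c, hc, e⟩ := (hP ▸ hB) (Subgroup.mem_subgroupOf.1 hb)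
      exact (Subtype.ext e : c = b) ▸ hc)
      (fun b hb => Subtype.ext (hBsq _ hb))
      (by rw [Nat.card_congr (Subgroup.subgroupOfEquivOfLe hBC).toEquiv]; exact hcA ▸ hle)
    rw [AG, ← h, Subgroup.map_subgroupOf_eq_of_le hBC]
  obtain ⟨P', A', hJ', hT'⟩ := fischer_A hF
  obtain ⟨k, hk⟩ := MulAction.exists_smul_eq G P' P
  have hT : FusTwo z (AG hS F X) := by
    rw [← hJ, ← hk, thompson_conj, hJ']
    exact hT'.map k
  exact ⟨M, F, x, X, mathieuSub hS F X hT⟩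

variable (hS : Cfsg.IsExtraspecialCentralizerSetting z Q 6) {F : Frame z Q M} (W : Four F)

namespace Four

/-- A member of the centralizer not fixing the central involution. -/
theorem exists_mover {x : Cz z} (X : Scal F x) (d : IsMathieuSub z (AG hS F X)) :
    ∃ m ∈ W.C, m * z * m⁻¹ ≠ z ∧ m * z * m⁻¹ ∈ Cz z := by
  classical
  set A := AG hS F X with hA
  set N := Subgroup.normalizer (A : Set G) with hN
  have hUA : ∀ q : Q, InU2 (F.φ q) → inQ Q q ∈ A := fun q hq =>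
    ⟨(q : Cz z), UT_le_A0 hS F X ⟨q.2, hq⟩, rfl⟩
  have htA : inQ Q W.t ∈ A := hUA _ (by rw [W.ht]; exact e01_U.1)
  have huA : inQ Q W.u ∈ A := hUA _ (by rw [W.hu]; exact InU2_smul _ e01_U.1)
  have hne1 : ∀ q : Q, F.φ q ≠ 0 → inQ Q q ≠ 1 := fun q h e => h (by
    rw [(inQ_injective (e.trans (map_one _).symm) : q = 1), F.φ_one])
  have htP : Pg z (inQ Q W.t) :=
    ⟨hne1 _ (by rw [W.ht]; exact line_distinct.1), W.not_conj hS W.t_mem (hne1 _ (by rw [W.ht]; exact line_distinct.1))⟩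
  have huP : Pg z (inQ Q W.u) :=
    ⟨hne1 _ (by rw [W.hu]; exact line_distinct.2.1),
      W.not_conj hS W.u_mem (hne1 _ (by rw [W.hu]; exact line_distinct.2.1))⟩
  by_contra hcon
  push Not at hcon
  have hle : N ⊓ W.C ≤ Cz z := fun m hm => by
    by_contra hmz
    have hzA : m * z * m⁻¹ ∈ A := (Subgroup.mem_normalizer_iff.1 hm.1 z).1 d.zmem
    refine hcon m hm.2 (fun e => hmz ?_) ?_
    · rw [Subgroup.mem_centralizer_singleton_iff]; exact mul_inv_eq_iff_eq_mul.1 e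
    · exact Subgroup.mem_centralizer_singleton_iff.2 (d.comm _ hzA _ d.zmem)
  -- the size of the normalizer
  obtain ⟨⟨hAn, ⟨eM⟩⟩, -⟩ := mathieu d
  have hcN : Nat.card N = 244823040 * 2 ^ 11 := by
    rw [Subgroup.card_eq_card_quotient_mul_card_subgroup (A.subgroupOf N), Nat.card_congr eM.toEquiv,
      Cfsg.Agent.Golay.M24.card_M24,
      Nat.card_congr (Subgroup.subgroupOfEquivOfLe (Subgroup.le_normalizer : A ≤ N)).toEquiv, d.card]
  -- the orbit of the pair
  set K := (N ⊓ W.C).subgroupOf N with hK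
  have horb : Nat.card (N ⧸ K) ≤ 276 * 276 := by
    rw [← d.cardP, ← Nat.card_prod]
    have mk : ∀ (n : N) (y : G), y ∈ A → Pg z y → ∃ p : {y : A // Pg z (y : G)}, ((p.1 : A) : G) = n * y * (n : G)⁻¹ :=
      fun n y hy hP => ⟨⟨⟨_, (Subgroup.mem_normalizer_iff.1 n.2 y).1 hy⟩, (Pg_conj _ _).2 hP⟩, rfl⟩
    choose p hp using mk
    refine Nat.card_le_card_of_injective
      (fun c : N ⧸ K => (p c.out _ htA htP, p c.out _ huA huP)) fun a b e => ?_
    have e1 := congrArg (fun w : {y : A // Pg z (y : G)} × {y : A // Pg z (y : G)} => ((w.1.1 : A) : G)) e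
    have e2 := congrArg (fun w : {y : A // Pg z (y : G)} × {y : A // Pg z (y : G)} => ((w.2.1 : A) : G)) e
    simp only [hp] at e1 e2
    refine (QuotientGroup.out_eq' a).symm.trans (Eq.trans ?_ (QuotientGroup.out_eq' b))
    refine QuotientGroup.eq.2 (Subgroup.mem_subgroupOf.2 ?_)
    refine ⟨(a.out⁻¹ * b.out).2, (W.mem_C hS).2 ⟨?_, ?_⟩⟩
    · show (a.out : G)⁻¹ * (b.out : G) * inQ Q W.t = inQ Q W.t * ((a.out : G)⁻¹ * (b.out : G))
      calc _ = (a.out : G)⁻¹ * ((b.out : G) * inQ Q W.t * (b.out : G)⁻¹) * b.out := by group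
        _ = _ := by rw [← e1]; group
    · show (a.out : G)⁻¹ * (b.out : G) * inQ Q W.u = inQ Q W.u * ((a.out : G)⁻¹ * (b.out : G))
      calc _ = (a.out : G)⁻¹ * ((b.out : G) * inQ Q W.u * (b.out : G)⁻¹) * b.out := by group
        _ = _ := by rw [← e2]; group
  have hcK : Nat.card K = Nat.card ((N ⊓ W.C).subgroupOf (Cz z)) := by
    rw [hK, Nat.card_congr (Subgroup.subgroupOfEquivOfLe (inf_le_left : N ⊓ W.C ≤ N)).toEquiv,
      Nat.card_congr (Subgroup.subgroupOfEquivOfLe hle).toEquiv]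
  -- the part in the centralizer
  set Y := (N ⊓ W.C).subgroupOf (Cz z) with hY
  have hYD : Y ≤ W.D := fun y hy => Subgroup.mem_subgroupOf.2 (Subgroup.mem_subgroupOf.1 hy).2
  have hU : ∀ y ∈ Y, ∀ v, InU2 v → InU2 (F.act y v) := by
    intro y hy v hv
    obtain ⟨q, rfl⟩ := F.surj v
    have hyA : (y : G) * inQ Q q * (y : G)⁻¹ ∈ A :=
      (Subgroup.mem_normalizer_iff.1 (Subgroup.mem_subgroupOf.1 hy).1 _).1 (hUA q hv)
    obtain ⟨c, hc, e⟩ := hyA
    have hcq : c = (MulAut.conjNormal y q : Q).1 := Subtype.ext (e.trans (by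
      rw [MulAut.conjNormal_apply]; rfl))
    have hUT : c ∈ UT F := A0_inf hS F X ▸ (⟨hc, hcq ▸ (MulAut.conjNormal y q).2⟩ : c ∈ A0 F X hS ⊓ Q)
    subst hcq
    obtain ⟨_, h⟩ := hUT
    rwa [← F.conj]
  let R : Subgroup (StabK e01) :=
    { carrier := {k | ∀ v, InU2 ((k : S) • v) ↔ InU2 v}
      one_mem' := fun v => by rw [OneMemClass.coe_one, one_smul]
      mul_mem' := fun {a b} ha hb v => by rw [Subgroup.coe_mul, mul_smul, ha, hb]
      inv_mem' := fun {a} ha v => by rw [← ha, InvMemClass.coe_inv, smul_inv_smul] }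
  have hR : R ≠ ⊤ := fun e => dS_moves.1 (((e ▸ Subgroup.mem_top (⟨dS, dS_mem⟩ : StabK e01) :
    (⟨dS, dS_mem⟩ : StabK e01) ∈ R) (Upar 0 1 1)).2 dS_moves.2)
  have hRcard : Nat.card R ≤ 2880 := by
    haveI := stab_e01_simple
    have hG : Nat.card (StabK e01) = 25920 := by rw [card_StabK, card_stab_e01]
    have h := R.card_mul_index
    rw [hG] at h
    by_contra hlt
    have h9 : R.index < 9 := by nlinarith
    refine hR (Cfsg.Agent.FullSylow.Small.eq_top_of_small_index R ?_)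
    rw [hG]
    generalize R.index = i at h9
    interval_cases i <;> decide
  let f : Y →* StabK e01 := (W.rep hS).comp (Subgroup.inclusion hYD)
  have hYle : Nat.card Y ≤ 2 ^ 11 * 2880 := by
    have h := Subgroup.card_mul_index f.ker
    rw [Subgroup.index_ker] at h
    rw [← h]
    refine Nat.mul_le_mul ?_ (le_trans (Subgroup.card_le_of_le ?_) hRcard)
    · rw [← W.card_DQ hS]
      refine Nat.card_le_card_of_injective (fun y : f.ker =>
        (⟨⟨(y.1 : Cz z), (W.rep_eq_one hS _).1 (MonoidHom.mem_ker.1 y.2)⟩, hYD y.1.2⟩ :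
          {q : Q // (q : Cz z) ∈ W.D})) fun a b e => ?_
      exact Subtype.ext (Subtype.ext (congrArg (fun q : {q : Q // (q : Cz z) ∈ W.D} => (q.1 : Cz z)) e))
    · rintro _ ⟨y, rfl⟩ v
      have e : ∀ (y : Y) (v : V), (f y : S) • v = F.act (y : Cz z) v := fun y v => (W.rep_spec hS _ v).symm
      refine ⟨fun h => ?_, fun h => (e y v).symm ▸ hU _ y.2 v h⟩
      rw [e] at h
      have := hU _ (Y.inv_mem y.2) _ h
      rwa [← Equiv.Perm.mul_apply, ← map_mul, inv_mul_cancel, map_one, Equiv.Perm.one_apply] at this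
  have hN2 := K.card_mul_index
  rw [hcN, hcK, Subgroup.index] at hN2
  have := Nat.mul_le_mul hYle horb
  rw [hN2] at this
  norm_num at this

/-! ### The quotient -/

include hS in
theorem E_le_Cz : W.E ≤ Cz z := fun _ h => (mem_bigQ.1 (W.le_bigQ h)).1

include hS in
theorem E_le_C : W.E ≤ W.C := fun x hx => by
  rw [C, Subgroup.mem_centralizer_iff]
  intro y hy
  have := (W.elem hS).1.1
  exact congrArg Subtype.val (mul_comm' (⟨y, hy⟩ : W.E) ⟨x, hx⟩)

/-- The four-group inside its centralizer. -/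
def E' : Subgroup W.C := W.E.subgroupOf W.C

theorem E'_le : W.E' ≤ Subgroup.center W.C := fun x hx => Subgroup.mem_center_iff.2 fun g =>
  Subtype.ext ((Subgroup.mem_centralizer_iff.1 g.2 _ (Subgroup.mem_subgroupOf.1 hx)).symm)

instance E'_normal : W.E'.Normal := ⟨fun n hn g => by
  rw [Subgroup.mem_center_iff.1 (W.E'_le hn) g, mul_inv_cancel_right]; exact hn⟩

include hS in
theorem z_mem_C : z ∈ W.C := by
  rw [C, Subgroup.mem_centralizer_iff]
  exact fun y hy => (ctr_bigQ hS).comm (W.le_bigQ hy)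

/-- The image of the central involution. -/
def zb : W.C ⧸ W.E' := QuotientGroup.mk ⟨z, W.z_mem_C hS⟩

/-- The map from the centralizer of the central involution. -/
def π : W.D →* Subgroup.centralizer ({W.zb hS} : Set (W.C ⧸ W.E')) :=
  MonoidHom.codRestrict ((QuotientGroup.mk' W.E').comp
      (MonoidHom.codRestrict ((Cz z).subtype.comp W.D.subtype) W.C fun c => Subgroup.mem_subgroupOf.1 c.2)) _
    fun c => Subgroup.mem_centralizer_singleton_iff.2 (congrArg QuotientGroup.mk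
      (Subtype.ext (Subgroup.mem_centralizer_singleton_iff.1 (c : Cz z).2) :
        (⟨((c : Cz z) : G), Subgroup.mem_subgroupOf.1 c.2⟩ : W.C) * ⟨z, W.z_mem_C hS⟩ =
          ⟨z, W.z_mem_C hS⟩ * ⟨((c : Cz z) : G), Subgroup.mem_subgroupOf.1 c.2⟩))

theorem π_eq_iff (c d : W.D) : W.π hS c = W.π hS d ↔ ((c : Cz z) : G)⁻¹ * ((d : Cz z) : G) ∈ W.E := by
  rw [← Subtype.coe_inj]
  exact QuotientGroup.eq.trans Subgroup.mem_subgroupOf

theorem π_eq_one (c : W.D) : W.π hS c = 1 ↔ ((c : Cz z) : G) ∈ W.E := by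
  rw [eq_comm, ← map_one (W.π hS), W.π_eq_iff hS]
  simp

theorem π_surjective : Function.Surjective (W.π hS) := by
  rintro ⟨w, hw⟩
  obtain ⟨⟨g, hg⟩, rfl⟩ := QuotientGroup.mk_surjective w
  have h := Subgroup.mem_centralizer_singleton_iff.1 hw
  rw [zb, ← QuotientGroup.mk_mul, ← QuotientGroup.mk_mul, QuotientGroup.eq, E', Subgroup.mem_subgroupOf] at h
  have hk : z⁻¹ * (g⁻¹ * z * g) ∈ W.E := by
    have hz : z⁻¹ = z := inv_eq_of_mul_eq_one_right (by rw [← pow_two, ← hS.1, pow_orderOf_eq_one])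
    have e : ((((⟨g, hg⟩ : W.C) * ⟨z, W.z_mem_C hS⟩)⁻¹ * (⟨z, W.z_mem_C hS⟩ * ⟨g, hg⟩) : W.C) : G) =
        z⁻¹ * (g⁻¹ * z * g) := by
      simp [mul_assoc]
    exact e ▸ h
  have hgz : g⁻¹ * z * g = z := by
    by_contra hne
    obtain ⟨q, hq, hI, -⟩ := W.cases hS hk fun e => hne (inv_mul_eq_one.1 e).symm
    obtain ⟨hzC, hzQ⟩ := zmem hS
    refine not_conj_of_InO hS F (q := ⟨⟨z, hzC⟩, hzQ hzC⟩ * q) ?_ ?_
    · rw [F.φ_mul, (F.zero _).2 ((mem_center_iff' hS).2 (Or.inr rfl)), zero_add]; exact hI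
    · have e : inQ Q (⟨⟨z, hzC⟩, hzQ hzC⟩ * q) = g⁻¹ * z * g := by
        rw [map_mul, hq]
        show z * (z⁻¹ * (g⁻¹ * z * g)) = _
        rw [mul_inv_cancel_left]
      rw [e]
      exact isConj_iff.2 ⟨g⁻¹, by group⟩
  have hgC : g ∈ Cz z := by
    rw [Subgroup.mem_centralizer_singleton_iff]
    calc g * z = g * (g⁻¹ * z * g) := by rw [hgz]
      _ = z * g := by group
  exact ⟨⟨⟨g, hgC⟩, Subgroup.mem_subgroupOf.2 hg⟩, rfl⟩

/-- The representation of the centralizer in the quotient. -/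
noncomputable def ψ : Subgroup.centralizer ({W.zb hS} : Set (W.C ⧸ W.E')) →* StabK e01 :=
  (W.π hS).liftOfSurjective (W.π_surjective hS) ⟨W.rep hS, fun c hc => MonoidHom.mem_ker.2
    ((W.rep_eq_one hS c).2 (by
      obtain ⟨q, -, e⟩ := (W.π_eq_one hS c).1 (MonoidHom.mem_ker.1 hc)
      exact (Subtype.ext e : (q : Cz z) = c) ▸ q.2))⟩

theorem ψ_π (c : W.D) : W.ψ hS (W.π hS c) = W.rep hS c :=
  MonoidHom.liftOfRightInverse_comp_apply _ _ _ _ c

theorem ψ_surjective : Function.Surjective (W.ψ hS) := fun k => by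
  obtain ⟨c, rfl⟩ := W.rep_surjective hS k
  exact ⟨_, W.ψ_π hS c⟩

/-- The image of the extraspecial part. -/
def J : Subgroup (Subgroup.centralizer ({W.zb hS} : Set (W.C ⧸ W.E'))) :=
  (Q.subgroupOf W.D).map (W.π hS)

theorem ψ_ker : (W.ψ hS).ker = W.J hS := by
  refine le_antisymm (fun y hy => ?_) ?_
  · obtain ⟨c, rfl⟩ := W.π_surjective hS y
    rw [MonoidHom.mem_ker, W.ψ_π, W.rep_eq_one] at hy
    exact ⟨c, Subgroup.mem_subgroupOf.2 hy, rfl⟩
  · rintro _ ⟨c, hc, rfl⟩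
    rw [MonoidHom.mem_ker, W.ψ_π, W.rep_eq_one]
    exact Subgroup.mem_subgroupOf.1 hc

theorem card_J : Nat.card (W.J hS) = 2 ^ 9 := by
  let f := (W.π hS).comp (Q.subgroupOf W.D).subtype
  have hr : f.range = W.J hS := by
    rw [MonoidHom.range_comp, Subgroup.range_subtype]; rfl
  have h := Subgroup.card_mul_index f.ker
  rw [Subgroup.index_ker, hr] at h
  have hk : Nat.card f.ker = 4 := by
    rw [← (W.elem hS).2]
    refine Nat.card_congr (Equiv.ofBijective
      (fun c : f.ker => (⟨((c.1.1 : Cz z) : G), (W.π_eq_one hS _).1 (MonoidHom.mem_ker.1 c.2)⟩ : W.E)) ⟨?_, ?_⟩)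
    · intro a b e
      exact Subtype.ext (Subtype.ext (Subtype.ext (Subtype.ext (congrArg (fun w : W.E => (w : G)) e))))
    · rintro ⟨x, hx⟩
      obtain ⟨q, -, e⟩ := id hx
      have hD : (⟨x, W.E_le_Cz hS hx⟩ : Cz z) ∈ W.D := Subgroup.mem_subgroupOf.2 (W.E_le_C hS hx)
      have hxQ : (⟨x, W.E_le_Cz hS hx⟩ : Cz z) ∈ Q :=
        (Subtype.ext e : (q : Cz z) = ⟨x, W.E_le_Cz hS hx⟩) ▸ q.2
      exact ⟨⟨⟨⟨_, hD⟩, Subgroup.mem_subgroupOf.2 hxQ⟩, MonoidHom.mem_ker.2 ((W.π_eq_one hS _).2 hx)⟩, rfl⟩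
  have hQD : Nat.card (Q.subgroupOf W.D) = 2 ^ 11 := by
    rw [← W.card_DQ hS]
    exact Nat.card_congr
      { toFun := fun c => ⟨⟨(c.1 : Cz z), Subgroup.mem_subgroupOf.1 c.2⟩, c.1.2⟩
        invFun := fun q => ⟨⟨(q.1 : Cz z), q.2⟩, Subgroup.mem_subgroupOf.2 q.1.2⟩
        left_inv := fun c => rfl
        right_inv := fun q => rfl }
  rw [hk, hQD] at h
  omega

/-- The members above the orthogonal space. -/
theorem exists_π (v : V) (hv : H v e01 = 0) :
    ∃ (q : Q) (hq : (q : Cz z) ∈ W.D), F.φ q = v ∧ W.π hS ⟨q, hq⟩ ∈ W.J hS := by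
  obtain ⟨q, hq⟩ := F.surj v
  have hD : (q : Cz z) ∈ W.D := (W.mem_D_inQ hS q).2 (by rw [hq]; exact hv)
  exact ⟨q, hD, hq, ⟨⟨q, hD⟩, Subgroup.mem_subgroupOf.2 q.2, rfl⟩⟩

include hS in
theorem z_mem_D : (zC z) ∈ W.D := Subgroup.mem_subgroupOf.2 (W.z_mem_C hS)

/-- A commutator above the four-group is trivial. -/
theorem comm_of_π {q r : Q} (hq : (q : Cz z) ∈ W.D) (hr : (r : Cz z) ∈ W.D)
    (h : W.π hS ⟨q, hq⟩ * W.π hS ⟨r, hr⟩ = W.π hS ⟨r, hr⟩ * W.π hS ⟨q, hq⟩) : q * r = r * q := by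
  rw [← map_mul, ← map_mul, W.π_eq_iff hS] at h
  have hcen : (q * r)⁻¹ * (r * q) ∈ Subgroup.center Q := (F.zero _).1 (by
    rw [F.φ_mul, φ_inv' F, F.φ_mul, F.φ_mul, add_comm (F.φ r), V_add_self])
  rcases (mem_center_iff' hS).1 hcen with e | e
  · exact inv_mul_eq_one.1 (Subtype.ext (Subtype.ext e))
  · have h' : inQ Q ((q * r)⁻¹ * (r * q)) ∈ W.E := by simpa [inQ] using h
    rw [show inQ Q ((q * r)⁻¹ * (r * q)) = z from e] at h'
    exact absurd h' (W.z_not_mem hS)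

theorem J_extraspecial : Cfsg.IsExtraspecial 2 (W.J hS) := by
  have hzb : W.π hS ⟨zC z, W.z_mem_D hS⟩ ∈ W.J hS := by
    obtain ⟨hzC, hzQ⟩ := zmem hS
    exact ⟨_, Subgroup.mem_subgroupOf.2 (hzQ _), rfl⟩
  refine Cfsg.Agent.LargeExtra.Affine.isExtraspecial_mk (z := W.π hS ⟨zC z, W.z_mem_D hS⟩)
    (IsPGroup.of_card (W.card_J hS)) hzb ?_ ?_ ?_ ?_ ?_
  · rw [Ne, W.π_eq_one hS]
    exact W.z_not_mem hS
  · intro y _
    obtain ⟨c, rfl⟩ := W.π_surjective hS y
    rw [← map_mul, ← map_mul]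
    exact congrArg (W.π hS) (Subtype.ext (Subtype.ext (Subgroup.mem_centralizer_singleton_iff.1 (c : Cz z).2)))
  · rintro _ ⟨c, hc, rfl⟩
    set q : Q := ⟨c, Subgroup.mem_subgroupOf.1 hc⟩
    rcases (mem_center_iff' hS).1 ((F.zero (q * q)).1 (by rw [F.φ_mul, V_add_self])) with e | e
    · exact Or.inl (by rw [← map_mul, ← map_one (W.π hS)]; exact congrArg _ (Subtype.ext (Subtype.ext e)))
    · exact Or.inr (by rw [← map_mul]; exact congrArg _ (Subtype.ext (Subtype.ext e)))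
  · rintro _ ⟨c, hc, rfl⟩ hcomm
    set q : Q := ⟨c, Subgroup.mem_subgroupOf.1 hc⟩
    have hq : (q : Cz z) ∈ W.D := c.2
    have hrad : F.φ q = F.φ q 0 • e01 := orth_radical ((W.mem_D_inQ hS q).1 hq) fun y hy => by
      obtain ⟨r, hr, rfl, hrJ⟩ := W.exists_π hS y hy
      exact (commute_iff_trace hS F q r).1 (W.comm_of_π hS hq hr (hcomm _ hrJ).symm)
    -- a member of the four-group with the same vector
    obtain ⟨r, hr, hre⟩ : ∃ r : Q, inQ Q r ∈ W.E ∧ F.φ r = F.φ q := by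
      rw [hrad]
      generalize F.φ q 0 = l
      rcases (by revert l; decide : l = 0 ∨ l = 1 ∨ l = FF.w ∨ l = FF.w2) with rfl | rfl | rfl | rfl
      · exact ⟨1, by rw [map_one]; exact one_mem _, by rw [F.φ_one, zero_smul]⟩
      · exact ⟨W.t, W.t_mem, by rw [W.ht, one_smul]⟩
      · exact ⟨W.u, W.u_mem, W.hu⟩
      · exact ⟨W.t * W.u, by rw [map_mul]; exact mul_mem W.t_mem W.u_mem,
          by rw [F.φ_mul, W.ht, W.hu, line_distinct.2.2.1]⟩
    rcases F.eq_or_mul_z hS hre with e | e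
    · exact Or.inl ((W.π_eq_one hS c).2 (e ▸ hr))
    · refine Or.inr (((W.π_eq_iff hS _ _).2 ?_).symm)
      show z⁻¹ * inQ Q q ∈ W.E
      have e' : inQ Q q = inQ Q r * z := e
      rw [e', (ctr_bigQ hS).comm (inQ_mem r), inv_mul_cancel_left]
      exact hr
  · obtain ⟨h1, h2, h3⟩ := e2_orth
    obtain ⟨q, hq, hqv, hqJ⟩ := W.exists_π hS _ h1
    obtain ⟨r, hr, hrv, hrJ⟩ := W.exists_π hS _ h2
    refine ⟨_, hqJ, _, hrJ, fun e => ?_⟩
    have h := (commute_iff_trace hS F q r).1 (W.comm_of_π hS hq hr e.symm)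
    rw [hqv, hrv, h3] at h
    exact one_ne_zero h

include hS in
/-- The alternative for the quotient. -/
theorem alternative : Nonempty ((W.C ⧸ W.E') ≃* Cfsg.PSU 6 FF 2) ∨
    Subgroup.centralizer ({W.zb hS} : Set (W.C ⧸ W.E')) ⊔ Cfsg.oddCore (W.C ⧸ W.E') = ⊤ := by
  haveI : Fact (Nat.Prime 2) := ⟨Nat.prime_two⟩
  haveI : Fact (Nat.Prime 3) := ⟨Nat.prime_three⟩
  haveI := stab_e01_simple
  set Cb := Subgroup.centralizer ({W.zb hS} : Set (W.C ⧸ W.E'))
  have hcard : Nat.card (StabK e01) = 25920 := by rw [card_StabK, card_stab_e01]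
  haveI hJn : (W.J hS).Normal := W.ψ_ker hS ▸ inferInstance
  have hJ2 : IsPGroup 2 (W.J hS) := IsPGroup.of_card (W.card_J hS)
  have hcore : Cfsg.pCore 2 Cb = W.J hS := by
    refine le_antisymm ?_ (Cfsg.Agent.TimesPSLTwo.Affine.le_pCore_two hJn hJ2)
    have hm : ((Cfsg.pCore 2 Cb).map (W.ψ hS)).Normal :=
      (Cfsg.Agent.Cores.pCore_normal 2).map _ (W.ψ_surjective hS)
    rcases hm.eq_bot_or_eq_top with h | h
    · rwa [Subgroup.map_eq_bot_iff, W.ψ_ker hS] at h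
    · exfalso
      have hp := (Cfsg.Agent.Fusion.Normal.pCore_isPGroup 2 Cb).map (W.ψ hS)
      rw [h] at hp
      obtain ⟨n, hn⟩ := IsPGroup.iff_card.1 hp
      rw [Subgroup.card_top, hcard] at hn
      have : 5 ∣ 2 ^ n := by rw [← hn]; norm_num
      exact absurd ((Nat.prime_five.dvd_of_dvd_pow this)) (by norm_num)
  have hC : Subgroup.centralizer (W.J hS : Set Cb) ≤ W.J hS := by
    have hm : ((Subgroup.centralizer (W.J hS : Set Cb)).map (W.ψ hS)).Normal :=
      (inferInstance : (Subgroup.centralizer (W.J hS : Set Cb)).Normal).map _ (W.ψ_surjective hS)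
    rcases hm.eq_bot_or_eq_top with h | h
    · rwa [Subgroup.map_eq_bot_iff, W.ψ_ker hS] at h
    · exfalso
      obtain ⟨y, hy, hk⟩ := (h ▸ Subgroup.mem_top (⟨dS, dS_mem⟩ : StabK e01) :
        (⟨dS, dS_mem⟩ : StabK e01) ∈ (Subgroup.centralizer (W.J hS : Set Cb)).map (W.ψ hS))
      obtain ⟨c, rfl⟩ := W.π_surjective hS y
      rw [W.ψ_π] at hk
      obtain ⟨q, hq, hqv, hqJ⟩ := W.exists_π hS _ e2_orth.1
      have he := Subgroup.mem_centralizer_iff.1 hy _ hqJ
      rw [← map_mul, ← map_mul, W.π_eq_iff hS] at he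
      set w : Q := q⁻¹ * MulAut.conjNormal (c : Cz z)⁻¹ q with hw
      have hwE : inQ Q w ∈ W.E := by
        rw [hw, map_mul, map_inv]
        show (((q : Cz z) : G))⁻¹ * ((MulAut.conjNormal (c : Cz z)⁻¹ q : Cz z) : G) ∈ W.E
        rw [MulAut.conjNormal_apply]
        have hh : ((q : Cz z) : G)⁻¹ * ((c : Cz z) : G)⁻¹ * ((q : Cz z) : G) * ((c : Cz z) : G) ∈ W.E := by
          have := W.E.inv_mem he
          simp only [Subgroup.coe_mul, mul_inv_rev, inv_inv] at this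
          convert this using 1
          group
        convert hh using 1
        simp [mul_assoc]
      have hφw : ∃ l : FF, F.φ w = l • e01 := by
        obtain ⟨r, hr, e⟩ := hwE
        rw [← inQ_injective e]
        rcases W.φ_qs hS (W.mem_qs hS hr) with rfl | ⟨l, -, e'⟩
        · exact ⟨0, by rw [F.φ_one, zero_smul]⟩
        · exact ⟨l, e'⟩
      obtain ⟨l, hl⟩ := hφw
      rw [hw, F.φ_mul, φ_inv' F, F.conj, hqv] at hl
      have hx : F.act (c : Cz z) (F.act (c : Cz z)⁻¹ (e 2)) = e 2 := by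
        rw [← Equiv.Perm.mul_apply, ← map_mul, mul_inv_cancel, map_one, Equiv.Perm.one_apply]
      have hy2 : F.act (c : Cz z)⁻¹ (e 2) = e 2 + l • e01 := by
        rw [← hl, ← add_assoc, V_add_self, zero_add]
      rw [hy2, F.act_add, W.rep_spec hS, W.rep_spec hS, hk] at hx
      refine dS_shift l ?_
      show dS • e 2 + e 2 = l • e01
      have hx' : dS • e 2 + dS • (l • e01) = e 2 := hx
      rw [smul_smulV, (mem_StabK.1 dS_mem).2] at hx'
      calc dS • e 2 + e 2 = dS • e 2 + (dS • e 2 + l • e01) := by rw [hx']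
        _ = _ := by rw [← add_assoc, V_add_self, zero_add]
  haveI hn : (Cfsg.pCore 2 Cb).Normal := Cfsg.Agent.Cores.pCore_normal 2
  obtain ⟨eS⟩ := stab_e01_equiv
  obtain ⟨eP⟩ := S0822.result (F := FF) (K := ZMod 3) rfl (ZMod.card 3)
  refine S3230.result (W.zb hS) ?_ (F := ZMod 3) (ZMod.card 3) (K := FF) rfl
    (by rw [hcore]; exact W.J_extraspecial hS) (by rw [hcore]; exact W.card_J hS) (by rw [hcore]; exact hC)
    (((QuotientGroup.quotientMulEquivOfEq (hcore.trans (W.ψ_ker hS).symm)).trans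
      (QuotientGroup.quotientKerEquivOfSurjective (W.ψ hS) (W.ψ_surjective hS))).trans (eS.trans eP))
  refine orderOf_eq_prime ?_ ?_
  · rw [zb, ← QuotientGroup.mk_pow]
    refine (QuotientGroup.eq_one_iff _).2 ?_
    have : (⟨z, W.z_mem_C hS⟩ : W.C) ^ 2 = 1 := Subtype.ext (by rw [Subgroup.coe_pow, ← hS.1, pow_orderOf_eq_one]; rfl)
    rw [this]; exact one_mem _
  · rw [zb, Ne, QuotientGroup.eq_one_iff, E', Subgroup.mem_subgroupOf]
    exact W.z_not_mem hS

include hS in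
/-- With a mover the quotient is the unitary group. -/
theorem quotient_equiv {m : G} (hm : m ∈ W.C) (hne : m * z * m⁻¹ ≠ z) (hmz : m * z * m⁻¹ ∈ Cz z) :
    Nonempty ((W.C ⧸ W.E') ≃* Cfsg.PSU 6 FF 2) ∧
      (QuotientGroup.mk ⟨m, hm⟩ : W.C ⧸ W.E') * W.zb hS ≠ W.zb hS * QuotientGroup.mk ⟨m, hm⟩ := by
  set mb : W.C ⧸ W.E' := QuotientGroup.mk ⟨m, hm⟩
  have hout : mb ∉ Subgroup.centralizer ({W.zb hS} : Set (W.C ⧸ W.E')) := fun h => by
    obtain ⟨c, hc⟩ := W.π_surjective hS ⟨mb, h⟩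
    have hc' : QuotientGroup.mk (⟨((c : Cz z) : G), Subgroup.mem_subgroupOf.1 c.2⟩ : W.C) = mb :=
      congrArg Subtype.val hc
    rw [QuotientGroup.eq, E', Subgroup.mem_subgroupOf] at hc'
    have he : ((c : Cz z) : G)⁻¹ * m ∈ Cz z := W.E_le_Cz hS hc'
    have : m ∈ Cz z := by
      have := (Cz z).mul_mem (c : Cz z).2 he
      rwa [mul_inv_cancel_left] at this
    rw [Subgroup.mem_centralizer_singleton_iff] at this
    exact hne (by rw [this, mul_inv_cancel_right])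
  have hout' : mb * W.zb hS ≠ W.zb hS * mb := fun e => hout (Subgroup.mem_centralizer_singleton_iff.2 e)
  refine ⟨(W.alternative hS).resolve_right fun htop => ?_, hout'⟩
  set O := Cfsg.oddCore (W.C ⧸ W.E')
  obtain ⟨c, hc, o, ho, hco⟩ := Subgroup.mem_sup_of_normal_right.1 (htop ▸ Subgroup.mem_top mb)
  set zb := W.zb hS
  have hcz : c * zb = zb * c := Subgroup.mem_centralizer_singleton_iff.1 hc
  have hzz : zb * zb = 1 := by
    show QuotientGroup.mk _ * QuotientGroup.mk _ = (1 : W.C ⧸ W.E')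
    rw [← QuotientGroup.mk_mul, show (⟨z, W.z_mem_C hS⟩ : W.C) * ⟨z, _⟩ = 1 from Subtype.ext (by
      rw [Subgroup.coe_mul, ← pow_two, ← hS.1, pow_orderOf_eq_one]; rfl), QuotientGroup.mk_one]
  set y := mb * zb * mb⁻¹
  have hy : y * zb = zb * y := by
    refine congrArg QuotientGroup.mk (show (⟨m, hm⟩ : W.C) * ⟨z, W.z_mem_C hS⟩ * (⟨m, hm⟩ : W.C)⁻¹ *
      ⟨z, W.z_mem_C hS⟩ = ⟨z, W.z_mem_C hS⟩ * ((⟨m, hm⟩ : W.C) * ⟨z, W.z_mem_C hS⟩ * (⟨m, hm⟩ : W.C)⁻¹)
      from Subtype.ext ?_)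
    exact Subgroup.mem_centralizer_singleton_iff.1 hmz
  have hyO : zb * y ∈ O := by
    have e : zb * y = c * ((zb * o * zb⁻¹) * o⁻¹) * c⁻¹ := by
      have : y = c * (o * zb * o⁻¹) * c⁻¹ := by
        show mb * zb * mb⁻¹ = _
        rw [← hco]; group
      rw [this]
      calc zb * (c * (o * zb * o⁻¹) * c⁻¹) = (zb * c) * (o * zb * o⁻¹) * c⁻¹ := by group
        _ = (c * zb) * (o * zb⁻¹ * o⁻¹) * c⁻¹ := by rw [← hcz, inv_eq_of_mul_eq_one_right hzz]
        _ = _ := by group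
    have hnO : O.Normal := inferInstance
    rw [e]
    exact hnO.conj_mem _ (O.mul_mem (hnO.conj_mem o ho zb) (O.inv_mem ho)) c
  have hyy : y * y = 1 := by
    calc y * y = mb * (zb * zb) * mb⁻¹ := by show mb * zb * mb⁻¹ * (mb * zb * mb⁻¹) = _; group
      _ = 1 := by rw [hzz, mul_one, mul_inv_cancel]
  have h2 : (zb * y) * (zb * y) = 1 := by
    calc zb * y * (zb * y) = zb * (y * zb) * y := by group
      _ = zb * (zb * y) * y := by rw [hy]
      _ = (zb * zb) * (y * y) := by group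
      _ = 1 := by rw [hzz, hyy, mul_one]
  have hodd : (zb * y) = 1 := by
    have hcop : (Nat.card O).Coprime 2 := by
      rw [Nat.coprime_two_right]
      exact Cfsg.Agent.Cores.oddCore_odd
    have hdvd : orderOf (⟨zb * y, hyO⟩ : O) ∣ 2 := orderOf_dvd_of_pow_eq_one (Subtype.ext (by
      rw [Subgroup.coe_pow, pow_two]; exact h2))
    have h1 := Nat.eq_one_of_dvd_coprimes hcop (orderOf_dvd_natCard _) hdvd
    exact congrArg Subtype.val (orderOf_eq_one_iff.1 h1)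
  refine hout' ?_
  have : y = zb := by
    calc y = zb * (zb * y) := by rw [← mul_assoc, hzz, one_mul]
      _ = zb := by rw [hodd, mul_one]
  exact mul_inv_eq_iff_eq_mul.1 this

end Four

end Cfsg.Agent.LargeExtra.Fischer
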