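import Cfsg.Agent.Lib.Components.UnitarySix.Main

/-!
The triple cover of the four-dimensional unitary group over nine elements inside the six-dimensional
unitary group over four elements, in the position fixing the product `w`: its two orbits on isotropic
vectors and the reduction of every such cover to it.
-/

set_option autoImplicit false

namespace Cfsg.Agent.LargeExtra.Fischer

open Cfsg.Agent.InvChar.Coset Matrix
open Cfsg.Agent.Components.UnitarySix
open Cfsg.Agent.MonomialMult (Nine)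
open Cfsg.Agent.Classical.Unitary (mat suMk suMk_mulVec)
open Model (rS rMat gen_mem good_M)
open scoped commutatorElement

/-- The group. -/
def K0 : Subgroup S := ⁅G FF.w, G FF.w⁆

theorem commutator_le_self (L : Subgroup S) : ⁅L, L⁆ ≤ L :=
  Subgroup.commutator_le.2 fun _ ha _ hb => mul_mem (mul_mem (mul_mem ha hb) (inv_mem ha)) (inv_mem hb)

theorem K0_le_G : K0 ≤ G FF.w := commutator_le_self _

/-- The generator moving the standard frame does not preserve the other two sets. -/
theorem rMat_moves : ∀ j : FF, j = .w ∨ j = .w2 → ∃ x : V, InO j x ∧ ¬ InO j (rMat *ᵥ x) := by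
  decide +kernel

theorem M_le_G : Model.M ≤ G 1 := by
  obtain ⟨j, hj, -, hM, -⟩ := good_M.exists_j
  have hle : Model.M ≤ G j := hM.le.trans (commutator_le_self _)
  rcases FF_cases j hj with rfl | h | h
  · exact hle
  all_goals
    exfalso
    obtain ⟨x, hx, hnx⟩ := rMat_moves j (by simp [h])
    exact hnx ((hle (gen_mem 3) x).2 hx)

theorem good_phi : Good (Model.M.map phi.toMonoidHom) ∧ Model.M.map phi.toMonoidHom = K0 := by
  have hg := good_M.map_phi
  refine ⟨hg, (hg.spec (j := FF.w) ?_).2.1⟩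
  simpa using map_phi_le M_le_G

theorem good_K0 : Good K0 := good_phi.2 ▸ good_phi.1

theorem orbit_K0 (x : V) : x ∈ MulAction.orbit K0 e01 ↔ InO FF.w x := (good_K0.spec K0_le_G).1 x

/-- The other isotropic vectors. -/
def O1 (x : V) : Prop := Iso x ∧ ¬ InO FF.w x

instance (x : V) : Decidable (O1 x) := inferInstanceAs (Decidable (_ ∧ _))

/-- The all-one vector. -/
def fv : V := fun _ => 1

theorem O1_fv : O1 fv := by decide +kernel

set_option maxRecDepth 100000 in
theorem O1_iff_cls : ∀ x : V, O1 x ↔ Iso x ∧ (cls x = 1 ∨ cls x = 2 ∨ cls x = 4) := by decide +kernel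

theorem card_O1 : Nat.card {x : V // O1 x} = 1701 := by
  rw [Nat.card_eq_fintype_card, Fintype.card_subtype]
  decide +kernel

theorem card_InO : Nat.card {x : V // InO FF.w x} = 378 := by
  rw [Nat.card_eq_fintype_card, Fintype.card_subtype]
  decide +kernel

/-- The transported generator. -/
def r1 : S := phi rS

theorem r1_mem : r1 ∈ K0 := good_phi.2 ▸ ⟨rS, gen_mem 3, rfl⟩

theorem r1_smul (x : V) : r1 • x = monV 1 dv (rMat *ᵥ monV 1 dvi x) := by
  rw [show r1 = conjD dv dvi (fun i => (dv_spec i).1) rS from rfl, conjD_smul]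
  rfl

/-- The witnesses for transitivity. -/
theorem r1_links : ∀ c : Fin 5, c = 1 ∨ c = 4 → ∃ x : V, Iso x ∧ cls x = 2 ∧
    Iso (monV 1 dv (rMat *ᵥ monV 1 dvi x)) ∧ cls (monV 1 dv (rMat *ᵥ monV 1 dvi x)) = c := by
  decide +kernel

theorem fv_cls : Iso fv ∧ cls fv = 2 := by decide +kernel

theorem exists_K0_fv {y : V} (hy : O1 y) : ∃ g ∈ K0, g • fv = y := by
  obtain ⟨hi, hc⟩ := (O1_iff_cls y).1 hy
  have hle := good_K0.le
  have step : ∀ {x : V}, Iso x → cls x = 2 → ∃ g ∈ K0, g • fv = x := fun hx hcx => by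
    obtain ⟨g, hg, h⟩ := exists_N0_of_cls fv_cls.1 hx (fv_cls.2.trans hcx.symm)
    exact ⟨g, hle hg, h⟩
  by_cases h2 : cls y = 2
  · exact step hi h2
  obtain ⟨x, hx, hcx, hrx, hrc⟩ := r1_links (cls y)
    (hc.imp_right fun h => h.resolve_left h2)
  rw [← r1_smul] at hrx hrc
  obtain ⟨g, hg, hgx⟩ := step hx hcx
  obtain ⟨n, hn, hny⟩ := exists_N0_of_cls hrx hi hrc
  exact ⟨n * r1 * g, mul_mem (mul_mem (hle hn) r1_mem) hg, by rw [mul_smul, mul_smul, hgx, hny]⟩

theorem orbit_fv (x : V) : x ∈ MulAction.orbit K0 fv ↔ O1 x := by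
  refine ⟨?_, fun h => ?_⟩
  · rintro ⟨g, rfl⟩
    show O1 (g.1 • fv)
    refine ⟨orbit_iso ?_ ?_, fun h => O1_fv.2 ((K0_le_G g.2 fv).1 h)⟩
    · intro h0
      have : fv = g.1⁻¹ • (g.1 • fv) := (inv_smul_smul _ _).symm
      rw [h0, smul_def, Matrix.mulVec_zero] at this
      exact absurd (congrFun this 0) (by decide)
    · rw [H_smul, H_self]; decide +kernel
  · obtain ⟨g, hg, rfl⟩ := exists_K0_fv h
    exact ⟨⟨g, hg⟩, rfl⟩

theorem card_stab {v : V} {p : V → Prop} (hp : ∀ x, x ∈ MulAction.orbit K0 v ↔ p x) {n m : ℕ}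
    (hn : Nat.card {x : V // p x} = n) (hnm : 9797760 = n * m) (hpos : 0 < n) :
    Nat.card (MulAction.stabilizer K0 v) = m := by
  have h := card_orbit_mul K0 v
  rw [good_K0.card, Nat.card_congr (Equiv.subtypeEquivRight hp), hn, hnm] at h
  exact (Nat.eq_of_mul_eq_mul_left hpos h).symm

theorem card_stab_e01 : Nat.card (MulAction.stabilizer K0 e01) = 25920 :=
  card_stab orbit_K0 card_InO (by norm_num) (by norm_num)

theorem card_stab_fv : Nat.card (MulAction.stabilizer K0 fv) = 5760 :=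
  card_stab orbit_fv card_O1 (by norm_num) (by norm_num)

/-- The isotropic vectors. -/
theorem iso_cases {x : V} (h : Iso x) : InO FF.w x ∨ O1 x := by
  by_cases h' : InO FF.w x
  · exact Or.inl h'
  · exact Or.inr ⟨h, h'⟩

/-! ### Reduction to this position -/

/-- A semilinear isometry carrying one subgroup onto another. -/
def Carries (T : V ≃ₗ[FF] V) (L K : Subgroup S) : Prop :=
  (∀ l ∈ L, ∃ k ∈ K, ∀ x, T (l • x) = k • T x) ∧ ∀ k ∈ K, ∃ l ∈ L, ∀ x, T (l • x) = k • T x

theorem Carries.trans {T T' : V ≃ₗ[FF] V} {L K K' : Subgroup S} (h : Carries T L K) (h' : Carries T' K K') :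
    Carries (T.trans T') L K' := by
  refine ⟨fun l hl => ?_, fun k hk => ?_⟩
  · obtain ⟨k, hk, e⟩ := h.1 l hl
    obtain ⟨k', hk', e'⟩ := h'.1 k hk
    exact ⟨k', hk', fun x => by simp [e, e']⟩
  · obtain ⟨k', hk', e'⟩ := h'.2 k hk
    obtain ⟨l, hl, e⟩ := h.2 k' hk'
    exact ⟨l, hl, fun x => by simp [e, e']⟩

theorem carries_map {T : V ≃ₗ[FF] V} (f : S ≃* S) (hf : ∀ (l : S) x, T (l • x) = f l • T x) (L : Subgroup S) :
    Carries T L (L.map f.toMonoidHom) :=
  ⟨fun l hl => ⟨f l, ⟨l, hl, rfl⟩, hf l⟩, fun _ ⟨l, hl, e⟩ => ⟨l, hl, fun x => by rw [← e]; exact hf l x⟩⟩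

/-- The action of an element. -/
def smulEquiv (g : S) : V ≃ₗ[FF] V where
  toFun x := g • x
  invFun x := g⁻¹ • x
  map_add' x y := by rw [smul_def, smul_def, smul_def, Matrix.mulVec_add]
  map_smul' c x := by rw [smul_def, smul_def, Matrix.mulVec_smul]; rfl
  left_inv x := inv_smul_smul g x
  right_inv x := smul_inv_smul g x

/-- The diagonal similarity. -/
def dvEquiv : V ≃ₗ[FF] V where
  toFun := monV 1 dv
  invFun := monV 1 dvi
  map_add' x y := by funext i; simp [monV, mul_add]
  map_smul' c x := by funext i; simp [monV, mul_left_comm]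
  left_inv x := monV_cancel (fun i => (dv_spec i).2) x
  right_inv x := monV_cancel (fun i => (dv_spec i).1) x

theorem H_dv (x y : V) : H (dvEquiv x) (dvEquiv y) = H x y := by
  show Cfsg.hermForm 6 FF 2 (monV 1 dv x) (monV 1 dv y) = _
  rw [← monMat_mulVec, ← monMat_mulVec]
  exact monMat_preserves 1 (fun i => left_ne_zero_of_mul ((dv_spec i).1 ▸ one_ne_zero)) x y

theorem carries_dv (L : Subgroup S) : Carries dvEquiv L (L.map phi.toMonoidHom) :=
  carries_map phi (fun l x => by
    show monV 1 dv (l • x) = conjD dv dvi (fun i => (dv_spec i).1) l • monV 1 dv x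
    rw [conjD_smul, monV_cancel fun i => (dv_spec i).2]) L

/-- Every triple cover is carried to the group. -/
theorem exists_equiv {L : Subgroup S} (hL : Trip L (Cfsg.PSU 4 Nine 3)) :
    ∃ T : V ≃ₗ[FF] V, (∀ x y, H (T x) (T y) = H x y) ∧ Carries T L K0 := by
  obtain ⟨g, hg⟩ := exists_good_conj hL
  have h0 : Carries (smulEquiv g) L (L.map (MulAut.conj g).toMonoidHom) :=
    carries_map (MulAut.conj g) (fun l x => by
      show g • (l • x) = (g * l * g⁻¹) • (g • x)
      rw [mul_smul, mul_smul, inv_smul_smul]) L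
  obtain ⟨j, hj, -, hK, -⟩ := hg.exists_j
  have hle : L.map (MulAut.conj g).toMonoidHom ≤ G j := hK.le.trans (commutator_le_self _)
  have hH : ∀ x y, H (smulEquiv g x) (smulEquiv g y) = H x y := H_smul g
  have h1 : ∀ {j' : FF} {L' : Subgroup S}, Good L' → L' ≤ G j' → FF.w * j' = FF.w →
      L'.map phi.toMonoidHom = K0 := fun hL' hle' e => (hL'.map_phi.spec (e ▸ map_phi_le hle')).2.1
  rcases FF_cases j hj with rfl | rfl | rfl
  · exact ⟨(smulEquiv g).trans dvEquiv, fun x y => (H_dv _ _).trans (hH x y),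
      h1 hg hle (by decide) ▸ h0.trans (carries_dv _)⟩
  · exact ⟨smulEquiv g, hH, by rw [K0, ← (hg.spec hle).2.1]; exact h0⟩
  · refine ⟨((smulEquiv g).trans dvEquiv).trans dvEquiv, fun x y => (H_dv _ _).trans ((H_dv _ _).trans (hH x y)),
      h1 hg.map_phi (map_phi_le hle) (by decide) ▸ (h0.trans (carries_dv _)).trans (carries_dv _)⟩

end Cfsg.Agent.LargeExtra.Fischer
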