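import Cfsg.Agent.InvChar.Coset.FieldFour
import Cfsg.Agent.Lib.Classical.UnitaryBasic
import Cfsg.Agent.Lib.Forms.Bases
import Cfsg.Agent.Lib.PGroups.Extraspecial
import Cfsg.Agent.Solvable.Basics

/-!
An extraspecial 2-group with a fixed-point-free automorphism of order three: its Frattini quotient as a
vector space over four elements with the hermitian form given by commutators and squares.
-/

set_option autoImplicit false

namespace Cfsg.Agent.LargeExtra.Fischer

open Cfsg.Agent.InvChar.Coset
open scoped commutatorElement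

/-- The action of four elements given by an endomorphism `a` with `v + a v + a² v = 0`. -/
@[reducible] def modOfCube {A : Type*} [AddCommGroup A] (a : A →+ A) (h2 : ∀ v : A, v + v = 0)
    (h : ∀ v, v + a v + a (a v) = 0) : Module FF A :=
  have hw : ∀ v, a (a v) = v + a v := fun v => by
    rw [← sub_eq_zero, sub_eq_add_neg, neg_eq_of_add_eq_zero_right (h2 (v + a v)), add_comm]
    exact h v
  have h2' : ∀ v u : A, v + (v + u) = u := fun v u => by rw [← add_assoc, h2, zero_add]
  { smul := fun c v => match c with
      | .zero => 0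
      | .one => v
      | .w => a v
      | .w2 => v + a v
    one_smul := fun _ => rfl
    zero_smul := fun _ => rfl
    smul_zero := fun c => by
      cases c
      · rfl
      · rfl
      · exact map_zero a
      · show 0 + a 0 = 0; rw [map_zero, add_zero]
    mul_smul := fun c d v => by
      cases c <;> cases d
      all_goals first
        | rfl
        | (exact (map_zero a).symm)
        | (show 0 = 0 + a 0; rw [map_zero, add_zero])
        | (show v + a v = a (a v); rw [hw])
        | (show v = a (v + a v); rw [map_add, hw, add_comm v, h2'])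
        | (show v = a v + a (a v); rw [hw, add_comm v, h2'])
        | (show a v = (v + a v) + a (v + a v)
           simp [map_add, hw, h2, h2', add_comm, add_left_comm])
    smul_add := fun c u v => by
      cases c
      · exact (add_zero 0).symm
      · rfl
      · exact map_add a u v
      · show (u + v) + a (u + v) = (u + a u) + (v + a v)
        rw [map_add, add_add_add_comm]
    add_smul := fun c d v => by
      cases c <;> cases d
      all_goals first
        | rfl
        | (exact (zero_add _).symm)
        | (exact (add_zero _).symm)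
        | (exact (h2 _).symm)
        | (show v + a v = a v + v; exact add_comm _ _)
        | (show a v = v + (v + a v); rw [h2'])
        | (show a v = (v + a v) + v; rw [add_comm, h2'])
        | (show v = a v + (v + a v); rw [add_left_comm, h2, add_zero])
        | (show v = (v + a v) + a v; rw [add_assoc, h2, add_zero]) }

variable {Q : Type*} [Group Q] [Finite Q]

/-- The Frattini quotient. -/
abbrev Ab (Q : Type*) [Group Q] := Additive (Abelianization Q)

/-- The class of an element. -/
def ab (g : Q) : Ab Q := Additive.ofMul (Abelianization.of g)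

omit [Finite Q] in
theorem ab_mul (g k : Q) : ab (g * k) = ab g + ab k := by rw [ab, map_mul]; rfl

omit [Finite Q] in
theorem ab_surjective : Function.Surjective (ab : Q → Ab Q) := fun v => by
  obtain ⟨g, hg⟩ := QuotientGroup.mk'_surjective (_root_.commutator Q) (Additive.toMul v)
  exact ⟨g, congrArg Additive.ofMul hg⟩

variable (hE : Cfsg.IsExtraspecial 2 Q)
include hE

omit [Finite Q] in
theorem ab_eq_zero_iff {g : Q} : ab g = 0 ↔ g ∈ Subgroup.center Q := by
  rw [← hE.1.2.2]
  exact QuotientGroup.eq_one_iff g

omit [Finite Q] in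
theorem ab_eq_iff {g k : Q} : ab g = ab k ↔ g⁻¹ * k ∈ Subgroup.center Q := by
  rw [← hE.1.2.2]
  exact QuotientGroup.eq

omit [Finite Q] in
theorem center_sq {k : Q} (hk : k ∈ Subgroup.center Q) : k * k = 1 := by
  have h := pow_card_eq_one' (x := (⟨k, hk⟩ : Subgroup.center Q))
  rw [hE.2, pow_two] at h
  exact congrArg Subtype.val h

theorem sq_mem_center (g : Q) : g * g ∈ Subgroup.center Q := by
  haveI : Fact (Nat.Prime 2) := ⟨Nat.prime_two⟩
  rw [← hE.1.2.1, ← pow_two]
  exact Cfsg.Agent.Solvable.Basics.pow_mem_frattini hE.1.1 _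

theorem ab_add_self (v : Ab Q) : v + v = 0 := by
  obtain ⟨g, rfl⟩ := ab_surjective v
  rw [← ab_mul, ab_eq_zero_iff hE]
  exact sq_mem_center hE g

omit [Finite Q] in
theorem card_Ab : Nat.card (Ab Q) * 2 = Nat.card Q := by
  rw [Subgroup.card_eq_card_quotient_mul_card_subgroup (_root_.commutator Q)]
  nth_rewrite 2 [hE.1.2.2]
  rw [hE.2]
  rfl

omit [Finite Q] in
theorem comm_mem_center (g k : Q) : ⁅g, k⁆ ∈ Subgroup.center Q := by
  rw [← hE.1.2.2]; exact Subgroup.commutator_mem_commutator (Subgroup.mem_top _) (Subgroup.mem_top _)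

open scoped _root_.Classical in
omit hE [Finite Q] in
/-- The value of a central element. -/
noncomputable def χ (k : Q) : FF := if k = 1 then 0 else 1

/-- The commutator form. -/
noncomputable def β (g k : Q) : FF := χ ⁅g, k⁆

/-- The square form. -/
noncomputable def q (g : Q) : FF := χ (g * g)

omit [Finite Q] in
theorem χ_mul {k l : Q} (hk : k ∈ Subgroup.center Q) (hl : l ∈ Subgroup.center Q) :
    χ (k * l) = χ k + χ l := by
  classical
  by_cases h1 : k = 1
  · subst h1; simp [χ]
  by_cases h2 : l = 1
  · subst h2; simp [χ]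
  have h : k * l = 1 := by
    have hc : Nat.card (Subgroup.center Q) = 2 := hE.2
    rw [Nat.card_eq_two_iff' (⟨1, one_mem _⟩ : Subgroup.center Q)] at hc
    obtain ⟨u, -, hu⟩ := hc
    have e1 : (⟨k, hk⟩ : Subgroup.center Q) = ⟨l, hl⟩ :=
      (hu ⟨k, hk⟩ fun e => h1 (congrArg Subtype.val e)).trans (hu ⟨l, hl⟩ fun e => h2 (congrArg Subtype.val e)).symm
    rw [show k = l from congrArg Subtype.val e1]
    exact center_sq hE hl
  simp only [χ, h, h1, h2, if_true, if_false]
  decide

omit [Finite Q] in
theorem comm_mul (g g' k : Q) : ⁅g * g', k⁆ = ⁅g', k⁆ * ⁅g, k⁆ := by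
  have h := Subgroup.mem_center_iff.1 (comm_mem_center hE g' k) g
  calc ⁅g * g', k⁆ = g * ⁅g', k⁆ * (k * g⁻¹ * k⁻¹) := by simp only [commutatorElement_def]; group
    _ = _ := by rw [h]; simp only [commutatorElement_def]; group

omit [Finite Q] in
theorem β_mul_left (g g' k : Q) : β (g * g') k = β g k + β g' k := by
  rw [β, comm_mul hE, χ_mul hE (comm_mem_center hE g' k) (comm_mem_center hE g k), add_comm]; rfl

omit [Finite Q] in
theorem β_symm (g k : Q) : β g k = β k g := by
  classical
  simp only [β, χ, ← commutatorElement_inv k g, inv_eq_one]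

omit [Finite Q] in
theorem β_mul_right (g k k' : Q) : β g (k * k') = β g k + β g k' := by
  rw [β_symm hE, β_mul_left hE, β_symm hE k, β_symm hE k']

omit [Finite Q] in
theorem β_center {k : Q} (hk : k ∈ Subgroup.center Q) (g : Q) : β k g = 0 := by
  classical
  have : ⁅k, g⁆ = 1 := commutatorElement_eq_one_iff_mul_comm.2 (Subgroup.mem_center_iff.1 hk g).symm
  simp [β, χ, this]

omit [Finite Q] in
theorem β_congr {g g' : Q} (h : ab g = ab g') (k : Q) : β g k = β g' k := by
  rw [← mul_inv_cancel_left g g', β_mul_left hE, β_center hE ((ab_eq_iff hE).1 h), add_zero]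

theorem q_mul (g k : Q) : q (g * k) = β g k + (q g + q k) := by
  have e : g * k * (g * k) = ⁅k, g⁆ * ((g * g) * (k * k)) := by
    have h := Subgroup.mem_center_iff.1 (comm_mem_center hE k g) g
    calc g * k * (g * k) = g * (⁅k, g⁆ * (g * k)) * k := by simp only [commutatorElement_def]; group
      _ = (g * ⁅k, g⁆) * (g * k * k) := by group
      _ = _ := by rw [h]; group
  rw [q, e, χ_mul hE (comm_mem_center hE k g) (mul_mem (sq_mem_center hE g) (sq_mem_center hE k)),
    χ_mul hE (sq_mem_center hE g) (sq_mem_center hE k)]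
  exact congrArg (· + _) (β_symm hE k g)

theorem q_congr {g g' : Q} (h : ab g = ab g') : q g = q g' := by
  classical
  have hc := (ab_eq_iff hE).1 h
  rw [← mul_inv_cancel_left g g', q_mul hE, β_symm hE, β_center hE hc,
    show q (g⁻¹ * g') = 0 by simp [q, χ, center_sq hE hc], zero_add, add_zero]

/-- The part needed of a fixed-point-free automorphism of order three. -/
structure FPF (x : MulAut Q) : Prop where
  sum : ∀ g, ab (g * (x g * x (x g))) = 0

variable {x : MulAut Q}

omit [Finite Q] in
theorem β_equiv (c : MulAut Q) (g k : Q) : β (c g) (c k) = β g k := by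
  classical
  simp only [β, χ, ← map_commutatorElement, MulEquiv.map_eq_one_iff]

omit hE [Finite Q] in
theorem q_equiv (c : MulAut Q) (g : Q) : q (c g) = q g := by
  classical
  simp only [q, χ, ← map_mul, MulEquiv.map_eq_one_iff]

omit hE [Finite Q] in
/-- The hermitian form. -/
noncomputable def herm (x : MulAut Q) (g k : Q) : FF := FF.w * β g k + β g (x k)

variable (hx : FPF x)
include hx

theorem ab_x2 (g : Q) : ab (x (x g)) = ab (g * x g) := by
  have h := hx.sum g
  rw [ab_mul, ab_mul, ← add_assoc] at h
  rw [ab_mul, ← zero_add (ab g + ab (x g)), ← h, add_comm (_ + _) (ab (x (x g))), add_assoc,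
    ab_add_self hE, add_zero]

theorem β_x2 (g k : Q) : β g (x (x k)) = β g k + β g (x k) := by
  rw [β_symm hE, β_congr hE (ab_x2 hE hx k), β_symm hE, β_mul_right hE]

theorem β_x_left (g k : Q) : β (x g) k = β g k + β g (x k) := by
  have h1 : β g k = β (x g) (x k) := (β_equiv hE x g k).symm
  have h2 : β (x g) (x (x k)) = β g (x k) := β_equiv hE x g (x k)
  have h3 := β_x2 hE hx (x g) k
  rw [h2, ← h1] at h3
  rw [h3]
  generalize β g k = a, β (x g) k = b
  revert a b
  decide

theorem herm_self (g : Q) : herm x g g = q g := by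
  classical
  have h0 : β g g = 0 := by simp [β, χ]
  have h := q_mul hE g (x g)
  rw [q_equiv, ← q_congr hE (ab_x2 hE hx g), q_equiv, q_equiv] at h
  rw [herm, h0, mul_zero, zero_add]
  revert h
  generalize β g (x g) = a, q g = b
  revert a b
  decide

omit hx in
theorem β01 (g k : Q) : β g k = 0 ∨ β g k = 1 := by
  classical
  simp only [β, χ]; split_ifs
  · exact Or.inl rfl
  · exact Or.inr rfl

theorem herm_symm (g k : Q) : herm x k g = herm x g k ^ 2 := by
  rw [herm, herm, β_symm hE k g, β_symm hE k (x g), β_x_left hE hx]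
  rcases β01 hE g k with a | a <;> rcases β01 hE g (x k) with b | b <;> rw [a, b] <;> decide

theorem herm_x (g k : Q) : herm x (x g) k = FF.w * herm x g k := by
  rw [herm, herm, β_x_left hE hx, β_equiv hE]
  rcases β01 hE g k with a | a <;> rcases β01 hE g (x k) with b | b <;> rw [a, b] <;> decide

omit hx in
theorem herm_mul_left (g g' k : Q) : herm x (g * g') k = herm x g k + herm x g' k := by
  rw [herm, herm, herm, β_mul_left hE, β_mul_left hE]; ring

omit hx in
theorem herm_congr_left {g g' : Q} (h : ab g = ab g') (k : Q) : herm x g k = herm x g' k := by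
  rw [herm, herm, β_congr hE h, β_congr hE h]

theorem herm_congr_right {k k' : Q} (h : ab k = ab k') (g : Q) : herm x g k = herm x g k' := by
  rw [herm_symm hE hx k g, herm_symm hE hx k' g, herm_congr_left hE h]

omit hx in
theorem mem_center_of_herm {g : Q} (h : ∀ k, herm x g k = 0) : g ∈ Subgroup.center Q := by
  classical
  refine Subgroup.mem_center_iff.2 fun k => ?_
  have hk := h k
  rw [herm] at hk
  have : β g k = 0 := by
    rcases β01 hE g k with a | a
    · exact a
    · rcases β01 hE g (x k) with b | b <;> rw [a, b] at hk <;> exact absurd hk (by decide)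
  simp only [β, χ] at this
  split_ifs at this with h'
  · exact (commutatorElement_eq_one_iff_mul_comm.1 h').symm

omit hE hx in
/-- The induced endomorphism of the quotient. -/
noncomputable def abMap (c : MulAut Q) : Ab Q →+ Ab Q :=
  MonoidHom.toAdditive (Abelianization.map c.toMonoidHom)

omit hE hx [Finite Q] in
theorem abMap_ab (c : MulAut Q) (g : Q) : abMap c (ab g) = ab (c g) :=
  congrArg Additive.ofMul (Abelianization.map_of c.toMonoidHom g)

theorem abMap_cube (v : Ab Q) : v + abMap x v + abMap x (abMap x v) = 0 := by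
  obtain ⟨g, rfl⟩ := ab_surjective v
  rw [abMap_ab, abMap_ab, add_assoc, ← ab_mul, ← ab_mul]
  exact hx.sum g

/-- An isometry of the quotient with the standard hermitian space. -/
theorem exists_coordinates (hcard : Nat.card Q = 2 ^ 13) :
    ∃ φ : Ab Q ≃+ (Fin 6 → FF), (∀ v, φ (abMap x v) = FF.w • φ v) ∧
      ∀ g k, Cfsg.hermForm 6 FF 2 (φ (ab g)) (φ (ab k)) = herm x g k := by
  classical
  letI := modOfCube (abMap x) (ab_add_self hE) (abMap_cube hE hx)
  have hw : ∀ v : Ab Q, FF.w • v = abMap x v := fun v => rfl
  haveI : Finite (Ab Q) := Finite.of_surjective _ (ab_surjective (Q := Q))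
  haveI : Fintype (Ab Q) := Fintype.ofFinite _
  let rep : Ab Q → Q := Function.surjInv ab_surjective
  have hrep : ∀ v, ab (rep v) = v := Function.surjInv_eq ab_surjective
  let h0 : Ab Q → Ab Q → FF := fun u v => herm x (rep v) (rep u)
  have h0ab : ∀ g k, h0 (ab k) (ab g) = herm x g k := fun g k =>
    (herm_congr_left hE (hrep (ab g)) _).trans (herm_congr_right hE hx (hrep (ab k)) _)
  have hadd : ∀ u v v', h0 u (v + v') = h0 u v + h0 u v' := by
    intro u v v'
    obtain ⟨k, rfl⟩ := ab_surjective u
    obtain ⟨g, rfl⟩ := ab_surjective v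
    obtain ⟨g', rfl⟩ := ab_surjective v'
    rw [← ab_mul, h0ab, h0ab, h0ab, herm_mul_left hE]
  have hsym : ∀ u v, h0 v u = h0 u v ^ 2 := by
    intro u v
    obtain ⟨k, rfl⟩ := ab_surjective u
    obtain ⟨g, rfl⟩ := ab_surjective v
    rw [h0ab, h0ab, herm_symm hE hx g k]
  have hsmul : ∀ (c : FF) u v, h0 u (c • v) = c * h0 u v := by
    intro c u v
    have h1 : ∀ u v, h0 u (FF.w • v) = FF.w * h0 u v := fun u v => by
      obtain ⟨k, rfl⟩ := ab_surjective u
      obtain ⟨g, rfl⟩ := ab_surjective v
      rw [hw, abMap_ab, h0ab, h0ab, herm_x hE hx]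
    have h00 : h0 u 0 = 0 := by
      have := hadd u 0 0
      rw [add_zero] at this
      exact left_eq_add.1 this
    cases c
    · rw [show (FF.zero : FF) = 0 from rfl, zero_smul, zero_mul, h00]
    · rw [show (FF.one : FF) = 1 from rfl, one_smul, one_mul]
    · exact h1 u v
    · rw [show FF.w2 = 1 + FF.w from by decide, add_smul, one_smul, hadd, h1]; ring
  have hp : ∀ a b : FF, (a + b) ^ 2 = a ^ 2 + b ^ 2 := by decide
  let σ : FF →+* FF := Cfsg.Agent.Forms.HermStd.qHom (q := 2) (F := FF) rfl
  let B : Ab Q →ₛₗ[σ] Ab Q →ₗ[FF] FF := LinearMap.mk₂'ₛₗ σ (RingHom.id FF) h0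
    (fun u u' v => by rw [hsym v (u + u'), hadd, hp, ← hsym v u, ← hsym v u'])
    (fun c u v => by
      rw [hsym v (c • u), hsmul, mul_pow, ← hsym v u, smul_eq_mul]; rfl)
    (fun u v v' => hadd u v v') (fun c u v => hsmul c u v)
  have hS : B.IsSymm := ⟨fun u v => (hsym u v).symm⟩
  have hB : B.SeparatingLeft := by
    intro u hu
    obtain ⟨g, rfl⟩ := ab_surjective u
    rw [ab_eq_zero_iff hE]
    refine mem_center_of_herm (x := x) hE fun k => ?_
    rw [herm_symm hE hx k g, ← h0ab k g, show h0 (ab g) (ab k) = 0 from hu (ab k), zero_pow two_ne_zero]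
  obtain ⟨b, hb⟩ := Cfsg.Agent.Forms.Bases.exists_orthonormal_basis σ
    (fun e => absurd (DFunLike.congr_fun e FF.w) (by decide)) (by decide) B hS hB
  have hr : Module.finrank FF (Ab Q) = 6 := by
    have h1 : Nat.card (Ab Q) = 4 ^ 6 := by
      have := card_Ab hE; rw [hcard] at this; omega
    rw [Module.natCard_eq_pow_finrank (K := FF), Nat.card_eq_fintype_card, FF.card] at h1
    exact Nat.pow_right_injective (by norm_num) h1
  let b' := b.reindex (finCongr hr)
  have hb' : ∀ i j, B (b' i) (b' j) = if i = j then 1 else 0 := fun i j => by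
    simp only [b', Module.Basis.reindex_apply, hb, Equiv.apply_eq_iff_eq]
  refine ⟨b'.equivFun.toAddEquiv, fun v => ?_, fun g k => ?_⟩
  · rw [← hw]
    exact map_smul b'.equivFun FF.w v
  · rw [← h0ab, show h0 (ab k) (ab g) = B (ab k) (ab g) from rfl]
    conv_rhs => rw [← b'.sum_equivFun (ab k), ← b'.sum_equivFun (ab g)]
    simp only [map_sum, LinearMap.coe_sum, Finset.sum_apply, LinearMap.map_smulₛₗ, LinearMap.smul_apply,
      smul_eq_mul, hb', RingHom.id_apply]
    simp only [Finset.mul_sum, mul_ite, mul_one, mul_zero, Finset.sum_ite_eq', Finset.mem_univ, if_true,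
      Cfsg.hermForm]
    exact Finset.sum_congr rfl fun i _ => rfl

end Cfsg.Agent.LargeExtra.Fischer
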