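import Cfsg.Agent.Lib.LargeExtra.Fischer.Bound
import Cfsg.Agent.Lib.LargeExtra.Fischer.Model
import Cfsg.Agent.Lib.LargeExtra.Fischer.Module
import Cfsg.Agent.Lib.LargeExtra.MonsterOrbits
import Cfsg.Agent.Lib.MonomialMult.FieldChange

/-!
The large Fischer setting: coordinates on the extraspecial group in which the subgroup of index two of the
centralizer acts as the model.
-/

set_option autoImplicit false

namespace Cfsg.Agent.LargeExtra.Fischer

open Cfsg.Agent.InvChar.Coset
open Cfsg.Agent.Components.UnitarySix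
open Cfsg.Agent.MonomialMult (Nine)
open Cfsg.Agent.Classical.Unitary (mat suMk suMk_mulVec)
open scoped commutatorElement Matrix

local notation "P43" => Cfsg.PSU 4 Nine 3

variable {G : Type*} [Group G]

/-- The centralizer. -/
abbrev Cz (z : G) : Subgroup G := Subgroup.centralizer ({z} : Set G)

/-- Coordinates adapted to the setting. -/
structure Frame (z : G) (Q M : Subgroup (Cz z)) [Q.Normal] where
  /-- the coordinates -/
  φ : Q → V
  φ_mul : ∀ a b, φ (a * b) = φ a + φ b
  surj : Function.Surjective φ
  zero : ∀ a, φ a = 0 ↔ a ∈ Subgroup.center Q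
  form : ∀ a, a * a = 1 ↔ H (φ a) (φ a) = 0
  /-- the action -/
  act : Cz z →* Equiv.Perm V
  conj : ∀ c a, φ (MulAut.conjNormal c a) = act c (φ a)
  ker : ∀ c, act c = 1 ↔ c ∈ Q
  le : Q ≤ M
  idx : M.index = 2
  mem_M : ∀ m ∈ M, ∃ k ∈ K0, ∀ v, act m v = k • v
  of_K0 : ∀ k ∈ K0, ∃ m ∈ M, ∀ v, act m v = k • v
  semi : ∀ c, (∀ v, act c (FF.w • v) = FF.w • act c v) ∨ ∀ v, act c (FF.w • v) = FF.w2 • act c v
  lin : ∀ c, (∀ v, act c (FF.w • v) = FF.w • act c v) → ∀ u v, H (act c u) (act c v) = H u v

variable [Finite G] {z : G} {Q : Subgroup (Cz z)} [Q.Normal]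

/-- The action on the quotient. -/
noncomputable def fEnd (Q : Subgroup (Cz z)) [Q.Normal] : Cz z →* AddMonoid.End (Ab Q) where
  toFun c := abMap (MulAut.conjNormal c)
  map_one' := AddMonoidHom.ext fun v => by
    obtain ⟨g, rfl⟩ := ab_surjective v
    show abMap _ (ab g) = ab g
    rw [abMap_ab, map_one]; rfl
  map_mul' c d := AddMonoidHom.ext fun v => by
    obtain ⟨g, rfl⟩ := ab_surjective v
    show abMap _ (ab g) = abMap _ (abMap _ (ab g))
    rw [abMap_ab, abMap_ab, abMap_ab, map_mul]; rfl

omit [Finite G] in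
theorem fEnd_ab (c : Cz z) (g : Q) : fEnd Q c (ab g) = ab (MulAut.conjNormal c g) :=
  abMap_ab (MulAut.conjNormal c) g

omit [Finite G] in
theorem conjNormal_self (c g : Q) : MulAut.conjNormal (c : Cz z) g = c * g * c⁻¹ :=
  Subtype.ext (MulAut.conjNormal_apply _ _)

/-- The kernel of the action is the extraspecial group itself. -/
theorem fEnd_ker (hE : Cfsg.IsExtraspecial 2 Q) (hcent : Subgroup.centralizer (Q : Set (Cz z)) ≤ Q) (c : Cz z) :
    fEnd Q c = 1 ↔ c ∈ Q := by
  classical
  constructor
  · intro hc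
    have hd : ∀ g : Q, g⁻¹ * MulAut.conjNormal c g ∈ Subgroup.center Q := fun g => by
      rw [← ab_eq_iff hE, ← fEnd_ab, hc]; rfl
    let d : Q →* Q := MonoidHom.mk' (fun g => g⁻¹ * MulAut.conjNormal c g) fun g k => by
      rw [map_mul, mul_inv_rev]
      have h := Subgroup.mem_center_iff.1 (hd g) k⁻¹
      calc k⁻¹ * g⁻¹ * (MulAut.conjNormal c g * MulAut.conjNormal c k)
          = (k⁻¹ * (g⁻¹ * MulAut.conjNormal c g)) * MulAut.conjNormal c k := by group
        _ = _ := by rw [h]; group
    by_cases htop : d.ker = ⊤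
    · refine hcent (Subgroup.mem_centralizer_iff.2 fun g hg => ?_)
      have h : (⟨g, hg⟩ : Q)⁻¹ * MulAut.conjNormal c ⟨g, hg⟩ = 1 :=
        MonoidHom.mem_ker.1 (htop.ge (Subgroup.mem_top _))
      rw [inv_mul_eq_one] at h
      have h' : g = c * g * c⁻¹ := by
        conv_lhs => rw [show g = ((⟨g, hg⟩ : Q) : Cz z) from rfl, h]
        rw [MulAut.conjNormal_apply]
      exact (mul_inv_eq_iff_eq_mul.1 h'.symm).symm
    · haveI : Fact (Nat.Prime 2) := ⟨Nat.prime_two⟩
      have hcen : Subgroup.center Q ≤ d.ker := fun k hk => by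
        rw [MonoidHom.mem_ker]
        show k⁻¹ * MulAut.conjNormal c k = 1
        by_cases h1 : k = 1
        · simp [h1]
        · have hk' : MulAut.conjNormal c k ∈ Subgroup.center Q := by
            refine Subgroup.mem_center_iff.2 fun y => (MulAut.conjNormal c).symm.injective ?_
            rw [map_mul, map_mul, MulEquiv.symm_apply_apply]
            exact Subgroup.mem_center_iff.1 hk _
          have hc2 : Nat.card (Subgroup.center Q) = 2 := hE.2
          rw [Nat.card_eq_two_iff' (⟨1, one_mem _⟩ : Subgroup.center Q)] at hc2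
          obtain ⟨u, -, hu⟩ := hc2
          have e1 := (hu ⟨k, hk⟩ fun e => h1 (congrArg Subtype.val e)).trans
            (hu ⟨_, hk'⟩ fun e => h1 ((MulAut.conjNormal c).injective
              ((congrArg Subtype.val e).trans (map_one _).symm))).symm
          rw [← show k = MulAut.conjNormal c k from congrArg Subtype.val e1, inv_mul_cancel]
      have hX := Cfsg.Agent.PGroups.Extraspecial.card_mul_card_centralizer hE d.ker hcen
      have hrange : d.range ≤ Subgroup.center Q := by rintro _ ⟨g, rfl⟩; exact hd g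
      have hidx : d.ker.index ≤ 2 := by
        rw [Subgroup.index_ker, ← hE.2]; exact Subgroup.card_le_of_le hrange
      have hidx2 : d.ker.index = 2 := by
        have h0 : d.ker.index ≠ 0 := Subgroup.index_ne_zero_of_finite
        have h1 : d.ker.index ≠ 1 := fun e => htop (Subgroup.index_eq_one.1 e)
        omega
      have hC4 : Nat.card (Subgroup.centralizer (d.ker : Set Q)) = 4 := by
        have h := d.ker.card_mul_index
        rw [hidx2] at h
        rw [← h] at hX
        refine Nat.eq_of_mul_eq_mul_left (Nat.card_pos (α := d.ker)) (hX.trans ?_)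
        ring
      obtain ⟨q, hq, hqc⟩ : ∃ q ∈ Subgroup.centralizer (d.ker : Set Q), q ∉ Subgroup.center Q := by
        by_contra hne
        push Not at hne
        have := Subgroup.card_le_of_le (show Subgroup.centralizer (d.ker : Set Q) ≤ Subgroup.center Q from hne)
        rw [hC4, hE.2] at this
        omega
      have hmem : (q : Cz z)⁻¹ * c ∈ Subgroup.centralizer (Q : Set (Cz z)) := by
        refine Subgroup.mem_centralizer_iff.2 fun g hg => ?_
        suffices h : MulAut.conjNormal c ⟨g, hg⟩ = q * ⟨g, hg⟩ * q⁻¹ by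
          have h' := congrArg Subtype.val h
          rw [MulAut.conjNormal_apply] at h'
          replace h' : c * g * c⁻¹ = (q : Cz z) * g * (q : Cz z)⁻¹ := h'
          calc g * ((q : Cz z)⁻¹ * c) = (q : Cz z)⁻¹ * ((q : Cz z) * g * (q : Cz z)⁻¹) * c := by group
            _ = _ := by rw [← h']; group
        by_cases hgk : (⟨g, hg⟩ : Q) ∈ d.ker
        · have h1 : (⟨g, hg⟩ : Q)⁻¹ * MulAut.conjNormal c ⟨g, hg⟩ = 1 := MonoidHom.mem_ker.1 hgk
          rw [← inv_mul_eq_one.1 h1, ← Subgroup.mem_centralizer_iff.1 hq _ hgk, mul_inv_cancel_right]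
        · set a : Q := ⟨g, hg⟩
          have hne : d a ≠ 1 := fun e => hgk (MonoidHom.mem_ker.2 e)
          have hne' : ⁅q, a⁆ ≠ 1 := fun e => by
            have hqa := commutatorElement_eq_one_iff_mul_comm.1 e
            refine hqc (Subgroup.mem_center_iff.2 fun y => ?_)
            by_cases hy : y ∈ d.ker
            · exact Subgroup.mem_centralizer_iff.1 hq y hy
            · have h1 : a * y ∈ d.ker := (Subgroup.mul_mem_iff_of_index_two hidx2).2 (iff_of_false hgk hy)
              have h2 := Subgroup.mem_centralizer_iff.1 hq _ h1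
              rw [← mul_assoc, hqa, mul_assoc, mul_assoc] at h2
              exact mul_left_cancel h2
          have hc2 : Nat.card (Subgroup.center Q) = 2 := hE.2
          rw [Nat.card_eq_two_iff' (⟨1, one_mem _⟩ : Subgroup.center Q)] at hc2
          obtain ⟨u, -, hu⟩ := hc2
          have e1 := congrArg Subtype.val ((hu ⟨d a, hd a⟩ fun e => hne (congrArg Subtype.val e)).trans
            (hu ⟨⁅q, a⁆, comm_mem_center hE q a⟩ fun e => hne' (congrArg Subtype.val e)).symm)
          calc MulAut.conjNormal c a = a * d a := (mul_inv_cancel_left _ _).symm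
            _ = a * ⁅q, a⁆ := congrArg (a * ·) e1
            _ = ⁅q, a⁆ * a := Subgroup.mem_center_iff.1 (comm_mem_center hE q a) a
            _ = q * a * q⁻¹ := by rw [commutatorElement_def, inv_mul_cancel_right]
      simpa using Q.mul_mem q.2 (hcent hmem)
  · intro hc
    refine AddMonoidHom.ext fun v => ?_
    obtain ⟨g, rfl⟩ := ab_surjective v
    show fEnd Q c (ab g) = ab g
    rw [fEnd_ab, conjNormal_self ⟨c, hc⟩, eq_comm, ab_eq_iff hE]
    have : g⁻¹ * ((⟨c, hc⟩ : Q) * g * (⟨c, hc⟩ : Q)⁻¹) = ⁅g⁻¹, (⟨c, hc⟩ : Q)⁆ := by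
      simp only [commutatorElement_def, inv_inv]; group
    rw [this]
    exact comm_mem_center hE _ _

omit [Group G] [Finite G] in
theorem not_dvd_GL : ∀ n : Fin 6, ¬ 9797760 ∣ ∏ i : Fin (n : ℕ), (4 ^ (n : ℕ) - 4 ^ (i : ℕ)) := by
  decide +kernel

set_option maxHeartbeats 2000000 in
/-- The coordinates exist. -/
theorem exists_frame (hF : Cfsg.IsOfLargeFischerTypeAt z Q) : ∃ M, Nonempty (Frame z Q M) := by
  classical
  obtain ⟨⟨hz, hFQ, hE, hcard, -⟩, N, M, hNn, hMn, hQN, hNM, hcN, ⟨K, iK, iK', hK, ⟨η⟩⟩, hidx⟩ := hF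
  haveI := hNn; haveI := hMn
  have hcard' : Nat.card Q = 2 ^ 13 := hcard
  have hcent : Subgroup.centralizer (Q : Set (Cz z)) ≤ Q := by
    rw [← hFQ]; exact Cfsg.Agent.Components.Fitting.centralizer_genFitting_le
  let e9 : K ≃+* Nine := FiniteField.ringEquivOfCardEq (K' := Nine) (by rw [hK, Nine.card]; rfl)
  obtain ⟨η9⟩ := Cfsg.Agent.MonomialMult.psu_field_equiv (n := 4) (q := 3) e9
  let π : M →* P43 := (η.trans η9).toMonoidHom.comp (QuotientGroup.mk' (N.subgroupOf M))
  have hπ : Function.Surjective π := (η.trans η9).surjective.comp (QuotientGroup.mk'_surjective _)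
  have hπker : ∀ m : M, π m = 1 ↔ (m : Cz z) ∈ N := fun m => by
    show (η.trans η9) _ = 1 ↔ _
    rw [MulEquiv.map_eq_one_iff]
    exact QuotientGroup.eq_one_iff m
  haveI hsimp := pSU43_simple
  set f := fEnd Q with hf
  have hker := fEnd_ker (Q := Q) hE hcent
  haveI : Finite (Ab Q) := Finite.of_surjective _ (ab_surjective (Q := Q))
  have h2 := ab_add_self (Q := Q) hE
  -- the element of order three
  haveI : Fact (Nat.Prime 3) := ⟨Nat.prime_three⟩
  have hc3 : Nat.card (N ⧸ Q.subgroupOf N) = 3 := by
    have h := Subgroup.card_eq_card_quotient_mul_card_subgroup (Q.subgroupOf N)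
    rw [Nat.card_congr (Subgroup.subgroupOfEquivOfLe hQN).toEquiv, hcN] at h
    exact (Nat.eq_of_mul_eq_mul_right Nat.card_pos h).symm
  obtain ⟨x, hxN, hxQ⟩ : ∃ x ∈ N, x ∉ Q := by
    by_contra hne
    push Not at hne
    have := Subgroup.card_le_of_le (show N ≤ Q from hne)
    rw [hcN] at this
    have := Nat.card_pos (α := Q)
    omega
  set a := f x with ha
  have ha1 : a ≠ 1 := fun e => hxQ ((hker x).1 e)
  have ha3 : a * a * a = 1 := by
    rw [ha, ← map_mul, ← map_mul, hker]
    have h : (⟨x, hxN⟩ : N) ^ (Q.subgroupOf N).index ∈ Q.subgroupOf N := Subgroup.pow_index_mem _ _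
    rw [Subgroup.index, hc3] at h
    simpa [Subgroup.mem_subgroupOf, pow_succ, mul_assoc] using h
  have hN3 : ∀ n ∈ N, f n = 1 ∨ f n = a ∨ f n = a * a := by
    intro n hn
    have hgen := mem_zpowers_of_prime_card hc3 (g := QuotientGroup.mk' (Q.subgroupOf N) ⟨x, hxN⟩)
      (g' := QuotientGroup.mk' (Q.subgroupOf N) ⟨n, hn⟩)
      (fun e => hxQ (Subgroup.mem_subgroupOf.1 ((QuotientGroup.eq_one_iff (⟨x, hxN⟩ : N)).1 e)))
    rw [mem_zpowers_iff_mem_range_orderOf, Finset.mem_image] at hgen
    obtain ⟨k, hk, he⟩ := hgen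
    rw [Finset.mem_range] at hk
    have hk3 : k < 3 := hk.trans_le (orderOf_le_card.trans_eq hc3)
    rw [← map_pow, QuotientGroup.mk'_apply, QuotientGroup.mk'_apply, QuotientGroup.eq] at he
    have he' : (x ^ k)⁻¹ * n ∈ Q := by simpa [Subgroup.mem_subgroupOf] using he
    have : f n = a ^ k := by
      rw [← mul_inv_cancel_left (x ^ k) n, map_mul, (hker _).2 he', mul_one, map_pow]
    interval_cases k
    · exact Or.inl (by rw [this, pow_zero])
    · exact Or.inr (Or.inl (by rw [this, pow_one]))
    · exact Or.inr (Or.inr (by rw [this, pow_two]))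
  have hinv : ∀ c, f c⁻¹ * f c = 1 := fun c => by rw [← map_mul, inv_mul_cancel, map_one]
  have hconj : ∀ c : Cz z, f c * a = a * f c ∨ f c * a = a * a * f c := by
    intro c
    have hmem : c * x * c⁻¹ ∈ N := hNn.conj_mem x hxN c
    have e : f (c * x * c⁻¹) * f c = f c * a := by
      rw [ha, ← map_mul, inv_mul_cancel_right, map_mul]
    rcases hN3 _ hmem with h | h | h
    · refine absurd ?_ hxQ
      have := hQN
      have hq : c * x * c⁻¹ ∈ Q := (hker _).1 h
      simpa [mul_assoc] using (inferInstance : Q.Normal).conj_mem _ hq c⁻¹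
    · exact Or.inl (by rw [← e, h])
    · exact Or.inr (by rw [← e, h])
  -- the subgroup of index two commutes with it
  have hcomm : ∀ m ∈ M, f m * a = a * f m := by
    have hsq : ∀ c, f (c * c) * a = a * f (c * c) := fun c => by
      rw [map_mul, mul_assoc]
      rcases hconj c with h | h <;> rw [h]
      · rw [← mul_assoc, h, mul_assoc]
      · rw [← mul_assoc, show f c * (a * a) = a * a * a * a * f c by
          rw [← mul_assoc, h, mul_assoc, h]; simp only [mul_assoc]]
        rw [ha3, one_mul, mul_assoc]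
    let L : Subgroup M :=
      { carrier := {m | f m * a = a * f m}
        one_mem' := by simp
        mul_mem' := fun {m k} hm hk => by
          show f ((m : Cz z) * k) * a = a * f ((m : Cz z) * k)
          rw [map_mul, mul_assoc, hk, ← mul_assoc, hm, mul_assoc]
        inv_mem' := fun {m} hm => by
          show f (m : Cz z)⁻¹ * a = a * f (m : Cz z)⁻¹
          have e : f m * f (m : Cz z)⁻¹ = 1 := by rw [← map_mul, mul_inv_cancel, map_one]
          calc f (m : Cz z)⁻¹ * a = f (m : Cz z)⁻¹ * (a * (f m * f (m : Cz z)⁻¹)) := by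
                rw [e, mul_one]
            _ = f (m : Cz z)⁻¹ * ((f m * a) * f (m : Cz z)⁻¹) := by rw [← mul_assoc a, hm]
            _ = _ := by rw [← mul_assoc, ← mul_assoc, hinv, one_mul] }
    haveI : L.Normal := ⟨fun m hm k => by
      show f ((k : Cz z) * m * (k : Cz z)⁻¹) * a = a * f ((k : Cz z) * m * (k : Cz z)⁻¹)
      have hm' : f m * a = a * f m := hm
      set u := f ((k : Cz z) * m * (k : Cz z)⁻¹) with hu
      set y := f ((k : Cz z) * x * (k : Cz z)⁻¹) with hy
      have e : u * y = y * u := by
        rw [hu, hy, ← map_mul, ← map_mul,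
          show (k : Cz z) * m * (k : Cz z)⁻¹ * ((k : Cz z) * x * (k : Cz z)⁻¹) =
            (k : Cz z) * (m * x) * (k : Cz z)⁻¹ by group,
          show (k : Cz z) * x * (k : Cz z)⁻¹ * ((k : Cz z) * m * (k : Cz z)⁻¹) =
            (k : Cz z) * (x * m) * (k : Cz z)⁻¹ by group]
        simp only [map_mul]
        rw [show f x = a from rfl, hm']
      rcases hN3 _ (hNn.conj_mem x hxN (k : Cz z)) with h | h | h
      · refine absurd ?_ hxQ
        simpa [mul_assoc] using (inferInstance : Q.Normal).conj_mem _ ((hker _).1 h) (k : Cz z)⁻¹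
      · rwa [show y = a from h] at e
      · rw [show y = a * a from h] at e
        have e4 : a = a * a * (a * a) := by rw [← mul_assoc, ha3, one_mul]
        rw [e4, ← mul_assoc, e, mul_assoc, e, ← mul_assoc]⟩
    intro m hm
    rcases IsSimpleGroup.eq_bot_or_eq_top_of_normal (L.map π) (Subgroup.Normal.map inferInstance π hπ) with h | h
    · exfalso
      have hsq' : ∀ p : P43, p * p = 1 := fun p => by
        obtain ⟨k, rfl⟩ := hπ p
        rw [← map_mul, ← Subgroup.mem_bot, ← h]
        exact ⟨k * k, hsq k, rfl⟩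
      obtain ⟨p, hp⟩ := exists_prime_orderOf_dvd_card' (G := P43) 3 (by rw [card_psu]; norm_num)
      have := orderOf_dvd_of_pow_eq_one (x := p) (n := 2) (by rw [pow_two, hsq'])
      rw [hp] at this
      norm_num at this
    · obtain ⟨k, hk, he⟩ : π ⟨m, hm⟩ ∈ L.map π := h ▸ Subgroup.mem_top _
      have hn : ((k⁻¹ * ⟨m, hm⟩ : M) : Cz z) ∈ N := (hπker _).1 (by rw [map_mul, map_inv, he, inv_mul_cancel])
      have hNL : k⁻¹ * ⟨m, hm⟩ ∈ L := by
        show f ((k⁻¹ * ⟨m, hm⟩ : M) : Cz z) * a = a * f ((k⁻¹ * ⟨m, hm⟩ : M) : Cz z)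
        rcases hN3 _ hn with e | e | e <;> rw [e] <;> simp [mul_assoc]
      have := L.mul_mem hk hNL
      rw [mul_inv_cancel_left] at this
      exact this
  -- fixed points
  have hzero : ∀ v : Ab Q, v + a v + a (a v) = 0 := by
    let W : AddSubgroup (Ab Q) :=
      { carrier := {v | a v = v}
        zero_mem' := map_zero a
        add_mem' := fun {u v} hu hv => by show a (u + v) = u + v; rw [map_add, hu, hv]
        neg_mem' := fun {v} hv => by show a (-v) = -v; rw [map_neg, hv] }
    let U : AddSubgroup (Ab Q) :=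
      { carrier := {v | v + a v + a (a v) = 0}
        zero_mem' := by simp
        add_mem' := fun {u v} hu hv => by
          show u + v + a (u + v) + a (a (u + v)) = 0
          rw [map_add, map_add, show u + v + (a u + a v) + (a (a u) + a (a v)) =
            (u + a u + a (a u)) + (v + a v + a (a v)) by abel, hu, hv, add_zero]
        neg_mem' := fun {v} hv => by
          show -v + a (-v) + a (a (-v)) = 0
          rw [map_neg, map_neg, show -v + -a v + -a (a v) = -(v + a v + a (a v)) by abel, hv, neg_zero] }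
    have ha3' : ∀ v, a (a (a v)) = v := fun v => by
      have := DFunLike.congr_fun ha3 v; exact this
    have hcm : ∀ (m : M) v, f m (a v) = a (f m v) := fun m v => DFunLike.congr_fun (hcomm m m.2) v
    have hmW : ∀ (m : M) (v : Ab Q), v ∈ W → f m v ∈ W := fun m v hv => by
      show a (f m v) = f m v; rw [← hcm, show a v = v from hv]
    let gW : M →* AddMonoid.End W :=
      { toFun := fun m =>
          AddMonoidHom.mk' (fun v => ⟨f m v, hmW m v v.2⟩) fun u v => Subtype.ext (map_add _ _ _)
        map_one' := AddMonoidHom.ext fun v => Subtype.ext (by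
          show f (1 : Cz z) (v : Ab Q) = v; rw [map_one]; rfl)
        map_mul' := fun m k => AddMonoidHom.ext fun v => Subtype.ext (by
          show f ((m : Cz z) * k) (v : Ab Q) = f m (f k v); rw [map_mul]; rfl) }
    have hπW : π.ker ≤ gW.ker := fun m hm => MonoidHom.mem_ker.2 <| AddMonoidHom.ext fun v => Subtype.ext (by
      show f m v = v
      rcases hN3 _ ((hπker m).1 hm) with e | e | e <;> rw [e]
      · rfl
      · exact v.2
      · show a (a v) = v; rw [show a v = v from v.2, show a v = v from v.2])
    have hW2 : Nat.card W < 4096 := by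
      have hA : Nat.card (Ab Q) = 4096 := by have := card_Ab (Q := Q) hE; rw [hcard'] at this; omega
      rw [← hA]
      refine lt_of_le_of_ne (Nat.card_le_card_of_injective _ Subtype.val_injective) fun e => ha1 ?_
      have htop : W = ⊤ := AddSubgroup.eq_top_of_card_eq W e
      exact AddMonoidHom.ext fun v => (htop ▸ AddSubgroup.mem_top v : v ∈ W)
    have hπW' : π.ker ≤ gW.toHomUnits.ker := fun m hm =>
      MonoidHom.mem_ker.2 (Units.ext (MonoidHom.mem_ker.1 (hπW hm)))
    let gP : P43 →* AddMonoid.End W :=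
      (Units.coeHom _).comp (MonoidHom.liftOfSurjective π hπ ⟨gW.toHomUnits, hπW'⟩)
    have hfixW : ∀ (m : M) v, v ∈ W → f m v = v := fun m v hv => by
      have h1 := hom_eq_one gP (fun w => Subtype.ext (h2 _)) hW2 (π m)
      rw [show gP (π m) = gW m from congrArg Units.val (MonoidHom.liftOfRightInverse_comp_apply π _ (Function.rightInverse_surjInv hπ) ⟨gW.toHomUnits, hπW'⟩ m)] at h1
      exact congrArg Subtype.val (DFunLike.congr_fun h1 ⟨v, hv⟩)
    have hsplit : ∀ v, ∃ u ∈ W, ∃ y ∈ U, v = u + y := fun v => by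
      refine ⟨v + a v + a (a v), ?_, a v + a (a v), ?_, ?_⟩
      · show a (v + a v + a (a v)) = v + a v + a (a v)
        rw [map_add, map_add, ha3']; abel
      · show a v + a (a v) + a (a v + a (a v)) + a (a (a v + a (a v))) = 0
        simp only [map_add, ha3']
        rw [show a v + a (a v) + (a (a v) + v) + (v + a v) =
          (a v + a v) + (a (a v) + a (a v)) + (v + v) by abel, h2, h2, zero_add, zero_add, h2]
      · rw [show v + a v + a (a v) + (a v + a (a v)) = v + ((a v + a v) + (a (a v) + a (a v))) by abel, h2, h2,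
          add_zero, add_zero]
    have hmU : ∀ (m : M) (v : Ab Q), v ∈ U → f m v ∈ U := fun m v hv => by
      show f m v + a (f m v) + a (a (f m v)) = 0
      rw [← hcm, ← hcm, ← map_add, ← map_add, show v + a v + a (a v) = 0 from hv, map_zero]
    have haU : ∀ v ∈ U, a v ∈ U := fun v hv => by
      show a v + a (a v) + a (a (a v)) = 0
      rw [← map_add, ← map_add, show v + a v + a (a v) = 0 from hv, map_zero]
    let aU : U →+ U := AddMonoidHom.mk' (fun v => ⟨a v, haU v v.2⟩) fun u v => Subtype.ext (map_add _ _ _)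
    letI := modOfCube aU (fun v => Subtype.ext (h2 _)) (fun v => Subtype.ext v.2)
    have hwU : ∀ v : U, FF.w • v = aU v := fun _ => rfl
    let gU : M →* (U →ₗ[FF] U) :=
      { toFun := fun m =>
          { toFun := fun v => ⟨f m v, hmU m v v.2⟩
            map_add' := fun u v => Subtype.ext (map_add _ _ _)
            map_smul' := fun c v => by
              cases c
              · exact Subtype.ext (map_zero _)
              · rfl
              · exact Subtype.ext (hcm m v)
              · exact Subtype.ext ((map_add _ _ _).trans (congrArg (f m v + ·) (hcm m v))) }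
        map_one' := LinearMap.ext fun v => Subtype.ext (by
          show f (1 : Cz z) (v : Ab Q) = v; rw [map_one]; rfl)
        map_mul' := fun m k => LinearMap.ext fun v => Subtype.ext (by
          show f ((m : Cz z) * k) (v : Ab Q) = f m (f k v); rw [map_mul]; rfl) }
    have hkerU : gU.ker = Q.subgroupOf M := by
      ext m
      rw [MonoidHom.mem_ker, Subgroup.mem_subgroupOf, ← hker]
      refine ⟨fun e => AddMonoidHom.ext fun v => ?_, fun e => LinearMap.ext fun v => Subtype.ext ?_⟩
      · obtain ⟨u, hu, y, hy, rfl⟩ := hsplit v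
        show f m (u + y) = u + y
        rw [map_add, hfixW m u hu]
        exact congrArg (u + ·) (congrArg Subtype.val (DFunLike.congr_fun e ⟨y, hy⟩))
      · show f m v = v
        rw [show f m = 1 from e]; rfl
    intro v
    suffices hU : Nat.card U = 4096 by
      have htop : U = ⊤ := AddSubgroup.eq_top_of_card_eq U (by
        have := card_Ab (Q := Q) hE; rw [hcard'] at this; omega)
      exact (htop ▸ AddSubgroup.mem_top v : v ∈ U)
    have hUle : Nat.card U ≤ 4096 := by
      refine (Nat.card_le_card_of_injective _ Subtype.val_injective).trans (le_of_eq ?_)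
      have := card_Ab (Q := Q) hE; rw [hcard'] at this; omega
    have hn : Nat.card U = 4 ^ Module.finrank FF U := by
      rw [Module.natCard_eq_pow_finrank (K := FF), Nat.card_eq_fintype_card, FF.card]
    set n := Module.finrank FF U with hndef
    rw [hn] at hUle ⊢
    have hle : n ≤ 6 := (Nat.pow_le_pow_iff_right (by norm_num : 1 < 4)).1 (hUle.trans_eq (by norm_num))
    rcases hle.lt_or_eq with hlt | heq
    swap
    · rw [heq]; norm_num
    exfalso
    let b : Module.Basis (Fin n) FF U := Module.finBasisOfFinrankEq FF U hndef.symm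
    let gG : M →* GL (Fin n) FF := MonoidHom.toHomUnits
      ((LinearMap.toMatrixAlgEquiv b).toMonoidHom.comp gU)
    have hkerG : gG.ker = Q.subgroupOf M := by
      rw [← hkerU]
      ext m
      rw [MonoidHom.mem_ker, MonoidHom.mem_ker, Units.ext_iff]
      exact (map_eq_one_iff _ (LinearMap.toMatrixAlgEquiv b).injective)
    have h1 := Subgroup.card_subgroup_dvd_card gG.range
    rw [← Subgroup.index_ker, hkerG] at h1
    have h2' := (Q.subgroupOf M).card_mul_index
    rw [Nat.card_congr (Subgroup.subgroupOfEquivOfLe (hQN.trans hNM)).toEquiv] at h2'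
    have h3 := (N.subgroupOf M).card_mul_index
    rw [Nat.card_congr (Subgroup.subgroupOfEquivOfLe hNM).toEquiv, hcN, Subgroup.index,
      Nat.card_congr (η.trans η9).toEquiv, card_psu, ← h2', mul_comm 3, mul_assoc] at h3
    rw [← Nat.eq_of_mul_eq_mul_left Nat.card_pos h3, Matrix.card_GL_field, FF.card] at h1
    exact not_dvd_GL ⟨n, hlt⟩ h1
  -- coordinates
  have hfpf : FPF (MulAut.conjNormal x : MulAut Q) := ⟨fun g => by
    rw [ab_mul, ab_mul, ← fEnd_ab, ← fEnd_ab, ← add_assoc, ← fEnd_ab]
    exact hzero (ab g)⟩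
  obtain ⟨Φ, hΦw, hΦH⟩ := exists_coordinates hE hfpf hcard'
  have hΦw' : ∀ u, Φ (a u) = FF.w • Φ u := fun u => hΦw u
  let actT : Cz z → V → V := fun c v => Φ (f c (Φ.symm v))
  have hactT_mul : ∀ c d v, actT (c * d) v = actT c (actT d v) := fun c d v => by
    show Φ (f (c * d) (Φ.symm v)) = Φ (f c (Φ.symm (Φ (f d (Φ.symm v)))))
    rw [Φ.symm_apply_apply, map_mul]; rfl
  have hactT_one : ∀ v, actT 1 v = v := fun v => by
    show Φ (f 1 (Φ.symm v)) = v; rw [map_one]; exact Φ.apply_symm_apply v
  have hadd : ∀ c u v, actT c (u + v) = actT c u + actT c v := fun c u v => by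
    simp only [actT, map_add]
  have hact_ab : ∀ c g, actT c (Φ (ab g)) = Φ (ab (MulAut.conjNormal c g)) := fun c g => by
    simp only [actT, AddEquiv.symm_apply_apply, hf, fEnd_ab]
  have hsemi : ∀ c, (∀ v, actT c (FF.w • v) = FF.w • actT c v) ∨ ∀ v, actT c (FF.w • v) = FF.w2 • actT c v := by
    intro c
    rcases hconj c with h | h
    · refine Or.inl fun v => ?_
      obtain ⟨u, rfl⟩ := Φ.surjective v
      rw [← hΦw']
      simp only [actT, AddEquiv.symm_apply_apply]
      rw [show f c (a u) = a (f c u) from DFunLike.congr_fun h u, hΦw']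
    · refine Or.inr fun v => ?_
      obtain ⟨u, rfl⟩ := Φ.surjective v
      rw [← hΦw']
      simp only [actT, AddEquiv.symm_apply_apply]
      rw [show f c (a u) = a (a (f c u)) from DFunLike.congr_fun h u, hΦw', hΦw', smul_smul,
        show FF.w * FF.w = FF.w2 from rfl]
  have hlin : ∀ c, (∀ v, actT c (FF.w • v) = FF.w • actT c v) → ∀ u v, H (actT c u) (actT c v) = H u v := by
    intro c hc u v
    obtain ⟨u', rfl⟩ := Φ.surjective u
    obtain ⟨v', rfl⟩ := Φ.surjective v
    obtain ⟨g, rfl⟩ := ab_surjective u'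
    obtain ⟨k, rfl⟩ := ab_surjective v'
    rw [hact_ab, hact_ab, show H _ _ = _ from hΦH _ _, show H _ _ = _ from hΦH g k, herm, herm, β_equiv hE]
    congr 1
    have hx' : ab (MulAut.conjNormal x (MulAut.conjNormal c k)) =
        ab (MulAut.conjNormal c (MulAut.conjNormal x k)) := by
      refine Φ.injective ?_
      rw [← hact_ab c, ← fEnd_ab x, ← fEnd_ab x, hΦw', hΦw', hc, hact_ab]
    rw [β_symm hE, β_congr hE hx', β_symm hE, β_equiv hE]
  have hsmulL : ∀ c, (∀ v, actT c (FF.w • v) = FF.w • actT c v) → ∀ (l : FF) v, actT c (l • v) = l • actT c v := by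
    intro c hc l v
    cases l
    · rw [show (FF.zero : FF) = 0 from rfl, zero_smul, zero_smul]
      simp only [actT, map_zero]
    · rw [show (FF.one : FF) = 1 from rfl, one_smul, one_smul]
    · exact hc v
    · rw [show FF.w2 = 1 + FF.w from by decide, add_smul, add_smul, one_smul, one_smul, hadd, hc]
  have hMlin : ∀ m ∈ M, ∀ v, actT m (FF.w • v) = FF.w • actT m v := by
    intro m hm v
    obtain ⟨u, rfl⟩ := Φ.surjective v
    rw [← hΦw']
    simp only [actT, AddEquiv.symm_apply_apply]
    rw [show f m (a u) = a (f m u) from DFunLike.congr_fun (hcomm m hm) u, hΦw']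
  -- the matrices
  let lm : M → (V →ₗ[FF] V) := fun m =>
    { toFun := actT m, map_add' := hadd m, map_smul' := hsmulL m (hMlin m m.2) }
  let mh : M →* Matrix (Fin 6) (Fin 6) FF :=
    { toFun := fun m => LinearMap.toMatrix' (lm m)
      map_one' := by
        rw [← LinearMap.toMatrix'_id]
        congr 1
        exact LinearMap.ext fun v => hactT_one v
      map_mul' := fun m k => by
        rw [← LinearMap.toMatrix'_comp]
        congr 1
        exact LinearMap.ext fun v => hactT_mul m k v }
  have hmv : ∀ (m : M) v, mh m *ᵥ v = actT m v := fun m v => by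
    show LinearMap.toMatrix' (lm m) *ᵥ v = _
    rw [LinearMap.toMatrix'_mulVec]; rfl
  have hactT_Q : ∀ c ∈ Q, ∀ v, actT c v = v := fun c hc v => by
    show Φ (f c (Φ.symm v)) = v
    rw [(hker c).2 hc]; exact Φ.apply_symm_apply v
  have hactT_x : ∀ v, actT x v = FF.w • v := fun v => by
    show Φ (a (Φ.symm v)) = _
    rw [hΦw', Φ.apply_symm_apply]
  have hdet : ∀ m : M, (mh m).det = 1 := by
    let dh : M →* FFˣ := MonoidHom.toHomUnits ((Matrix.detMonoidHom (n := Fin 6) (R := FF)).comp mh)
    have hdh : ∀ m, ((dh m : FFˣ) : FF) = (mh m).det := fun m => by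
      simp only [dh, MonoidHom.coe_toHomUnits, MonoidHom.comp_apply, Matrix.coe_detMonoidHom]
    have hdv : ∀ (m : M) (l : FF), (∀ v, actT m v = l • v) → (mh m).det = l ^ 6 := fun m l h => by
      rw [show mh m = l • (1 : Matrix (Fin 6) (Fin 6) FF) from Cfsg.Agent.Classical.Unitary.mat_ext fun v => by
        rw [hmv, h, Matrix.smul_mulVec, Matrix.one_mulVec], Matrix.det_smul, Matrix.det_one, mul_one,
        Fintype.card_fin]
    have hkerd : π.ker ≤ dh.ker := fun m hm => by
      refine MonoidHom.mem_ker.2 (Units.ext ?_)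
      rw [hdh, Units.val_one]
      have hm' := (hπker m).1 hm
      rcases hN3 _ hm' with h | h | h
      · rw [hdv m 1 fun v => by rw [one_smul]; exact hactT_Q _ ((hker _).1 h) v, one_pow]
      · rw [hdv m FF.w fun v => ?_]
        · decide +kernel
        · show Φ (f m (Φ.symm v)) = _
          rw [h, hΦw', Φ.apply_symm_apply]
      · rw [hdv m FF.w2 fun v => ?_]
        · decide +kernel
        · show Φ (f m (Φ.symm v)) = _
          rw [h]
          show Φ (a (a (Φ.symm v))) = _
          rw [hΦw', hΦw', Φ.apply_symm_apply, smul_smul]; rfl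
    intro m
    let dP := MonoidHom.liftOfSurjective π hπ ⟨dh, hkerd⟩
    have h1 : π m ∈ commutator P43 := psu_perfect ▸ Subgroup.mem_top _
    have h2 : dP (π m) = 1 := by
      have := Subgroup.mem_map_of_mem dP h1
      rw [commutator_def, Subgroup.map_commutator, Subgroup.commutator_eq_bot_iff_le_centralizer.2
        (fun p _ => Subgroup.mem_centralizer_iff.2 fun q _ => mul_comm q p)] at this
      exact Subgroup.mem_bot.1 this
    rw [show dP (π m) = dh m from MonoidHom.liftOfRightInverse_comp_apply π _ _ ⟨dh, hkerd⟩ m] at h2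
    rw [← hdh, h2, Units.val_one]
  let r : M →* S := MonoidHom.mk'
    (fun m => suMk (mh m) (hdet m) fun u v => by rw [hmv, hmv]; exact hlin m (hMlin m m.2) u v)
    fun m k => S_ext fun v => by
      rw [mul_smul, smul_def, smul_def, smul_def, suMk_mulVec, suMk_mulVec, suMk_mulVec, Matrix.mulVec_mulVec,
        ← map_mul]
  have hr : ∀ (m : M) v, r m • v = actT m v := fun m v => by
    rw [smul_def]
    show mat (suMk _ _ _) *ᵥ v = _
    rw [suMk_mulVec, hmv]
  have hrker : ∀ m : M, r m = 1 ↔ (m : Cz z) ∈ Q := fun m => by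
    refine ⟨fun e => (hker _).1 (AddMonoidHom.ext fun u => Φ.injective ?_), fun h => S_ext fun v => ?_⟩
    · show Φ (f m u) = Φ u
      have := hr m (Φ u)
      rw [e, one_smul] at this
      simpa [actT] using this.symm
    · rw [hr, hactT_Q _ h, one_smul]
  let L := r.range
  have hker_r : r.ker ≤ π.ker := fun m hm => MonoidHom.mem_ker.2 <| (hπker m).2 (hQN ((hrker m).1 hm))
  let θ : L →* P43 := MonoidHom.liftOfSurjective r.rangeRestrict r.rangeRestrict_surjective
    ⟨π, by rw [MonoidHom.ker_rangeRestrict]; exact hker_r⟩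
  have hθr : ∀ m, θ (r.rangeRestrict m) = π m := fun m =>
    MonoidHom.liftOfRightInverse_comp_apply r.rangeRestrict _ _ ⟨π, _⟩ m
  have hθs : Function.Surjective θ := fun p => by
    obtain ⟨m, rfl⟩ := hπ p; exact ⟨_, hθr m⟩
  have hθker : θ.ker = Subgroup.center L := by
    have hle : θ.ker ≤ Subgroup.center L := by
      intro l hl
      obtain ⟨m, rfl⟩ := r.rangeRestrict_surjective l
      rw [MonoidHom.mem_ker, hθr, hπker] at hl
      refine Subgroup.mem_center_iff.2 fun l' => ?_
      obtain ⟨k, rfl⟩ := r.rangeRestrict_surjective l'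
      refine Subtype.ext (S_ext fun v => ?_)
      show (r k * r m) • v = (r m * r k) • v
      rw [mul_smul, mul_smul, hr, hr, hr, hr]
      show Φ (f k (Φ.symm (Φ (f m _)))) = Φ (f m (Φ.symm (Φ (f k _))))
      rw [Φ.symm_apply_apply, Φ.symm_apply_apply]
      congr 1
      show (f k * f m) _ = (f m * f k) _
      congr 1
      rcases hN3 _ hl with e | e | e <;> rw [e]
      · rw [mul_one, one_mul]
      · exact hcomm k k.2
      · rw [← mul_assoc, hcomm k k.2, mul_assoc, hcomm k k.2, mul_assoc]
    refine le_antisymm hle ?_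
    rcases IsSimpleGroup.eq_bot_or_eq_top_of_normal ((Subgroup.center L).map θ)
      (Subgroup.Normal.map inferInstance θ hθs) with h | h
    · exact fun l hl => MonoidHom.mem_ker.2 (Subgroup.mem_bot.1 (h ▸ Subgroup.mem_map_of_mem θ hl))
    · exfalso
      have hab : ∀ p q : P43, p * q = q * p := fun p q => by
        obtain ⟨c, hc, rfl⟩ : p ∈ (Subgroup.center L).map θ := h ▸ Subgroup.mem_top p
        obtain ⟨l, rfl⟩ := hθs q
        rw [← map_mul, ← map_mul, Subgroup.mem_center_iff.1 hc l]
      have hb : commutator P43 = ⊥ := by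
        rw [commutator_def, Subgroup.commutator_eq_bot_iff_le_centralizer]
        exact fun p _ => Subgroup.mem_centralizer_iff.2 fun q _ => hab q p
      rw [psu_perfect] at hb
      exact top_ne_bot hb
  have htrip : Trip L P43 := by
    refine ⟨?_, ⟨(QuotientGroup.quotientMulEquivOfEq hθker.symm).trans
      (QuotientGroup.quotientKerEquivOfSurjective θ hθs)⟩⟩
    rw [← hθker]
    have hcl : Nat.card L = 9797760 := by
      show Nat.card r.range = _
      rw [← Subgroup.index_ker, show r.ker = Q.subgroupOf M from Subgroup.ext fun m => by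
        rw [MonoidHom.mem_ker, hrker, Subgroup.mem_subgroupOf]]
      have h2' := (Q.subgroupOf M).card_mul_index
      rw [Nat.card_congr (Subgroup.subgroupOfEquivOfLe (hQN.trans hNM)).toEquiv] at h2'
      have h3 := (N.subgroupOf M).card_mul_index
      rw [Nat.card_congr (Subgroup.subgroupOfEquivOfLe hNM).toEquiv, hcN, Subgroup.index,
        Nat.card_congr (η.trans η9).toEquiv, card_psu, ← h2', mul_comm 3, mul_assoc] at h3
      rw [← Nat.eq_of_mul_eq_mul_left Nat.card_pos h3]; rfl
    have h4 := θ.ker.card_mul_index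
    rw [Subgroup.index_ker, MonoidHom.range_eq_top.2 hθs, Subgroup.card_top, card_psu, hcl] at h4
    omega
  obtain ⟨T, hTH, hT⟩ := exists_equiv htrip
  -- assemble
  refine ⟨M, ⟨{
    φ := fun g => T (Φ (ab g))
    φ_mul := fun g k => by rw [ab_mul, map_add, map_add]
    surj := fun v => by
      obtain ⟨g, hg⟩ := ab_surjective (Φ.symm (T.symm v))
      exact ⟨g, by show T (Φ (ab g)) = v; rw [hg, AddEquiv.apply_symm_apply, LinearEquiv.apply_symm_apply]⟩
    zero := fun g => by
      rw [map_eq_zero_iff _ T.injective, map_eq_zero_iff _ Φ.injective, ab_eq_zero_iff hE]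
    form := fun g => by
      rw [hTH, show H _ _ = _ from hΦH g g, herm_self hE hfpf]
      simp only [q, χ]
      split_ifs with h' <;> simp [h']
    act := MonoidHom.mk' (fun c =>
        { toFun := fun v => T (actT c (T.symm v))
          invFun := fun v => T (actT c⁻¹ (T.symm v))
          left_inv := fun v => by
            dsimp only
            rw [LinearEquiv.symm_apply_apply, ← hactT_mul, inv_mul_cancel, hactT_one, LinearEquiv.apply_symm_apply]
          right_inv := fun v => by
            dsimp only
            rw [LinearEquiv.symm_apply_apply, ← hactT_mul, mul_inv_cancel, hactT_one,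
              LinearEquiv.apply_symm_apply] })
      fun c d => Equiv.ext fun v => by
        show T (actT (c * d) (T.symm v)) = T (actT c (T.symm (T (actT d (T.symm v)))))
        rw [LinearEquiv.symm_apply_apply, hactT_mul]
    conj := fun c g => by
      show T (Φ (ab (MulAut.conjNormal c g))) = T (actT c (T.symm (T (Φ (ab g)))))
      rw [LinearEquiv.symm_apply_apply, hact_ab]
    ker := fun c => by
      rw [← hker]
      refine ⟨fun e => AddMonoidHom.ext fun u => ?_, fun e => Equiv.ext fun v => ?_⟩
      · have h := DFunLike.congr_fun e (T (Φ u))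
        change T (actT c (T.symm (T (Φ u)))) = T (Φ u) at h
        rw [LinearEquiv.symm_apply_apply] at h
        have h' := T.injective h
        simp only [actT, AddEquiv.symm_apply_apply] at h'
        exact Φ.injective h'
      · show T (Φ (f c (Φ.symm (T.symm v)))) = v
        rw [show f c = 1 from e]
        show T (Φ (Φ.symm (T.symm v))) = v
        rw [AddEquiv.apply_symm_apply, LinearEquiv.apply_symm_apply]
    le := hQN.trans hNM
    idx := hidx
    mem_M := fun m hm => by
      obtain ⟨k, hk, he⟩ := hT.1 (r ⟨m, hm⟩) ⟨_, rfl⟩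
      refine ⟨k, hk, fun v => ?_⟩
      show T (actT m (T.symm v)) = k • v
      rw [← hr ⟨m, hm⟩, he, LinearEquiv.apply_symm_apply]
    of_K0 := fun k hk => by
      obtain ⟨_, ⟨m, rfl⟩, he⟩ := hT.2 k hk
      refine ⟨m, m.2, fun v => ?_⟩
      show T (actT m (T.symm v)) = k • v
      rw [← hr m, he, LinearEquiv.apply_symm_apply]
    semi := fun c => by
      rcases hsemi c with h | h
      · refine Or.inl fun v => ?_
        show T (actT c (T.symm (FF.w • v))) = FF.w • T (actT c (T.symm v))
        rw [map_smul, h, map_smul]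
      · refine Or.inr fun v => ?_
        show T (actT c (T.symm (FF.w • v))) = FF.w2 • T (actT c (T.symm v))
        rw [map_smul, h, map_smul]
    lin := fun c hc u v => by
      have hc' : ∀ v, actT c (FF.w • v) = FF.w • actT c v := fun v => by
        refine T.injective ?_
        have h := hc (T v)
        change T (actT c (T.symm (FF.w • T v))) = FF.w • T (actT c (T.symm (T v))) at h
        rwa [← map_smul, LinearEquiv.symm_apply_apply, LinearEquiv.symm_apply_apply, ← map_smul] at h
      show H (T _) (T _) = _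
      rw [hTH, hlin c hc', ← hTH, LinearEquiv.apply_symm_apply, LinearEquiv.apply_symm_apply] }⟩⟩

end Cfsg.Agent.LargeExtra.Fischer
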