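import Cfsg.Agent.Lib.LargeExtra.Fischer.Lifts

/-!
The preimage of the line of a conjugate of the central involution: an elementary abelian group of order
eight, invariant under an element exchanging the central involution with the conjugate.
-/

set_option autoImplicit false

namespace Cfsg.Agent.LargeExtra.Fischer

open Cfsg.Agent.InvChar.Coset
open Cfsg.Agent.Components.UnitarySix
open Cfsg.Agent.MonsterOrbits (bigQ mem_bigQ ctr_bigQ mem_center_iff')
open Cfsg.Agent.LargeExtra (Pair)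

set_option maxRecDepth 100000 in
theorem perm_fixed : ∀ v : V, permV sT v = v → permV tT v = v → ∃ l : FF, v = l • fv := by decide +kernel

theorem line_facts : (∀ l : FF, H (l • fv) (l • fv) = 0) ∧ (∀ l : FF, l + l ^ 2 = 0 ∨ l + l ^ 2 = 1) ∧
    FF.w • fv ≠ 0 ∧ fv ≠ 0 ∧ FF.w • fv ≠ fv ∧ FF.w • fv ≠ FF.w2 • fv ∧ (∀ l : FF, l • fv = 0 → l = 0) := by decide +kernel

theorem three_facts : sA * sA * sA = 1 ∧ tA * tA * tA = 1 := by decide +kernel

/-- A vector with products `w` with the vector. -/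
def y1 : V := ![1, .w2, 0, 0, 0, 0]

/-- Another such vector. -/
def y2 : V := ![1, 0, 1, 0, 0, 0]

/-- The trace of the product. -/
def trH (y u : V) : FF := H y u + H u y

/-- A singular vector whose product with the vector is one. -/
def y3 : V := ![.w, .w2, 0, 0, 0, 0]

theorem y_facts : (H y1 y1 = 0 ∧ trH y1 fv = 1 ∧ trH y1 (FF.w • fv) = 0) ∧
    H y3 y3 = 0 ∧ trH y3 fv = 0 ∧ trH y3 (FF.w • fv) = 1 := by
  decide +kernel

theorem orth_of_trace : ∀ a : FF, a + a ^ 2 = 0 → a * FF.w2 + (a * FF.w2) ^ 2 = 0 → a = 0 := by decide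

theorem H_self_cases (y : V) : H y y = 0 ∨ H y y = 1 := by
  rw [H_self]
  have h : wt y < 7 := by
    have := Finset.card_le_univ (Finset.univ.filter fun i => y i ≠ 0)
    rw [Fintype.card_fin] at this
    exact Nat.lt_succ_of_le this
  generalize wt y = n at h ⊢
  interval_cases n <;> decide

theorem H_add_self (y u : V) : H (y + u) (y + u) = H y y + trH y u + H u u := by
  rw [H_addL, H_addR, H_addR, trH]; ring

/-- An element inverting a difference fixed by it has no odd order. -/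
theorem fix_of_odd {P : Type*} [Group P] {y d e : P} (h : y * d * y⁻¹ = d * e) (hye : y * e = e * y)
    (he : e * e = 1) (hy : Odd (orderOf y)) : y * d = d * y := by
  have hn : ∀ n : ℕ, y ^ n * d * (y ^ n)⁻¹ = d * e ^ n := by
    intro n
    induction n with
    | zero => simp
    | succ n ih =>
      have hc : y * e ^ n * y⁻¹ = e ^ n := by rw [((show Commute y e from hye).pow_right n).eq, mul_inv_cancel_right]
      calc y ^ (n + 1) * d * (y ^ (n + 1))⁻¹ = y * (y ^ n * d * (y ^ n)⁻¹) * y⁻¹ := by rw [pow_succ']; group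
        _ = (y * d * y⁻¹) * (y * e ^ n * y⁻¹) := by rw [ih]; group
        _ = d * e ^ (n + 1) := by rw [h, hc, pow_succ']; group
  have h1 := hn (orderOf y)
  obtain ⟨k, hk⟩ := hy
  rw [pow_orderOf_eq_one, one_mul, inv_one, mul_one, hk, pow_succ, pow_mul, pow_two, he, one_pow, one_mul,
    left_eq_mul] at h1
  rw [h1, mul_one] at h
  exact mul_inv_eq_iff_eq_mul.1 h

variable {G : Type*} [Group G] [Finite G] {z : G} {Q : Subgroup (Cz z)} [Q.Normal] {M : Subgroup (Cz z)}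

/-- The conjugate pair in standard position. -/
structure StdPair (F : Frame z Q M) (g : G) (a : Q) : Prop where
  hS : Cfsg.IsExtraspecialCentralizerSetting z Q 6
  hgQ : g * z * g⁻¹ ∈ bigQ Q
  hgz : g * z * g⁻¹ ≠ z
  ha : ((a : Cz z) : G) = g * z * g⁻¹
  hv : F.φ a = fv

variable (F : Frame z Q M) {g : G} {a : Q}

/-- The preimage of the line. -/
def lineQ : Subgroup (Cz z) where
  carrier := {c | ∃ h : c ∈ Q, ∃ l : FF, F.φ ⟨c, h⟩ = l • fv}
  one_mem' := ⟨one_mem _, 0, by rw [zero_smul]; exact F.φ_one⟩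
  mul_mem' := by
    rintro c d ⟨hc, l, hl⟩ ⟨hd, j, hj⟩
    exact ⟨mul_mem hc hd, l + j, by
      rw [show (⟨c * d, mul_mem hc hd⟩ : Q) = ⟨c, hc⟩ * ⟨d, hd⟩ from rfl, F.φ_mul, hl, hj, add_smul]⟩
  inv_mem' := by
    rintro c ⟨hc, l, hl⟩
    refine ⟨inv_mem hc, l, ?_⟩
    have h : F.φ ⟨c⁻¹, inv_mem hc⟩ + F.φ ⟨c, hc⟩ = 0 := by
      rw [← F.φ_mul, show (⟨c⁻¹, inv_mem hc⟩ : Q) * ⟨c, hc⟩ = 1 from Subtype.ext (inv_mul_cancel c), F.φ_one]
    calc F.φ ⟨c⁻¹, inv_mem hc⟩ = F.φ ⟨c⁻¹, inv_mem hc⟩ + (F.φ ⟨c, hc⟩ + F.φ ⟨c, hc⟩) := by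
          rw [V_add_self, add_zero]
      _ = _ := by rw [← add_assoc, h, zero_add, hl]

/-- The group of order eight. -/
def Vg : Subgroup G := (lineQ F).map (Cz z).subtype

theorem mem_Vg {x : G} : x ∈ Vg F ↔ ∃ q : Q, (∃ l : FF, F.φ q = l • fv) ∧ ((q : Cz z) : G) = x := by
  constructor
  · rintro ⟨c, ⟨hc, h⟩, rfl⟩; exact ⟨⟨c, hc⟩, h, rfl⟩
  · rintro ⟨q, h, rfl⟩; exact ⟨q.1, ⟨q.2, h⟩, rfl⟩

variable {F}

namespace StdPair

variable (P : StdPair F g a)
include P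

theorem z_mem_Cz : z ∈ Cz z ∧ ∀ h : z ∈ Cz z, (⟨z, h⟩ : Cz z) ∈ Q := zmem P.hS

theorem z_mem_Vg : z ∈ Vg F := by
  obtain ⟨hz, hzQ⟩ := P.z_mem_Cz
  exact (mem_Vg F).2 ⟨⟨⟨z, hz⟩, hzQ hz⟩, ⟨0, by
    rw [zero_smul]; exact (F.zero _).2 ((mem_center_iff' P.hS).2 (Or.inr rfl))⟩, rfl⟩

theorem a_mem_Vg : g * z * g⁻¹ ∈ Vg F := (mem_Vg F).2 ⟨a, ⟨1, by rw [one_smul]; exact P.hv⟩, P.ha⟩

theorem Vg_sq : ∀ x ∈ Vg F, x * x = 1 := by
  intro x hx
  obtain ⟨q, ⟨l, hl⟩, rfl⟩ := (mem_Vg F).1 hx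
  have := (F.form q).2 (by rw [hl]; exact line_facts.1 l)
  exact congrArg (fun r : Q => ((r : Cz z) : G)) this

theorem Vg_comm : ∀ x ∈ Vg F, ∀ y ∈ Vg F, x * y = y * x := fun x hx y hy => by
  calc x * y = (x * y)⁻¹ := eq_inv_of_mul_eq_one_left (P.Vg_sq _ (mul_mem hx hy))
    _ = y⁻¹ * x⁻¹ := _root_.mul_inv_rev x y
    _ = y * x := by rw [inv_eq_of_mul_eq_one_right (P.Vg_sq x hx), inv_eq_of_mul_eq_one_right (P.Vg_sq y hy)]

/-- Two members of the extraspecial group with the same image, in the whole group. -/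
theorem eqz {q r : Q} (e : F.φ q = F.φ r) :
    ((q : Cz z) : G) = ((r : Cz z) : G) ∨ ((q : Cz z) : G) = ((r : Cz z) : G) * z := by
  obtain ⟨hz, -⟩ := P.z_mem_Cz
  exact (eq_or_mul P.hS F hz e).imp (congrArg Subtype.val) (congrArg Subtype.val)

theorem eq_z_of_zero {q : Q} (e : F.φ q = 0) : ((q : Cz z) : G) = 1 ∨ ((q : Cz z) : G) = z :=
  (mem_center_iff' P.hS).1 ((F.zero q).1 e)

/-- The members whose image is one of the vectors of the line. -/
theorem Vg_cases {b : Q} (hb : F.φ b = FF.w • fv) {x : G} (hx : x ∈ Vg F) :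
    x ∈ Subgroup.closure ({z, g * z * g⁻¹, ((b : Cz z) : G)} : Set G) := by
  obtain ⟨q, ⟨l, hl⟩, rfl⟩ := (mem_Vg F).1 hx
  set C := Subgroup.closure ({z, g * z * g⁻¹, ((b : Cz z) : G)} : Set G)
  have hzC : z ∈ C := Subgroup.subset_closure (by simp)
  have haC : g * z * g⁻¹ ∈ C := Subgroup.subset_closure (by simp)
  have hbC : ((b : Cz z) : G) ∈ C := Subgroup.subset_closure (by simp)
  have key : ∀ r : Q, ((r : Cz z) : G) ∈ C → F.φ q = F.φ r → ((q : Cz z) : G) ∈ C := fun r hr e => by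
    rcases P.eqz e with e' | e' <;> rw [e']
    · exact hr
    · exact mul_mem hr hzC
  cases l
  · refine key 1 (one_mem _) ?_
    rw [hl, F.φ_one, show (FF.zero : FF) = 0 from rfl, zero_smul]
  · refine key a (P.ha ▸ haC) ?_
    rw [hl, P.hv, show (FF.one : FF) = 1 from rfl, one_smul]
  · exact key b hbC (by rw [hl, hb])
  · refine key (a * b) (by show ((a : Cz z) : G) * ((b : Cz z) : G) ∈ C; rw [P.ha]; exact mul_mem haC hbC) ?_
    rw [hl, F.φ_mul, P.hv, hb, show (FF.w2 : FF) = 1 + FF.w from by decide, add_smul, one_smul]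

/-- The elements of the centralizer fixing the conjugate act on the line by field automorphisms. -/
theorem act_line {c : Cz z} (hc : F.act c fv = fv) (l : FF) :
    F.act c (l • fv) = l • fv ∨ F.act c (l • fv) = l ^ 2 • fv := by
  have hw2 : (FF.w2 : FF) = 1 + FF.w := by decide
  rcases F.semi c with h | h
  · left
    cases l
    · rw [show (FF.zero : FF) = 0 from rfl, zero_smul]; exact F.act_zero c
    · rw [show (FF.one : FF) = 1 from rfl, one_smul]; exact hc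
    · rw [h, hc]
    · rw [hw2, add_smul, one_smul, F.act_add, hc, h, hc]
  · right
    cases l
    · rw [show (FF.zero : FF) = 0 from rfl, zero_pow two_ne_zero, zero_smul]; exact F.act_zero c
    · rw [show (FF.one : FF) = 1 from rfl, one_pow, one_smul]; exact hc
    · rw [h, hc]; rfl
    · rw [show (FF.w2 : FF) ^ 2 = FF.w from by decide]
      nth_rewrite 1 [hw2]
      rw [add_smul, one_smul, F.act_add, hc, h, hc, show (FF.w : FF) = 1 + FF.w2 from by decide, add_smul, one_smul]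

theorem act_a {c : Cz z} (h : (c : G) * (g * z * g⁻¹) = g * z * g⁻¹ * c) : F.act c fv = fv := by
  rw [← P.hv, ← F.conj]
  congr 1
  refine Subtype.ext ((MulAut.conjNormal_apply _ _).trans (Subtype.ext ?_))
  show (c : G) * ((a : Cz z) : G) * (c : G)⁻¹ = ((a : Cz z) : G)
  rw [P.ha, h, mul_inv_cancel_right]

/-- Elements of odd order centralising both involutions centralise the group of order eight. -/
theorem odd_centralizes {y : G} (hyz : y * z = z * y) (hya : y * (g * z * g⁻¹) = g * z * g⁻¹ * y)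
    (hy : Odd (orderOf y)) {x : G} (hx : x ∈ Vg F) : y * x = x * y := by
  obtain ⟨q, ⟨l, hl⟩, rfl⟩ := (mem_Vg F).1 hx
  let c : Cz z := ⟨y, Subgroup.mem_centralizer_singleton_iff.2 hyz⟩
  have hc : F.act c fv = fv := P.act_a hya
  set e : Q := q⁻¹ * MulAut.conjNormal c q with he
  have hphi : ∃ j : FF, (j = 0 ∨ j = 1) ∧ F.φ e = j • fv := by
    have hi : F.φ q⁻¹ = F.φ q := by
      have h1 : F.φ q⁻¹ + F.φ q = 0 := by rw [← F.φ_mul, inv_mul_cancel, F.φ_one]
      calc F.φ q⁻¹ = F.φ q⁻¹ + (F.φ q + F.φ q) := by rw [V_add_self, add_zero]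
        _ = F.φ q := by rw [← add_assoc, h1, zero_add]
    rw [he, F.φ_mul, F.conj, hi, hl]
    rcases P.act_line hc l with h | h <;> rw [h, ← add_smul]
    · exact ⟨_, Or.inl (char_two l), rfl⟩
    · exact ⟨_, line_facts.2.1 l, rfl⟩
  have hyV : ∀ r : G, r = 1 ∨ r = z ∨ r = g * z * g⁻¹ ∨ r = g * z * g⁻¹ * z → y * r = r * y := by
    rintro r (rfl | rfl | rfl | rfl)
    · rw [mul_one, one_mul]
    · exact hyz
    · exact hya
    · rw [← mul_assoc, hya, mul_assoc, hyz, ← mul_assoc]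
  have heV : ((e : Cz z) : G) = 1 ∨ ((e : Cz z) : G) = z ∨ ((e : Cz z) : G) = g * z * g⁻¹ ∨
      ((e : Cz z) : G) = g * z * g⁻¹ * z := by
    obtain ⟨j, rfl | rfl, hj⟩ := hphi
    · rw [zero_smul] at hj
      exact (P.eq_z_of_zero hj).imp id Or.inl
    · rw [one_smul, ← P.hv] at hj
      refine Or.inr (Or.inr ?_)
      rw [← P.ha]
      exact P.eqz hj
  refine fix_of_odd (d := ((q : Cz z) : G)) (e := ((e : Cz z) : G)) ?_ (hyV _ heV) (P.Vg_sq _ ?_) hy
  · rw [he]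
    push_cast [MulAut.conjNormal_apply]
    group
    rfl
  · rcases heV with h | h | h | h <;> rw [h]
    · exact one_mem _
    · exact P.z_mem_Vg
    · exact P.a_mem_Vg
    · exact mul_mem P.a_mem_Vg P.z_mem_Vg

/-- An element of order three above a permutation of order three, centralising the conjugate. -/
theorem exists_three {σ : alternatingGroup (Fin 6)} (hσ : σ * σ * σ = 1) :
    ∃ y : Cz z, ∃ n : ℕ, (σ ^ n) ^ n = σ ∧ Odd (orderOf (y : G)) ∧
      (y : G) * (g * z * g⁻¹) = g * z * g⁻¹ * (y : G) ∧ ∀ v, F.act y v = altK (σ ^ n) • v := by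
  obtain ⟨-, -, hE, -, -⟩ := id P.hS
  obtain ⟨m, -, hme⟩ := F.of_K0 (altK σ) (altK_mem σ).1
  have hact : ∀ (n : ℕ) v, F.act (m ^ n) v = altK (σ ^ n) • v := by
    intro n
    induction n with
    | zero => intro v; rw [pow_zero, pow_zero, map_one, map_one, one_smul]; rfl
    | succ n ih => intro v; rw [pow_succ, pow_succ, F.act_mul_smul ih hme, map_mul]
  have hs3 : σ ^ 3 = 1 := by rw [pow_succ, pow_two, hσ]
  haveI : Fact (Nat.Prime 2) := ⟨Nat.prime_two⟩
  have hm3 : m ^ 3 ∈ Q := (F.ker _).1 (Equiv.ext fun v => by rw [hact, hs3, map_one, one_smul]; rfl)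
  obtain ⟨j, hj⟩ := hE.1.1 ⟨m ^ 3, hm3⟩
  have hj' : ((m ^ (2 ^ j) : Cz z) : G) ^ 3 = 1 := by
    have h := congrArg (fun q : Q => ((q : Cz z) : G)) hj
    simp only [SubgroupClass.coe_pow, Subgroup.coe_one, ← pow_mul] at h
    rw [SubgroupClass.coe_pow, ← pow_mul, mul_comm]
    exact h
  have hodd : Odd (orderOf ((m ^ (2 ^ j) : Cz z) : G)) := by
    rcases (Nat.dvd_prime Nat.prime_three).1 (orderOf_dvd_of_pow_eq_one hj') with h | h <;> rw [h] <;> decide
  refine ⟨m ^ (2 ^ j), 2 ^ j, ?_, hodd, ?_, hact _⟩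
  · rw [← pow_mul, ← mul_pow, show (2 * 2 : ℕ) = 4 from rfl]
    have h4 : ∀ k : ℕ, σ ^ (4 ^ k) = σ := by
      intro k
      induction k with
      | zero => rw [pow_zero, pow_one]
      | succ k ih => rw [pow_succ, pow_mul, ih, pow_succ σ 3, hs3, one_mul]
    exact h4 j
  · have hfix : F.φ (MulAut.conjNormal (m ^ (2 ^ j)) a) = F.φ a := by
      rw [F.conj, hact, P.hv]; exact (altK_mem _).2
    have hc : ((m ^ (2 ^ j) : Cz z) : G) * ((a : Cz z) : G) * ((m ^ (2 ^ j) : Cz z) : G)⁻¹ = ((a : Cz z) : G) ∨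
        ((m ^ (2 ^ j) : Cz z) : G) * ((a : Cz z) : G) * ((m ^ (2 ^ j) : Cz z) : G)⁻¹ = ((a : Cz z) : G) * z := by
      have he := P.eqz hfix
      rw [MulAut.conjNormal_apply] at he
      simpa only [Subgroup.coe_mul, Subgroup.coe_inv] using he
    rw [P.ha] at hc
    rcases hc with h | h
    · exact mul_inv_eq_iff_eq_mul.1 h
    · exact fix_of_odd h (Subgroup.mem_centralizer_singleton_iff.1 (m ^ (2 ^ j)).2)
        (ctr_bigQ P.hS).zz hodd

/-- The other extraspecial group. -/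
theorem Vg_le_other {x : G} (hx : x ∈ Vg F) : x ∈ (bigQ Q).map (MulAut.conj g).toMonoidHom := by
  obtain ⟨q, ⟨l, hl⟩, rfl⟩ := (mem_Vg F).1 hx
  obtain ⟨d, hd, he⟩ := exists_inter P.hS F P.hgQ P.hgz P.ha P.hv (InD_line l)
  rcases P.eqz (hl.trans he.symm) with e | e <;> rw [e]
  · exact hd
  · exact mul_mem hd ((Pair.mk' (ctr_bigQ P.hS) P.hgQ P.hgz).z_mem' (bigQ_large P.hS))

/-- A description symmetric in the two involutions. -/
theorem mem_Vg_iff {x : G} : x ∈ Vg F ↔ x ∈ bigQ Q ∧ x ∈ (bigQ Q).map (MulAut.conj g).toMonoidHom ∧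
    ∀ y : G, y * z = z * y → y * (g * z * g⁻¹) = g * z * g⁻¹ * y → Odd (orderOf y) → y * x = x * y := by
  refine ⟨fun hx => ?_, fun ⟨h1, _, h3⟩ => ?_⟩
  · obtain ⟨q, -, rfl⟩ := (mem_Vg F).1 hx
    exact ⟨mem_bigQ.2 ⟨(q : Cz z).property, q.property⟩, P.Vg_le_other hx, fun _ h1 h2 h3 => P.odd_centralizes h1 h2 h3 hx⟩
  obtain ⟨hxC, hxQ⟩ := mem_bigQ.1 h1
  refine (mem_Vg F).2 ⟨⟨⟨x, hxC⟩, hxQ⟩, ?_, rfl⟩
  set v := F.φ ⟨⟨x, hxC⟩, hxQ⟩ with hv
  have hfix : ∀ σ : alternatingGroup (Fin 6), σ * σ * σ = 1 → altK σ • v = v := by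
    intro σ hσ
    obtain ⟨y, n, hn, hyo, hya, hy⟩ := P.exists_three hσ
    have h := h3 y (Subgroup.mem_centralizer_singleton_iff.1 y.2) hya hyo
    have h1 : altK (σ ^ n) • v = v := by
      rw [← hy, hv, ← F.conj]
      congr 1
      refine Subtype.ext ((MulAut.conjNormal_apply _ _).trans (Subtype.ext ?_))
      show (y : G) * x * (y : G)⁻¹ = x
      rw [h, mul_inv_cancel_right]
    have h2 : ∀ k : ℕ, altK ((σ ^ n) ^ k) • v = v := by
      intro k
      induction k with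
      | zero => rw [pow_zero, map_one, one_smul]
      | succ k ih => rw [pow_succ, map_mul, mul_smul, h1, ih]
    have := h2 n
    rwa [hn] at this
  exact perm_fixed v (by rw [← sA_smul]; exact hfix _ three_facts.1) (by rw [← tA_smul]; exact hfix _ three_facts.2)

/-- Membership of the other extraspecial group under an element exchanging the involutions. -/
theorem exists_swap_elt : ∃ h : G, h * z * h⁻¹ = g * z * g⁻¹ ∧ h * (g * z * g⁻¹) * h⁻¹ = z ∧
    (∀ x, x ∈ Vg F ↔ h * x * h⁻¹ ∈ Vg F) ∧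
    ∀ x, x ∈ bigQ Q ↔ h * x * h⁻¹ ∈ (bigQ Q).map (MulAut.conj g).toMonoidHom := by
  obtain ⟨s1, s2⟩ := symm_pair P.hS P.hgQ P.hgz
  obtain ⟨hs, hsQ⟩ := mem_bigQ.1 s1
  have hO := O1_of_conj P.hS F (g := g⁻¹) (a := ⟨⟨_, hs⟩, hsQ⟩) s1 s2 rfl
  obtain ⟨c, hc⟩ := conj_of_kind P.hS F (a := a) (b := ⟨⟨_, hs⟩, hsQ⟩) (Or.inr ⟨P.hv ▸ O1_fv, hO⟩)
  have hc' : (c : G) * (g * z * g⁻¹) * (c : G)⁻¹ = g⁻¹ * z * g⁻¹⁻¹ := by
    rw [← P.ha]; exact congrArg Subtype.val hc
  have hcz : (c : G) * z * (c : G)⁻¹ = z := by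
    rw [Subgroup.mem_centralizer_singleton_iff.1 c.2, mul_inv_cancel_right]
  set h := g * (c : G) with hh
  have h1 : h * z * h⁻¹ = g * z * g⁻¹ := by
    calc h * z * h⁻¹ = g * ((c : G) * z * (c : G)⁻¹) * g⁻¹ := by rw [hh]; group
      _ = _ := by rw [hcz]
  have h2 : h * (g * z * g⁻¹) * h⁻¹ = z := by
    calc h * (g * z * g⁻¹) * h⁻¹ = g * ((c : G) * (g * z * g⁻¹) * (c : G)⁻¹) * g⁻¹ := by rw [hh]; group
      _ = z := by rw [hc']; group
  have hcn : ∀ {u : Cz z} (x : G), x ∈ bigQ Q ↔ (u : G) * x * (u : G)⁻¹ ∈ bigQ Q := fun {u} x => by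
    rw [mem_bigQ, mem_bigQ]
    constructor
    · rintro ⟨hx, hxQ⟩
      exact ⟨mul_mem (mul_mem u.2 hx) (inv_mem u.2), (inferInstance : Q.Normal).conj_mem _ hxQ u⟩
    · rintro ⟨hx, hxQ⟩
      have hx' : x ∈ Cz z := by simpa [mul_assoc] using mul_mem (mul_mem (inv_mem u.2) hx) u.2
      refine ⟨hx', ?_⟩
      have h' := (inferInstance : Q.Normal).conj_mem _ hxQ u⁻¹
      rwa [show u⁻¹ * (⟨(u : G) * x * (u : G)⁻¹, hx⟩ : Cz z) * u⁻¹⁻¹ = ⟨x, hx'⟩ from
        Subtype.ext (by simp [mul_assoc])] at h'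
  have hQ : ∀ x, x ∈ bigQ Q ↔ h * x * h⁻¹ ∈ (bigQ Q).map (MulAut.conj g).toMonoidHom := fun x => by
    rw [Subgroup.mem_map_equiv, MulAut.conj_symm_apply, hcn (u := c) x, hh]
    simp [mul_assoc]
  have h22 : h * h * z * (h * h)⁻¹ = z := by
    calc h * h * z * (h * h)⁻¹ = h * (h * z * h⁻¹) * h⁻¹ := by group
      _ = z := by rw [h1, h2]
  let u : Cz z := ⟨h * h, Subgroup.mem_centralizer_singleton_iff.2 (mul_inv_eq_iff_eq_mul.1 h22)⟩
  have hQ' : ∀ x, x ∈ (bigQ Q).map (MulAut.conj g).toMonoidHom ↔ h * x * h⁻¹ ∈ bigQ Q := fun x => by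
    have e1 := hQ (h⁻¹ * x * h)
    rw [show h * (h⁻¹ * x * h) * h⁻¹ = x by group] at e1
    rw [← e1, hcn (u := u) (h⁻¹ * x * h)]
    rw [show (u : G) * (h⁻¹ * x * h) * (u : G)⁻¹ = h * x * h⁻¹ by show h * h * _ * (h * h)⁻¹ = _; group]
  refine ⟨h, h1, h2, fun x => ?_, hQ⟩
  rw [P.mem_Vg_iff, P.mem_Vg_iff, ← hQ', ← hQ]
  have hiff : ∀ y t : G, (y * t = t * y) ↔ (h * y * h⁻¹) * (h * t * h⁻¹) = (h * t * h⁻¹) * (h * y * h⁻¹) := fun y t => by
    constructor
    · intro e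
      calc h * y * h⁻¹ * (h * t * h⁻¹) = h * (y * t) * h⁻¹ := by group
        _ = _ := by rw [e]; group
    · intro e
      calc y * t = h⁻¹ * (h * y * h⁻¹ * (h * t * h⁻¹)) * h := by group
        _ = _ := by rw [e]; group
  have hord : ∀ y : G, orderOf (h * y * h⁻¹) = orderOf y := fun y =>
    orderOf_injective (MulAut.conj h).toMonoidHom (MulAut.conj h).injective y
  constructor
  · rintro ⟨hx1, hx2, hx3⟩
    refine ⟨hx2, hx1, fun y hy1 hy2 hy3 => ?_⟩
    have e : h * (h⁻¹ * y * h) * h⁻¹ = y := by group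
    have h3 := (hiff _ x).1 (hx3 (h⁻¹ * y * h) ((hiff _ z).2 (by rw [e, h1]; exact hy2))
      ((hiff _ _).2 (by rw [e, h2]; exact hy1)) (by rw [← hord, e]; exact hy3))
    rwa [e] at h3
  · rintro ⟨hx1, hx2, hx3⟩
    refine ⟨hx2, hx1, fun y hy1 hy2 hy3 => (hiff y x).2 (hx3 _ ?_ ?_ (by rw [hord]; exact hy3))⟩
    · have := (hiff y (g * z * g⁻¹)).1 hy2
      rwa [h2] at this
    · have := (hiff y z).1 hy1
      rwa [h1] at this

/-- A commuting member has trace zero. -/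
theorem trace_of_comm {q d : Q} (hd : H (F.φ d) (F.φ d) = 0)
    (h : ((q : Cz z) : G) * ((d : Cz z) : G) = ((d : Cz z) : G) * ((q : Cz z) : G)) : trH (F.φ q) (F.φ d) = 0 := by
  have hc : q * d = d * q := Subtype.ext (Subtype.ext h)
  have hd2 : d * d = 1 := (F.form d).2 hd
  have hsq : q * d * (q * d) = q * q := by
    calc q * d * (q * d) = q * (d * q) * d := by group
      _ = q * (q * d) * d := by rw [hc]
      _ = q * q * (d * d) := by group
      _ = q * q := by rw [hd2, mul_one]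
  have hiff : H (F.φ q + F.φ d) (F.φ q + F.φ d) = 0 ↔ H (F.φ q) (F.φ q) = 0 := by
    rw [← F.φ_mul, ← F.form, ← F.form, hsq]
  have heq : H (F.φ q + F.φ d) (F.φ q + F.φ d) = H (F.φ q) (F.φ q) := by
    rcases H_self_cases (F.φ q) with e | e <;> rcases H_self_cases (F.φ q + F.φ d) with e' | e'
    · rw [e, e']
    · exact absurd ((hiff.2 e).symm.trans e') (by decide)
    · exact absurd ((hiff.1 e').symm.trans e) (by decide)
    · rw [e, e']
  rw [H_add_self, hd, add_zero, add_eq_left] at heq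
  exact heq

/-- The commutation of singular members. -/
theorem conj_by_trace {q d : Q} (hq : H (F.φ q) (F.φ q) = 0) (hd : H (F.φ d) (F.φ d) = 0) :
    (trH (F.φ q) (F.φ d) = 0 → ((q : Cz z) : G) * ((d : Cz z) : G) = ((d : Cz z) : G) * ((q : Cz z) : G)) ∧
    (trH (F.φ q) (F.φ d) = 1 → ((q : Cz z) : G) * ((d : Cz z) : G) * ((q : Cz z) : G)⁻¹ = ((d : Cz z) : G) * z) := by
  refine ⟨fun h => ?_, fun h => ?_⟩
  · have h1 : q * d * (q * d) = 1 := (F.form _).2 (by rw [F.φ_mul, H_add_self, hq, hd, h, add_zero, add_zero])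
    have e : q * d = d * q := by
      calc q * d = (q * d)⁻¹ := eq_inv_of_mul_eq_one_left h1
        _ = d⁻¹ * q⁻¹ := _root_.mul_inv_rev q d
        _ = d * q := by rw [inv_eq_of_mul_eq_one_right ((F.form q).2 hq), inv_eq_of_mul_eq_one_right ((F.form d).2 hd)]
    exact congrArg (fun r : Q => ((r : Cz z) : G)) e
  · have hphi : F.φ (MulAut.conjNormal (q : Cz z) d) = F.φ d := by rw [F.conj, (F.ker _).2 q.2]; rfl
    have he := P.eqz hphi
    simp only [MulAut.conjNormal_apply, Subgroup.coe_mul, Subgroup.coe_inv] at he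
    refine he.resolve_left fun e => ?_
    rw [P.trace_of_comm hd (mul_inv_eq_iff_eq_mul.1 e)] at h
    exact absurd h (by decide)

omit P in
/-- An element of the centralizer preserving the line normalises. -/
theorem line_conj {c : Cz z} {j : FF} (hc : F.act c fv = j • fv) {x : G} (hx : x ∈ Vg F) :
    (c : G) * x * (c : G)⁻¹ ∈ Vg F := by
  obtain ⟨q, ⟨l, hl⟩, rfl⟩ := (mem_Vg F).1 hx
  refine (mem_Vg F).2 ⟨MulAut.conjNormal c q, ?_, by rw [MulAut.conjNormal_apply]; rfl⟩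
  rw [F.conj, hl]
  have hw2 : (FF.w2 : FF) = 1 + FF.w := by decide
  cases l
  · exact ⟨0, by rw [show (FF.zero : FF) = 0 from rfl, zero_smul]; exact F.act_zero c⟩
  · exact ⟨j, by rw [show (FF.one : FF) = 1 from rfl, one_smul]; exact hc⟩
  · rcases F.semi c with h | h <;> exact ⟨_, by rw [h, hc, smul_smul]⟩
  · rw [hw2, add_smul, one_smul, F.act_add, hc]
    rcases F.semi c with h | h <;> exact ⟨_, by rw [h, hc, smul_smul, ← add_smul]⟩

omit P in
theorem mem_normalizer_of_line {c : Cz z} {j : FF} (hc : F.act c fv = j • fv) :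
    (c : G) ∈ Subgroup.normalizer (Vg F : Set G) :=
  Subgroup.mem_normalizer_fintype fun _ hx => line_conj hc hx

/-- The centralizer moves the conjugate to every member outside the central line. -/
theorem orbit {x : G} (hx : x ∈ Vg F) (h1 : x ≠ 1) (hxz : x ≠ z) :
    ∃ c : Cz z, (c : G) ∈ Subgroup.normalizer (Vg F : Set G) ∧ (c : G) * (g * z * g⁻¹) * (c : G)⁻¹ = x := by
  obtain ⟨q, ⟨l, hl⟩, rfl⟩ := (mem_Vg F).1 hx
  have hl0 : l ≠ 0 := fun e => by
    rw [e, zero_smul] at hl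
    exact (P.eq_z_of_zero hl).elim h1 hxz
  obtain ⟨x, ⟨X⟩⟩ := exists_scal P.hS F
  obtain ⟨m, hm⟩ : ∃ m : Cz z, F.act m fv = l • fv := by
    rcases (show ∀ a b : FF, a ≠ 0 → a ≠ 1 → b ≠ 0 → b = 1 ∨ b = a ∨ b = a * a by decide) X.l l X.hl0 X.hl1 hl0
      with e | e | e <;> subst e
    · exact ⟨1, by rw [map_one, one_smul]; rfl⟩
    · exact ⟨x, X.act fv⟩
    · exact ⟨x * x, by rw [map_mul, Equiv.Perm.mul_apply, X.act, X.act, smul_smul]⟩
  have hphi : F.φ (MulAut.conjNormal m a) = F.φ q := by rw [F.conj, P.hv, hm, hl]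
  obtain ⟨r, hr, hre⟩ := conj_of_eq P.hS F (by rw [F.conj, P.hv]; exact F.act_Iso m O1_fv.1) hphi
  refine ⟨r * m, mem_normalizer_of_line (j := l) (by rw [map_mul, (F.ker r).2 hr, one_mul, hm]), ?_⟩
  have := congrArg Subtype.val hre
  rw [MulAut.conjNormal_apply] at this
  rw [← this, ← P.ha]
  push_cast
  group

end StdPair

end Cfsg.Agent.LargeExtra.Fischer
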