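import Cfsg.Agent.Lib.LargeExtra.Fischer.AFrame
import Cfsg.Agent.Lib.LargeExtra.Fischer.Cover
import Cfsg.Agent.Lib.LargeExtra.Fischer.Line

/-!
Every member of the large elementary abelian subgroup is conjugate into the extraspecial group.
-/

set_option autoImplicit false

namespace Cfsg.Agent.LargeExtra.Fischer

open Cfsg.Agent.InvChar.Coset
open Cfsg.Agent.Components.UnitarySix
open Cfsg.Agent.MonsterOrbits (bigQ mem_bigQ ctr_bigQ mem_center_iff')
open Cfsg.Agent.LargeExtra (Pair)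

variable {G : Type*} [Group G] [Finite G] {z : G} {Q : Subgroup (Cz z)} [Q.Normal] {M : Subgroup (Cz z)}

/-- Conjugate into the extraspecial group. -/
def IntoQ (Q : Subgroup (Cz z)) (x : G) : Prop := ∃ h : G, h * x * h⁻¹ ∈ bigQ Q

omit [Finite G] [Q.Normal] in
theorem IntoQ.of_conj {x : G} {d : G} (h : IntoQ Q (d * x * d⁻¹)) : IntoQ Q x := by
  obtain ⟨h, hh⟩ := h
  exact ⟨h * d, by rwa [show h * d * x * (h * d)⁻¹ = h * (d * x * d⁻¹) * h⁻¹ by group]⟩

variable (hS : Cfsg.IsExtraspecialCentralizerSetting z Q 6) (F : Frame z Q M) {x : Cz z} (X : Scal F x)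

include hS X in
/-- A lift commutes with the members above its fixed vectors. -/
theorem comm_of_fixed {k : S} {c : Cz z} (hc : IsLift F (x := x) k c) {q : Q} (hq : k • F.φ q = F.φ q) :
    c * q = q * c := by
  obtain ⟨hz, hzQ⟩ := zmem hS
  set Z : Cz z := ⟨z, hz⟩ with hZ
  have hzc : ∀ y : Cz z, y * Z = Z * y := zcomm (z := z) hz
  have hfix : F.φ (MulAut.conjNormal c q) = F.φ q := by rw [F.conj, hc.1, hq]
  refine mul_inv_eq_iff_eq_mul.1 ?_
  rcases eq_or_mul hS F hz hfix with e | e <;> rw [MulAut.conjNormal_apply] at e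
  · exact e
  exfalso
  have step : ∀ b : Cz z, c * b * c⁻¹ = b * Z → c * (x * b * x⁻¹) * c⁻¹ = x * b * x⁻¹ * Z := by
    intro b eb
    rw [show c * (x * b * x⁻¹) * c⁻¹ = (c * x) * b * (c * x)⁻¹ by group, hc.2,
      show x * c * b * (x * c)⁻¹ = x * (c * b * c⁻¹) * x⁻¹ by group, eb, mul_assoc, mul_assoc, ← hzc]
    group
  set q1 : Q := MulAut.conjNormal x q
  set q2 : Q := MulAut.conjNormal x q1
  have e1 : c * (q1 : Cz z) * c⁻¹ = q1 * Z := by rw [MulAut.conjNormal_apply]; exact step _ e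
  have e2 : c * (q2 : Cz z) * c⁻¹ = q2 * Z := by rw [MulAut.conjNormal_apply]; exact step _ e1
  have h0 : F.φ (q * q1 * q2) = 0 := by
    rw [F.φ_mul, F.φ_mul, F.conj, F.conj, F.conj, X.act, X.act]
    funext i
    exact (show ∀ l v : FF, l ≠ 0 → l ≠ 1 → v + l * v + l * (l * v) = 0 by decide) _ _ X.hl0 X.hl1
  have hcc : ∀ y : Cz z, y = 1 ∨ y = Z → c * y * c⁻¹ = y := by
    rintro y (rfl | rfl)
    · group
    · rw [hzc, mul_inv_cancel_right]
  have hcomm : c * ((q * q1 * q2 : Q) : Cz z) * c⁻¹ = (q * q1 * q2 : Q) := hcc _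
    (((mem_center_iff' hS).1 ((F.zero _).1 h0)).imp Subtype.ext Subtype.ext)
  have hexp : c * ((q * q1 * q2 : Q) : Cz z) * c⁻¹ = (q * q1 * q2 : Q) * Z := by
    push_cast
    rw [show c * ((q : Cz z) * q1 * q2) * c⁻¹ = (c * q * c⁻¹) * (c * q1 * c⁻¹) * (c * q2 * c⁻¹) by group, e, e1, e2]
    calc (q : Cz z) * Z * (q1 * Z) * (q2 * Z) = q * (Z * q1) * (Z * q2) * Z := by group
      _ = q * (q1 * Z) * (Z * q2) * Z := by rw [← hzc]
      _ = q * q1 * (Z * Z) * q2 * Z := by group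
      _ = q * q1 * q2 * Z := by rw [z_sq hS hz, mul_one]
  rw [hcomm] at hexp
  exact z_ne hS hz (left_eq_mul.1 hexp)

variable {F} {g : G} {a : Q}

namespace StdPair

variable (P : StdPair F g a) {c0 : Cz z} (hc0 : IsLift F (x := x) (gen 0) c0)
include P X hc0

theorem c0_sq : c0 * c0 = 1 := lift_sq P.hS F X ⟨1, one_mem _, by group⟩ hc0

theorem φ_inv (q : Q) : F.φ q⁻¹ = F.φ q := by
  have h1 : F.φ q⁻¹ + F.φ q = 0 := by rw [← F.φ_mul, inv_mul_cancel, F.φ_one]
  calc F.φ q⁻¹ = F.φ q⁻¹ + (F.φ q + F.φ q) := by rw [V_add_self, add_zero]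
    _ = F.φ q := by rw [← add_assoc, h1, zero_add]

/-- A member of the other group above the generator at a fixed vector. -/
theorem exists_base : ∃ q : Q, g0V (F.φ q) = F.φ q ∧
    ((c0 * q : Cz z) : G) ∈ (bigQ Q).map (MulAut.conj g).toMonoidHom := by
  obtain ⟨u, hu, he⟩ := exists_T_elt P.hS F P.hgQ P.hgz P.ha P.hv (gen_T 0)
  have hq : c0⁻¹ * u ∈ Q := (F.ker _).1 (by
    rw [map_mul, map_inv, inv_mul_eq_one]
    exact Equiv.ext fun v => by rw [he, hc0.1])
  set q : Q := ⟨_, hq⟩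
  have hu' : c0 * (q : Cz z) = u := mul_inv_cancel_left c0 u
  -- the square
  have hsq : ((MulAut.conjNormal c0 q * q : Q) : Cz z) = u * u := by
    push_cast [MulAut.conjNormal_apply]
    rw [inv_eq_of_mul_eq_one_right (P.c0_sq X hc0), ← hu']
    group
  have hPp := Pair.mk' (ctr_bigQ P.hS) P.hgQ P.hgz
  have hy : g0V (F.φ q) + F.φ q = 0 ∨ g0V (F.φ q) + F.φ q = fv := by
    rw [← gen0_smul, ← hc0.1, ← F.conj, ← F.φ_mul]
    rcases hPp.h'.sq_cases hu with e | e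
    · exact Or.inl ((F.zero _).2 ((mem_center_iff' P.hS).2 (Or.inl (by rw [hsq]; exact e))))
    · right
      rw [← P.hv]
      congr 1
      exact Subtype.ext (Subtype.ext (by rw [hsq, P.ha]; exact e))
  rcases hy with hy | hy
  · refine ⟨q, ?_, by rw [hu']; exact hu⟩
    calc g0V (F.φ q) = g0V (F.φ q) + (F.φ q + F.φ q) := by rw [V_add_self, add_zero]
      _ = F.φ q := by rw [← add_assoc, hy, zero_add]
  · obtain ⟨d, hd, hdd⟩ := shift_exists
    obtain ⟨D, hD, hDφ⟩ := exists_inter P.hS F P.hgQ P.hgz P.ha P.hv hd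
    refine ⟨q * D, ?_, ?_⟩
    · rw [F.φ_mul, hDφ, ← gen0_smul, smul_addV, gen0_smul, gen0_smul]
      funext i
      have e1 := congrFun hy i
      have e2 := congrFun hdd i
      simp only [Pi.add_apply] at e1 e2 ⊢
      linear_combination e1 + e2 + char_two (fv i) - char_two (F.φ q i) - char_two (d i)
    · rw [Subgroup.coe_mul, Subgroup.coe_mul, Subgroup.coe_mul, ← mul_assoc]
      have : ((c0 : Cz z) : G) * ((q : Cz z) : G) = (u : G) := congrArg Subtype.val hu'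
      rw [this]
      exact mul_mem hu hD

/-- Members of the other group above fixed vectors are singular. -/
theorem base_singular {q : Q} (hf : g0V (F.φ q) = F.φ q)
    (hm : ((c0 * q : Cz z) : G) ∈ (bigQ Q).map (MulAut.conj g).toMonoidHom) : H (F.φ q) (F.φ q) = 0 := by
  have hcq := comm_of_fixed P.hS F X hc0 (q := q) (by rw [gen0_smul]; exact hf)
  have h2 : c0 * q * (c0 * q) = ((q * q : Q) : Cz z) := by
    rw [show c0 * (q : Cz z) * (c0 * q) = c0 * ((q : Cz z) * c0) * q by group, ← hcq, ← mul_assoc, P.c0_sq X hc0,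
      one_mul]
    rfl
  refine (F.form q).1 (Subtype.ext ?_)
  have hPp := Pair.mk' (ctr_bigQ P.hS) P.hgQ P.hgz
  have h0 : F.φ (q * q) = 0 := by rw [F.φ_mul, V_add_self]
  rcases hPp.h'.sq_cases hm with e | e
  · exact Subtype.ext (by rw [← h2]; exact e)
  · exfalso
    have e' : (((q * q : Q) : Cz z) : G) = g * z * g⁻¹ := by rw [← h2]; exact e
    rcases P.eq_z_of_zero h0 with h | h <;> rw [e'] at h
    · exact (ctr_bigQ P.hS).ne_one (by simpa using h)
    · exact P.hgz h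

/-- Reached vectors give members conjugate into the extraspecial group. -/
theorem into_of_cov {q : Q} (hf : g0V (F.φ q) = F.φ q) (hC : Cov (F.φ q)) : IntoQ Q ((c0 * q : Cz z) : G) := by
  obtain ⟨q1, hf1, hm1⟩ := P.exists_base X hc0
  obtain ⟨p, r, s, t, hp⟩ := fix_shape _ hf1
  have hsing := P.base_singular X hc0 hf1 hm1
  have hC1 : Cov (F.φ q1) := by
    rw [hp] at hsing ⊢
    refine cov_of_translates p r s t hsing fun a' b c e hD => ?_
    obtain ⟨D, hDm, hDφ⟩ := exists_inter P.hS F P.hgQ P.hgz P.ha P.hv hD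
    have hfd : g0V (F.φ (q1 * D)) = F.φ (q1 * D) := by
      rw [F.φ_mul, hDφ, ← gen0_smul, smul_addV, gen0_smul, gen0_smul, hf1, fixP_fixed]
    have h := P.base_singular X hc0 hfd (by
      rw [Subgroup.coe_mul, Subgroup.coe_mul, Subgroup.coe_mul, ← mul_assoc]
      exact mul_mem (by simpa using hm1) hDm)
    rwa [F.φ_mul, hDφ, hp] at h
  obtain ⟨p', r', s', t', hq⟩ := fix_shape _ hf
  rw [hp] at hC1
  rw [hq] at hC
  obtain ⟨l, m, hD, hDf⟩ := cov_add _ _ _ _ hC1 _ _ _ _ hC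
  obtain ⟨v, hv⟩ := C0v_image l m
  obtain ⟨D, hDm, hDφ⟩ := exists_inter P.hS F P.hgQ P.hgz P.ha P.hv hD
  obtain ⟨R, hR⟩ := F.surj v
  set q2 : Q := MulAut.conjNormal c0⁻¹ R * (q1 * D) * R⁻¹ with hq2
  have hconj : (c0 * q2 : Cz z) = (R : Cz z) * (c0 * (q1 * D : Q)) * (R : Cz z)⁻¹ := by
    rw [hq2]
    push_cast [MulAut.conjNormal_apply]
    group
  have hphi : F.φ q = F.φ q2 := by
    rw [hq2, F.φ_mul, F.φ_mul, F.φ_mul, F.conj, P.φ_inv X hc0, hDφ, hR, hp, map_inv,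
      show (F.act c0)⁻¹ v = g0V v from (F.act c0).symm_apply_eq.2 (by
        rw [hc0.1, ← gen0_smul, ← mul_smul, T_sq (gen_T 0), one_smul]), hq]
    funext i
    have e := congrFun hv i
    simp only [Pi.add_apply] at e ⊢
    linear_combination (-1 : FF) * e - char_two (fixP p r s t i) - char_two (C0v l m i)
  obtain ⟨hz, -⟩ := P.z_mem_Cz
  have hPp := Pair.mk' (ctr_bigQ P.hS) P.hgQ P.hgz
  have hzm : z ∈ (bigQ Q).map (MulAut.conj g).toMonoidHom := hPp.z_mem' (bigQ_large P.hS)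
  have hmem : ((c0 * (q1 * D : Q) : Cz z) : G) ∈ (bigQ Q).map (MulAut.conj g).toMonoidHom := by
    rw [Subgroup.coe_mul, Subgroup.coe_mul, Subgroup.coe_mul, ← mul_assoc]
    exact mul_mem (by simpa using hm1) hDm
  have hgood : ∀ y : G, y ∈ (bigQ Q).map (MulAut.conj g).toMonoidHom → IntoQ Q y := by
    rintro _ ⟨w, hw, rfl⟩
    exact ⟨g⁻¹, by simpa [mul_assoc] using hw⟩
  rcases P.eqz hphi with e | e
  · refine IntoQ.of_conj (d := ((R : Cz z) : G)⁻¹) ?_
    rw [inv_inv, Subgroup.coe_mul, e]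
    have h' := congrArg (fun w : Cz z => (w : G)) hconj
    simp only [Subgroup.coe_mul, Subgroup.coe_inv] at h'
    rw [h']
    refine hgood _ ?_
    convert hmem using 1
    simp [mul_assoc]
  · refine IntoQ.of_conj (d := ((R : Cz z) : G)⁻¹) ?_
    rw [inv_inv, Subgroup.coe_mul, e, ← mul_assoc (c0 : G)]
    have h' := congrArg (fun w : Cz z => (w : G)) hconj
    simp only [Subgroup.coe_mul, Subgroup.coe_inv] at h'
    rw [h']
    refine hgood _ ?_
    have hzR : z * ((R : Cz z) : G) = ((R : Cz z) : G) * z := (Subgroup.mem_centralizer_singleton_iff.1 (R : Cz z).2).symm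
    convert mul_mem hmem hzm using 1
    simp [mul_assoc, hzR]

/-- Every singular fixed vector. -/
theorem into_of_singular {q : Q} (hf : g0V (F.φ q) = F.φ q) (hs : H (F.φ q) (F.φ q) = 0) :
    IntoQ Q ((c0 * q : Cz z) : G) := by
  obtain ⟨p, r, s, t, hp⟩ := fix_shape _ hf
  obtain ⟨l, hl, hC⟩ := cov_scalar p r s t (hp ▸ hs)
  obtain ⟨d, hd, hdx⟩ : ∃ d : Cz z, (∀ v, F.act d v = l • v) ∧ d * c0 = c0 * d := by
    rcases (show ∀ a b : FF, a ≠ 0 → a ≠ 1 → b ≠ 0 → b = 1 ∨ b = a ∨ b = a * a by decide) X.l l X.hl0 X.hl1 hl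
      with e | e | e <;> subst e
    · exact ⟨1, fun v => by rw [map_one, one_smul]; rfl, by rw [one_mul, mul_one]⟩
    · exact ⟨x, X.act, hc0.2.symm⟩
    · exact ⟨x * x, fun v => by rw [map_mul, Equiv.Perm.mul_apply, X.act, X.act, smul_smul],
        by rw [mul_assoc, ← hc0.2, ← mul_assoc, ← hc0.2, mul_assoc]⟩
  refine IntoQ.of_conj (d := (d : G)) ?_
  have e : (c0 * (MulAut.conjNormal d q : Q) : Cz z) = d * (c0 * q) * d⁻¹ := by
    rw [MulAut.conjNormal_apply, ← mul_assoc d c0, hdx]; group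
  have h' := congrArg (fun w : Cz z => (w : G)) e
  simp only [Subgroup.coe_mul, Subgroup.coe_inv] at h'
  rw [Subgroup.coe_mul, ← h', ← Subgroup.coe_mul]
  refine P.into_of_cov X hc0 ?_ ?_
  · rw [F.conj, hd, ← gen0_smul, smul_smulV, gen0_smul, hf]
  · rw [F.conj, hd, hp]; exact hC

end StdPair

variable (F) in
include hS in
/-- A pair in standard position for a given frame. -/
theorem exists_stdPair : ∃ (g : G) (a : Q), StdPair F g a := by
  obtain ⟨-, -, -, -, g, ⟨hg, hgQ⟩, hgz⟩ := id hS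
  have hgQ' : g * z * g⁻¹ ∈ bigQ Q := ⟨_, hgQ, rfl⟩
  have h1 := O1_of_conj hS F (g := g) (a := ⟨⟨_, hg⟩, hgQ⟩) hgQ' hgz rfl
  obtain ⟨a, ha⟩ := F.surj fv
  obtain ⟨c, hc⟩ := conj_of_kind hS F (a := ⟨⟨_, hg⟩, hgQ⟩) (b := a) (Or.inr ⟨h1, ha ▸ O1_fv⟩)
  have hc' : (c : G) * g * z * ((c : G) * g)⁻¹ = ((a : Cz z) : G) := by
    rw [← hc]; push_cast; group
  refine ⟨(c : G) * g, a, hS, ?_, ?_, hc'.symm, ha⟩
  · rw [hc']; exact mem_bigQ.2 ⟨(a : Cz z).property, a.property⟩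
  · intro e
    rw [e] at hc'
    refine hgz ?_
    have hcz := Subgroup.mem_centralizer_singleton_iff.1 c.2
    have e' : (c : G) * (g * z * g⁻¹) * (c : G)⁻¹ = z := by
      calc (c : G) * (g * z * g⁻¹) * (c : G)⁻¹ = (c : G) * g * z * ((c : G) * g)⁻¹ := by group
        _ = z := e
    calc g * z * g⁻¹ = (c : G)⁻¹ * ((c : G) * (g * z * g⁻¹) * (c : G)⁻¹) * c := by group
      _ = (c : G)⁻¹ * (z * c) := by rw [e', mul_assoc]
      _ = z := by rw [← hcz, inv_mul_cancel_left]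

variable (F) in
include hS in
/-- Every member of the large elementary abelian subgroup is conjugate into the extraspecial group. -/
theorem A0_intoQ {w : Cz z} (hw : w ∈ A0 F X hS) : IntoQ Q (w : G) := by
  obtain ⟨g, a, P⟩ := exists_stdPair hS F
  obtain ⟨u, ⟨hu, hu'⟩, c, ⟨e, he, hc⟩, rfl⟩ := hw
  by_cases h1 : e = 1
  · subst h1
    refine ⟨1, ?_⟩
    rw [one_mul, inv_one, mul_one]
    have : c ∈ Q := (F.ker c).1 (Equiv.ext fun v => by rw [hc.1, one_smul]; rfl)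
    exact mem_bigQ.2 ⟨(u * c).2, Q.mul_mem hu this⟩
  obtain ⟨k, hk, hke⟩ := isG0_EU he h1
  obtain ⟨d, -, hd⟩ := exists_lift_comm hS F X hk
  obtain ⟨c0, -, hc0⟩ := exists_lift_comm hS F X (gen_mem 0).2.1
  have hc' : IsLift F (x := x) (gen 0) (d⁻¹ * c * d) := by
    have := (hd.inv.mul hc).mul hd
    rwa [show k⁻¹ * e * k = gen 0 by rw [← hke]; group] at this
  obtain ⟨hz, hzQ⟩ := zmem hS
  set uq : Q := ⟨u, hu⟩
  set q1 : Q := MulAut.conjNormal d⁻¹ uq with hq1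
  have hcu := lift_centralizes hS F X he hc (a := uq) hu'
  have hy : e • F.φ uq = F.φ uq := (mem_fixingSubgroup_iff S).1 he.2 _ hu'
  have hsing : H (F.φ uq) (F.φ uq) = 0 := by
    obtain ⟨p, r, s, hp⟩ := InU2_iff.1 hu'
    rw [hp]; exact U_facts p r s
  have hphi : F.φ q1 = k⁻¹ • F.φ uq := by
    rw [hq1, F.conj, map_inv]
    exact (F.act d).symm_apply_eq.2 (by rw [hd.1, smul_inv_smul])
  have hf1 : g0V (F.φ q1) = F.φ q1 := by
    rw [hphi, ← gen0_smul, show gen 0 = k⁻¹ * e * k by rw [← hke]; group, ← mul_smul, mul_inv_cancel_right,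
      mul_smul, hy]
  have hs1 : H (F.φ q1) (F.φ q1) = 0 := by rw [hphi, H_smul, hsing]
  refine IntoQ.of_conj (d := (d : G)⁻¹) ?_
  have e1 : ((d⁻¹ * c * d) * (q1 : Cz z) : Cz z) = d⁻¹ * (u * c) * d := by
    rw [hq1, MulAut.conjNormal_apply]
    calc d⁻¹ * c * d * (d⁻¹ * (u : Cz z) * d⁻¹⁻¹) = d⁻¹ * (c * u) * d := by group
      _ = _ := by rw [hcu]
  have h' := congrArg (fun w : Cz z => (w : G)) e1
  simp only [Subgroup.coe_mul, Subgroup.coe_inv] at h'
  rw [Subgroup.coe_mul, inv_inv, ← h']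
  rcases lift_unique hS F X hz hc' hc0 with e | e
  · have h'' : IntoQ Q ((c0 * q1 : Cz z) : G) := P.into_of_singular X hc0 hf1 hs1
    rw [← e] at h''
    simpa using h''
  · have hzq : F.φ (⟨⟨z, hz⟩, hzQ hz⟩ * q1 : Q) = F.φ q1 := by
      rw [F.φ_mul, (F.zero ⟨⟨z, hz⟩, hzQ hz⟩).2 ((mem_center_iff' hS).2 (Or.inr rfl)), zero_add]
    have h'' := P.into_of_singular X hc0 (q := ⟨⟨z, hz⟩, hzQ hz⟩ * q1) (by rw [hzq]; exact hf1) (by rw [hzq]; exact hs1)
    have eG := congrArg (fun w : Cz z => (w : G)) e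
    simp only [Subgroup.coe_mul, Subgroup.coe_inv] at eG h''
    rw [← mul_assoc, ← eG] at h''
    exact h''

end Cfsg.Agent.LargeExtra.Fischer
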