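import Cfsg.Agent.Lib.LargeExtra.Fischer.Fusion
import Cfsg.Agent.Lib.PLocal.ThompsonSubgroup

/-!
The normalizer of the large elementary abelian subgroup controls fusion in it and has two orbits.
-/

set_option autoImplicit false

namespace Cfsg.Agent.LargeExtra.Fischer

open Cfsg.Agent.InvChar.Coset
open Cfsg.Agent.Components.UnitarySix
open Cfsg.Agent.MonsterOrbits (bigQ mem_bigQ ctr_bigQ mem_center_iff')

variable {G : Type*} [Group G]

/-- The two properties wanted. -/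
def FusTwo (z : G) (A : Subgroup G) : Prop :=
  (∀ a ∈ A, ∀ g : G, g * a * g⁻¹ ∈ A → ∃ m ∈ Subgroup.normalizer (A : Set G), m * a * m⁻¹ = g * a * g⁻¹) ∧
    (∃ a ∈ A, a ≠ 1 ∧ IsConj z a) ∧ (∃ a ∈ A, a ≠ 1 ∧ ¬ IsConj z a) ∧
    ∀ a ∈ A, ∀ b ∈ A, a ≠ 1 → b ≠ 1 → (IsConj z a ↔ IsConj z b) →
      ∃ m ∈ Subgroup.normalizer (A : Set G), m * a * m⁻¹ = b

theorem FusTwo.map {z : G} {A : Subgroup G} (h : FusTwo z A) (k : G) :
    FusTwo z (A.map (MulAut.conj k).toMonoidHom) := by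
  obtain ⟨h1, ⟨a, ha, ha1, haz⟩, ⟨b, hb, hb1, hbz⟩, h4⟩ := h
  have hm : ∀ {y : G}, y ∈ A.map (MulAut.conj k).toMonoidHom ↔ k⁻¹ * y * k ∈ A := fun {y} => by
    rw [Subgroup.mem_map_equiv, MulAut.conj_symm_apply]
  have hN : ∀ m ∈ Subgroup.normalizer (A : Set G),
      k * m * k⁻¹ ∈ Subgroup.normalizer ((A.map (MulAut.conj k).toMonoidHom : Subgroup G) : Set G) := fun m hmA => by
    rw [Subgroup.mem_normalizer_iff] at hmA ⊢
    intro y
    rw [hm, hm, hmA (k⁻¹ * y * k)]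
    rw [show m * (k⁻¹ * y * k) * m⁻¹ = k⁻¹ * (k * m * k⁻¹ * y * (k * m * k⁻¹)⁻¹) * k by group]
  have hc : ∀ y : G, IsConj z (k⁻¹ * y * k) ↔ IsConj z y := fun y =>
    ⟨fun e => e.trans (isConj_iff.2 ⟨k, by group⟩), fun e => e.trans (isConj_iff.2 ⟨k⁻¹, by group⟩)⟩
  refine ⟨fun y hy t hty => ?_, ⟨k * a * k⁻¹, ⟨a, ha, rfl⟩, by simpa, ?_⟩, ⟨k * b * k⁻¹, ⟨b, hb, rfl⟩, by simpa, ?_⟩,
    fun y hy y' hy' hy1 hy1' hiff => ?_⟩
  · obtain ⟨m, hmN, e⟩ := h1 _ (hm.1 hy) (k⁻¹ * t * k) (by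
      have := hm.1 hty
      rwa [show k⁻¹ * t * k * (k⁻¹ * y * k) * (k⁻¹ * t * k)⁻¹ = k⁻¹ * (t * y * t⁻¹) * k by group])
    refine ⟨k * m * k⁻¹, hN m hmN, ?_⟩
    calc k * m * k⁻¹ * y * (k * m * k⁻¹)⁻¹ = k * (m * (k⁻¹ * y * k) * m⁻¹) * k⁻¹ := by group
      _ = _ := by rw [e]; group
  · exact haz.trans (isConj_iff.2 ⟨k, rfl⟩)
  · exact fun e => hbz (e.trans (isConj_iff.2 ⟨k⁻¹, by group⟩))
  · obtain ⟨m, hmN, e⟩ := h4 _ (hm.1 hy) _ (hm.1 hy') (fun e => hy1 (by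
      calc y = k * (k⁻¹ * y * k) * k⁻¹ := by group
        _ = 1 := by rw [e]; group)) (fun e => hy1' (by
      calc y' = k * (k⁻¹ * y' * k) * k⁻¹ := by group
        _ = 1 := by rw [e]; group)) (by rw [hc, hc]; exact hiff)
    refine ⟨k * m * k⁻¹, hN m hmN, ?_⟩
    calc k * m * k⁻¹ * y * (k * m * k⁻¹)⁻¹ = k * (m * (k⁻¹ * y * k) * m⁻¹) * k⁻¹ := by group
      _ = y' := by rw [e]; group

theorem e01_U : InU2 e01 ∧ InO FF.w e01 := by decide +kernel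

theorem thompson_of_unique {H : Subgroup G} {A : Subgroup G} (hA : A ≤ H)
    (hsq : ∀ a ∈ A, a * a = 1)
    (huniq : ∀ B : Subgroup G, B ≤ H → (∀ b ∈ B, b * b = 1) → Nat.card A ≤ Nat.card B → B = A) :
    Cfsg.thompsonSubgroupOf 2 H = A := by
  have hel : Cfsg.IsElementaryAbelian 2 (A.subgroupOf H) := by
    refine ⟨⟨⟨fun a b => Subtype.ext (Subtype.ext ?_)⟩⟩, fun a ha => Subtype.ext (by rw [pow_two]; exact hsq _ ha)⟩
    have h : ∀ y ∈ A, y⁻¹ = y := fun y hy => inv_eq_of_mul_eq_one_right (hsq y hy)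
    have e := h _ (A.mul_mem a.2 b.2)
    rw [mul_inv_rev, h _ a.2, h _ b.2] at e
    exact e.symm
  have hc : Nat.card (A.subgroupOf H) = Nat.card A := Nat.card_congr (Subgroup.subgroupOfEquivOfLe hA).toEquiv
  have hu : ∀ B : Subgroup H, Cfsg.IsElementaryAbelian 2 B → Nat.card A ≤ Nat.card B → B = A.subgroupOf H := by
    intro B hB hle
    have h := huniq (B.map H.subtype) (Subgroup.map_subtype_le _) (by
      rintro _ ⟨b, hb, rfl⟩
      rw [← map_mul, ← pow_two, hB.2 b hb, map_one]) (by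
      rwa [Subgroup.card_map_of_injective H.subtype_injective])
    rw [← h, Subgroup.subgroupOf, Subgroup.comap_map_eq_self_of_injective H.subtype_injective]
  have hset : Cfsg.maxElementaryAbelianSubgroups 2 H = {A.subgroupOf H} := by
    refine Set.eq_singleton_iff_unique_mem.2 ⟨⟨hel, fun B hB => ?_⟩, fun B hB => hu B hB.1 (hc ▸ hB.2 _ hel)⟩
    by_contra hlt
    rw [hc] at hlt
    rw [hu B hB (le_of_not_ge hlt), hc] at hlt
    exact hlt le_rfl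
  rw [Cfsg.thompsonSubgroupOf, Cfsg.thompsonSubgroup, hset, sSup_singleton, Subgroup.map_subgroupOf_eq_of_le hA]

variable [Finite G] {z : G} {Q : Subgroup (Cz z)} [Q.Normal]

theorem fischer_A (hF : Cfsg.IsOfLargeFischerTypeAt z Q) : ∃ (P : Sylow 2 G) (A : Subgroup G),
    Cfsg.thompsonSubgroupOf 2 (P : Subgroup G) = A ∧ FusTwo z A := by
  classical
  haveI : Fact (Nat.Prime 2) := ⟨Nat.prime_two⟩
  obtain ⟨M, ⟨F0⟩⟩ := exists_frame hF
  have hS := hF.1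
  let TH : Sylow 2 (Cz z) := Classical.arbitrary _
  obtain ⟨F, x, X, hAT, huniq⟩ := exists_A0 hS F0 TH
  obtain ⟨P, hP⟩ := sylow_extends hS TH
  set A : Subgroup G := (A0 F X hS).map (Cz z).subtype with hA
  have hsq : ∀ a ∈ A, a * a = 1 := by
    rintro _ ⟨a, ha, rfl⟩
    rw [← map_mul, A0_sq hS F X a ha, map_one]
  have hcA : Nat.card A = 2 ^ 11 := by
    rw [hA, Subgroup.card_map_of_injective (Cz z).subtype_injective, (card_A0 hS F X).1]
  have hAP : A ≤ (P : Subgroup G) := hP ▸ Subgroup.map_mono hAT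
  have hun : ∀ B : Subgroup G, B ≤ (P : Subgroup G) → (∀ b ∈ B, b * b = 1) → Nat.card A ≤ Nat.card B → B = A := by
    intro B hB hBsq hle
    have hBC : B ≤ Cz z := fun b hb => by
      obtain ⟨c, -, e⟩ := (hP ▸ hB) hb
      exact e ▸ c.2
    have h := huniq (B.subgroupOf (Cz z)) (fun b hb => by
      obtain ⟨c, hc, e⟩ := (hP ▸ hB) (Subgroup.mem_subgroupOf.1 hb)
      exact (Subtype.ext e : c = b) ▸ hc)
      (fun b hb => Subtype.ext (hBsq _ hb))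
      (by rw [Nat.card_congr (Subgroup.subgroupOfEquivOfLe hBC).toEquiv]; exact hcA ▸ hle)
    rw [hA, ← h, Subgroup.map_subgroupOf_eq_of_le hBC]
  refine ⟨P, A, thompson_of_unique hAP hsq hun, ?_⟩
  -- conjugates in a common 2-group coincide
  have hwc : ∀ R : Subgroup G, IsPGroup 2 R → ∀ k : G, A ≤ R → A.map (MulAut.conj k).toMonoidHom ≤ R →
      A.map (MulAut.conj k).toMonoidHom = A := by
    intro R hR k h1 h2
    obtain ⟨P', hP'⟩ := hR.exists_le_sylow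
    obtain ⟨u, hu⟩ := MulAction.exists_smul_eq G P' P
    have hmem : ∀ {y : G}, y ∈ R → u * y * u⁻¹ ∈ (P : Subgroup G) := fun {y} hy => hu ▸ ⟨y, hP' hy, rfl⟩
    have key : ∀ A' : Subgroup G, A' ≤ R → (∀ y ∈ A', y * y = 1) → Nat.card A' = 2 ^ 11 →
        A'.map (MulAut.conj u).toMonoidHom = A := fun A' hle hs hc => by
      refine hun _ ?_ ?_ ?_
      · rintro _ ⟨y, hy, rfl⟩; exact hmem (hle hy)
      · rintro _ ⟨y, hy, rfl⟩; rw [← map_mul, hs y hy, map_one]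
      · rw [Subgroup.card_map_of_injective (f := (MulAut.conj u).toMonoidHom) (MulAut.conj u).injective, hc, hcA]
    have e1 := key A h1 hsq hcA
    have e2 := key _ h2 (by rintro _ ⟨y, hy, rfl⟩; rw [← map_mul, hsq y hy, map_one])
      (by rw [Subgroup.card_map_of_injective (MulAut.conj k).injective, hcA])
    exact Subgroup.map_injective (MulAut.conj u).injective (e2.trans e1.symm)
  have hfus : ∀ a ∈ A, ∀ g : G, g * a * g⁻¹ ∈ A →
      ∃ m ∈ Subgroup.normalizer (A : Set G), m * a * m⁻¹ = g * a * g⁻¹ := by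
    intro a ha g hg
    set b := g * a * g⁻¹
    set C := Subgroup.centralizer ({b} : Set G)
    have hcomm : ∀ u ∈ A, ∀ v ∈ A, u * v = v * u := fun u hu v hv => by
      calc u * v = (u * v)⁻¹ := eq_inv_of_mul_eq_one_left (hsq _ (A.mul_mem hu hv))
        _ = v⁻¹ * u⁻¹ := _root_.mul_inv_rev u v
        _ = v * u := by rw [inv_eq_of_mul_eq_one_right (hsq u hu), inv_eq_of_mul_eq_one_right (hsq v hv)]
    have hAC : A ≤ C := fun u hu => Subgroup.mem_centralizer_singleton_iff.2 (hcomm u hu b hg)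
    have hA'C : A.map (MulAut.conj g).toMonoidHom ≤ C := by
      rintro _ ⟨u, hu, rfl⟩
      refine Subgroup.mem_centralizer_singleton_iff.2 ?_
      show g * u * g⁻¹ * (g * a * g⁻¹) = g * a * g⁻¹ * (g * u * g⁻¹)
      rw [show g * u * g⁻¹ * (g * a * g⁻¹) = g * (u * a) * g⁻¹ by group, hcomm u hu a ha]
      group
    have hA2 : IsPGroup 2 A := P.2.to_le hAP
    obtain ⟨S1, hS1⟩ := (hA2.comap_subtype (K := C)).exists_le_sylow
    obtain ⟨S2, hS2⟩ := ((hA2.map (MulAut.conj g).toMonoidHom).comap_subtype (K := C)).exists_le_sylow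
    obtain ⟨c, hc⟩ := MulAction.exists_smul_eq C S2 S1
    refine ⟨(c : G) * g, ?_, ?_⟩
    · have e := hwc ((S1 : Subgroup C).map C.subtype) (S1.2.map _) ((c : G) * g)
        (fun u hu => ⟨⟨u, hAC hu⟩, hS1 hu, rfl⟩) (by
          rintro _ ⟨u, hu, rfl⟩
          refine ⟨c * ⟨g * u * g⁻¹, hA'C ⟨u, hu, rfl⟩⟩ * c⁻¹, hc ▸ ⟨⟨g * u * g⁻¹, hA'C ⟨u, hu, rfl⟩⟩, hS2 ⟨u, hu, rfl⟩, rfl⟩, ?_⟩
          show (c : G) * (g * u * g⁻¹) * (c : G)⁻¹ = (c : G) * g * u * ((c : G) * g)⁻¹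
          group)
      exact Subgroup.mem_normalizer_iff_map_conj_eq.2 e
    · have hcb := Subgroup.mem_centralizer_singleton_iff.1 c.2
      calc (c : G) * g * a * ((c : G) * g)⁻¹ = ((c : G) * (g * a * g⁻¹)) * (c : G)⁻¹ := by group
        _ = b := by rw [hcb, mul_inv_cancel_right]
  -- the two kinds
  obtain ⟨hz, hzQ⟩ := zmem hS
  have hzA : z ∈ A := by
    refine ⟨⟨z, hz⟩, ?_, rfl⟩
    have : (⟨z, hz⟩ : Cz z) ∈ UT F := ⟨hzQ hz, by
      rw [(F.zero _).2 ((mem_center_iff' hS).2 (Or.inr rfl))]; exact ⟨rfl, rfl, rfl⟩⟩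
    exact (A0_inf hS F X ▸ this : (⟨z, hz⟩ : Cz z) ∈ A0 F X hS ⊓ Q).1
  have hz1 : z ≠ 1 := (ctr_bigQ hS).ne_one
  obtain ⟨t, ht⟩ := F.surj e01
  have htA : ((t : Cz z) : G) ∈ A := ⟨t, (A0_inf hS F X ▸ (⟨t.2, by rw [ht]; exact e01_U.1⟩ : (t : Cz z) ∈ UT F) :
    (t : Cz z) ∈ A0 F X hS ⊓ Q).1, rfl⟩
  have ht1 : ((t : Cz z) : G) ≠ 1 ∧ ((t : Cz z) : G) ≠ z := by
    have h0 : t ∉ Subgroup.center Q := fun h => by
      have := (F.zero t).2 h
      rw [ht] at this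
      exact InO_wt_ne_zero (InO_Iso e01_InO) this
    exact ⟨fun e => h0 ((mem_center_iff' hS).2 (Or.inl e)), fun e => h0 ((mem_center_iff' hS).2 (Or.inr e))⟩
  have htz : ¬ IsConj z ((t : Cz z) : G) := fun h => by
    obtain ⟨g, hg⟩ := isConj_iff.1 h
    have h1 := O1_of_conj hS F (g := g) (a := t) (hg ▸ mem_bigQ.2 ⟨(t : Cz z).property, t.property⟩)
      (hg ▸ ht1.2) hg.symm
    rw [ht] at h1
    exact h1.2 e01_InO
  obtain ⟨g0, a0, P0'⟩ := exists_stdPair hS F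
  have hclass : ∀ a ∈ A, a ≠ 1 → IsConj z a ∨ IsConj ((t : Cz z) : G) a := by
    rintro _ ⟨a, ha, rfl⟩ ha1
    obtain ⟨h, hh⟩ := A0_intoQ hS F X ha
    obtain ⟨hb, hbQ⟩ := mem_bigQ.1 hh
    set b : Q := ⟨⟨_, hb⟩, hbQ⟩
    have hba : IsConj ((b : Cz z) : G) (a : G) := (isConj_iff.2 ⟨h, rfl⟩ : IsConj (a : G) ((b : Cz z) : G)).symm
    by_cases h0 : F.φ b = 0
    · rcases (mem_center_iff' hS).1 ((F.zero b).1 h0) with e | e
      · rw [e] at hba
        exact absurd (isConj_one_right.1 hba) ha1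
      · rw [e] at hba; exact Or.inl hba
    have hsing : H (F.φ b) (F.φ b) = 0 := (F.form b).1 (Subtype.ext (Subtype.ext (by
      show h * (a : G) * h⁻¹ * (h * (a : G) * h⁻¹) = 1
      rw [show h * (a : G) * h⁻¹ * (h * (a : G) * h⁻¹) = h * ((a : G) * (a : G)) * h⁻¹ by group,
        show (a : G) * (a : G) = 1 from hsq _ ⟨a, ha, rfl⟩]
      group)))
    rcases iso_cases (Iso_iff.2 ⟨h0, hsing⟩) with hI | hO
    · obtain ⟨c, hc⟩ := conj_of_kind hS F (a := t) (b := b) (Or.inl ⟨ht ▸ e01_InO, hI⟩)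
      exact Or.inr ((isConj_iff.2 ⟨(c : G), congrArg Subtype.val hc⟩).trans hba)
    · obtain ⟨c, hc⟩ := conj_of_kind hS F (a := a0) (b := b) (Or.inr ⟨P0'.hv ▸ O1_fv, hO⟩)
      exact Or.inl (((isConj_iff.2 ⟨g0, P0'.ha.symm⟩).trans (isConj_iff.2 ⟨(c : G), congrArg Subtype.val hc⟩)).trans hba)
  refine ⟨hfus, ⟨z, hzA, hz1, IsConj.refl z⟩, ⟨_, htA, ht1.1, htz⟩, fun a ha b hb ha1 hb1 hiff => ?_⟩
  have hab : IsConj a b := by
    by_cases hza : IsConj z a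
    · exact hza.symm.trans (hiff.1 hza)
    · exact ((hclass a ha ha1).resolve_left hza).symm.trans
        ((hclass b hb hb1).resolve_left fun e => hza (hiff.2 e))
  obtain ⟨g, hg⟩ := isConj_iff.1 hab
  obtain ⟨m, hm, e⟩ := hfus a ha g (hg ▸ hb)
  exact ⟨m, hm, e.trans hg⟩

theorem thompson_conj {G : Type*} [Group G] (k : G) (P : Sylow 2 G) :
    Cfsg.thompsonSubgroupOf 2 ((k • P : Sylow 2 G) : Subgroup G) =
      (Cfsg.thompsonSubgroupOf 2 (P : Subgroup G)).map (MulAut.conj k).toMonoidHom := by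
  rw [Cfsg.Agent.PLocal.ThompsonSubgroup.map_thompsonSubgroupOf (MulAut.conj k).injective]
  rfl

end Cfsg.Agent.LargeExtra.Fischer
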