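import Cfsg.Agent.Lib.LargeExtra.Fischer.MathieuMain

/-!
A member of the class of pairs has at most 44 neighbours in it.
-/

set_option autoImplicit false

namespace Cfsg.Agent.LargeExtra.PairGraph

open Cfsg
open scoped Pointwise

theorem card_neighbours {W : Type*} [AddCommGroup W] [DecidableEq W] {P : Finset W} (h : IsPairs P) {t : W}
    (ht : t ∈ P) : (Sc P t).card ≤ 44 := by
  classical
  obtain ⟨p, q, hne, hp, hq, hall⟩ := two_points h ht
  have h22 : ∀ a b : Pt P, a ≠ b → t ∈ a.1 → t ∈ b.1 → (a.1.erase t).card ≤ 22 := by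
    intro a b hab ha hb
    have hsub : a.1.erase t ⊆ ((Finset.univ.erase a).erase b).image (edge a) := fun y hy => by
      obtain ⟨hyt, hya⟩ := Finset.mem_erase.1 hy
      obtain ⟨r, s, hrs, hr, hs, -⟩ := two_points h (pt_subset h a.isPt hya)
      obtain ⟨x, hxa, hyx⟩ : ∃ x : Pt P, a ≠ x ∧ y ∈ x.1 := by
        by_cases e : a = r
        · exact ⟨s, e ▸ hrs, hs⟩
        · exact ⟨r, e, hr⟩
      refine Finset.mem_image.2 ⟨x, Finset.mem_erase.2 ⟨fun e => hyt ?_,
        Finset.mem_erase.2 ⟨hxa.symm, Finset.mem_univ _⟩⟩, edge_eq h hxa hya hyx⟩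
      exact meet_unique h a.isPt b.isPt (fun e' => hab (Subtype.ext e')) hya (e ▸ hyx) ha hb
    refine (Finset.card_le_card hsub).trans (Finset.card_image_le.trans ?_)
    rw [Finset.card_erase_of_mem (Finset.mem_erase.2 ⟨hab.symm, Finset.mem_univ _⟩),
      Finset.card_erase_of_mem (Finset.mem_univ _), Finset.card_univ, card_pts h]
  have hsub : Sc P t ⊆ p.1.erase t ∪ q.1.erase t := fun y hy => by
    obtain ⟨hyP, hyt⟩ := Finset.mem_filter.1 hy
    have hty : t + y ∈ P := by rwa [add_comm]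
    have hney : y ≠ t := (ne_of_adj h hty).symm
    rcases hall ⟨_, mem_pts.2 ⟨t, ht, y, hyP, hty, rfl⟩⟩ (mem_K_left P t y) with e | e
    · exact Finset.mem_union_left _ (Finset.mem_erase.2 ⟨hney, congrArg Subtype.val e ▸ mem_K_right P t y⟩)
    · exact Finset.mem_union_right _ (Finset.mem_erase.2 ⟨hney, congrArg Subtype.val e ▸ mem_K_right P t y⟩)
  refine (Finset.card_le_card hsub).trans ((Finset.card_union_le _ _).trans ?_)
  have := h22 p q hne hp hq
  have := h22 q p hne.symm hq hp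
  omega

universe u

variable {G : Type u} [Group G] [Finite G] {z : G} {A : Subgroup G}

/-- The neighbours in the group. -/
theorem IsMathieuSub.card_adj (d : IsMathieuSub z A) {t : G} (htA : t ∈ A) (htP : Pg z t) :
    Nat.card {y : A // Pg z (y : G) ∧ Pg z ((y : G) * t)} ≤ 44 := by
  classical
  letI : CommGroup A :=
    { (inferInstance : Group A) with mul_comm := fun a b => Subtype.ext (d.comm _ a.2 _ b.2) }
  letI := Fintype.ofFinite A
  set N := Subgroup.normalizer (A : Set G)
  let ρ : N →* Equiv.Perm (Additive A) := MonoidHom.mk'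
    (fun n => Additive.ofMul.permCongr (A.normalizerMonoidHom n).toEquiv) fun n m => by
      ext w; simp [Equiv.permCongr_apply]
  have hρ : ∀ (n : N) (w : Additive A), ((Additive.toMul (ρ n w) : A) : G) = n * (Additive.toMul w : A) * (n : G)⁻¹ :=
    fun n w => rfl
  have hadd : ∀ n (x y : Additive A), ρ n (x + y) = ρ n x + ρ n y := fun n x y => by
    show Additive.ofMul ((A.normalizerMonoidHom n) (Additive.toMul x * Additive.toMul y)) = _
    rw [map_mul]; rfl
  set P : Finset (Additive A) := Finset.univ.filter fun w => Pg z ((Additive.toMul w : A) : G)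
  have hmP : ∀ w, w ∈ P ↔ Pg z ((Additive.toMul w : A) : G) := by simp [P]
  have hPρ : ∀ n, ∀ w ∈ P, ρ n w ∈ P := fun n w hw => by
    rw [hmP, hρ, Pg_conj, ← hmP]; exact hw
  have hPiff : ∀ n w, ρ n w ∈ P ↔ w ∈ P := fun n w => by rw [hmP, hρ, Pg_conj, hmP]
  have cardEq : ∀ (q : Additive A → Prop) [DecidablePred q] (r : A → Prop),
      (∀ y, q (Additive.ofMul y) ↔ r y) → (Finset.univ.filter q).card = Nat.card {y : A // r y} := by
    intro q _ r hqr
    rw [← Fintype.card_subtype, ← Nat.card_eq_fintype_card]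
    exact Nat.card_congr (Additive.toMul.subtypeEquiv fun w => hqr (Additive.toMul w))
  let c0 : Additive A := Additive.ofMul ⟨z, d.zmem⟩
  have h36 : (Sc P c0).card = 36 := by
    rw [← d.card36, ← cardEq (fun w => w ∈ P ∧ w + c0 ∈ P) _ fun y => by rw [hmP, hmP]; rfl]
    congr 1
    ext w
    simp [Sc]
  have h4 : ∀ a ∈ Sc P c0, ((Sc P c0).filter fun x => a + x ∈ P).card = 4 ∧
      ∀ x ∈ Sc P c0, a + x ∈ P → a + x + c0 ∈ P := by
    intro a ha
    obtain ⟨ha1, ha2⟩ := Finset.mem_filter.1 ha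
    rw [hmP] at ha1 ha2
    obtain ⟨hc, hcl⟩ := d.lines _ (Additive.toMul a : A).2 ha1 ha2
    refine ⟨?_, fun x hx hax => ?_⟩
    · rw [← hc, ← cardEq (fun w => (w ∈ P ∧ w + c0 ∈ P) ∧ a + w ∈ P) _ fun y => by
        rw [hmP, hmP, hmP]; rfl]
      congr 1
      ext w
      simp [Sc]
    · obtain ⟨hx1, hx2⟩ := Finset.mem_filter.1 hx
      rw [hmP] at hx1 hx2 hax ⊢
      exact hcl _ (Additive.toMul x : A).2 hx1 hx2 hax
  have hP : IsPairs P := by
    refine ⟨fun w => ?_, fun h => ?_, ?_, fun c hc0 hcP => ?_⟩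
    · exact congrArg Additive.ofMul (Subtype.ext (d.sq _ (Additive.toMul w : A).2) :
        (Additive.toMul w : A) * Additive.toMul w = 1)
    · exact ((hmP _).1 h).1 rfl
    · rw [← d.cardP]
      exact cardEq _ _ fun y => Iff.rfl
    have hconj : IsConj z ((Additive.toMul c : A) : G) := by
      by_contra hn
      exact hcP ((hmP c).2 ⟨fun e => hc0 (congrArg Additive.ofMul (Subtype.ext e : (Additive.toMul c : A) = 1)), hn⟩)
    obtain ⟨m, hm, e⟩ := d.fus _ (Additive.toMul c : A).2 hconj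
    set n : N := ⟨m, hm⟩
    have hc : ρ n c0 = c := congrArg Additive.ofMul (Subtype.ext e :
      (Additive.toMul (ρ n c0) : A) = Additive.toMul c)
    have hS : Sc P c = (Sc P c0).image (ρ n) := by
      ext w
      obtain ⟨v, rfl⟩ := (ρ n).surjective w
      rw [Finset.mem_image]
      simp only [(ρ n).injective.eq_iff, exists_eq_right, Sc, Finset.mem_filter, ← hc, ← hadd, hPiff]
    refine ⟨by rw [hS, Finset.card_image_of_injective _ (ρ n).injective, h36], fun a ha => ?_⟩
    rw [hS] at ha ⊢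
    obtain ⟨a0, ha0, rfl⟩ := Finset.mem_image.1 ha
    obtain ⟨h4a, h4b⟩ := h4 a0 ha0
    refine ⟨?_, fun x hx hax => ?_⟩
    · rw [Finset.filter_image, Finset.card_image_of_injective _ (ρ n).injective, ← h4a]
      congr 1
      ext w
      simp only [Finset.mem_filter, ← hadd, hPiff]
    · obtain ⟨x0, hx0, rfl⟩ := Finset.mem_image.1 hx
      rw [← hadd, hPiff] at hax
      rw [← hc, ← hadd, ← hadd, hPiff]
      exact h4b x0 hx0 hax
  refine le_of_eq_of_le (Eq.symm ?_) (card_neighbours hP ((hmP (Additive.ofMul ⟨t, htA⟩)).2 htP))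
  rw [← cardEq (fun w => w ∈ P ∧ w + Additive.ofMul (⟨t, htA⟩ : A) ∈ P) _ fun y => by rw [hmP, hmP]; rfl]
  congr 1
  ext w
  simp [Sc]

end Cfsg.Agent.LargeExtra.PairGraph
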