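import Cfsg.Agent.Lib.LargeExtra.Fischer.FourGroupQuot

/-!
The members of the point stabiliser preserving the fixed subspace have index at least 27.
-/

set_option autoImplicit false

namespace Cfsg.Agent.LargeExtra.Fischer

open Cfsg.Agent.InvChar.Coset
open Cfsg.Agent.Components.UnitarySix

/-- The diagonal entries. -/
def dPar (a b : Fin 3) : Fin 6 → FF :=
  ![1, 1, pw a * pw b, pw a * pw a * pw b, 1, pw b]

/-- The permutation. -/
def pPar (p : Fin 3) : alternatingGroup (Fin 6) := cyc3 2 3 4 ^ (p : ℕ)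

/-- The moving maps. -/
def imgPar (i : Fin 3 × Fin 3 × Fin 3) (v : V) : V := fun k => dPar i.2.1 i.2.2 k * v ((pPar i.1).1.symm k)

theorem dPar_prod : ∀ a b, ∏ i, dPar a b i = 1 := by decide +kernel

theorem imgPar_e01 : ∀ i, imgPar i e01 = e01 := by decide +kernel

/-- The same in the model. -/
def gPar (i : Fin 3 × Fin 3 × Fin 3) : S := diagS ⟨dPar i.2.1 i.2.2, dPar_prod _ _⟩ * altK (pPar i.1)

theorem gPar_smul (i : Fin 3 × Fin 3 × Fin 3) (v : V) : gPar i • v = imgPar i v := by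
  funext k
  rw [gPar, mul_smul, diagS_smul, altK_smul]
  rfl

theorem gPar_mem (i : Fin 3 × Fin 3 × Fin 3) : gPar i ∈ StabK e01 :=
  mem_StabK.2 ⟨mul_mem (good_K0.le (D_le_N0 (diagS_mem _))) (altK_mem _).1, by rw [gPar_smul, imgPar_e01]⟩

set_option maxRecDepth 100000 in
theorem imgPar_sep : ∀ i j, i ≠ j → ∃ v ∈ [Upar 0 1 0, Upar 0 0 1], ∀ a b c : FF,
    imgPar j (Upar a b c) ≠ imgPar i v := by
  decide +kernel

theorem Upar_InU2 : ∀ v ∈ [Upar 0 1 0, Upar 0 0 1], InU2 v := by
  intro v hv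
  simp only [List.mem_cons, List.not_mem_nil, or_false] at hv
  rcases hv with rfl | rfl <;> exact ⟨rfl, rfl, rfl⟩

/-- The members preserving the subspace. -/
def RU : Subgroup (StabK e01) where
  carrier := {k | ∀ v, InU2 ((k : S) • v) ↔ InU2 v}
  one_mem' := fun v => by rw [OneMemClass.coe_one, one_smul]
  mul_mem' := fun {a b} ha hb v => by rw [Subgroup.coe_mul, mul_smul, ha, hb]
  inv_mem' := fun {a} ha v => by rw [← ha, InvMemClass.coe_inv, smul_inv_smul]

theorem card_RU : Nat.card RU ≤ 960 := by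
  have hG : Nat.card (StabK e01) = 25920 := by rw [card_StabK, card_stab_e01]
  have hidx : 27 ≤ RU.index := by
    let f : Fin 3 × Fin 3 × Fin 3 → StabK e01 ⧸ RU := fun i => QuotientGroup.mk ⟨gPar i, gPar_mem i⟩
    refine (le_of_eq (by simp)).trans (Nat.card_le_card_of_injective f fun i j e => ?_)
    by_contra hij
    obtain ⟨v, hv, hne⟩ := imgPar_sep i j hij
    have h : InU2 ((((⟨gPar j, gPar_mem j⟩ : StabK e01)⁻¹ * ⟨gPar i, gPar_mem i⟩ : StabK e01) : S) • v) :=
      (QuotientGroup.eq.1 e.symm v).2 (Upar_InU2 v hv)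
    rw [Subgroup.coe_mul, InvMemClass.coe_inv, mul_smul] at h
    obtain ⟨a, b, c, habc⟩ := InU2_iff.1 h
    exact hne a b c (by rw [← gPar_smul, ← gPar_smul, ← habc, smul_inv_smul])
  have h := RU.card_mul_index
  rw [hG] at h
  nlinarith

end Cfsg.Agent.LargeExtra.Fischer
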