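import Cfsg.Agent.Lib.LargeExtra.Fischer.InnerIndex
import Cfsg.Agent.Lib.LargeExtra.Fischer.FourGroupMain
import Cfsg.Agent.Lib.LargeExtra.Fischer.PairNeighbours
import Cfsg.Agent.Lib.LargeExtra.Fischer.StabSub

/-!
Bookkeeping for the subgroup of index two in the centralizer of an involution of the small orbit.
-/

set_option autoImplicit false

namespace Cfsg.Agent.LargeExtra.Fischer

open Cfsg.Agent.InvChar.Coset
open Cfsg.Agent.Components.UnitarySix
open Cfsg.Agent.MonsterOrbits (bigQ mem_bigQ ctr_bigQ mem_center_iff')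
open Cfsg.Agent.LargeExtra.PairGraph (Pg Pg_conj IsMathieuSub mathieu)

variable {G : Type*} [Group G] [Finite G]

/-- A count by an orbit. -/
theorem card_le_mul_of_map {β : Type*} [Finite β] (H S : Subgroup G) (f : H → β)
    (hf : ∀ a b : H, f a = f b → (a : G)⁻¹ * b ∈ S) :
    Nat.card H ≤ Nat.card (H ⊓ S : Subgroup G) * Nat.card β := by
  have e := (S.subgroupOf H).card_mul_index
  have hc : Nat.card (S.subgroupOf H) = Nat.card (H ⊓ S : Subgroup G) := by
    rw [← Subgroup.inf_subgroupOf_left]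
    exact Nat.card_congr (Subgroup.subgroupOfEquivOfLe inf_le_left).toEquiv
  rw [← e, hc]
  refine Nat.mul_le_mul_left _ (Nat.card_le_card_of_injective (fun c : H ⧸ S.subgroupOf H => f c.out) fun a b h => ?_)
  rw [← QuotientGroup.out_eq' a, ← QuotientGroup.out_eq' b, QuotientGroup.eq, Subgroup.mem_subgroupOf]
  exact hf _ _ h

/-- A proper subgroup is at most half as large. -/
theorem two_mul_card_le {H K : Subgroup G} (h : H ≤ K) {g : G} (hg : g ∈ K) (hn : g ∉ H) :
    2 * Nat.card H ≤ Nat.card K := by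
  have e := (H.subgroupOf K).card_mul_index
  rw [Nat.card_congr (Subgroup.subgroupOfEquivOfLe h).toEquiv] at e
  have h0 : (H.subgroupOf K).index ≠ 0 := Subgroup.index_ne_zero_of_finite
  have h1 : (H.subgroupOf K).index ≠ 1 := fun e1 => hn (Subgroup.mem_subgroupOf.1
    ((Subgroup.index_eq_one.1 e1).ge (Subgroup.mem_top (⟨g, hg⟩ : K))))
  rw [← e, mul_comm]
  exact Nat.mul_le_mul_left _ (by omega)

theorem conj_sq_mem {H : Subgroup G} {g : G} : ∀ {c}, c ∈ H.map (MulAut.conj g).toMonoidHom ↔ g⁻¹ * c * g ∈ H := by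
  intro c
  rw [Subgroup.mem_map_equiv, MulAut.conj_symm_apply]

/-- The large elementary subgroups of a Sylow subgroup coincide with the Thompson subgroup. -/
theorem eq_thompson {T : Subgroup G} (hel : Cfsg.IsElementaryAbelian 2 (Cfsg.thompsonSubgroupOf 2 T))
    (hc : Nat.card (Cfsg.thompsonSubgroupOf 2 T) = 2 ^ 11) {B : Subgroup G} (hB : B ≤ T)
    (hBel : Cfsg.IsElementaryAbelian 2 B) (hBc : Nat.card B = 2 ^ 11) : B = Cfsg.thompsonSubgroupOf 2 T := by
  classical
  set S := {D : Subgroup T | Cfsg.IsElementaryAbelian 2 D}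
  have hB' : B.subgroupOf T ∈ S := by
    refine ⟨⟨⟨fun a b => Subtype.ext (Subtype.ext ?_)⟩⟩, fun a ha => Subtype.ext (hBel.2 _ ha)⟩
    show ((a : T) : G) * ((b : T) : G) = ((b : T) : G) * ((a : T) : G)
    exact congrArg Subtype.val (hBel.1.1.comm (⟨((a : T) : G), a.2⟩ : B) ⟨((b : T) : G), b.2⟩)
  obtain ⟨M, hM, hmax⟩ := Set.exists_max_image S (fun D => Nat.card D) (Set.toFinite S) ⟨_, hB'⟩
  have hcB : Nat.card (B.subgroupOf T) = 2 ^ 11 := by
    rw [Nat.card_congr (Subgroup.subgroupOfEquivOfLe hB).toEquiv, hBc]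
  have hle : ∀ D ∈ Cfsg.maxElementaryAbelianSubgroups 2 T, D.map T.subtype ≤ Cfsg.thompsonSubgroupOf 2 T :=
    fun D hD => Subgroup.map_mono (le_sSup hD)
  have hM11 : Nat.card M ≤ 2 ^ 11 := by
    rw [← hc, ← Subgroup.card_map_of_injective (K := M) T.subtype_injective]
    exact Subgroup.card_le_of_le (hle M ⟨hM, fun D hD => hmax D hD⟩)
  have h := hle _ (show B.subgroupOf T ∈ Cfsg.maxElementaryAbelianSubgroups 2 T from
    ⟨hB', fun D hD => (hmax D hD).trans (hM11.trans hcB.ge)⟩)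
  rw [Subgroup.map_subgroupOf_eq_of_le hB] at h
  exact Subgroup.eq_of_le_of_card_ge h (by rw [hc, hBc])

variable {z : G} {Q : Subgroup (Cz z)} [Q.Normal] {M : Subgroup (Cz z)}
variable (hS : Cfsg.IsExtraspecialCentralizerSetting z Q 6) {F : Frame z Q M}

/-- The index two subgroup with the outer involution. -/
structure Inner (W : Four F) where
  /-- the subgroup -/
  K : Subgroup G
  /-- the outer element -/
  q : Q
  le : K ≤ W.L
  idx : (K.subgroupOf W.L).index = 2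
  hC : W.C ≤ K
  hqL : inQ Q q ∈ W.L
  hqK : inQ Q q ∉ K
  hqu : inQ Q q * inQ Q W.u * (inQ Q q)⁻¹ = inQ Q W.u * z

include hS in
theorem Four.exists_inner (W : Four F) {x : Cz z} (X : Scal F x) (d : IsMathieuSub z (AG hS F X)) :
    Nonempty (Inner W) := by
  obtain ⟨m, hm, hne, hmz⟩ := W.exists_mover hS X d
  obtain ⟨K, hK2, hCK, q, hqL, hqK, hqu⟩ := W.exists_index_two hS (W.quasisimple hS hm hne hmz).1.1.1
  refine ⟨⟨K.map W.L.subtype, q, Subgroup.map_subtype_le _, ?_, fun c hc => ?_, hqL, fun h => hqK ?_, hqu⟩⟩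
  · rwa [Subgroup.subgroupOf, Subgroup.comap_map_eq_self_of_injective W.L.subtype_injective]
  · exact ⟨⟨c, W.C_le_L hS hc⟩, hCK _ hc, rfl⟩
  · obtain ⟨k, hk, e⟩ := h
    exact (Subtype.ext e : k = ⟨inQ Q q, hqL⟩) ▸ hk

namespace Inner

variable {W : Four F} (I : Inner W)

theorem sq_mem {a b : G} (ha : a ∈ W.L) (hb : b ∈ W.L) : (a * b ∈ I.K) ↔ (a ∈ I.K ↔ b ∈ I.K) := by
  have := Subgroup.mul_mem_iff_of_index_two I.idx (a := ⟨a, ha⟩) (b := ⟨b, hb⟩)
  simpa [Subgroup.mem_subgroupOf] using this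

theorem conj_mem {g k : G} (hg : g ∈ W.L) (hk : k ∈ I.K) : g * k * g⁻¹ ∈ I.K := by
  haveI := Subgroup.normal_of_index_eq_two I.idx
  exact Subgroup.mem_subgroupOf.1 (Subgroup.Normal.conj_mem (H := I.K.subgroupOf W.L) inferInstance
    ⟨k, I.le hk⟩ (Subgroup.mem_subgroupOf.2 hk) ⟨g, hg⟩)

include hS in
theorem mem_C {k : G} (hk : k ∈ W.L) (h : k * inQ Q W.u * k⁻¹ = inQ Q W.u) : k ∈ W.C :=
  (W.mem_C hS).2 ⟨W.mem_L.1 hk, mul_inv_eq_iff_eq_mul.1 h⟩

include hS in
/-- No member sends the second member to itself times the central involution. -/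
theorem not_uz {k : G} (hk : k ∈ I.K) : k * inQ Q W.u * k⁻¹ ≠ inQ Q W.u * z := fun e => by
  have h : (inQ Q I.q)⁻¹ * k ∈ W.C := by
    refine mem_C hS (mul_mem (inv_mem I.hqL) (I.le hk)) ?_
    calc (inQ Q I.q)⁻¹ * k * inQ Q W.u * ((inQ Q I.q)⁻¹ * k)⁻¹
        = (inQ Q I.q)⁻¹ * (k * inQ Q W.u * k⁻¹) * inQ Q I.q := by group
      _ = _ := by rw [e, ← I.hqu]; group
  refine I.hqK ?_
  have := mul_mem hk (inv_mem (I.hC h))
  rwa [mul_inv_rev, inv_inv, mul_inv_cancel_left] at this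

end Inner

end Cfsg.Agent.LargeExtra.Fischer
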