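import Cfsg.Agent.Lib.LargeExtra.Fischer.FourGroup
import Cfsg.Agent.Lib.ThreeTransp.U62Cent.TransferTwo

/-!
In the centralizer of an involution of the small orbit: a subgroup of index two, by transfer from the
centralizer of the central involution.
-/

set_option autoImplicit false
set_option linter.style.haveILetI false
set_option linter.unusedSectionVars false

namespace Cfsg.Agent.LargeExtra.Fischer

open Cfsg.Agent.InvChar.Coset
open Cfsg.Agent.Components.UnitarySix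
open Cfsg.Agent.MonsterOrbits (bigQ mem_bigQ ctr_bigQ mem_center_iff')
open Cfsg.Agent.ThreeTransp.U62Cent

section Facts

/-- The vector of the outer involution. -/
def vq : V := (e 0 : V) + (e 2 : V)

theorem vq_facts : H vq vq = 0 ∧ trH vq e01 = 0 ∧ trH vq (FF.w • e01) = 1 ∧ InO FF.w vq ∧
    InO FF.w (e01 + vq) := by
  decide +kernel

/-- The space fixed by a member commuting with both. -/
def InS (y : V) : Prop := trH y e01 = 0 ∧ trH y vq = 0

instance (y : V) : Decidable (InS y) := inferInstanceAs (Decidable (_ ∧ _))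

theorem InS_facts : (InS (e 3 : V) ∧ InS (FF.w • (e 3 : V)) ∧ (e 3 : V) ≠ 0) ∧
    InS (e 0 : V) ∧ InS e01 ∧ InS vq ∧ InS (e 2 : V) ∧
    InS ![FF.w, FF.w, FF.w, 0, 0, 0] ∧
    ∀ (i : Fin 6), i = 3 ∨ i = 4 ∨ i = 5 → ∀ l : FF, InS (l • (e i : V)) := by
  decide +kernel

theorem InS_perp : ∀ a b c : FF, trH ![a, b, c, 0, 0, 0] (e 0 : V) = 0 → trH ![a, b, c, 0, 0, 0] e01 = 0 →
    trH ![a, b, c, 0, 0, 0] vq = 0 → trH ![a, b, c, 0, 0, 0] ![FF.w, FF.w, FF.w, 0, 0, 0] = 0 →
    ![a, b, c, 0, 0, 0] = (0 : V) ∨ ![a, b, c, 0, 0, 0] = e01 ∨ ![a, b, c, 0, 0, 0] = vq ∨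
      ![a, b, c, 0, 0, 0] = e01 + vq := by
  decide +kernel

theorem tail_zero : ∀ a : FF, (∀ l : FF, l ^ 2 * a + l * a ^ 2 = 0) → a = 0 := by decide

/-- The members of the orthogonal of the fixed space. -/
theorem perp_cases {y : V} (h : ∀ s, InS s → trH y s = 0) :
    y = 0 ∨ y = e01 ∨ y = vq ∨ y = e01 + vq := by
  obtain ⟨-, h0, h1, hv, -, hw, h345⟩ := InS_facts
  have hi : ∀ i : Fin 6, i = 3 ∨ i = 4 ∨ i = 5 → y i = 0 := fun i hi => tail_zero _ fun l => by
    have e' := h _ (h345 i hi l)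
    rw [trH] at e'
    rw [← e']
    rcases hi with rfl | rfl | rfl <;> simp [Cfsg.hermForm, Fin.sum_univ_six, Pi.single_apply] <;> ring
  have hy : y = ![y 0, y 1, y 2, 0, 0, 0] := by
    funext i
    fin_cases i <;> simp [hi 3 (by simp), hi 4 (by simp), hi 5 (by simp)]
  rw [hy] at h ⊢
  exact InS_perp _ _ _ (h _ h0) (h _ h1) (h _ hv) (h _ hw)

/-- An additive semilinear map fixing the space is the identity. -/
theorem eq_id_of_fix {σ : V → V} (hadd : ∀ u v, σ (u + v) = σ u + σ v)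
    (hsm : (∀ v, σ (FF.w • v) = FF.w • σ v) ∨ ∀ v, σ (FF.w • v) = FF.w2 • σ v)
    (hfix : ∀ s, InS s → σ s = s) : ∀ v, σ v = v := by
  obtain ⟨⟨h3, h3w, -⟩, h0, h1, -, h2, -, h345⟩ := InS_facts
  have hlin : ∀ v, σ (FF.w • v) = FF.w • σ v := by
    refine hsm.resolve_right fun ha => ?_
    have e' := ha (e 3 : V)
    rw [hfix _ h3w, hfix _ h3] at e'
    exact absurd e' (by decide +kernel)
  have hzero : σ 0 = 0 := by
    have h := hadd 0 0
    rw [add_zero] at h
    exact left_eq_add.1 h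
  have hsmul : ∀ (l : FF) v, σ (l • v) = l • σ v := fun l v => by
    rcases (by revert l; decide : l = 0 ∨ l = 1 ∨ l = FF.w ∨ l = FF.w * FF.w) with rfl | rfl | rfl | rfl
    · rw [zero_smul, zero_smul, hzero]
    · rw [one_smul, one_smul]
    · exact hlin v
    · rw [mul_smul, mul_smul, hlin, hlin]
  have hb : ∀ i : Fin 6, σ (e i : V) = (e i : V) := by
    have e1 : (e 1 : V) = e01 + (e 0 : V) := by decide +kernel
    intro i
    fin_cases i
    · exact hfix _ h0
    · show σ (e 1 : V) = (e 1 : V)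
      rw [e1, hadd, hfix _ h1, hfix _ h0]
    · exact hfix _ h2
    all_goals
      refine (congrArg σ (one_smul FF _).symm).trans ((hfix _ (h345 _ (by simp) 1)).trans (one_smul FF _))
  intro v
  have hdec : v = v 0 • (e 0 : V) + v 1 • (e 1 : V) + v 2 • (e 2 : V) + v 3 • (e 3 : V) + v 4 • (e 4 : V) +
      v 5 • (e 5 : V) := by
    funext i
    fin_cases i <;> simp [Pi.single_apply]
  rw [hdec]
  simp only [hadd, hsmul, hb]

end Facts

variable {G : Type*} [Group G] [Finite G] {z : G} {Q : Subgroup (Cz z)} [Q.Normal] {M : Subgroup (Cz z)}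
variable (hS : Cfsg.IsExtraspecialCentralizerSetting z Q 6) {F : Frame z Q M} (W : Four F)

namespace Four

/-- The centralizer of the first involution. -/
def L : Subgroup G := Subgroup.centralizer ({inQ Q W.t} : Set G)

theorem mem_L {g : G} : g ∈ W.L ↔ g * inQ Q W.t = inQ Q W.t * g :=
  Subgroup.mem_centralizer_singleton_iff

include hS in
theorem C_le_L : W.C ≤ W.L := fun _ hg => W.mem_L.2 ((W.mem_C hS).1 hg).1

include hS in
theorem z_comm (q : Q) : Commute z (inQ Q q) :=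
  (ctr_bigQ hS).comm (inQ_mem q) |>.symm

include hS in
theorem z_mem_L : z ∈ W.L := W.mem_L.2 (z_comm hS W.t).eq

include hS in
theorem t_ne_one : inQ Q W.t ≠ 1 := fun e => line_distinct.1 (by
  rw [← W.ht, (inQ_injective (e.trans (map_one _).symm) : W.t = 1), F.φ_one])

include hS in
/-- Where an element of the centralizer of both sends the second member. -/
theorem u_cases {c : G} (hcz : c ∈ Cz z) (hct : c ∈ W.L) :
    c * inQ Q W.u * c⁻¹ = inQ Q W.u ∨ c * inQ Q W.u * c⁻¹ = inQ Q W.u * z ∨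
      c * inQ Q W.u * c⁻¹ = inQ Q W.t * inQ Q W.u ∨ c * inQ Q W.u * c⁻¹ = inQ Q W.t * inQ Q W.u * z := by
  set cz : Cz z := ⟨c, hcz⟩
  have hconj : ∀ q : Q, inQ Q (MulAut.conjNormal cz q) = c * inQ Q q * c⁻¹ := fun q => by
    show ((MulAut.conjNormal cz q : Cz z) : G) = _
    rw [MulAut.conjNormal_apply]; rfl
  have he : F.act cz e01 = e01 := by
    rw [← W.ht, ← F.conj]
    refine congrArg F.φ (inQ_injective ((hconj _).trans ?_))
    rw [W.mem_L.1 hct, mul_inv_cancel_right]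
  rw [← hconj]
  rcases F.semi cz with h | h
  · have e' : F.φ W.u = F.φ (MulAut.conjNormal cz W.u) := by rw [F.conj, W.hu, h, he]
    rcases F.eq_or_mul_z hS e' with e | e
    · exact Or.inl e
    · exact Or.inr (Or.inl e)
  · have e' : F.φ (W.t * W.u) = F.φ (MulAut.conjNormal cz W.u) := by
      rw [F.conj, W.hu, h, he, F.φ_mul, W.ht, W.hu, line_distinct.2.2.1]
    rcases F.eq_or_mul_z hS e' with e | e
    · refine Or.inr (Or.inr (Or.inl ?_))
      rw [← map_mul]; exact e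
    · refine Or.inr (Or.inr (Or.inr ?_))
      rw [← map_mul]; exact e

/-- The elements preserving the pair of the second member and the third times the central involution. -/
def inner : Subgroup W.L where
  carrier := {c | (c : G) ∈ Cz z ∧ ∀ y : G, ((c : G) * y * (c : G)⁻¹ = inQ Q W.u ∨
    (c : G) * y * (c : G)⁻¹ = inQ Q W.t * inQ Q W.u * z) ↔ (y = inQ Q W.u ∨ y = inQ Q W.t * inQ Q W.u * z)}
  one_mem' := ⟨one_mem _, fun y => by simp⟩
  mul_mem' := by
    rintro a b ⟨ha, ha'⟩ ⟨hb, hb'⟩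
    refine ⟨mul_mem ha hb, fun y => ?_⟩
    rw [← hb' y, ← ha' ((b : G) * y * (b : G)⁻¹), Subgroup.coe_mul,
      show (a : G) * (b : G) * y * ((a : G) * (b : G))⁻¹ = (a : G) * ((b : G) * y * (b : G)⁻¹) * (a : G)⁻¹ by group]
  inv_mem' := by
    rintro a ⟨ha, ha'⟩
    refine ⟨inv_mem ha, fun y => ?_⟩
    rw [← ha' (((a⁻¹ : W.L) : G) * y * ((a⁻¹ : W.L) : G)⁻¹), InvMemClass.coe_inv,
      show (a : G) * ((a : G)⁻¹ * y * ((a : G)⁻¹)⁻¹) * (a : G)⁻¹ = y by group]

include hS in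
/-- The third member moved by the centralizer of both. -/
theorem third_conj {c : G} (hcz : c ∈ Cz z) (hct : c ∈ W.L) :
    c * (inQ Q W.t * inQ Q W.u * z) * c⁻¹ = inQ Q W.t * (c * inQ Q W.u * c⁻¹) * z := by
  calc c * (inQ Q W.t * inQ Q W.u * z) * c⁻¹ = (c * inQ Q W.t) * inQ Q W.u * (z * c⁻¹) := by group
    _ = (inQ Q W.t * c) * inQ Q W.u * (c⁻¹ * z) := by
      rw [W.mem_L.1 hct, show z * c⁻¹ = c⁻¹ * z from
        (show Commute c z from Subgroup.mem_centralizer_singleton_iff.1 hcz).inv_left.eq.symm]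
    _ = _ := by group

include hS in
theorem mem_inner {c : W.L} : c ∈ W.inner ↔ (c : G) ∈ Cz z ∧
    ((c : G) * inQ Q W.u * (c : G)⁻¹ = inQ Q W.u ∨
      (c : G) * inQ Q W.u * (c : G)⁻¹ = inQ Q W.t * inQ Q W.u * z) := by
  refine ⟨fun ⟨h, h'⟩ => ⟨h, (h' _).2 (Or.inl rfl)⟩, fun ⟨h, h'⟩ => ⟨h, fun y => ?_⟩⟩
  have h3 := W.third_conj hS h c.2
  have htt : inQ Q W.t * inQ Q W.t = 1 := by rw [← map_mul, (W.sq hS).1, map_one]
  have hzz : z * z = 1 := by rw [← pow_two, ← hS.1, pow_orderOf_eq_one]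
  have hback : inQ Q W.t * (inQ Q W.t * inQ Q W.u * z) * z = inQ Q W.u := by
    rw [← mul_assoc, ← mul_assoc, htt, one_mul, mul_assoc, hzz, mul_one]
  constructor
  · intro hy
    rcases h' with e | e <;> rw [e] at h3
    · rcases hy with ey | ey
      · exact Or.inl (mul_left_cancel (mul_right_cancel (ey.trans e.symm)))
      · exact Or.inr (mul_left_cancel (mul_right_cancel (ey.trans h3.symm)))
    · rw [hback] at h3
      rcases hy with ey | ey
      · exact Or.inr (mul_left_cancel (mul_right_cancel (ey.trans h3.symm)))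
      · exact Or.inl (mul_left_cancel (mul_right_cancel (ey.trans e.symm)))
  · rintro (rfl | rfl)
    · exact h'
    · rcases h' with e | e <;> rw [h3, e]
      · exact Or.inr rfl
      · exact Or.inl hback

include hS in
/-- The outer involution in the extraspecial group. -/
theorem exists_outer : ∃ q : Q, F.φ q = vq ∧ q * q = 1 ∧ inQ Q q ∈ W.L ∧
    inQ Q q * inQ Q W.u * (inQ Q q)⁻¹ = inQ Q W.u * z := by
  obtain ⟨q, hq⟩ := F.surj vq
  obtain ⟨f1, f2, f3, -⟩ := vq_facts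
  have hc : q * W.t = W.t * q := (commute_iff_trace hS F _ _).2 (by rw [hq, W.ht]; exact f2)
  refine ⟨q, hq, (F.form q).2 (by rw [hq]; exact f1), W.mem_L.2 (by rw [← map_mul, hc, map_mul]), ?_⟩
  have hp : F.φ W.u = F.φ (MulAut.conjNormal (q : Cz z) W.u) := by
    rw [F.conj, (F.ker _).2 q.2]; rfl
  have e0 : inQ Q (MulAut.conjNormal (q : Cz z) W.u) = inQ Q q * inQ Q W.u * (inQ Q q)⁻¹ := by
    rw [conjNormal_self, map_mul, map_mul, map_inv]
  rw [← e0]
  refine (F.eq_or_mul_z hS hp).resolve_left fun e => ?_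
  have e' : MulAut.conjNormal (q : Cz z) W.u = W.u := inQ_injective e
  rw [conjNormal_self, mul_inv_eq_iff_eq_mul, commute_iff_trace hS F, hq, W.hu, f3] at e'
  exact one_ne_zero e'

include hS in
theorem uz_ne : inQ Q W.u * z ≠ inQ Q W.u ∧ inQ Q W.u * z ≠ inQ Q W.t * inQ Q W.u * z :=
  ⟨fun e => (ctr_bigQ hS).ne_one (mul_eq_left.1 e),
    fun e => W.t_ne_one hS (mul_eq_right.1 (mul_right_cancel e).symm)⟩

include hS in
/-- It has index two in the centralizer of both. -/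
theorem inner_index :
    ((W.inner).subgroupOf (Subgroup.centralizer ({⟨z, W.z_mem_L hS⟩} : Set W.L))).index = 2 := by
  obtain ⟨q, -, -, hqL, hqu⟩ := W.exists_outer hS
  set q0 : W.L := ⟨inQ Q q, hqL⟩
  have hq0z : q0 ∈ Subgroup.centralizer ({⟨z, W.z_mem_L hS⟩} : Set W.L) :=
    Subgroup.mem_centralizer_singleton_iff.2 (Subtype.ext (z_comm hS q).eq.symm)
  rw [Subgroup.index_eq_two_iff]
  refine ⟨⟨q0, hq0z⟩, fun b => ?_⟩
  have hbz : ((b : W.L) : G) ∈ Cz z := Subgroup.mem_centralizer_singleton_iff.2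
    (congrArg Subtype.val (Subgroup.mem_centralizer_singleton_iff.1 b.2))
  simp only [Subgroup.mem_subgroupOf, Subgroup.coe_mul, W.mem_inner hS]
  set c : G := ((b : W.L) : G)
  set U := inQ Q W.u
  set T := inQ Q W.t
  have hbq : c * inQ Q q * U * (c * inQ Q q)⁻¹ = c * U * c⁻¹ * z := by
    calc c * inQ Q q * U * (c * inQ Q q)⁻¹ = c * (inQ Q q * U * (inQ Q q)⁻¹) * c⁻¹ := by group
      _ = c * U * (z * c⁻¹) := by rw [hqu]; group
      _ = c * U * (c⁻¹ * z) := by
        rw [(show Commute c z from Subgroup.mem_centralizer_singleton_iff.1 hbz).inv_left.eq.symm]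
      _ = _ := by group
  have hqz : c * inQ Q q ∈ Cz z := mul_mem hbz (q : Cz z).2
  obtain ⟨n1, n2⟩ := W.uz_ne hS
  have hzz : z * z = 1 := by rw [← pow_two, ← hS.1, pow_orderOf_eq_one]
  have n3 : T * U ≠ U ∧ T * U ≠ T * U * z :=
    ⟨fun e => W.t_ne_one hS (mul_eq_right.1 e), fun e => (ctr_bigQ hS).ne_one (mul_eq_left.1 e.symm)⟩
  show Xor (c * inQ Q q ∈ Cz z ∧ _) (c ∈ Cz z ∧ _)
  have hq0e : (q0 : G) = inQ Q q := rfl
  simp only [hq0e, hbq, hqz, hbz, true_and]
  rcases W.u_cases hS hbz (b : W.L).2 with e | e | e | e <;> rw [e]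
  · exact Or.inr ⟨Or.inl rfl, fun h => h.elim n1 n2⟩
  · exact Or.inl ⟨Or.inl (by rw [mul_assoc, hzz, mul_one]), fun h => h.elim n1 n2⟩
  · exact Or.inl ⟨Or.inr rfl, fun h => h.elim n3.1 n3.2⟩
  · exact Or.inr ⟨Or.inr rfl, fun h => by
      rw [mul_assoc (T * U), hzz, mul_one] at h
      exact h.elim n3.1 n3.2⟩

include hS in
/-- The subgroup of index two. -/
theorem exists_index_two (hperf : commutator W.C = ⊤) :
    ∃ K : Subgroup W.L, K.index = 2 ∧ (∀ c : W.L, (c : G) ∈ W.C → c ∈ K) ∧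
      ∃ (q : Q) (hq : inQ Q q ∈ W.L), (⟨inQ Q q, hq⟩ : W.L) ∉ K ∧
        inQ Q q * inQ Q W.u * (inQ Q q)⁻¹ = inQ Q W.u * z := by
  obtain ⟨q, hqv, hq2, hqL, hqu⟩ := W.exists_outer hS
  obtain ⟨n1, n2⟩ := W.uz_ne hS
  obtain ⟨hzC, hzQ⟩ := zmem hS
  set zL : W.L := ⟨z, W.z_mem_L hS⟩
  set q0 : W.L := ⟨inQ Q q, hqL⟩
  have hzo : orderOf zL = 2 := by rw [← Subgroup.orderOf_coe]; exact hS.1
  set P : Subgroup W.L := ((Subgroup.centralizer ({q} : Set Q)).map (inQ Q)).subgroupOf W.L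
  have hP : IsPGroup 2 P := ((hS.2.2.1.1.1.to_subgroup _).map _).comap_subtype
  have hout : q0 ∉ W.inner := fun h => by
    obtain ⟨-, h⟩ := (W.mem_inner hS).1 h
    rw [hqu] at h
    exact h.elim n1 n2
  have hPq : ∀ p ∈ P, Commute p q0 := by
    rintro p ⟨r, hr, e⟩
    refine Subtype.ext ?_
    show (p : G) * inQ Q q = inQ Q q * (p : G)
    rw [show (p : G) = inQ Q r from e.symm, ← map_mul, ← map_mul, Subgroup.mem_centralizer_singleton_iff.1 hr]
  have hPz : ∀ p ∈ P, Commute p zL := by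
    rintro p ⟨r, -, e⟩
    refine Subtype.ext ?_
    show (p : G) * z = z * (p : G)
    rw [show (p : G) = inQ Q r from e.symm]
    exact (z_comm hS r).eq.symm
  have hmemP : ∀ r : Q, r * W.t = W.t * r → r * q = q * r → ∃ p ∈ P, (p : G) = inQ Q r := fun r h1 h2 =>
    ⟨⟨inQ Q r, W.mem_L.2 (by rw [← map_mul, h1, map_mul])⟩,
      ⟨r, Subgroup.mem_centralizer_singleton_iff.2 h2, rfl⟩, rfl⟩
  have hfix : ∀ g : W.L, Commute (g * zL * g⁻¹) q0 → (∀ p ∈ P, Commute (g * zL * g⁻¹) p) →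
      g * zL * g⁻¹ = zL := by
    intro g _ hp
    set s : G := (g : G) * z * (g : G)⁻¹
    have hs : ∀ r : Q, r * W.t = W.t * r → r * q = q * r → Commute s (inQ Q r) := fun r h1 h2 => by
      obtain ⟨p, hpP, e⟩ := hmemP r h1 h2
      show s * inQ Q r = inQ Q r * s
      rw [← e]
      exact congrArg Subtype.val (hp p hpP).eq
    have hzcen : ∀ r : Q, (⟨⟨z, hzC⟩, hzQ hzC⟩ : Q) * r = r * ⟨⟨z, hzC⟩, hzQ hzC⟩ := fun r =>
      inQ_injective (by rw [map_mul, map_mul]; exact (z_comm hS r).eq)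
    have hsz : s ∈ Cz z := Subgroup.mem_centralizer_singleton_iff.2
      (hs ⟨⟨z, hzC⟩, hzQ hzC⟩ (hzcen _) (hzcen _)).eq
    set sz : Cz z := ⟨s, hsz⟩
    have hfixv : ∀ y, InS y → F.act sz y = y := by
      rintro y ⟨h1, h2⟩
      obtain ⟨r, rfl⟩ := F.surj y
      rw [← F.conj]
      refine congrArg F.φ (inQ_injective ?_)
      show ((MulAut.conjNormal sz r : Cz z) : G) = _
      rw [MulAut.conjNormal_apply]
      exact mul_inv_eq_iff_eq_mul.2 (hs r ((commute_iff_trace hS F _ _).2 (by rw [W.ht]; exact h1))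
        ((commute_iff_trace hS F _ _).2 (by rw [hqv]; exact h2))).eq
    have hsQ : sz ∈ Q := (F.ker sz).1 (Equiv.ext
      (eq_id_of_fix (F.act_add sz) (F.semi sz) hfixv))
    set sq : Q := ⟨sz, hsQ⟩
    have hperp : ∀ y, InS y → trH (F.φ sq) y = 0 := by
      rintro y ⟨h1, h2⟩
      obtain ⟨r, rfl⟩ := F.surj y
      refine (commute_iff_trace hS F sq r).1 (inQ_injective ?_)
      rw [map_mul, map_mul]
      exact (hs r ((commute_iff_trace hS F _ _).2 (by rw [W.ht]; exact h1))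
        ((commute_iff_trace hS F _ _).2 (by rw [hqv]; exact h2))).eq
    have hconj : IsConj z (inQ Q sq) := isConj_iff.2 ⟨g, rfl⟩
    have hInO : ¬ InO FF.w (F.φ sq) := fun h => not_conj_of_InO hS F h hconj
    refine Subtype.ext (show s = z from ?_)
    rcases perp_cases hperp with h | h | h | h
    · refine ((mem_center_iff' hS).1 ((F.zero sq).1 h)).resolve_left fun e => ?_
      exact (ctr_bigQ hS).ne_one (conj_eq_one_iff.1 (e : s = 1))
    · exact absurd (h ▸ e01_InO) hInO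
    · exact absurd (h ▸ vq_facts.2.2.2.1) hInO
    · exact absurd (h ▸ vq_facts.2.2.2.2) hInO
  obtain ⟨K, hK2, hq0K, -⟩ := TransferTwo.exists_index_two hzo (W.inner_index hS)
    (show Commute q0 zL from Subtype.ext (z_comm hS q).eq.symm) hout
    (Or.inl (Subtype.ext (by rw [Subgroup.coe_mul]; exact (map_mul (inQ Q) q q).symm.trans (by rw [hq2, map_one]; rfl))))
    (fun e => absurd (congrArg Subtype.val e) (fun h => by
      rw [Subgroup.coe_mul, ← map_mul, hq2, map_one] at h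
      exact (ctr_bigQ hS).ne_one h.symm))
    hP hPq hPz hfix
  refine ⟨K, hK2, fun c hc => ?_, q, hqL, hq0K, hqu⟩
  haveI := Subgroup.normal_of_index_eq_two hK2
  have h : commutator W.C ≤ K.comap (Subgroup.inclusion (W.C_le_L hS)) := by
    rw [_root_.commutator_def, Subgroup.commutator_le]
    intro a _ b _
    rw [Subgroup.mem_comap, commutatorElement_def]
    simp only [map_mul, map_inv]
    simp [Subgroup.mul_mem_iff_of_index_two hK2]
    tauto
  exact h (hperf ▸ Subgroup.mem_top (⟨(c : G), hc⟩ : W.C))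

end Four

end Cfsg.Agent.LargeExtra.Fischer
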