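import Cfsg.Agent.Lib.LargeExtra.Fischer.InnerData

/-!
The second member in the subgroup of index two: it is not sent to its product with the first one and it is not
weakly closed.
-/

set_option autoImplicit false

namespace Cfsg.Agent.LargeExtra.Fischer

open Cfsg.Agent.InvChar.Coset
open Cfsg.Agent.Components.UnitarySix
open Cfsg.Agent.MonsterOrbits (bigQ mem_bigQ ctr_bigQ mem_center_iff')
open Cfsg.Agent.LargeExtra.PairGraph (Pg Pg_conj IsMathieuSub mathieu)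

variable {G : Type*} [Group G] [Finite G] {z : G} {Q : Subgroup (Cz z)} [Q.Normal] {M : Subgroup (Cz z)}
variable (hS : Cfsg.IsExtraspecialCentralizerSetting z Q 6) {F : Frame z Q M} {W : Four F}
variable {x : Cz z} (X : Scal F x)

/-- The normalizer of the large elementary group. -/
abbrev NA : Subgroup G := Subgroup.normalizer (AG hS F X : Set G)

include hS in
theorem Four.mem_AG (W : Four F) :
    (inQ Q W.t ∈ AG hS F X ∧ inQ Q W.u ∈ AG hS F X) ∧ Pg z (inQ Q W.t) ∧ Pg z (inQ Q W.u) := by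
  have hUA : ∀ q : Q, InU2 (F.φ q) → inQ Q q ∈ AG hS F X := fun q hq =>
    ⟨(q : Cz z), UT_le_A0 hS F X ⟨q.2, hq⟩, rfl⟩
  have hne1 : ∀ q : Q, F.φ q ≠ 0 → inQ Q q ≠ 1 := fun q h e => h (by
    rw [(inQ_injective (e.trans (map_one _).symm) : q = 1), F.φ_one])
  have h1 := hne1 _ (show F.φ W.t ≠ 0 by rw [W.ht]; exact line_distinct.1)
  have h2 := hne1 _ (show F.φ W.u ≠ 0 by rw [W.hu]; exact line_distinct.2.1)
  exact ⟨⟨hUA _ (by rw [W.ht]; exact e01_U.1), hUA _ (by rw [W.hu]; exact InU2_smul _ e01_U.1)⟩,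
    ⟨h1, W.not_conj hS W.t_mem h1⟩, h2, W.not_conj hS W.u_mem h2⟩

include hS in
theorem Four.card_small (W : Four F) :
    Nat.card (NA hS X ⊓ W.C ⊓ Cz z : Subgroup G) ≤ 2 ^ 11 * 960 := by
  set Y := (NA hS X ⊓ W.C).subgroupOf (Cz z)
  have hY : Nat.card (NA hS X ⊓ W.C ⊓ Cz z : Subgroup G) = Nat.card Y := by
    rw [← Nat.card_congr (Subgroup.subgroupOfEquivOfLe (inf_le_right :
      NA hS X ⊓ W.C ⊓ Cz z ≤ Cz z)).toEquiv, Subgroup.inf_subgroupOf_right]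
  have hYD : Y ≤ W.D := fun y hy => Subgroup.mem_subgroupOf.2 (Subgroup.mem_subgroupOf.1 hy).2
  have hU : ∀ y ∈ Y, ∀ v, InU2 v → InU2 (F.act y v) := by
    intro y hy v hv
    obtain ⟨q, rfl⟩ := F.surj v
    obtain ⟨c, hc, e⟩ := (Subgroup.mem_normalizer_iff.1 (Subgroup.mem_subgroupOf.1 hy).1 _).1
      (show inQ Q q ∈ AG hS F X from ⟨(q : Cz z), UT_le_A0 hS F X ⟨q.2, hv⟩, rfl⟩)
    have hcq : c = (MulAut.conjNormal y q : Q).1 := Subtype.ext (e.trans (by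
      rw [MulAut.conjNormal_apply]; rfl))
    have hUT : c ∈ UT F := A0_inf hS F X ▸ (⟨hc, hcq ▸ (MulAut.conjNormal y q).2⟩ : c ∈ A0 F X hS ⊓ Q)
    subst hcq
    obtain ⟨_, h⟩ := hUT
    rwa [← F.conj]
  rw [hY]
  let f : Y →* StabK e01 := (W.rep hS).comp (Subgroup.inclusion hYD)
  have h := Subgroup.card_mul_index f.ker
  rw [Subgroup.index_ker] at h
  rw [← h]
  refine Nat.mul_le_mul ?_ (le_trans (Subgroup.card_le_of_le ?_) card_RU)
  · rw [← W.card_DQ hS]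
    refine Nat.card_le_card_of_injective (fun y : f.ker =>
      (⟨⟨(y.1 : Cz z), (W.rep_eq_one hS _).1 (MonoidHom.mem_ker.1 y.2)⟩, hYD y.1.2⟩ :
        {q : Q // (q : Cz z) ∈ W.D})) fun a b e => ?_
    exact Subtype.ext (Subtype.ext (congrArg (fun q : {q : Q // (q : Cz z) ∈ W.D} => (q.1 : Cz z)) e))
  · rintro _ ⟨y, rfl⟩ v
    have e : ∀ (y : Y) (v : V), (f y : S) • v = F.act (y : Cz z) v := fun y v => (W.rep_spec hS _ v).symm
    refine ⟨fun h => ?_, fun h => (e y v).symm ▸ hU _ y.2 v h⟩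
    rw [e] at h
    have := hU _ (Y.inv_mem y.2) _ h
    rwa [← Equiv.Perm.mul_apply, ← map_mul, inv_mul_cancel, map_one, Equiv.Perm.one_apply] at this

/-- The elements fixing the first member and preserving the second up to it. -/
def Four.pairStab (W : Four F) (htt : inQ Q W.t * inQ Q W.t = 1) : Subgroup G where
  carrier := {k | k * inQ Q W.t * k⁻¹ = inQ Q W.t ∧
    (k * inQ Q W.u * k⁻¹ = inQ Q W.u ∨ k * inQ Q W.u * k⁻¹ = inQ Q W.t * inQ Q W.u)}
  one_mem' := ⟨by simp, Or.inl (by simp)⟩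
  mul_mem' := by
    rintro a b ⟨ha, ha'⟩ ⟨hb, hb'⟩
    have e : ∀ y : G, a * b * y * (a * b)⁻¹ = a * (b * y * b⁻¹) * a⁻¹ := fun y => by group
    refine ⟨by rw [e, hb, ha], ?_⟩
    rw [e]
    rcases hb' with hb' | hb' <;> rw [hb']
    · exact ha'
    · rw [← conj_mul, ha]
      rcases ha' with ha' | ha' <;> rw [ha']
      · exact Or.inr rfl
      · exact Or.inl (by rw [← mul_assoc, htt, one_mul])
  inv_mem' := by
    rintro a ⟨ha, ha'⟩
    have e1 : a⁻¹ * inQ Q W.t * a⁻¹⁻¹ = inQ Q W.t := by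
      conv_lhs => rw [← ha]
      group
    refine ⟨e1, ha'.imp (fun h => ?_) fun h => ?_⟩
    · conv_lhs => rw [← h]
      group
    · have e2 : inQ Q W.u = inQ Q W.t * (a⁻¹ * inQ Q W.u * a⁻¹⁻¹) := by
        calc inQ Q W.u = a⁻¹ * (a * inQ Q W.u * a⁻¹) * a := by group
          _ = (a⁻¹ * inQ Q W.t * a⁻¹⁻¹) * (a⁻¹ * inQ Q W.u * a⁻¹⁻¹) := by rw [h]; group
          _ = _ := by rw [e1]
      conv_rhs => rw [e2, ← mul_assoc, htt, one_mul]

namespace Inner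

variable (I : Inner W)

/-- The part in the normalizer. -/
def NK : Subgroup G := NA hS X ⊓ I.K

include hS in
theorem q_norm : inQ Q I.q ∈ NA hS X := by
  refine Subgroup.mem_normalizer_fintype ?_
  rintro _ ⟨a, ha, rfl⟩
  exact ⟨_, conj_Q hS F X I.q.2 ha, rfl⟩

include hS in
theorem q_conj {k : G} : (inQ Q I.q)⁻¹ * k * inQ Q I.q ∈ I.NK hS X ↔ k ∈ I.NK hS X := by
  have hq := I.q_norm hS X
  refine ⟨fun ⟨h1, h2⟩ => ⟨?_, ?_⟩, fun ⟨h1, h2⟩ => ⟨(NA hS X).mul_mem ((NA hS X).mul_mem ((NA hS X).inv_mem hq) h1) hq, ?_⟩⟩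
  · have := mul_mem (mul_mem hq h1) (inv_mem hq)
    simpa [mul_assoc] using this
  · have := I.conj_mem I.hqL h2
    simpa [mul_assoc] using this
  · have := I.conj_mem (inv_mem I.hqL) h2
    rwa [inv_inv] at this

variable (d : IsMathieuSub z (AG hS F X))
include d

theorem card_NK : 443520 * 2 ^ 11 ≤ Nat.card (I.NK hS X) := by
  classical
  set A := AG hS F X
  set N := NA hS X
  obtain ⟨⟨hAn, ⟨eM⟩⟩, -⟩ := mathieu d
  have hcN : Nat.card N = 244823040 * 2 ^ 11 := by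
    rw [Subgroup.card_eq_card_quotient_mul_card_subgroup (A.subgroupOf N), Nat.card_congr eM.toEquiv,
      Cfsg.Agent.Golay.M24.card_M24,
      Nat.card_congr (Subgroup.subgroupOfEquivOfLe (Subgroup.le_normalizer : A ≤ N)).toEquiv, d.card]
  obtain ⟨⟨htA, -⟩, htP, -⟩ := W.mem_AG hS X
  have h1 := card_le_mul_of_map N W.L
    (fun n : N => (⟨⟨(n : G) * inQ Q W.t * (n : G)⁻¹, (Subgroup.mem_normalizer_iff.1 n.2 _).1 htA⟩,
      (Pg_conj _ _).2 htP⟩ : {y : A // Pg z (y : G)})) fun a b e => by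
      have e' : (a : G) * inQ Q W.t * (a : G)⁻¹ = b * inQ Q W.t * (b : G)⁻¹ :=
        congrArg (fun w : {y : A // Pg z (y : G)} => ((w.1 : A) : G)) e
      refine W.mem_L.2 ?_
      calc (a : G)⁻¹ * b * inQ Q W.t = (a : G)⁻¹ * (b * inQ Q W.t * (b : G)⁻¹) * b := by group
        _ = _ := by rw [← e']; group
  rw [hcN, d.cardP] at h1
  have h2 : I.K.relIndex (N ⊓ W.L) ≤ 2 := by
    refine le_of_le_of_eq (Subgroup.relIndex_le_of_le_right inf_le_right ?_) I.idx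
    exact Subgroup.index_ne_zero_of_finite
  have h3 := (I.K.subgroupOf (N ⊓ W.L)).card_mul_index
  have h4 : Nat.card (I.K.subgroupOf (N ⊓ W.L)) = Nat.card (I.NK hS X) := by
    rw [← Subgroup.inf_subgroupOf_right,
      Nat.card_congr (Subgroup.subgroupOfEquivOfLe inf_le_right).toEquiv]
    refine congrArg (fun H : Subgroup G => Nat.card H) ?_
    rw [NK, inf_comm I.K, inf_assoc, inf_eq_right.2 I.le]
  change I.K.relIndex (N ⊓ W.L) ≤ 2 at h2
  rw [Subgroup.relIndex] at h2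
  rw [h4] at h3
  have := Nat.mul_le_mul_left (Nat.card (I.NK hS X)) h2
  rw [h3] at this
  omega

theorem card_orbit : Nat.card (I.NK hS X) ≤ Nat.card (I.NK hS X ⊓ W.C : Subgroup G) * 22 := by
  classical
  set A := AG hS F X
  obtain ⟨⟨htA, huA⟩, htP, huP⟩ := W.mem_AG hS X
  obtain ⟨-, -, htu⟩ := W.sq hS
  have huP' : Pg z (inQ Q W.u * inQ Q W.t) := by
    have hm : inQ Q (W.u * W.t) ∈ W.E := by rw [map_mul]; exact mul_mem W.u_mem W.t_mem
    have h1 : inQ Q (W.u * W.t) ≠ 1 := fun e => by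
      have h := congrArg F.φ (inQ_injective (e.trans (map_one _).symm) : W.u * W.t = 1)
      rw [F.φ_mul, W.hu, W.ht, F.φ_one, add_comm, line_distinct.2.2.1] at h
      exact line_distinct.2.2.2.2 h
    rw [← map_mul]
    exact ⟨h1, W.not_conj hS hm h1⟩
  let β := {y : A // Pg z (y : G) ∧ Pg z ((y : G) * inQ Q W.t)}
  have mk : ∀ g : G, g ∈ NA hS X → g ∈ W.L → ∀ y : β, ∃ y' : β, ((y'.1 : A) : G) = g * ((y.1 : A) : G) * g⁻¹ := by
    intro g hg hgL y
    refine ⟨⟨⟨_, (Subgroup.mem_normalizer_iff.1 hg _).1 y.1.2⟩, (Pg_conj g _).2 y.2.1, ?_⟩, rfl⟩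
    have e : g * ((y.1 : A) : G) * g⁻¹ * inQ Q W.t = g * (((y.1 : A) : G) * inQ Q W.t) * g⁻¹ := by
      rw [← conj_mul, W.mem_L.1 hgL, mul_inv_cancel_right]
    rw [show ((⟨_, (Subgroup.mem_normalizer_iff.1 hg _).1 y.1.2⟩ : A) : G) = g * ((y.1 : A) : G) * g⁻¹ from rfl, e]
    exact (Pg_conj g _).2 y.2.2
  choose act hact using mk
  let y0 : β := ⟨⟨_, huA⟩, huP, huP'⟩
  let f : I.NK hS X → β := fun k => act k k.2.1 (I.le k.2.2) y0
  let qy : β → β := act _ (I.q_norm hS X) I.hqL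
  have hf : ∀ k : I.NK hS X, (((f k).1 : A) : G) = (k : G) * inQ Q W.u * (k : G)⁻¹ := fun k => hact _ _ _ _
  have hq : ∀ y : β, (((qy y).1 : A) : G) = inQ Q I.q * ((y.1 : A) : G) * (inQ Q I.q)⁻¹ := fun y => hact _ _ _ _
  have hβ : Nat.card β ≤ 44 := d.card_adj htA htP
  have h2 : Nat.card (Set.range f) * 2 ≤ Nat.card β := by
    have hinj : Function.Injective
        (Sum.elim (fun y : Set.range f => (y : β)) (fun y : Set.range f => qy y)) := by
      have hdis : ∀ (a b : Set.range f), (a : β) ≠ qy b := by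
        rintro ⟨_, a, rfl⟩ ⟨_, b, rfl⟩ e
        have e' := congrArg (fun y : β => ((y.1 : A) : G)) e
        simp only [hf, hq] at e'
        set q := inQ Q I.q
        have hb : q * (b : G) * q⁻¹ ∈ I.NK hS X := by
          rw [← I.q_conj hS X, show q⁻¹ * (q * (b : G) * q⁻¹) * q = (b : G) by group]
          exact b.2
        refine I.not_uz hS (mul_mem (inv_mem hb) a.2).2 ?_
        calc ((q * (b : G) * q⁻¹)⁻¹ * (a : G)) * inQ Q W.u * ((q * (b : G) * q⁻¹)⁻¹ * (a : G))⁻¹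
            = (q * (b : G) * q⁻¹)⁻¹ * ((a : G) * inQ Q W.u * (a : G)⁻¹) * (q * (b : G) * q⁻¹) := by group
          _ = q * inQ Q W.u * q⁻¹ := by rw [e']; group
          _ = _ := I.hqu
      rintro (a | a) (b | b) e
      · exact congrArg Sum.inl (Subtype.ext e)
      · exact absurd e (hdis a b)
      · exact absurd e.symm (hdis b a)
      · refine congrArg Sum.inr (Subtype.ext (Subtype.ext (Subtype.ext ?_)))
        have e' := congrArg (fun y : β => ((y.1 : A) : G)) e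
        simp only [Sum.elim_inr, hq] at e'
        exact mul_left_cancel (mul_right_cancel e')
    have := Nat.card_le_card_of_injective _ hinj
    rw [Nat.card_sum] at this
    omega
  refine (card_le_mul_of_map _ W.C (fun k => (⟨f k, k, rfl⟩ : Set.range f)) fun a b e => ?_).trans
    (Nat.mul_le_mul_left _ (show Nat.card (Set.range f) ≤ 22 by omega))
  have e' := congrArg (fun y : Set.range f => (((y : β).1 : A) : G)) e
  simp only [hf] at e'
  refine mem_C hS (mul_mem (inv_mem (I.le a.2.2)) (I.le b.2.2)) ?_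
  calc (a : G)⁻¹ * b * inQ Q W.u * ((a : G)⁻¹ * b)⁻¹
      = (a : G)⁻¹ * ((b : G) * inQ Q W.u * (b : G)⁻¹) * a := by group
    _ = _ := by rw [← e']; group

omit d in
include hS in
/-- An element preserving both pairs fixes the central involution. -/
theorem fix_z {k : G} (hk : k ∈ W.L)
    (h1 : k * inQ Q W.u * k⁻¹ = inQ Q W.u ∨ k * inQ Q W.u * k⁻¹ = inQ Q W.t * inQ Q W.u)
    (h2 : k * (inQ Q W.u * z) * k⁻¹ = inQ Q W.u * z ∨
      k * (inQ Q W.u * z) * k⁻¹ = inQ Q W.t * inQ Q W.u * z) : k ∈ Cz z := by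
  obtain ⟨htt, -, htu⟩ := W.sq hS
  set T := inQ Q W.t
  set U := inQ Q W.u
  have hTT : T * T = 1 := by rw [← map_mul, htt, map_one]
  have hTU : T * U = U * T := by rw [← map_mul, ← map_mul, htu]
  have hTi : T⁻¹ = T := inv_eq_of_mul_eq_one_right hTT
  have hkz : k * z * k⁻¹ = (k * U * k⁻¹)⁻¹ * (k * (U * z) * k⁻¹) := by group
  have hbad : k * z * k⁻¹ ≠ T * z := fun e => by
    obtain ⟨hzC, hzQ⟩ := zmem hS
    refine not_conj_of_InO hS F (q := W.t * ⟨⟨z, hzC⟩, hzQ hzC⟩) ?_ (isConj_iff.2 ⟨k, e.trans ?_⟩)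
    · rw [F.φ_mul, W.ht, (F.zero _).2 ((mem_center_iff' hS).2 (Or.inr rfl)), add_zero]; exact e01_InO
    · rw [map_mul]; rfl
  have hz' : k * z * k⁻¹ = z := by
    rcases h1 with e1 | e1 <;> rcases h2 with e2 | e2 <;> rw [e1, e2] at hkz
    · rw [hkz, inv_mul_cancel_left]
    · exact absurd (by rw [hkz, hTU]; group) hbad
    · exact absurd (by rw [hkz, mul_inv_rev, hTi, mul_assoc U⁻¹, ← mul_assoc T, hTU]; group) hbad
    · rw [hkz, inv_mul_cancel_left]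
  exact Subgroup.mem_centralizer_singleton_iff.2 (mul_inv_eq_iff_eq_mul.1 hz')

/-- No member of the normalizer part sends the second member to its product with the first. -/
theorem not_swap_NK {g : G} (hg : g ∈ I.NK hS X) :
    g * inQ Q W.u * g⁻¹ ≠ inQ Q W.t * inQ Q W.u := by
  intro e
  obtain ⟨htt, -, -⟩ := W.sq hS
  have hTT : inQ Q W.t * inQ Q W.t = 1 := by rw [← map_mul, htt, map_one]
  set S1 := W.pairStab hTT
  set H := I.NK hS X
  set q := inQ Q I.q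
  have hmem1 : ∀ {k}, k ∈ H → (k ∈ S1 ↔ (k * inQ Q W.u * k⁻¹ = inQ Q W.u ∨
      k * inQ Q W.u * k⁻¹ = inQ Q W.t * inQ Q W.u)) := fun {k} hk => by
    refine ⟨fun h => h.2, fun h => ⟨?_, h⟩⟩
    rw [W.mem_L.1 (I.le hk.2), mul_inv_cancel_right]
  have hC1 : H ⊓ W.C ≤ H ⊓ S1 := fun k hk => ⟨hk.1, (hmem1 hk.1).2 (Or.inl (by
    rw [((W.mem_C hS).1 hk.2).2, mul_inv_cancel_right]))⟩
  have hgC : g ∉ H ⊓ W.C := fun h => by
    rw [((W.mem_C hS).1 h.2).2, mul_inv_cancel_right] at e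
    exact (W.mem_AG hS X).2.1.1 (mul_eq_right.1 e.symm)
  have hhalf := two_mul_card_le hC1 ⟨hg, (hmem1 hg).2 (Or.inr e)⟩ hgC
  have horb : Nat.card H ≤ Nat.card (H ⊓ W.C : Subgroup G) * 22 := I.card_orbit hS X d
  have hr1 : S1.relIndex H ≤ 11 := by
    have h := (S1.subgroupOf H).card_mul_index
    rw [← Subgroup.inf_subgroupOf_left, Nat.card_congr (Subgroup.subgroupOfEquivOfLe inf_le_left).toEquiv,
      Subgroup.inf_subgroupOf_left] at h
    change Nat.card (H ⊓ S1 : Subgroup G) * S1.relIndex H = Nat.card H at h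
    exact Nat.le_of_mul_le_mul_left (show Nat.card (H ⊓ S1 : Subgroup G) * S1.relIndex H ≤
      Nat.card (H ⊓ S1 : Subgroup G) * 11 by omega) Nat.card_pos
  set S2 := S1.map (MulAut.conj q).toMonoidHom
  have hHq : H.map (MulAut.conj q).toMonoidHom = H := Subgroup.ext fun k => by
    rw [conj_sq_mem, I.q_conj hS X]
  have hr2 : S2.relIndex H ≤ 11 := by
    rw [← hHq, Subgroup.relIndex_map_map_of_injective _ _ (MulAut.conj q).injective]
    exact hr1
  have hr : (S1 ⊓ S2).relIndex H ≤ 121 :=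
    (Subgroup.relIndex_inf_le).trans (Nat.mul_le_mul hr1 hr2)
  have hle : H ⊓ (S1 ⊓ S2) ≤ H ⊓ Cz z := fun k ⟨hk, hk1, hk2⟩ => by
    refine ⟨hk, fix_z hS (I.le hk.2) hk1.2 ?_⟩
    obtain ⟨-, h⟩ := conj_sq_mem.1 hk2
    have hT : q * inQ Q W.t * q⁻¹ = inQ Q W.t := by rw [W.mem_L.1 I.hqL, mul_inv_cancel_right]
    refine h.imp (fun h => ?_) fun h => ?_ <;> rw [← I.hqu]
    · calc k * (q * inQ Q W.u * q⁻¹) * k⁻¹
          = q * (q⁻¹ * k * q * inQ Q W.u * (q⁻¹ * k * q)⁻¹) * q⁻¹ := by group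
        _ = _ := by rw [h]
    · calc k * (q * inQ Q W.u * q⁻¹) * k⁻¹
          = q * (q⁻¹ * k * q * inQ Q W.u * (q⁻¹ * k * q)⁻¹) * q⁻¹ := by group
        _ = (q * inQ Q W.t * q⁻¹) * (q * inQ Q W.u * q⁻¹) := by rw [h]; group
        _ = _ := by rw [hT, I.hqu, mul_assoc]
  have hsmall : Nat.card (H ⊓ Cz z : Subgroup G) ≤ 2 ^ 11 * 960 * 3 := by
    classical
    let T3 : Set G := {inQ Q W.u, inQ Q W.t * inQ Q W.u, inQ Q W.t * inQ Q W.u * z}
    have hmem : ∀ k : (H ⊓ Cz z : Subgroup G), (k : G) * inQ Q W.u * (k : G)⁻¹ ∈ T3 := fun k => by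
      rcases W.u_cases hS k.2.2 (I.le k.2.1.2) with e | e | e | e
      · exact Or.inl e
      · exact absurd e (I.not_uz hS k.2.1.2)
      · exact Or.inr (Or.inl e)
      · exact Or.inr (Or.inr e)
    have h3 : Nat.card T3 ≤ 3 := by
      rw [Nat.card_coe_set_eq]
      exact (Set.ncard_insert_le _ _).trans (Nat.add_le_add_right ((Set.ncard_insert_le _ _).trans (by simp)) 1)
    haveI : Finite T3 := Set.finite_coe_iff.2 (Set.toFinite _)
    refine (card_le_mul_of_map _ W.C (fun k => (⟨_, hmem k⟩ : T3)) fun a b e => ?_).trans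
      (Nat.mul_le_mul (le_trans (Subgroup.card_le_of_le ?_) (W.card_small hS X)) h3)
    · have e' := congrArg Subtype.val e
      refine mem_C hS (mul_mem (inv_mem (I.le a.2.1.2)) (I.le b.2.1.2)) ?_
      calc (a : G)⁻¹ * b * inQ Q W.u * ((a : G)⁻¹ * b)⁻¹
          = (a : G)⁻¹ * ((b : G) * inQ Q W.u * (b : G)⁻¹) * a := by group
        _ = _ := by simp only at e'; rw [← e']; group
    · exact fun k hk => ⟨⟨hk.1.1.1, hk.2⟩, hk.1.2⟩
  have hbig : 443520 * 2 ^ 11 ≤ Nat.card H := I.card_NK hS X d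
  have h := ((S1 ⊓ S2).subgroupOf H).card_mul_index
  rw [← Subgroup.inf_subgroupOf_left, Nat.card_congr (Subgroup.subgroupOfEquivOfLe inf_le_left).toEquiv,
    Subgroup.inf_subgroupOf_left] at h
  change Nat.card (H ⊓ (S1 ⊓ S2) : Subgroup G) * (S1 ⊓ S2).relIndex H = Nat.card H at h
  have h' := Nat.mul_le_mul ((Subgroup.card_le_of_le hle).trans hsmall) hr
  rw [h] at h'
  omega

/-- The second member is not weakly closed. -/
theorem exists_move : ∃ k ∈ I.K, k * inQ Q W.u * k⁻¹ ≠ inQ Q W.u ∧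
    k * inQ Q W.u * k⁻¹ ≠ inQ Q W.t * inQ Q W.u ∧
    Commute (k * inQ Q W.u * k⁻¹) (inQ Q W.u) := by
  set H := I.NK hS X
  obtain ⟨⟨-, huA⟩, -⟩ := W.mem_AG hS X
  by_cases h : ∃ k ∈ H, k * inQ Q W.u * k⁻¹ ≠ inQ Q W.u
  · obtain ⟨k, hk, hne⟩ := h
    exact ⟨k, hk.2, hne, I.not_swap_NK hS X d hk,
      d.comm _ ((Subgroup.mem_normalizer_iff.1 hk.1 _).1 huA) _ huA⟩
  exfalso
  push Not at h
  have hle : H ≤ NA hS X ⊓ W.C ⊓ Cz z := fun k hk => by
    refine ⟨⟨hk.1, mem_C hS (I.le hk.2) (h k hk)⟩, fix_z hS (I.le hk.2) (Or.inl (h k hk)) (Or.inl ?_)⟩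
    have := h _ ((I.q_conj hS X).2 hk)
    rw [← I.hqu]
    calc k * (inQ Q I.q * inQ Q W.u * (inQ Q I.q)⁻¹) * k⁻¹
        = inQ Q I.q * ((inQ Q I.q)⁻¹ * k * inQ Q I.q * inQ Q W.u * ((inQ Q I.q)⁻¹ * k * inQ Q I.q)⁻¹) *
            (inQ Q I.q)⁻¹ := by group
      _ = _ := by rw [this]
  have := (I.card_NK hS X d).trans ((Subgroup.card_le_of_le hle).trans (W.card_small hS X))
  norm_num at this

/-- No member of the subgroup sends the second member to its product with the first. -/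
theorem not_swap (hJ : ∀ T : Sylow 2 G, Cfsg.IsElementaryAbelian 2 (Cfsg.thompsonSubgroupOf 2 (T : Subgroup G)) ∧
      Nat.card (Cfsg.thompsonSubgroupOf 2 (T : Subgroup G)) = 2 ^ 11)
    {g : G} (hg : g ∈ I.K) : g * inQ Q W.u * g⁻¹ ≠ inQ Q W.t * inQ Q W.u := by
  intro e
  haveI : Fact (Nat.Prime 2) := ⟨Nat.prime_two⟩
  set A := AG hS F X
  obtain ⟨⟨htA, huA⟩, -⟩ := W.mem_AG hS X
  obtain ⟨hel, hcA, -⟩ := AG_facts hS F X
  obtain ⟨htt, -, -⟩ := W.sq hS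
  have hTT : inQ Q W.t * inQ Q W.t = 1 := by rw [← map_mul, htt, map_one]
  have hgT : g * inQ Q W.t * g⁻¹ = inQ Q W.t := by rw [W.mem_L.1 (I.le hg), mul_inv_cancel_right]
  have hAC : A ≤ W.C := fun a ha => (W.mem_C hS).2 ⟨d.comm a ha _ htA, d.comm a ha _ huA⟩
  set A' := A.map (MulAut.conj g).toMonoidHom
  have hAC' : A' ≤ W.C := by
    rintro _ ⟨a, ha, rfl⟩
    obtain ⟨h1, -⟩ := (W.mem_C hS).1 (hAC ha)
    have h3 : a * (inQ Q W.t * inQ Q W.u) = (inQ Q W.t * inQ Q W.u) * a :=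
      d.comm a ha _ (mul_mem htA huA)
    have hU : g * (inQ Q W.t * inQ Q W.u) * g⁻¹ = inQ Q W.u := by
      rw [← conj_mul, hgT, e, ← mul_assoc, hTT, one_mul]
    refine (W.mem_C hS).2 ⟨?_, ?_⟩
    · show g * a * g⁻¹ * inQ Q W.t = inQ Q W.t * (g * a * g⁻¹)
      rw [← hgT, conj_mul, conj_mul, h1]
    · show g * a * g⁻¹ * inQ Q W.u = inQ Q W.u * (g * a * g⁻¹)
      rw [← hU, conj_mul, conj_mul, h3]
  have hel' : Cfsg.IsElementaryAbelian 2 A' := by
    refine ⟨⟨⟨fun a b => Subtype.ext ?_⟩⟩, ?_⟩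
    · obtain ⟨u, hu, eu⟩ := a.2
      obtain ⟨v, hv, ev⟩ := b.2
      show (a : G) * (b : G) = (b : G) * (a : G)
      rw [← eu, ← ev, ← map_mul, ← map_mul, d.comm u hu v hv]
    · rintro _ ⟨u, hu, rfl⟩
      rw [← map_pow, hel.2 u hu, map_one]
  have hcA' : Nat.card A' = 2 ^ 11 := by
    rw [Subgroup.card_map_of_injective (MulAut.conj g).injective, hcA]
  have toSyl : ∀ B : Subgroup G, B ≤ W.C → Nat.card B = 2 ^ 11 →
      ∃ P : Sylow 2 W.C, B.subgroupOf W.C ≤ P := fun B hB hc =>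
    (IsPGroup.of_card (n := 11) (by
      rw [Nat.card_congr (Subgroup.subgroupOfEquivOfLe hB).toEquiv, hc])).exists_le_sylow
  obtain ⟨P, hP⟩ := toSyl A hAC hcA
  obtain ⟨P', hP'⟩ := toSyl A' hAC' hcA'
  obtain ⟨c, hc⟩ := MulAction.exists_smul_eq W.C P' P
  obtain ⟨T, hT⟩ := ((P.isPGroup').map W.C.subtype).exists_le_sylow
  have hAT : A ≤ (T : Subgroup G) := fun a ha =>
    hT ⟨⟨a, hAC ha⟩, hP (Subgroup.mem_subgroupOf.2 ha), rfl⟩
  set A'' := A'.map (MulAut.conj (c : G)).toMonoidHom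
  have hAT' : A'' ≤ (T : Subgroup G) := by
    rintro _ ⟨a, ha, rfl⟩
    refine hT ⟨c * ⟨a, hAC' ha⟩ * c⁻¹, ?_, rfl⟩
    rw [← hc]
    exact ⟨⟨a, hAC' ha⟩, hP' (Subgroup.mem_subgroupOf.2 ha), rfl⟩
  have hel'' : Cfsg.IsElementaryAbelian 2 A'' := by
    refine ⟨⟨⟨fun a b => Subtype.ext ?_⟩⟩, ?_⟩
    · obtain ⟨u, hu, eu⟩ := a.2
      obtain ⟨v, hv, ev⟩ := b.2
      show (a : G) * (b : G) = (b : G) * (a : G)
      rw [← eu, ← ev, ← map_mul, ← map_mul]
      exact congrArg _ (congrArg Subtype.val (hel'.1.1.comm (⟨u, hu⟩ : A') ⟨v, hv⟩))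
    · rintro _ ⟨u, hu, rfl⟩
      rw [← map_pow, hel'.2 u hu, map_one]
  have heq : A'' = A :=
    (eq_thompson (hJ T).1 (hJ T).2 hAT' hel'' (by
      rw [Subgroup.card_map_of_injective (MulAut.conj (c : G)).injective, hcA'])).trans
      (eq_thompson (hJ T).1 (hJ T).2 hAT hel hcA).symm
  have hcC := (W.mem_C hS).1 c.2
  refine I.not_swap_NK hS X d (g := (c : G) * g) ⟨Subgroup.mem_normalizer_fintype fun a ha => ?_,
    mul_mem (I.hC c.2) hg⟩ ?_
  · show (c : G) * g * a * ((c : G) * g)⁻¹ ∈ A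
    rw [← heq]
    exact ⟨g * a * g⁻¹, ⟨a, ha, rfl⟩, by show (c : G) * (g * a * g⁻¹) * (c : G)⁻¹ = _; group⟩
  · calc (c : G) * g * inQ Q W.u * ((c : G) * g)⁻¹ = (c : G) * (g * inQ Q W.u * g⁻¹) * (c : G)⁻¹ := by group
      _ = _ := by rw [e, ← mul_assoc, hcC.1, mul_assoc _ (c : G), hcC.2, ← mul_assoc, mul_inv_cancel_right]

end Inner

end Cfsg.Agent.LargeExtra.Fischer
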