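import Cfsg.Agent.Lib.LargeExtra.Fischer.Line
import Cfsg.Agent.Lib.LargeExtra.Fischer.GLThree
import Cfsg.Agent.Lib.LargeExtra.Fischer.Elementary
import Cfsg.Agent.Lib.CharP.Sylow
import Cfsg.Agent.Lib.Coprime.PGroup

/-!
The normalizer of the group of order eight: its largest normal 2-subgroup and the quotient.
-/

set_option autoImplicit false

namespace Cfsg.Agent.LargeExtra.Fischer

open Cfsg.Agent.InvChar.Coset
open Cfsg.Agent.Components.UnitarySix
open Cfsg.Agent.MonsterOrbits (bigQ mem_bigQ ctr_bigQ mem_center_iff')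
open Cfsg.Agent.LargeExtra (Pair)
open scoped commutatorElement

set_option maxRecDepth 100000 in
theorem T_faithful : ∀ b : Fin 4 → Bool,
    (∀ y : V, H y fv = 0 → H y y = 0 → H y (cOf b) = 0) → cOf b = 0 := by decide +kernel

set_option maxRecDepth 100000 in
theorem orth_line_list : ∀ v : V, (∀ j : Fin 6, j ≠ 0 →
    trH v (e 0 + e j) = 0 ∧ trH v (FF.w • (e 0 + e j)) = 0) → ∃ l : FF, v = l • fv := by decide +kernel

theorem orth_singular : ∀ j : Fin 6, j ≠ 0 → (H (e 0 + e j : V) fv = 0 ∧ H (e 0 + e j : V) (e 0 + e j) = 0) ∧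
    H (FF.w • (e 0 + e j) : V) fv = 0 ∧ H (FF.w • (e 0 + e j) : V) (FF.w • (e 0 + e j)) = 0 := by decide +kernel

theorem orth_line (v : V) (h : ∀ y : V, H y fv = 0 → H y y = 0 → trH v y = 0) : ∃ l : FF, v = l • fv :=
  orth_line_list v fun j hj => ⟨h _ (orth_singular j hj).1.1 (orth_singular j hj).1.2,
    h _ (orth_singular j hj).2.1 (orth_singular j hj).2.2⟩

theorem w_facts : H (FF.w • fv) (FF.w • fv) = 0 ∧ (FF.w + FF.w2 : FF) = 1 := by decide +kernel

theorem not_two_group_A6 : ∀ P : Subgroup (alternatingGroup (Fin 6)), P.Normal → IsPGroup 2 P → P = ⊥ := by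
  intro P hn h2
  haveI := alternatingGroup.isSimpleGroup (α := Fin 6) (by simp)
  haveI : Fact (Nat.Prime 2) := ⟨Nat.prime_two⟩
  refine (IsSimpleGroup.eq_bot_or_eq_top_of_normal P hn).resolve_right fun h => ?_
  obtain ⟨k, hk⟩ := h2 ⟨tA, h ▸ Subgroup.mem_top _⟩
  have hk' : tA ^ 2 ^ k = 1 := congrArg Subtype.val hk
  have h3 : tA ^ 3 = 1 := by rw [pow_succ, pow_two, three_facts.2]
  have hg := pow_gcd_eq_one.2 ⟨hk', h3⟩
  rw [Nat.Coprime.pow_left k (show Nat.Coprime 2 3 by norm_num), pow_one] at hg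
  exact absurd hg (by decide +kernel)

theorem not_two_group_of_simple {P : Type*} [Group P] [IsSimpleGroup P] {p : P} (hp : p * p * p = 1) (hp1 : p ≠ 1)
    {N : Subgroup P} (hn : N.Normal) (h2 : IsPGroup 2 N) : N = ⊥ := by
  refine (IsSimpleGroup.eq_bot_or_eq_top_of_normal N hn).resolve_right fun h => hp1 ?_
  obtain ⟨k, hk⟩ := h2 ⟨p, h ▸ Subgroup.mem_top _⟩
  have hk' : p ^ 2 ^ k = 1 := congrArg Subtype.val hk
  have h3 : p ^ 3 = 1 := by rw [pow_succ, pow_two, hp]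
  have hg := pow_gcd_eq_one.2 ⟨hk', h3⟩
  rwa [Nat.Coprime.pow_left k (show Nat.Coprime 2 3 by norm_num), pow_one] at hg

/-- A permutation matrix of order three. -/
def p3 : Matrix.SpecialLinearGroup (Fin 3) (ZMod 2) := ⟨!![0, 1, 0; 0, 0, 1; 1, 0, 0], by decide⟩

theorem p3_facts : p3 * p3 * p3 = 1 ∧ p3 ≠ 1 := by decide +kernel

variable {G : Type*} [Group G] [Finite G] {z : G} {Q : Subgroup (Cz z)} [Q.Normal] {M : Subgroup (Cz z)}
variable {F : Frame z Q M} {g : G} {a : Q}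

namespace StdPair

variable (P : StdPair F g a)
include P

theorem a_mem_bigQ : g * z * g⁻¹ ∈ bigQ Q := P.hgQ

/-- A member above the vector `w`. -/
theorem exists_b : ∃ b : Q, F.φ b = FF.w • fv ∧ ((b : Cz z) : G) ∈ Vg F ∧
    ((b : Cz z) : G) ∉ Subgroup.closure ({z, g * z * g⁻¹} : Set G) := by
  obtain ⟨b, hb⟩ := F.surj (FF.w • fv)
  refine ⟨b, hb, (mem_Vg F).2 ⟨b, ⟨_, hb⟩, rfl⟩, fun h => ?_⟩
  let C : Subgroup G :=
    { carrier := {x | ∃ r : Q, (F.φ r = 0 ∨ F.φ r = fv) ∧ ((r : Cz z) : G) = x}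
      one_mem' := ⟨1, Or.inl F.φ_one, rfl⟩
      mul_mem' := by
        rintro _ _ ⟨r, hr, rfl⟩ ⟨s, hs, rfl⟩
        refine ⟨r * s, ?_, rfl⟩
        rw [F.φ_mul]
        rcases hr with e | e <;> rcases hs with e' | e' <;> rw [e, e'] <;>
          simp [V_add_self]
      inv_mem' := by
        rintro _ ⟨r, hr, rfl⟩
        refine ⟨r⁻¹, ?_, rfl⟩
        have h1 : F.φ r⁻¹ + F.φ r = 0 := by rw [← F.φ_mul, inv_mul_cancel, F.φ_one]
        rw [show F.φ r⁻¹ = F.φ r from by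
          calc F.φ r⁻¹ = F.φ r⁻¹ + (F.φ r + F.φ r) := by rw [V_add_self, add_zero]
            _ = F.φ r := by rw [← add_assoc, h1, zero_add]]
        exact hr }
  have hle : Subgroup.closure ({z, g * z * g⁻¹} : Set G) ≤ C := by
    rw [Subgroup.closure_le]
    rintro x (rfl | rfl)
    · obtain ⟨hz, hzQ⟩ := P.z_mem_Cz
      exact ⟨⟨⟨_, hz⟩, hzQ hz⟩, Or.inl ((F.zero _).2 ((mem_center_iff' P.hS).2 (Or.inr rfl))), rfl⟩
    · exact ⟨a, Or.inr P.hv, P.ha⟩
  obtain ⟨r, hr, e⟩ := hle h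
  have : r = b := Subtype.ext (Subtype.ext e)
  subst this
  rcases hr with e | e <;> rw [hb] at e
  · exact line_facts.2.2.1 e
  · exact line_facts.2.2.2.2.1 e

/-- An element fixing both involutions and multiplying the third member by the central one. -/
theorem exists_move_b : ∃ q ∈ bigQ Q, q ∈ Subgroup.normalizer (Vg F : Set G) ∧ q * z = z * q ∧
    q * (g * z * g⁻¹) = g * z * g⁻¹ * q ∧ ∀ x ∈ Vg F, x ∉ Subgroup.closure ({z, g * z * g⁻¹} : Set G) →
      q * x * q⁻¹ = x * z := by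
  obtain ⟨q, hq⟩ := F.surj y3
  obtain ⟨h0, h1, h2⟩ := y_facts.2
  obtain ⟨b, hb, -, -⟩ := P.exists_b
  have hqa := (P.conj_by_trace (q := q) (d := a) (by rw [hq]; exact h0) (by rw [P.hv]; simpa using line_facts.1 1)).1
    (by rw [hq, P.hv]; exact h1)
  rw [P.ha] at hqa
  refine ⟨((q : Cz z) : G), mem_bigQ.2 ⟨(q : Cz z).property, q.property⟩,
    mem_normalizer_of_line (j := 1) (by rw [(F.ker _).2 q.2, one_smul]; rfl),
    Subgroup.mem_centralizer_singleton_iff.1 (q : Cz z).property, hqa, fun x hx hxn => ?_⟩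
  obtain ⟨r, ⟨l, hl⟩, rfl⟩ := (mem_Vg F).1 hx
  have hl01 : l ≠ 0 ∧ l ≠ 1 := by
    constructor <;> rintro rfl
    · rw [zero_smul] at hl
      refine hxn ?_
      rcases P.eq_z_of_zero hl with e | e <;> rw [e]
      · exact one_mem _
      · exact Subgroup.subset_closure (by simp)
    · rw [one_smul, ← P.hv] at hl
      refine hxn ?_
      rcases P.eqz hl with e | e <;> rw [e, P.ha]
      · exact Subgroup.subset_closure (by simp)
      · exact mul_mem (Subgroup.subset_closure (by simp)) (Subgroup.subset_closure (by simp))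
  refine (P.conj_by_trace (q := q) (d := r) (by rw [hq]; exact h0) (by rw [hl]; exact line_facts.1 l)).2 ?_
  rw [hq, hl]
  revert hl01
  clear hl
  revert l
  decide +kernel

/-- All automorphisms are induced. -/
theorem induced_all (α : MulAut (Vg F)) : ∃ l ∈ Subgroup.normalizer (Vg F : Set G),
    ∀ x : Vg F, l * (x : G) * l⁻¹ = (α x : G) := by
  classical
  obtain ⟨h, h1, h2, hV, -⟩ := P.exists_swap_elt
  have hhN : h ∈ Subgroup.normalizer (Vg F : Set G) := Subgroup.mem_normalizer_iff.2 hV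
  have hne : g * z * g⁻¹ ≠ 1 := fun e => (ctr_bigQ P.hS).ne_one (by simpa using e)
  have hz1 : z ≠ 1 := (ctr_bigQ P.hS).ne_one
  obtain ⟨b, hb, hbV, hbn⟩ := P.exists_b
  let zV : Vg F := ⟨z, P.z_mem_Vg⟩
  let aV : Vg F := ⟨_, P.a_mem_Vg⟩
  let bV : Vg F := ⟨_, hbV⟩
  -- the first involution
  obtain ⟨l1, hl1, e1⟩ : ∃ l ∈ Subgroup.normalizer (Vg F : Set G), l * z * l⁻¹ = (α zV : G) := by
    have hne1 : (α zV : G) ≠ 1 := fun e => hz1 (congrArg Subtype.val (α.map_eq_one_iff.1 (Subtype.ext e) : zV = 1))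
    by_cases hzz : (α zV : G) = z
    · exact ⟨1, one_mem _, by rw [hzz]; simp⟩
    obtain ⟨c, hc, hce⟩ := P.orbit (α zV).2 hne1 hzz
    refine ⟨(c : G) * h, mul_mem hc hhN, ?_⟩
    rw [← hce, ← h1]; group
  have hin : ∀ {l : G}, l ∈ Subgroup.normalizer (Vg F : Set G) → ∀ x ∈ Vg F, l⁻¹ * x * l ∈ Vg F := fun {l} hl x hx => by
    have := (Subgroup.mem_normalizer_iff.1 (inv_mem hl) x).1 hx
    simpa using this
  -- the second
  obtain ⟨l2, hl2, hl2z, e2⟩ : ∃ l ∈ Subgroup.normalizer (Vg F : Set G), l * z * l⁻¹ = z ∧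
      l * (g * z * g⁻¹) * l⁻¹ = l1⁻¹ * (α aV : G) * l1 := by
    obtain ⟨c, hc, hce⟩ := P.orbit (hin hl1 _ (α aV).2)
      (fun e => by
        have : (α aV : G) = 1 := by
          calc (α aV : G) = l1 * (l1⁻¹ * (α aV : G) * l1) * l1⁻¹ := by group
            _ = 1 := by rw [e]; group
        exact hne (congrArg Subtype.val (α.map_eq_one_iff.1 (Subtype.ext this) : aV = 1)))
      (fun e => by
        have : (α aV : G) = (α zV : G) := by
          rw [← e1]
          calc (α aV : G) = l1 * (l1⁻¹ * (α aV : G) * l1) * l1⁻¹ := by group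
            _ = _ := by rw [e]
        exact P.hgz (congrArg Subtype.val (α.injective (Subtype.ext this) : aV = zV)))
    exact ⟨c, hc, by rw [Subgroup.mem_centralizer_singleton_iff.1 c.2, mul_inv_cancel_right], hce⟩
  set l12 := l1 * l2 with hl12
  have hl12N : l12 ∈ Subgroup.normalizer (Vg F : Set G) := mul_mem hl1 hl2
  have ez : l12 * z * l12⁻¹ = (α zV : G) := by
    rw [← e1, hl12]
    calc l1 * l2 * z * (l1 * l2)⁻¹ = l1 * (l2 * z * l2⁻¹) * l1⁻¹ := by group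
      _ = _ := by rw [hl2z]
  have ea : l12 * (g * z * g⁻¹) * l12⁻¹ = (α aV : G) := by
    rw [hl12]
    calc l1 * l2 * (g * z * g⁻¹) * (l1 * l2)⁻¹ = l1 * (l2 * (g * z * g⁻¹) * l2⁻¹) * l1⁻¹ := by group
      _ = _ := by rw [e2]; group
  -- the third
  set b' := l12⁻¹ * (α bV : G) * l12 with hb'
  have hb'n : b' ∉ Subgroup.closure ({z, g * z * g⁻¹} : Set G) := by
    intro hmem
    have hback : α bV ∈ (Subgroup.closure ({zV, aV} : Set (Vg F))).map (α : Vg F →* Vg F) := by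
      rw [MonoidHom.map_closure, Set.image_pair]
      have h' : ((α bV : Vg F) : G) ∈ (Subgroup.closure ({α zV, α aV} : Set (Vg F))).map (Vg F).subtype := by
        rw [MonoidHom.map_closure, Set.image_pair]
        show (α bV : G) ∈ Subgroup.closure ({(α zV : G), (α aV : G)} : Set G)
        have e : (α bV : G) = l12 * b' * l12⁻¹ := by rw [hb']; group
        have hc : l12 * b' * l12⁻¹ ∈ (Subgroup.closure ({z, g * z * g⁻¹} : Set G)).map (MulAut.conj l12).toMonoidHom :=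
          ⟨b', hmem, rfl⟩
        rw [MonoidHom.map_closure, Set.image_pair] at hc
        rw [e, ← ez, ← ea]
        exact hc
      obtain ⟨y, hy, e⟩ := h'
      exact (Subtype.ext e : y = α bV) ▸ hy
    obtain ⟨y, hy, e⟩ := hback
    obtain rfl : y = bV := α.injective e
    refine hbn ?_
    have h' : (bV : G) ∈ (Subgroup.closure ({zV, aV} : Set (Vg F))).map (Vg F).subtype := ⟨bV, hy, rfl⟩
    rwa [MonoidHom.map_closure, Set.image_pair] at h'
  obtain ⟨q, hqQ, hqN, hqz, hqa, hqb⟩ := P.exists_move_b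
  set qh := h * q * h⁻¹ with hqh
  have hqhN : qh ∈ Subgroup.normalizer (Vg F : Set G) := mul_mem (mul_mem hhN hqN) (inv_mem hhN)
  have hqhz : qh * z = z * qh := by
    rw [hqh, ← h2]
    calc h * q * h⁻¹ * (h * (g * z * g⁻¹) * h⁻¹) = h * (q * (g * z * g⁻¹)) * h⁻¹ := by group
      _ = _ := by rw [hqa]; group
  have hqha : qh * (g * z * g⁻¹) = g * z * g⁻¹ * qh := by
    rw [hqh, ← h1]
    calc h * q * h⁻¹ * (h * z * h⁻¹) = h * (q * z) * h⁻¹ := by group
      _ = _ := by rw [hqz]; group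
  have hqhb : qh * ((b : Cz z) : G) * qh⁻¹ = ((b : Cz z) : G) * (g * z * g⁻¹) := by
    have hn : h⁻¹ * ((b : Cz z) : G) * h ∉ Subgroup.closure ({z, g * z * g⁻¹} : Set G) := fun hm => hbn (by
      have hc : h * (h⁻¹ * ((b : Cz z) : G) * h) * h⁻¹ ∈
          (Subgroup.closure ({z, g * z * g⁻¹} : Set G)).map (MulAut.conj h).toMonoidHom := ⟨_, hm, rfl⟩
      rw [MonoidHom.map_closure, Set.image_pair, show h * (h⁻¹ * ((b : Cz z) : G) * h) * h⁻¹ = ((b : Cz z) : G) by group] at hc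
      rwa [show (MulAut.conj h).toMonoidHom z = g * z * g⁻¹ from h1,
        show (MulAut.conj h).toMonoidHom (g * z * g⁻¹) = z from h2, Set.pair_comm] at hc)
    have e := hqb _ (hin hhN _ hbV) hn
    calc qh * ((b : Cz z) : G) * qh⁻¹ = h * (q * (h⁻¹ * ((b : Cz z) : G) * h) * q⁻¹) * h⁻¹ := by rw [hqh]; group
      _ = ((b : Cz z) : G) * (h * z * h⁻¹) := by rw [e]; group
      _ = _ := by rw [h1]
  obtain ⟨l3, hl3, hl3z, hl3a, e3⟩ : ∃ l ∈ Subgroup.normalizer (Vg F : Set G), l * z = z * l ∧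
      l * (g * z * g⁻¹) = g * z * g⁻¹ * l ∧ l * ((b : Cz z) : G) * l⁻¹ = b' := by
    obtain ⟨r, ⟨j, hj⟩, hr⟩ := (mem_Vg F).1 (hin hl12N _ (α bV).2)
    change ((r : Cz z) : G) = b' at hr
    have hnj : j = FF.w ∨ j = FF.w2 := by
      rcases (show ∀ a : FF, a = 0 ∨ a = 1 ∨ a = FF.w ∨ a = FF.w2 by decide) j with e | e | e | e
      · exfalso
        rw [e, zero_smul] at hj
        refine hb'n ?_
        rw [← hr]
        rcases P.eq_z_of_zero hj with e' | e' <;> rw [e']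
        · exact one_mem _
        · exact Subgroup.subset_closure (by simp)
      · exfalso
        rw [e, one_smul, ← P.hv] at hj
        refine hb'n ?_
        rw [← hr]
        rcases P.eqz hj with e' | e' <;> rw [e', P.ha]
        · exact Subgroup.subset_closure (by simp)
        · exact mul_mem (Subgroup.subset_closure (by simp)) (Subgroup.subset_closure (by simp))
      · exact Or.inl e
      · exact Or.inr e
    have hqb0 := hqb _ hbV hbn
    have hqhqb : q * qh * ((b : Cz z) : G) * (q * qh)⁻¹ = ((b : Cz z) : G) * (g * z * g⁻¹) * z := by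
      calc q * qh * ((b : Cz z) : G) * (q * qh)⁻¹ = q * (qh * ((b : Cz z) : G) * qh⁻¹) * q⁻¹ := by group
        _ = (q * ((b : Cz z) : G) * q⁻¹) * (q * (g * z * g⁻¹) * q⁻¹) := by rw [hqhb]; group
        _ = ((b : Cz z) : G) * z * (g * z * g⁻¹) := by rw [hqb0, hqa, mul_inv_cancel_right]
        _ = _ := by rw [mul_assoc, P.Vg_comm z P.z_mem_Vg _ P.a_mem_Vg, ← mul_assoc]
    rcases hnj with rfl | rfl
    · rcases P.eqz (hj.trans hb.symm) with e | e <;> rw [hr] at e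
      · exact ⟨1, one_mem _, by simp, by simp, by rw [e]; simp⟩
      · exact ⟨q, hqN, hqz, hqa, by rw [hqb0, e]⟩
    · have hab : F.φ r = F.φ (b * a) := by
        rw [hj, F.φ_mul, hb, P.hv, show (FF.w2 : FF) = FF.w + 1 from by decide, add_smul, one_smul]
      rcases P.eqz hab with e | e <;> rw [hr] at e <;> simp only [Subgroup.coe_mul, P.ha] at e
      · exact ⟨qh, hqhN, hqhz, hqha, by rw [hqhb, e]⟩
      · refine ⟨q * qh, mul_mem hqN hqhN, ?_, ?_, by rw [hqhqb, e]⟩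
        · rw [mul_assoc, hqhz, ← mul_assoc, hqz, mul_assoc]
        · rw [mul_assoc, hqha, ← mul_assoc, hqa, mul_assoc]
  refine ⟨l12 * l3, mul_mem hl12N hl3, fun x => ?_⟩
  have hset : ∀ y ∈ ({z, g * z * g⁻¹, ((b : Cz z) : G)} : Set G), ∀ hy : y ∈ Vg F,
      l12 * l3 * y * (l12 * l3)⁻¹ = (α ⟨y, hy⟩ : G) := by
    rintro y (rfl | rfl | rfl) hy
    · rw [← ez]
      calc l12 * l3 * y * (l12 * l3)⁻¹ = l12 * (l3 * y) * l3⁻¹ * l12⁻¹ := by group
        _ = _ := by rw [hl3z]; group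
    · rw [← ea]
      calc l12 * l3 * (g * z * g⁻¹) * (l12 * l3)⁻¹ = l12 * (l3 * (g * z * g⁻¹)) * l3⁻¹ * l12⁻¹ := by group
        _ = _ := by rw [hl3a]; group
    · calc l12 * l3 * ((b : Cz z) : G) * (l12 * l3)⁻¹ = l12 * (l3 * ((b : Cz z) : G) * l3⁻¹) * l12⁻¹ := by group
        _ = _ := by rw [e3, hb']; group; rfl
  have hle : Subgroup.closure ({z, g * z * g⁻¹, ((b : Cz z) : G)} : Set G) ≤ Vg F := by
    rw [Subgroup.closure_le]
    rintro y (rfl | rfl | rfl)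
    exacts [P.z_mem_Vg, P.a_mem_Vg, hbV]
  suffices ∀ y, ∀ hy : y ∈ Subgroup.closure ({z, g * z * g⁻¹, ((b : Cz z) : G)} : Set G),
      l12 * l3 * y * (l12 * l3)⁻¹ = (α ⟨y, hle hy⟩ : G) from this x (P.Vg_cases hb x.2)
  intro y hy
  induction hy using Subgroup.closure_induction with
  | mem y hy => exact hset y hy _
  | one =>
    rw [show (⟨1, _⟩ : Vg F) = 1 from rfl, map_one]
    simp
  | mul y y' hy hy' ih ih' =>
    rw [show (⟨y * y', _⟩ : Vg F) = ⟨y, hle hy⟩ * ⟨y', hle hy'⟩ from rfl, map_mul, Subgroup.coe_mul, ← ih, ← ih']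
    group
  | inv y hy ih =>
    rw [show (⟨y⁻¹, _⟩ : Vg F) = ⟨y, hle hy⟩⁻¹ from rfl, map_inv, Subgroup.coe_inv, ← ih]
    group

/-! ### The centralizer -/

/-- The centralizer lies in the centralizer of the central involution. -/
theorem cent_le {x : G} (hx : x ∈ Subgroup.centralizer (Vg F : Set G)) : x ∈ Cz z :=
  Subgroup.mem_centralizer_singleton_iff.2 ((Subgroup.mem_centralizer_iff.1 hx z P.z_mem_Vg).symm)

theorem fix_line {c : Cz z} (hx : (c : G) ∈ Subgroup.centralizer (Vg F : Set G)) (l : FF) :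
    F.act c (l • fv) = l • fv := by
  obtain ⟨q, hq⟩ := F.surj (l • fv)
  rw [← hq, ← F.conj]
  congr 1
  refine Subtype.ext ((MulAut.conjNormal_apply _ _).trans (Subtype.ext ?_))
  show (c : G) * ((q : Cz z) : G) * (c : G)⁻¹ = ((q : Cz z) : G)
  rw [← Subgroup.mem_centralizer_iff.1 hx _ ((mem_Vg F).2 ⟨q, ⟨l, hq⟩, rfl⟩), mul_inv_cancel_right]

theorem cent_M {c : Cz z} (hx : (c : G) ∈ Subgroup.centralizer (Vg F : Set G)) :
    c ∈ M ∧ ∃ t ∈ T, ∃ σ, ∀ v, F.act c v = (t * altK σ) • v := by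
  have hanti := antilinear P.hS F (g := g) (a := a) P.hgQ P.hgz P.ha (c := c)
  have hM : c ∈ M := by
    by_contra hc
    have h1 := hanti hc fv
    rw [P.fix_line hx FF.w, show F.act c fv = fv by simpa using P.fix_line hx 1] at h1
    exact line_facts.2.2.2.2.2.1 h1
  refine ⟨hM, ?_⟩
  obtain ⟨k, hk, e⟩ := F.mem_M c hM
  obtain ⟨t, ht, σ, rfl⟩ := StabK_fv_eq (x := k) ⟨hk, by
    show k • fv = fv
    rw [← e]; simpa using P.fix_line hx 1⟩
  exact ⟨t, ht, σ, e⟩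

/-- The part above the elementary group of order sixteen. -/
def Rg : Subgroup G where
  carrier := {x | x ∈ Subgroup.centralizer (Vg F : Set G) ∧ ∃ hx : x ∈ Cz z, ∃ t ∈ T, ∀ v, F.act ⟨x, hx⟩ v = t • v}
  one_mem' := ⟨one_mem _, one_mem _, 1, one_mem _, fun v => by
    rw [show (⟨1, one_mem (Cz z)⟩ : Cz z) = 1 from rfl, map_one, one_smul]; rfl⟩
  mul_mem' := by
    rintro x y ⟨hx, hxC, t, ht, e⟩ ⟨hy, hyC, t', ht', e'⟩
    refine ⟨mul_mem hx hy, mul_mem hxC hyC, t * t', mul_mem ht ht', fun v => ?_⟩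
    rw [show (⟨x * y, mul_mem hxC hyC⟩ : Cz z) = ⟨x, hxC⟩ * ⟨y, hyC⟩ from rfl, F.act_mul_smul e e']
  inv_mem' := by
    rintro x ⟨hx, hxC, t, ht, e⟩
    refine ⟨inv_mem hx, inv_mem hxC, t⁻¹, inv_mem ht, fun v => ?_⟩
    rw [show (⟨x⁻¹, inv_mem hxC⟩ : Cz z) = ⟨x, hxC⟩⁻¹ from rfl, map_inv]
    exact (F.act _).symm_apply_eq.2 (by rw [e, smul_inv_smul])

omit P in
theorem Rg_le : Rg (F := F) ≤ Subgroup.centralizer (Vg F : Set G) := fun _ h => h.1

/-- Lifts of the elementary group inside the other extraspecial group. -/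
theorem exists_other_lift {t : S} (ht : t ∈ T) : ∃ u : G, u ∈ (bigQ Q).map (MulAut.conj g).toMonoidHom ∧
    u ∈ Rg (F := F) ∧ ∃ hu : u ∈ Cz z, ∀ v, F.act ⟨u, hu⟩ v = t • v := by
  obtain ⟨u, hu, he⟩ := exists_T_elt P.hS F P.hgQ P.hgz P.ha P.hv ht
  refine ⟨u, hu, ⟨?_, u.2, t, ht, he⟩, u.2, he⟩
  rw [Subgroup.mem_centralizer_iff]
  intro x hx
  obtain ⟨q, ⟨l, hl⟩, rfl⟩ := (mem_Vg F).1 hx
  have hPp := Pair.mk' (ctr_bigQ P.hS) P.hgQ P.hgz
  have hphi : F.φ (MulAut.conjNormal u q) = F.φ q := by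
    rw [F.conj, he, hl, smul_smulV, ht.1.1]
  have h1 := P.eqz hphi
  rw [MulAut.conjNormal_apply, Subgroup.coe_mul, Subgroup.coe_mul, Subgroup.coe_inv] at h1
  rcases h1 with e | e
  · exact (mul_inv_eq_iff_eq_mul.1 e).symm
  rcases hPp.h'.comm_cases hu (P.Vg_le_other hx) with e' | e' <;> rw [commutatorElement_def] at e'
  · exact (mul_inv_eq_iff_eq_mul.1 (mul_inv_eq_one.1 e')).symm
  · exfalso
    rw [e, P.Vg_comm _ ((mem_Vg F).2 ⟨q, ⟨l, hl⟩, rfl⟩) z P.z_mem_Vg, mul_inv_cancel_right] at e'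
    exact P.hgz e'.symm

/-- The part in the extraspecial group. -/
theorem mem_R_inf {x : G} : x ∈ Rg (F := F) ⊓ bigQ Q ↔ x ∈ bigQ Q ∧ x ∈ Subgroup.centralizer (Vg F : Set G) := by
  refine ⟨fun h => ⟨h.2, h.1.1⟩, fun ⟨hQ, hc⟩ => ⟨⟨hc, ?_⟩, hQ⟩⟩
  obtain ⟨hx, hxQ⟩ := mem_bigQ.1 hQ
  exact ⟨hx, 1, one_mem _, fun v => by rw [(F.ker _).2 hxQ, one_smul]; rfl⟩

theorem card_lineQ : Nat.card (lineQ F) = 8 ∧ Nat.card (Vg F) = 8 := by
  have h : Nat.card (lineQ F) = 8 := by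
    obtain ⟨-, -, hE, -, -⟩ := id P.hS
    let p : V → Prop := fun v => ∃ l : FF, v = l • fv
    have hle : lineQ F ≤ Q := fun _ h => h.1
    have hp : Nat.card {v : V // p v} = 4 := by
      rw [← Nat.card_congr (Equiv.ofBijective (fun l : FF => (⟨l • fv, l, rfl⟩ : {v : V // p v}))
        ⟨fun l m e => by
          have h0 := congrFun (congrArg Subtype.val e) 0
          simpa [fv] using h0, fun ⟨v, l, e⟩ => ⟨l, Subtype.ext e.symm⟩⟩), Nat.card_eq_fintype_card]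
      rfl
    let f : lineQ F →* Multiplicative V :=
      MonoidHom.mk' (fun b => Multiplicative.ofAdd (F.φ ⟨b, hle b.2⟩)) fun a b => by
        rw [← ofAdd_add, ← F.φ_mul]; rfl
    have h0 := Subgroup.card_mul_index f.ker
    rw [Subgroup.index_ker] at h0
    have hk : Nat.card f.ker = 2 := by
      rw [← hE.2]
      exact Nat.card_congr
        { toFun := fun b => ⟨⟨b.1.1, hle b.1.2⟩, (F.zero _).1 (Multiplicative.ofAdd.injective (MonoidHom.mem_ker.1 b.2))⟩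
          invFun := fun q => ⟨⟨q.1.1, q.1.2, 0, by rw [zero_smul]; exact (F.zero q.1).2 q.2⟩,
            MonoidHom.mem_ker.2 (by
              show Multiplicative.ofAdd (F.φ q.1) = 1
              rw [(F.zero q.1).2 q.2]; rfl)⟩
          left_inv := fun _ => rfl
          right_inv := fun _ => rfl }
    have hr : Nat.card f.range = Nat.card {v : V // p v} := Nat.card_congr
      { toFun := fun w => ⟨w.1.toAdd, by obtain ⟨_, b, rfl⟩ := w; exact b.2.2⟩
        invFun := fun v => ⟨Multiplicative.ofAdd v.1, by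
          obtain ⟨_, l, rfl⟩ := v
          obtain ⟨q, hq⟩ := F.surj (l • fv)
          exact ⟨⟨q, q.2, l, hq⟩, congrArg Multiplicative.ofAdd hq⟩⟩
        left_inv := fun _ => rfl
        right_inv := fun _ => rfl }
    rw [← h0, hk, hr, hp]
  exact ⟨h, by rw [Vg, Subgroup.card_map_of_injective (Cz z).subtype_injective, h]⟩

theorem card_R_inf : Nat.card (Rg (F := F) ⊓ bigQ Q : Subgroup G) = 2 ^ 11 := by
  obtain ⟨-, -, hE, hcard, -⟩ := id P.hS
  haveI : Fact (Nat.Prime 2) := ⟨Nat.prime_two⟩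
  have hle : lineQ F ≤ Q := fun _ h => h.1
  set X := (lineQ F).subgroupOf Q
  have hX : Subgroup.center Q ≤ X := fun q hq =>
    Subgroup.mem_subgroupOf.2 ⟨q.2, 0, by rw [zero_smul]; exact (F.zero q).2 hq⟩
  have h := Cfsg.Agent.PGroups.Extraspecial.card_mul_card_centralizer hE X hX
  rw [Nat.card_congr (Subgroup.subgroupOfEquivOfLe hle).toEquiv, P.card_lineQ.1, hcard] at h
  have e : Nat.card (Rg (F := F) ⊓ bigQ Q : Subgroup G) = Nat.card (Subgroup.centralizer (X : Set Q)) := by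
    symm
    refine Nat.card_congr
      { toFun := fun q => ⟨((q.1 : Cz z) : G), (P.mem_R_inf).2 ⟨mem_bigQ.2 ⟨_, q.1.2⟩, ?_⟩⟩
        invFun := fun x => ⟨⟨⟨x.1, (mem_bigQ.1 x.2.2).1⟩, (mem_bigQ.1 x.2.2).2⟩, ?_⟩
        left_inv := fun _ => rfl
        right_inv := fun _ => rfl }
    · rw [Subgroup.mem_centralizer_iff]
      rintro _ ⟨c, hc, rfl⟩
      exact congrArg (fun r : Q => ((r : Cz z) : G))
        (Subgroup.mem_centralizer_iff.1 q.2 ⟨c, hle hc⟩ (Subgroup.mem_subgroupOf.2 hc))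
    · rw [Subgroup.mem_centralizer_iff]
      intro r hr
      exact Subtype.ext (Subtype.ext (Subgroup.mem_centralizer_iff.1 x.2.1.1 _
        ⟨r.1, Subgroup.mem_subgroupOf.1 hr, rfl⟩))
  rw [e]
  norm_num at h ⊢
  exact Nat.eq_of_mul_eq_mul_left (by norm_num : 0 < 8) (h.trans (by norm_num))

theorem card_Rg : Nat.card (Rg (F := F)) = 2 ^ 15 := by
  let f : Rg (F := F) →* Cz z := MonoidHom.mk' (fun x => ⟨x.1, x.2.2.1⟩) fun _ _ => rfl
  have hf : Function.Injective f := fun x y e => Subtype.ext (congrArg (fun c : Cz z => (c : G)) e)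
  have h := card_split (Q := Q) f.range
  rw [Nat.card_congr (MonoidHom.ofInjective hf).toEquiv.symm] at h
  have h1 : Nat.card (f.range ⊓ Q : Subgroup (Cz z)) = 2 ^ 11 := by
    rw [← P.card_R_inf]
    refine Nat.card_congr
      { toFun := fun c => ⟨(c.1 : G), by
          obtain ⟨x, hx⟩ := c.2.1
          exact ⟨hx ▸ x.2, mem_bigQ.2 ⟨c.1.2, c.2.2⟩⟩⟩
        invFun := fun x => ⟨⟨x.1, x.2.1.2.1⟩, ⟨⟨x.1, x.2.1⟩, rfl⟩, (mem_bigQ.1 x.2.2).2⟩
        left_inv := fun _ => rfl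
        right_inv := fun _ => rfl }
  obtain ⟨L, hinj, -, hL⟩ := exists_lift F
  have h2 : Nat.card (f.range.map (QuotientGroup.mk' Q)) = 16 := by
    have hTK : T ≤ K0 := fun _ h => h.2
    have : f.range.map (QuotientGroup.mk' Q) = (T.subgroupOf K0).map L := by
      ext y
      constructor
      · rintro ⟨_, ⟨⟨x, hx, hxC, t, ht, e⟩, rfl⟩, rfl⟩
        exact ⟨⟨t, hTK ht⟩, ht, ((hL _ ⟨x, hxC⟩).2 e).symm⟩
      · rintro ⟨⟨t, htK⟩, ht, rfl⟩
        obtain ⟨u, -, huR, huC, he⟩ := P.exists_other_lift ht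
        exact ⟨⟨u, huC⟩, ⟨⟨u, huR⟩, rfl⟩, (hL ⟨t, htK⟩ _).2 he⟩
    rw [this, Subgroup.card_map_of_injective hinj, Nat.card_congr (Subgroup.subgroupOfEquivOfLe hTK).toEquiv, card_T]
  rw [h, h1, h2]
  norm_num

/-- The projection to the alternating group. -/
theorem exists_theta : ∃ θ : Subgroup.centralizer (Vg F : Set G) →* alternatingGroup (Fin 6),
    Function.Surjective θ ∧ ∀ x, θ x = 1 ↔ (x : G) ∈ Rg (F := F) := by
  classical
  choose hM t ht σ hσ using fun x : Subgroup.centralizer (Vg F : Set G) => P.cent_M (c := ⟨x, P.cent_le x.2⟩) x.2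
  let θ : Subgroup.centralizer (Vg F : Set G) →* alternatingGroup (Fin 6) := MonoidHom.mk' σ fun x y => by
    refine (tσ_unique (t := t (x * y)) (t' := t x * (altK (σ x) * t y * (altK (σ x))⁻¹)) (ht _)
      (mul_mem (ht x) (altK_conj_T _ (ht y))) (S_ext fun v => ?_)).2
    rw [← hσ (x * y), show (⟨((x * y : _) : G), P.cent_le (x * y).2⟩ : Cz z) =
      ⟨x, P.cent_le x.2⟩ * ⟨y, P.cent_le y.2⟩ from rfl, F.act_mul_smul (hσ x) (hσ y), map_mul]
    congr 1
    group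
  refine ⟨θ, ?_, fun x => ⟨fun h => ⟨x.2, P.cent_le x.2, t x, ht x, fun v => ?_⟩, ?_⟩⟩
  · rw [← MonoidHom.range_eq_top, eq_top_iff]
    have hall : (⊤ : Subgroup (alternatingGroup (Fin 6))).map (alternatingGroup (Fin 6)).subtype ≤
        θ.range.map (alternatingGroup (Fin 6)).subtype := by
      refine le_trans (le_of_eq ?_) ((Subgroup.closure_le _).2 (?_ : {s : Equiv.Perm (Fin 6) | s.IsThreeCycle} ⊆
        ↑(θ.range.map (alternatingGroup (Fin 6)).subtype)))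
      · rw [← MonoidHom.range_eq_map, Subgroup.range_subtype, Equiv.Perm.closure_three_cycles_eq_alternating]
      intro s hs
      have hs3 : s ^ 3 = 1 := hs.orderOf ▸ pow_orderOf_eq_one s
      set s' : alternatingGroup (Fin 6) := ⟨s, hs.mem_alternatingGroup⟩
      obtain ⟨y, n, hn, hyo, hya, hy⟩ := P.exists_three (σ := s') (Subtype.ext (by
        show s * s * s = 1
        rw [← hs3, pow_succ, pow_two]))
      have hyc : (y : G) ∈ Subgroup.centralizer (Vg F : Set G) := Subgroup.mem_centralizer_iff.2 fun x hx =>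
        (P.odd_centralizes (Subgroup.mem_centralizer_singleton_iff.1 y.2) hya hyo hx).symm
      have hθy : θ ⟨y, hyc⟩ = s' ^ n := (tσ_unique (t := t ⟨y, hyc⟩) (t' := 1) (ht _) (one_mem _) (S_ext fun v =>
        (hσ ⟨y, hyc⟩ v).symm.trans (by rw [one_mul]; exact hy v))).2
      exact ⟨s', ⟨⟨y, hyc⟩ ^ n, by rw [map_pow, hθy, hn]⟩, rfl⟩
    exact (Subgroup.map_le_map_iff_of_injective (Subgroup.subtype_injective _)).1 hall
  · refine (hσ x v).trans ?_
    rw [show σ x = 1 from h, map_one, mul_one]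
  · rintro ⟨-, hxC, t', ht', e⟩
    exact (tσ_unique (t' := t') (σ' := 1) (ht x) ht' (S_ext fun v => (hσ x v).symm.trans (by rw [map_one, mul_one]; exact e v))).2

theorem Rg_two : IsPGroup 2 (Rg (F := F)) := IsPGroup.of_card P.card_Rg

/-- The normalizer normalises that part. -/
theorem Rg_conj {l : G} (hl : l ∈ Subgroup.normalizer (Vg F : Set G)) {r : G} (hr : r ∈ Rg (F := F)) :
    l * r * l⁻¹ ∈ Rg (F := F) := by
  classical
  set C := Subgroup.centralizer (Vg F : Set G)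
  obtain ⟨θ, hθ, hker⟩ := P.exists_theta
  have hCn : ∀ l ∈ Subgroup.normalizer (Vg F : Set G), ∀ c ∈ C, l * c * l⁻¹ ∈ C := fun l hl c hc =>
    Subgroup.mem_centralizer_iff.2 fun x hx => by
      have hx' : l⁻¹ * x * l ∈ Vg F := by
        have := (Subgroup.mem_normalizer_iff.1 (inv_mem hl) x).1 hx
        simpa using this
      have e := Subgroup.mem_centralizer_iff.1 hc _ hx'
      calc x * (l * c * l⁻¹) = l * ((l⁻¹ * x * l) * c) * l⁻¹ := by group
        _ = _ := by rw [e]; group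
  let R' : Subgroup C := ((Rg (F := F)).map (MulAut.conj l).toMonoidHom).subgroupOf C
  haveI hn : R'.Normal := ⟨fun x hx c => by
    rw [Subgroup.mem_subgroupOf] at hx ⊢
    obtain ⟨r, hr, e⟩ := hx
    have hc' : l⁻¹ * (c : G) * l ∈ C := by simpa using hCn _ (inv_mem hl) _ c.2
    refine ⟨(l⁻¹ * (c : G) * l) * r * (l⁻¹ * (c : G) * l)⁻¹, ?_, ?_⟩
    · have h1 : θ ⟨r, hr.1⟩ = 1 := (hker _).2 hr
      exact (hker (⟨_, hc'⟩ * ⟨r, hr.1⟩ * (⟨_, hc'⟩)⁻¹ : C)).1 (by rw [map_mul, map_mul, h1, mul_one, map_inv, mul_inv_cancel])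
    · have e' : l * r * l⁻¹ = (x : G) := e
      show l * _ * l⁻¹ = (c : G) * x * (c : G)⁻¹
      rw [← e']; group⟩
  have h2 : IsPGroup 2 (R'.map θ) := ((P.Rg_two.map _).comap_subtype).map θ
  have h := not_two_group_A6 _ (Subgroup.Normal.map hn θ hθ) h2
  have hmem : θ ⟨l * r * l⁻¹, hCn l hl r hr.1⟩ ∈ R'.map θ := ⟨_, Subgroup.mem_subgroupOf.2 ⟨r, hr, rfl⟩, rfl⟩
  rw [h, Subgroup.mem_bot] at hmem
  exact (hker _).1 hmem

/-- Commutators with the part in the extraspecial group. -/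
theorem comm_inf {q r : G} (hq : q ∈ Rg (F := F) ⊓ bigQ Q) (hr : r ∈ Rg (F := F)) : r * q * r⁻¹ * q⁻¹ ∈ Vg F := by
  obtain ⟨hqC, hqQ⟩ := mem_bigQ.1 hq.2
  obtain ⟨-, hrC, t, ht, he⟩ := hr
  obtain ⟨b, hb, hbV, -⟩ := P.exists_b
  set q' : Q := ⟨⟨q, hqC⟩, hqQ⟩
  have hy : H (F.φ q') fv = 0 := by
    have h1 := P.trace_of_comm (q := q') (d := a) (by rw [P.hv]; simpa using line_facts.1 1)
      (by rw [P.ha]; exact (Subgroup.mem_centralizer_iff.1 hq.1.1 _ P.a_mem_Vg).symm)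
    have h2 := P.trace_of_comm (q := q') (d := b) (by rw [hb]; exact line_facts.1 _)
      (Subgroup.mem_centralizer_iff.1 hq.1.1 _ hbV).symm
    rw [P.hv, trH] at h1
    rw [hb, trH] at h2
    have e1 : H fv (F.φ q') = H (F.φ q') fv ^ 2 := (Cfsg.Agent.Classical.Unitary.H_conj hF _ _).symm
    have e2 : H (FF.w • fv) (F.φ q') = H (F.φ q') (FF.w • fv) ^ 2 := (Cfsg.Agent.Classical.Unitary.H_conj hF _ _).symm
    have e3 : H (F.φ q') (FF.w • fv) = H (F.φ q') fv * FF.w2 := by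
      simp only [Cfsg.hermForm, Pi.smul_apply, smul_eq_mul, mul_pow, Finset.sum_mul]
      exact Finset.sum_congr rfl fun i _ => by rw [show FF.w ^ 2 = FF.w2 from by decide]; ring
    rw [e1] at h1
    rw [e2, e3] at h2
    exact orth_of_trace _ h1 h2
  refine (mem_Vg F).2 ⟨MulAut.conjNormal ⟨r, hrC⟩ q' * q'⁻¹, ⟨H (F.φ q') (cmap t), ?_⟩, ?_⟩
  · have hi : F.φ q'⁻¹ = F.φ q' := by
      have h1 : F.φ q'⁻¹ + F.φ q' = 0 := by rw [← F.φ_mul, inv_mul_cancel, F.φ_one]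
      calc F.φ q'⁻¹ = F.φ q'⁻¹ + (F.φ q' + F.φ q') := by rw [V_add_self, add_zero]
        _ = F.φ q' := by rw [← add_assoc, h1, zero_add]
    rw [F.φ_mul, F.conj, hi, he, (cmap_facts fv0 ht.1).2.2]
    funext i
    simp only [radMap, hy, Pi.add_apply, Pi.smul_apply, smul_eq_mul]
    linear_combination char_two (F.φ q' i)
  · push_cast [MulAut.conjNormal_apply]
    rfl

set_option maxHeartbeats 1000000 in
/-- The structure of that part. -/
theorem Rg_special : Cfsg.IsSpecial 2 (Rg (F := F)) ∧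
    (Subgroup.center (Rg (F := F))).map (Rg (F := F)).subtype = Vg F := by
  classical
  haveI : Fact (Nat.Prime 2) := ⟨Nat.prime_two⟩
  set R := Rg (F := F) with hR
  obtain ⟨h, h1, h2, hV, hQQ⟩ := P.exists_swap_elt
  have hhN : h ∈ Subgroup.normalizer (Vg F : Set G) := Subgroup.mem_normalizer_iff.2 hV
  have hVc : ∀ v ∈ Vg F, v ∈ Subgroup.centralizer (Vg F : Set G) := fun v hv =>
    Subgroup.mem_centralizer_iff.2 fun x hx => P.Vg_comm x hx v hv
  have hVR : Vg F ≤ R := fun v hv => ((P.mem_R_inf).2 ⟨(P.mem_Vg_iff.1 hv).1, hVc v hv⟩).1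
  set V' := (Vg F).subgroupOf R
  have hVcen : V' ≤ Subgroup.center R := fun v hv => Subgroup.mem_center_iff.2 fun r =>
    Subtype.ext (Subgroup.mem_centralizer_iff.1 r.2.1 _ (Subgroup.mem_subgroupOf.1 hv)).symm
  haveI : V'.Normal := ⟨fun v hv r => by
    rw [Subgroup.mem_center_iff.1 (hVcen hv) r, mul_inv_cancel_right]; exact hv⟩
  let π := QuotientGroup.mk' V'
  have hπ1 : ∀ {x : R}, π x = 1 ↔ (x : G) ∈ Vg F := fun {x} =>
    (QuotientGroup.eq_one_iff x).trans Subgroup.mem_subgroupOf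
  -- generators
  have hgen : ∀ r ∈ R, ∃ u ∈ R ⊓ bigQ Q, ∃ q ∈ R ⊓ bigQ Q, r = h * u * h⁻¹ * q := by
    rintro r ⟨hrc, hrC, t, ht, he⟩
    obtain ⟨u, huQ, huR, huC, hue⟩ := P.exists_other_lift ht
    have hu' : h⁻¹ * u * h ∈ R := by simpa using P.Rg_conj (inv_mem hhN) huR
    refine ⟨h⁻¹ * u * h, ⟨hu', (hQQ _).2 (by rw [show h * (h⁻¹ * u * h) * h⁻¹ = u by group]; exact huQ)⟩, u⁻¹ * r,
      ⟨R.mul_mem (R.inv_mem huR) ⟨hrc, hrC, t, ht, he⟩, mem_bigQ.2 ⟨(Cz z).mul_mem ((Cz z).inv_mem huC) hrC, (F.ker _).1 ?_⟩⟩, by group⟩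
    refine Equiv.ext fun v => ?_
    rw [show (⟨u⁻¹ * r, (Cz z).mul_mem ((Cz z).inv_mem huC) hrC⟩ : Cz z) = (⟨u, huC⟩)⁻¹ * ⟨r, hrC⟩ from rfl, map_mul, map_inv,
      Equiv.Perm.mul_apply, he]
    exact (F.act _).symm_apply_eq.2 (by rw [hue]; rfl)
  have hb1 : ∀ q : R, (q : G) ∈ bigQ Q → ∀ r : R, π r * π q = π q * π r ∧ π q * π q = 1 := by
    intro q hq r
    constructor
    · rw [← mul_inv_eq_iff_eq_mul, ← mul_inv_eq_one, ← map_mul, ← map_inv, ← map_mul, ← map_inv, ← map_mul, hπ1]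
      simp only [Subgroup.coe_mul, Subgroup.coe_inv]
      exact P.comm_inf ⟨q.2, hq⟩ r.2
    · rw [← map_mul, hπ1, Subgroup.coe_mul]
      obtain ⟨hqC, hqQ⟩ := mem_bigQ.1 hq
      set q' : Q := ⟨⟨(q : G), hqC⟩, hqQ⟩
      have h0 : F.φ (q' * q') = 0 := by rw [F.φ_mul, V_add_self]
      exact (mem_Vg F).2 ⟨q' * q', ⟨0, by rw [zero_smul, h0]⟩, rfl⟩
  have hb2 : ∀ u ∈ R ⊓ bigQ Q, ∀ hu : h * u * h⁻¹ ∈ R, ∀ r : R,
      π r * π ⟨_, hu⟩ = π ⟨_, hu⟩ * π r ∧ π ⟨_, hu⟩ * π ⟨_, hu⟩ = 1 := by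
    intro u hu hu' r
    constructor
    · rw [← mul_inv_eq_iff_eq_mul, ← mul_inv_eq_one, ← map_mul, ← map_inv, ← map_mul, ← map_inv, ← map_mul, hπ1]
      simp only [Subgroup.coe_mul, Subgroup.coe_inv]
      have hr' : h⁻¹ * (r : G) * h ∈ R := by simpa using P.Rg_conj (inv_mem hhN) r.2
      have hv := (hV _).1 (P.comm_inf hu hr')
      rw [show h * (h⁻¹ * (r : G) * h * u * (h⁻¹ * (r : G) * h)⁻¹ * u⁻¹) * h⁻¹ =
        (r : G) * (h * u * h⁻¹) * (r : G)⁻¹ * (h * u * h⁻¹)⁻¹ by group] at hv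
      exact hv
    · rw [← map_mul, hπ1, Subgroup.coe_mul]
      have := (hV _).1 (hπ1.1 ((map_mul π _ _).trans (hb1 ⟨u, hu.1⟩ hu.2 ⟨u, hu.1⟩).2))
      rw [Subgroup.coe_mul] at this
      rw [show h * u * h⁻¹ * (h * u * h⁻¹) = h * (u * u) * h⁻¹ by group]
      exact this
  have hcomm : ∀ x y : R, π x * π y = π y * π x := by
    intro x y
    obtain ⟨u, hu, q, hq, e⟩ := hgen y y.2
    have hu' : h * u * h⁻¹ ∈ R := P.Rg_conj hhN hu.1
    have e1 := (hb2 u hu hu' x).1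
    have e2 := (hb1 ⟨q, hq.1⟩ hq.2 x).1
    rw [show y = ⟨_, hu'⟩ * ⟨q, hq.1⟩ from Subtype.ext e, map_mul]
    generalize π ⟨_, hu'⟩ = U, π ⟨q, hq.1⟩ = W, π x = X at e1 e2 ⊢
    rw [← mul_assoc, e1, mul_assoc, e2, mul_assoc]
  have hsq : ∀ x : R, π x * π x = 1 := by
    intro y
    obtain ⟨u, hu, q, hq, e⟩ := hgen y y.2
    have hu' : h * u * h⁻¹ ∈ R := P.Rg_conj hhN hu.1
    have e1 := (hb2 u hu hu' ⟨q, hq.1⟩).1
    have e2 := (hb1 ⟨q, hq.1⟩ hq.2 1).2
    have e3 := (hb2 u hu hu' 1).2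
    rw [show y = ⟨_, hu'⟩ * ⟨q, hq.1⟩ from Subtype.ext e, map_mul]
    generalize π ⟨_, hu'⟩ = U, π ⟨q, hq.1⟩ = W at e1 e2 e3 ⊢
    rw [mul_assoc, ← mul_assoc W, e1, mul_assoc, e2, mul_one, e3]
  -- the centre
  have hcen : Subgroup.center R = V' := by
    refine le_antisymm (fun c hc => ?_) hVcen
    have hcc : ∀ r ∈ R, r * (c : G) = (c : G) * r := fun r hr =>
      congrArg Subtype.val (Subgroup.mem_center_iff.1 hc ⟨r, hr⟩)
    obtain ⟨-, hcC, t, ht, he⟩ := c.2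
    obtain ⟨b, hb, hbV, -⟩ := P.exists_b
    have hRQ : ∀ q : Q, H (F.φ q) fv = 0 → H (F.φ q) (F.φ q) = 0 → ((q : Cz z) : G) ∈ R := by
      intro q hq0 hqq
      refine ((P.mem_R_inf).2 ⟨mem_bigQ.2 ⟨(q : Cz z).property, q.property⟩, ?_⟩).1
      rw [Subgroup.mem_centralizer_iff]
      intro x hx
      obtain ⟨r, ⟨l, hl⟩, rfl⟩ := (mem_Vg F).1 hx
      refine ((P.conj_by_trace (q := q) (d := r) hqq (by rw [hl]; exact line_facts.1 l)).1 ?_).symm
      have e0 : H fv (F.φ q) = 0 := by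
        rw [show H fv (F.φ q) = H (F.φ q) fv ^ 2 from (Cfsg.Agent.Classical.Unitary.H_conj hF _ _).symm, hq0,
          zero_pow two_ne_zero]
      have e1 : H (l • fv) (F.φ q) = 0 := by rw [H_smulL, e0, mul_zero]
      have e2 : H (F.φ q) (l • fv) = 0 := by
        rw [show H (F.φ q) (l • fv) = H (l • fv) (F.φ q) ^ 2 from (Cfsg.Agent.Classical.Unitary.H_conj hF _ _).symm,
          e1, zero_pow two_ne_zero]
      rw [hl, trH, e1, e2, add_zero]
    -- the action is trivial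
    obtain ⟨bt, rfl⟩ := exists_elT ht
    have hb0 : cOf bt = 0 := T_faithful bt fun y hy hyy => by
      obtain ⟨q, hq⟩ := F.surj y
      have e := hcc _ (hRQ q (by rw [hq]; exact hy) (by rw [hq]; exact hyy))
      have hfix : F.act ⟨(c : G), hcC⟩ (F.φ q) = F.φ q := by
        rw [← F.conj]
        congr 1
        refine Subtype.ext ((MulAut.conjNormal_apply _ _).trans (Subtype.ext ?_))
        show (c : G) * ((q : Cz z) : G) * (c : G)⁻¹ = ((q : Cz z) : G)
        rw [← e, mul_inv_cancel_right]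
      rw [he, elT_smul, hq] at hfix
      have h0 := congrFun hfix 0
      simp only [radMap, hy, zero_mul, add_zero, fv, mul_one] at h0
      exact add_eq_left.1 h0
    have hcQ : (c : G) ∈ bigQ Q := mem_bigQ.2 ⟨hcC, (F.ker _).1 (Equiv.ext fun v => by
      rw [he, elT_smul, hb0]
      funext i
      simp [radMap, Cfsg.hermForm])⟩
    obtain ⟨hcC', hcQ'⟩ := mem_bigQ.1 hcQ
    refine Subgroup.mem_subgroupOf.2 ((mem_Vg F).2 ⟨⟨⟨_, hcC'⟩, hcQ'⟩, orth_line _ fun y hy hyy => ?_, rfl⟩)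
    obtain ⟨q, hq⟩ := F.surj y
    have e := hcc _ (hRQ q (by rw [hq]; exact hy) (by rw [hq]; exact hyy))
    have := P.trace_of_comm (q := ⟨⟨_, hcC'⟩, hcQ'⟩) (d := q) (by rw [hq]; exact hyy) e.symm
    rwa [hq] at this
  -- commutators
  have hcomV : commutator R ≤ V' := by
    rw [_root_.commutator_def, Subgroup.commutator_le]
    intro x _ y _
    rw [← QuotientGroup.eq_one_iff, ← QuotientGroup.mk'_apply, map_commutatorElement,
      commutatorElement_eq_one_iff_mul_comm]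
    exact hcomm x y
  have hne : ∃ x y : R, (⁅x, y⁆ : R) ≠ 1 ∧ (x : G) ∈ bigQ Q ∧ (y : G) ∈ bigQ Q := by
    by_contra hne
    push Not at hne
    have hc : ∀ p ∈ R ⊓ bigQ Q, ∀ q ∈ R ⊓ bigQ Q, p * q = q * p := fun p hp q hq => by
      have h0 : (⁅(⟨p, hp.1⟩ : R), ⟨q, hq.1⟩⁆ : R) = 1 := by
        by_contra h0
        exact hne ⟨p, hp.1⟩ ⟨q, hq.1⟩ h0 hp.2 hq.2
      exact congrArg Subtype.val (commutatorElement_eq_one_iff_mul_comm.1 h0)
    have hle : (R ⊓ bigQ Q).subgroupOf (Cz z) ≤ Q := fun c hc' => by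
      obtain ⟨_, h'⟩ := mem_bigQ.1 (Subgroup.mem_subgroupOf.1 hc').2
      exact h'
    have := abelian_le P.hS hle fun p hp q hq => Subtype.ext (hc _ (Subgroup.mem_subgroupOf.1 hp) _ (Subgroup.mem_subgroupOf.1 hq))
    rw [Nat.card_congr (Subgroup.subgroupOfEquivOfLe (show R ⊓ bigQ Q ≤ Cz z from fun x hx => (mem_bigQ.1 hx.2).1)).toEquiv,
      P.card_R_inf] at this
    norm_num at this
  set D := (commutator R).map R.subtype with hD
  have hzD : z ∈ D := by
    obtain ⟨x, y, hxy, hx, hy⟩ := hne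
    rcases (ctr_bigQ P.hS).comm_cases hx hy with e | e
    · exact absurd (Subtype.ext (by rw [show ((⁅x, y⁆ : R) : G) = ⁅(x : G), (y : G)⁆ from map_commutatorElement R.subtype x y, e]; rfl)) hxy
    · exact ⟨⁅x, y⁆, Subgroup.commutator_mem_commutator (Subgroup.mem_top x) (Subgroup.mem_top y),
        (map_commutatorElement R.subtype x y).trans e⟩
  have hDn : ∀ l ∈ Subgroup.normalizer (Vg F : Set G), ∀ d ∈ D, l * d * l⁻¹ ∈ D := by
    intro l hl d hd
    rw [hD, Subgroup.map_subtype_commutator] at hd ⊢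
    have hm : R.map (MulAut.conj l).toMonoidHom ≤ R := by
      rintro _ ⟨r, hr, rfl⟩; exact P.Rg_conj hl hr
    have h' : l * d * l⁻¹ ∈ (⁅R, R⁆ : Subgroup G).map (MulAut.conj l).toMonoidHom := ⟨d, hd, rfl⟩
    rw [Subgroup.map_commutator] at h'
    exact Subgroup.commutator_mono hm hm h'
  have hVcom : V' ≤ commutator R := by
    intro v hv
    obtain ⟨b, hb, hbV, -⟩ := P.exists_b
    have hle : Vg F ≤ D := fun x hx => by
      by_cases h0 : x = 1
      · rw [h0]; exact one_mem _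
      by_cases hz' : x = z
      · rw [hz']; exact hzD
      obtain ⟨c, hc, hce⟩ := P.orbit hx h0 hz'
      rw [← hce, ← h1]
      exact hDn _ hc _ (hDn h hhN z hzD)
    obtain ⟨d, hd, e⟩ := hle (Subgroup.mem_subgroupOf.1 hv)
    exact Subtype.ext e ▸ hd
  have hR2 := P.Rg_two
  haveI : Group.IsNilpotent R := hR2.isNilpotent
  have hfr : frattini R = V' := by
    refine le_antisymm ?_ (hVcom.trans (Cfsg.Agent.Coprime.commutator_le_frattini R))
    rw [← QuotientGroup.ker_mk' V']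
    exact Cfsg.Agent.CharP.frattini_le_ker (p := 2) π hcomm fun x => by rw [pow_two]; exact hsq x
  refine ⟨⟨hR2, hfr.trans hcen.symm, (le_antisymm hcomV hVcom).trans hcen.symm⟩, ?_⟩
  rw [hcen, Subgroup.map_subgroupOf_eq_of_le hVR]

end StdPair

end Cfsg.Agent.LargeExtra.Fischer
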