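import Cfsg.Agent.Lib.LargeExtra.Fischer.LineLocal

/-!
The two-local subgroup at the group of order eight.
-/

set_option autoImplicit false

namespace Cfsg.Agent.LargeExtra.Fischer

open Cfsg.Agent.InvChar.Coset
open Cfsg.Agent.Components.UnitarySix
open Cfsg.Agent.MonsterOrbits (bigQ mem_bigQ ctr_bigQ)

theorem center_A6 : Subgroup.center (alternatingGroup (Fin 6)) = ⊥ := by
  haveI := alternatingGroup.isSimpleGroup (α := Fin 6) (by simp)
  refine (IsSimpleGroup.eq_bot_or_eq_top_of_normal _ inferInstance).resolve_right fun h => ?_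
  have := Subgroup.mem_center_iff.1 (h ▸ Subgroup.mem_top sA : sA ∈ Subgroup.center (alternatingGroup (Fin 6))) tA
  exact absurd this (by decide +kernel)

variable {G : Type*} [Group G] [Finite G] {z : G} {Q : Subgroup (Cz z)} [Q.Normal] {M : Subgroup (Cz z)}
variable {F : Frame z Q M} {g : G} {a : Q}

theorem StdPair.main (P : StdPair F g a) :
    ∃ V : Subgroup G, Cfsg.IsElementaryAbelian 2 V ∧ Nat.card V = 8 ∧ z ∈ V ∧ ∃ R : Subgroup G,
      R = (Cfsg.pCore 2 ↥(Subgroup.normalizer (V : Set G))).map (Subgroup.normalizer (V : Set G)).subtype ∧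
      Cfsg.IsSpecial 2 ↥R ∧ Nat.card R = 2 ^ 15 ∧ (Subgroup.center ↥R).map R.subtype = V ∧
      ∃ _ : (R.subgroupOf (Subgroup.normalizer (V : Set G))).Normal,
        Nonempty (↥(Subgroup.normalizer (V : Set G)) ⧸ R.subgroupOf (Subgroup.normalizer (V : Set G)) ≃*
          Matrix.SpecialLinearGroup (Fin 3) (ZMod 2) × ↥(alternatingGroup (Fin 6))) := by
  classical
  haveI : Fact (Nat.Prime 2) := ⟨Nat.prime_two⟩
  obtain ⟨hspec, hcen⟩ := P.Rg_special
  refine ⟨Vg F, ⟨⟨⟨fun x y => Subtype.ext (P.Vg_comm x x.2 y y.2)⟩⟩, fun x hx => by rw [pow_two]; exact P.Vg_sq x hx⟩,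
    P.card_lineQ.2, P.z_mem_Vg, Rg (F := F), ?_, hspec, P.card_Rg, hcen, ?_⟩
  case refine_2 =>
    haveI hn : ((Rg (F := F)).subgroupOf (Subgroup.normalizer (Vg F : Set G))).Normal := ⟨fun r hr l => by
      rw [Subgroup.mem_subgroupOf] at hr ⊢
      exact P.Rg_conj l.2 hr⟩
    refine ⟨hn, ?_⟩
    obtain ⟨e⟩ := equiv_V3 (P := Vg F) P.card_lineQ.2 fun x => Subtype.ext (P.Vg_sq x x.2)
    set ρ := Subgroup.normalizerMonoidHom (Vg F) with hρ
    let A : MulAut (Vg F) ≃* Matrix.SpecialLinearGroup (Fin 3) (ZMod 2) :=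
      (MulAut.congr e).trans (MulEquiv.ofBijective sl3Aut sl3Aut_bijective).symm
    haveI := sl3_simple
    let ρ' := A.toMonoidHom.comp ρ
    have hρ' : Function.Surjective ρ' := A.surjective.comp fun α => by
      obtain ⟨l, hl, h⟩ := P.induced_all α
      exact ⟨⟨l, hl⟩, MulEquiv.ext fun x => Subtype.ext (h x)⟩
    have hmemker : ∀ l, l ∈ ρ'.ker ↔ (l : G) ∈ Subgroup.centralizer (Vg F : Set G) := fun l => by
      rw [MonoidHom.mem_ker, MonoidHom.comp_apply, MulEquiv.coe_toMonoidHom, MulEquiv.map_eq_one_iff,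
        ← MonoidHom.mem_ker, hρ, Subgroup.normalizerMonoidHom_ker, Subgroup.mem_subgroupOf]
    obtain ⟨θ, hθ, hker⟩ := P.exists_theta
    let θ' : ρ'.ker →* alternatingGroup (Fin 6) := θ.comp
      (MonoidHom.mk' (fun l => (⟨(l.1 : G), (hmemker l.1).1 l.2⟩ : Subgroup.centralizer (Vg F : Set G))) fun _ _ => rfl)
    have hθ' : Function.Surjective θ' := fun s => by
      obtain ⟨⟨c, hc⟩, rfl⟩ := hθ s
      have hcn : c ∈ Subgroup.normalizer (Vg F : Set G) := Subgroup.centralizer_le_normalizer _ hc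
      exact ⟨⟨⟨c, hcn⟩, (hmemker _).2 hc⟩, rfl⟩
    obtain ⟨q, hqQ, hqN, -, -, hqb⟩ := P.exists_move_b
    obtain ⟨b, -, hbV, hbn⟩ := P.exists_b
    have hqC : q ∈ Cz z ∧ ∀ h : q ∈ Cz z, (⟨q, h⟩ : Cz z) ∈ Q := by
      obtain ⟨h, h'⟩ := mem_bigQ.1 hqQ
      exact ⟨h, fun _ => h'⟩
    refine split_quotient ρ' hρ' θ' hθ' center_A6 _ (fun l => ?_) ⟨q, hqN⟩ ?_ fun c hc => ?_
    · rw [Subgroup.mem_subgroupOf]
      exact ⟨fun h => ⟨(hmemker l).2 h.1, (hker ⟨l, h.1⟩).2 h⟩, fun ⟨h, h'⟩ => (hker ⟨l, (hmemker l).1 h⟩).1 h'⟩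
    · intro h
      have hcc := Subgroup.mem_centralizer_iff.1 ((hmemker ⟨q, hqN⟩).1 h) _ hbV
      have := hqb _ hbV hbn
      rw [← hcc, mul_inv_cancel_right, left_eq_mul] at this
      exact (ctr_bigQ P.hS).ne_one this
    · have hc' := (hmemker c).1 hc
      rw [Subgroup.mem_subgroupOf]
      show q * (c : G) * q⁻¹ * (c : G)⁻¹ ∈ Rg (F := F)
      have hcC : (c : G) ∈ Cz z := P.cent_le hc'
      have hmem : q * (c : G) * q⁻¹ * (c : G)⁻¹ ∈ bigQ Q := by
        refine mem_bigQ.2 ⟨(Cz z).mul_mem ((Cz z).mul_mem ((Cz z).mul_mem hqC.1 hcC) ((Cz z).inv_mem hqC.1)) ((Cz z).inv_mem hcC), ?_⟩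
        show (⟨q, hqC.1⟩ : Cz z) * ⟨c, hcC⟩ * (⟨q, hqC.1⟩)⁻¹ * (⟨c, hcC⟩)⁻¹ ∈ Q
        rw [mul_assoc, mul_assoc, ← mul_assoc (⟨c, hcC⟩ : Cz z)]
        exact Q.mul_mem (hqC.2 _) ((inferInstance : Q.Normal).conj_mem _ (Q.inv_mem (hqC.2 _)) _)
      refine ((P.mem_R_inf).2 ⟨hmem, ?_⟩).1
      have hqc : q * (c : G) * q⁻¹ ∈ Subgroup.centralizer (Vg F : Set G) := Subgroup.mem_centralizer_iff.2 fun x hx => by
        have hx' : q⁻¹ * x * q ∈ Vg F := by
          have := (Subgroup.mem_normalizer_iff.1 (inv_mem hqN) x).1 hx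
          simpa using this
        have e := Subgroup.mem_centralizer_iff.1 hc' _ hx'
        calc x * (q * (c : G) * q⁻¹) = q * ((q⁻¹ * x * q) * c) * q⁻¹ := by group
          _ = _ := by rw [e]; group
      exact mul_mem hqc (inv_mem hc')
  -- the largest normal 2-subgroup
  set L := Subgroup.normalizer (Vg F : Set G) with hL
  have hRL : Rg (F := F) ≤ L := fun x hx => Subgroup.centralizer_le_normalizer _ hx.1
  refine le_antisymm ?_ ?_
  · exact Cfsg.Agent.CharP.le_pCoreOf hRL (fun l hl => Subgroup.mem_normalizer_fintype fun r hr => P.Rg_conj hl hr)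
      P.Rg_two
  · rintro _ ⟨x, hx, rfl⟩
    set N := Cfsg.pCore 2 L
    have hNn : N.Normal := by
      have := Cfsg.Agent.CharP.pCoreOf_normal 2 L
      rwa [Cfsg.pCoreOf, Subgroup.subgroupOf, Subgroup.comap_map_eq_self_of_injective L.subtype_injective] at this
    have hN2 : IsPGroup 2 N := Cfsg.Agent.CharP.isPGroup_pCore 2 L
    obtain ⟨e⟩ := equiv_V3 (P := Vg F) P.card_lineQ.2 fun x => Subtype.ext (P.Vg_sq x x.2)
    let A : MulAut (Vg F) ≃* Matrix.SpecialLinearGroup (Fin 3) (ZMod 2) :=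
      (MulAut.congr e).trans (MulEquiv.ofBijective sl3Aut sl3Aut_bijective).symm
    haveI := sl3_simple
    set ρ := Subgroup.normalizerMonoidHom (Vg F) with hρ
    have hsurj : Function.Surjective (A.toMonoidHom.comp ρ) := A.surjective.comp fun α => by
      obtain ⟨l, hl, h⟩ := P.induced_all α
      exact ⟨⟨l, hl⟩, MulEquiv.ext fun x => Subtype.ext (h x)⟩
    have h0 := not_two_group_of_simple p3_facts.1 p3_facts.2 (Subgroup.Normal.map hNn _ hsurj) (hN2.map _)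
    have hNC : ∀ y ∈ N, (y : G) ∈ Subgroup.centralizer (Vg F : Set G) := fun y hy => by
      have h1 : (A.toMonoidHom.comp ρ) y ∈ N.map (A.toMonoidHom.comp ρ) := ⟨y, hy, rfl⟩
      rw [h0, Subgroup.mem_bot, MonoidHom.comp_apply, MulEquiv.coe_toMonoidHom, MulEquiv.map_eq_one_iff,
        ← MonoidHom.mem_ker, hρ, Subgroup.normalizerMonoidHom_ker, Subgroup.mem_subgroupOf] at h1
      exact h1
    obtain ⟨θ, hθ, hker⟩ := P.exists_theta
    let N' : Subgroup (Subgroup.centralizer (Vg F : Set G)) :=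
      N.comap (MonoidHom.mk' (fun c => (⟨c.1, Subgroup.centralizer_le_normalizer _ c.2⟩ : L)) fun _ _ => rfl)
    haveI hN'n : N'.Normal := Subgroup.Normal.comap hNn _
    have hN'2 : IsPGroup 2 N' := hN2.comap_of_injective _ fun u v e => Subtype.ext (congrArg (fun w : L => (w : G)) e)
    have h1 := not_two_group_A6 _ (Subgroup.Normal.map hN'n θ hθ) (hN'2.map θ)
    have hmem : θ ⟨x, hNC x hx⟩ ∈ N'.map θ := ⟨⟨x, hNC x hx⟩, hx, rfl⟩
    rw [h1, Subgroup.mem_bot] at hmem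
    exact (hker _).1 hmem

end Cfsg.Agent.LargeExtra.Fischer
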