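import Cfsg.Agent.Lib.LargeExtra.Fischer.Model

/-!
The stabilisers of the two kinds of isotropic vectors: the simple unitary group in dimension four, and an
elementary group of order 16 extended by the alternating group of degree six.
-/

set_option autoImplicit false

namespace Cfsg.Agent.LargeExtra.Fischer

open Cfsg.Agent.InvChar.Coset Matrix
open Cfsg.Agent.Components.UnitarySix
open Cfsg.Agent.Classical.Unitary (mat suMk suMk_mulVec)
open scoped commutatorElement

theorem char_two (a : FF) : a + a = 0 := by revert a; decide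

theorem V_add_self (x : V) : x + x = 0 := funext fun i => char_two (x i)

theorem smul_addV (g : S) (x y : V) : g • (x + y) = g • x + g • y := by
  rw [smul_def, smul_def, smul_def, Matrix.mulVec_add]

theorem smul_smulV (g : S) (c : FF) (x : V) : g • c • x = c • g • x := smul_comm g c x

theorem H_addL (x y z : V) : H (x + y) z = H x z + H y z :=
  Cfsg.Agent.Classical.Unitary.H_add_left x y z

theorem H_addR (x y z : V) : H x (y + z) = H x y + H x z :=
  Cfsg.Agent.Classical.Unitary.H_add_right hF x y z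

theorem H_smulL (a : FF) (x z : V) : H (a • x) z = a * H x z :=
  Cfsg.Agent.Classical.Unitary.H_smul_left a x z

/-- The stabiliser in the group. -/
def StabK (v : V) : Subgroup S := K0 ⊓ MulAction.stabilizer S v

theorem mem_StabK {v : V} {g : S} : g ∈ StabK v ↔ g ∈ K0 ∧ g • v = v := Iff.rfl

theorem card_StabK (v : V) : Nat.card (StabK v) = Nat.card (MulAction.stabilizer K0 v) :=
  Nat.card_congr
    { toFun := fun g => ⟨⟨g.1, g.2.1⟩, g.2.2⟩
      invFun := fun g => ⟨g.1.1, g.1.2, g.2⟩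
      left_inv := fun _ => rfl
      right_inv := fun _ => rfl }

/-! ### Elements trivial on the orthogonal complement modulo the vector -/

/-- The elements fixing `v` and trivial on its orthogonal space modulo `v`. -/
def Rad (v : V) : Subgroup S where
  carrier := {g | g • v = v ∧ ∀ y, H y v = 0 → ∃ l : FF, g • y = y + l • v}
  one_mem' := ⟨one_smul _ _, fun y _ => ⟨0, by rw [one_smul, zero_smul, add_zero]⟩⟩
  mul_mem' := by
    rintro g k ⟨hg, hg'⟩ ⟨hk, hk'⟩
    refine ⟨by rw [mul_smul, hk, hg], fun y hy => ?_⟩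
    obtain ⟨l, hl⟩ := hk' y hy
    obtain ⟨m, hm⟩ := hg' y hy
    exact ⟨m + l, by rw [mul_smul, hl, smul_addV, smul_smulV, hg, hm, add_smul, add_assoc]⟩
  inv_mem' := by
    rintro g ⟨hg, hg'⟩
    refine ⟨by rw [inv_smul_eq_iff, hg], fun y hy => ?_⟩
    obtain ⟨l, hl⟩ := hg' y hy
    exact ⟨l, by
      rw [inv_smul_eq_iff, smul_addV, smul_smulV, hg, hl, add_assoc, ← add_smul, char_two, zero_smul,
        add_zero]⟩

theorem Rad_conj {v : V} {g r : S} (hg : g • v = v) (hr : r ∈ Rad v) : g * r * g⁻¹ ∈ Rad v := by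
  have hgi : g⁻¹ • v = v := by rw [inv_smul_eq_iff, hg]
  refine ⟨by rw [mul_smul, mul_smul, hgi, hr.1, hg], fun y hy => ?_⟩
  obtain ⟨l, hl⟩ := hr.2 (g⁻¹ • y) (by rw [← H_smul g (g⁻¹ • y) v, smul_inv_smul, hg, hy])
  exact ⟨l, by rw [mul_smul, mul_smul, hl, smul_addV, smul_smulV, hg, smul_inv_smul]⟩

/-- The parameter. -/
def cmap (g : S) : V := g • e 0 + e 0

/-- The transformation with the given parameter. -/
def radMap (v c y : V) : V := fun i => y i + H y v * c i + (H y c + H y v * c 0 ^ 2) * v i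

theorem cmap_facts {v : V} (hv : v 0 = 1) {g : S} (hg : g ∈ Rad v) :
    H (cmap g) v = 0 ∧ H (cmap g) (cmap g) + cmap g 0 + cmap g 0 ^ 2 = 0 ∧
      ∀ y, g • y = radMap v (cmap g) y := by
  have hev : H (e 0) v = 1 := by
    rw [show H (e 0) v = ∑ i, e 0 i * v i ^ 2 from rfl, Finset.sum_eq_single 0]
    · simp [hv]
    · intro i _ hi; simp [hi]
    · simp
  have hve : H v (e 0) = 1 := by
    rw [show H v (e 0) = v 0 from Cfsg.Agent.Classical.Unitary.H_single_right hF v 0, hv]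
  set c := cmap g with hc
  have hge : g • e 0 = e 0 + c := by
    rw [hc, cmap, add_comm (g • e 0), ← add_assoc, V_add_self, zero_add]
  have hcv : H c v = 0 := by
    rw [hc, cmap, H_addL]
    nth_rewrite 1 [← hg.1]
    rw [H_smul, char_two]
  have hce : H c (e 0) = c 0 := Cfsg.Agent.Classical.Unitary.H_single_right hF c 0
  have hec : H (e 0) c = c 0 ^ 2 := by
    rw [show H (e 0) c = ∑ i, e 0 i * c i ^ 2 from rfl, Finset.sum_eq_single 0]
    · simp
    · intro i _ hi; simp [hi]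
    · simp
  refine ⟨hcv, ?_, fun y => ?_⟩
  · have h := H_smul g (e 0) (e 0)
    rw [hge, H_addL, H_addR, H_addR, hce, hec, H_e, if_pos rfl] at h
    linear_combination h
  · set a := H y v with ha
    set y' := y + a • e 0 with hy'
    have hy'v : H y' v = 0 := by rw [hy', H_addL, H_smulL, hev, mul_one, ← ha, char_two]
    obtain ⟨l, hl⟩ := hg.2 y' hy'v
    have hvc : H v c = 0 := by
      rw [show H v c = H c v ^ 2 from (Cfsg.Agent.Classical.Unitary.H_conj hF c v).symm, hcv,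
        zero_pow two_ne_zero]
    have hlv : l = H y c + a * c 0 ^ 2 := by
      have h := H_smul g y' (e 0)
      rw [hl, hge, H_addL, H_addR, H_addR, H_smulL, H_smulL, hve, hvc] at h
      have h' : H y' c = H y c + a * c 0 ^ 2 := by rw [hy', H_addL, H_smulL, hec]
      rw [← h']
      linear_combination h + char_two (H y' c) * (-1 : FF)
    have e1 : y = y' + a • e 0 := by rw [hy', add_assoc, V_add_self, add_zero]
    conv_lhs => rw [e1, smul_addV, smul_smulV, hl, hge, hy', hlv]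
    funext i
    simp only [radMap, Pi.add_apply, Pi.smul_apply, smul_eq_mul, ← ha]
    linear_combination (char_two (a * e (0 : Fin 6) i))

theorem cmap_inj {v : V} (hv : v 0 = 1) {g k : S} (hg : g ∈ Rad v) (hk : k ∈ Rad v) (h : cmap g = cmap k) :
    g = k := S_ext fun x => by rw [(cmap_facts hv hg).2.2, (cmap_facts hv hk).2.2, h]

theorem cmap_one : cmap 1 = 0 := by rw [cmap, one_smul, V_add_self]

/-- The composition law of the parameters. -/
def mulC (v c c' : V) : V := c + (c' + H c' c • v)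

theorem cmap_mul {v : V} (hv : v 0 = 1) {g k : S} (hg : g ∈ Rad v) (hk : k ∈ Rad v) :
    cmap (g * k) = mulC v (cmap g) (cmap k) := by
  have h : g • cmap k = cmap k + H (cmap k) (cmap g) • v := by
    rw [(cmap_facts hv hg).2.2]
    funext i
    simp [radMap, (cmap_facts hv hk).1]
  rw [mulC, ← h]
  simp only [cmap, mul_smul, smul_addV]
  funext i
  simp only [Pi.add_apply]
  linear_combination (-1 : FF) * char_two ((g • e 0 : V) i)

/-! ### The vector of weight two -/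

set_option maxRecDepth 100000 in
theorem rad_e01_list : ∀ c : V, H c e01 = 0 → H c c + c 0 + c 0 ^ 2 = 0 →
    InO FF.w (radMap e01 c ![1, .w, 0, 0, 0, 0]) → InO FF.w (radMap e01 c ![1, 0, 1, 0, 0, 0]) →
    InO FF.w (radMap e01 c ![1, 0, 0, 1, 0, 0]) → c = 0 ∨ c = e01 := by
  decide +kernel

theorem rad_e01_trivial {g : S} (hg : g ∈ Rad e01) (hK : g ∈ K0) : g = 1 := by
  have hv : e01 0 = 1 := by decide +kernel
  obtain ⟨h1, h2, h3⟩ := cmap_facts hv hg
  have hin : ∀ x, InO FF.w x → InO FF.w (radMap e01 (cmap g) x) := fun x hx => by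
    rw [← h3]; exact (K0_le_G hK x).2 hx
  rcases rad_e01_list _ h1 h2 (hin _ (by decide +kernel)) (hin _ (by decide +kernel))
    (hin _ (by decide +kernel)) with h | h
  · exact cmap_inj hv hg (one_mem _) (h.trans cmap_one.symm)
  · exfalso
    set s := permS (Equiv.swap (0 : Fin 6) 1) with hs
    have hge : g = s := S_ext fun x => by
      rw [h3, h]
      funext i
      rw [permS_smul]
      fin_cases i <;>
        simp [radMap, e01, Cfsg.hermForm, Fin.sum_univ_six, Pi.single_apply, Equiv.symm_swap,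
          Equiv.swap_apply_def] <;>
        (generalize x 0 = a, x 1 = b; revert a b; decide)
    obtain ⟨σ, d, hd, hsign⟩ := good_K0.mon ⟨hge ▸ hK, (⟨_, _, isMon_mkMon _ _⟩ : s ∈ Mon)⟩
    rw [(hd.unique (isMon_mkMon _ _)).1, Equiv.Perm.sign_swap (by decide)] at hsign
    exact absurd hsign (by decide)

/-- Coordinates two to five. -/
def tail4 (y : V) : Fin 4 → FF := fun i => y i.succ.succ

/-- Coordinates two to five, extended by zeros. -/
def ext4 (y : Fin 4 → FF) : V := Fin.cons 0 (Fin.cons 0 y)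

theorem H_e01 (y : V) : H y e01 = y 0 + y 1 := by
  simp [e01, Cfsg.hermForm, Fin.sum_univ_six, Pi.single_apply]

theorem e01_tail : ∀ i : Fin 4, e01 i.succ.succ = 0 := by decide +kernel

theorem e01_orth_eq {y : V} (hy : H y e01 = 0) : y = ext4 (tail4 y) + y 0 • e01 := by
  rw [H_e01] at hy
  have h : y 1 = y 0 := by
    rw [← add_zero (y 1), ← char_two (y 0), ← add_assoc, add_comm (y 1), hy, zero_add]
  funext i
  refine Fin.cases ?_ (fun j => Fin.cases ?_ (fun k => ?_) j) i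
  · simp [ext4, e01, Pi.single_apply]
  · show y 1 = (0 : FF) + y 0 * e01 1
    rw [h, zero_add, show e01 1 = 1 from by decide +kernel, mul_one]
  · show y k.succ.succ = y k.succ.succ + y 0 * e01 k.succ.succ
    rw [e01_tail, mul_zero, add_zero]

theorem H_tail {x y : V} (hx : H x e01 = 0) (hy : H y e01 = 0) :
    Cfsg.hermForm 4 FF 2 (tail4 x) (tail4 y) = H x y := by
  rw [H_e01] at hx hy
  simp only [Cfsg.hermForm, Fin.sum_univ_six, Fin.sum_univ_four, tail4, Fin.reduceSucc]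
  generalize x 0 = a, x 1 = b, y 0 = c, y 1 = d at hx hy ⊢
  have : a * c ^ 2 + b * d ^ 2 = 0 := by revert hx hy; revert a b c d; decide
  linear_combination (-1 : FF) * this

theorem ext4_orth (y : Fin 4 → FF) : H (ext4 y) e01 = 0 := by
  rw [H_e01]; rfl

theorem tail4_ext4 (y : Fin 4 → FF) : tail4 (ext4 y) = y := rfl

/-- The induced matrix. -/
def sub4 (g : S) : Matrix (Fin 4) (Fin 4) FF := (mat g).submatrix (Fin.succ ∘ Fin.succ) (Fin.succ ∘ Fin.succ)

theorem sub4_mulVec (g : S) (y : Fin 4 → FF) : sub4 g *ᵥ y = tail4 (g • ext4 y) := by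
  funext i
  simp [sub4, tail4, ext4, smul_def, Matrix.mulVec, dotProduct, Fin.sum_univ_succ]

theorem orth_smul {g : S} (hg : g • e01 = e01) {y : V} (hy : H y e01 = 0) : H (g • y) e01 = 0 := by
  rw [← hg, H_smul, hy]

theorem sub4_mulVec_tail {g : S} (hg : g • e01 = e01) {y : V} (hy : H y e01 = 0) :
    sub4 g *ᵥ tail4 y = tail4 (g • y) := by
  rw [sub4_mulVec]
  conv_rhs => rw [e01_orth_eq hy, smul_addV, smul_smulV, hg]
  funext i
  simp [tail4, e01_tail]

theorem det_sub4 {g : S} (hg : g • e01 = e01) : (sub4 g).det = 1 := by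
  let E : Matrix (Fin 6) (Fin 6) FF := 1 + Matrix.single 1 0 1
  have hE : E * E = 1 := by decide +kernel
  set M := E * mat g * E with hM
  have hdet : M.det = 1 := by
    rw [hM, Matrix.det_mul, Matrix.det_mul, show (mat g).det = 1 from
      (g : Matrix.SpecialLinearGroup (Fin 6) FF).2, mul_one, ← Matrix.det_mul, hE, Matrix.det_one]
  have hEv : ∀ y : V, ∀ i, (E *ᵥ y) i = y i + if i = 1 then y 0 else 0 := fun y i => by
    simp only [E, Matrix.add_mulVec, Matrix.one_mulVec, Pi.add_apply]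
    congr 1
    fin_cases i <;> simp [Matrix.single, Matrix.mulVec, dotProduct]
  have hcol : ∀ k i, M i k = (E *ᵥ (g • (E *ᵥ e k))) i := fun k i => by
    rw [smul_def, Matrix.mulVec_mulVec, Matrix.mulVec_mulVec, Matrix.mulVec_single_one]
    simp only [hM, Matrix.mul_assoc]
    rfl
  have hE0 : E *ᵥ e 0 = e01 := by decide +kernel
  have hEk : ∀ k : Fin 6, k ≠ 0 → E *ᵥ e k = e k := by decide +kernel
  have h0 : ∀ i, M i 0 = if i = 0 then 1 else 0 := fun i => by
    rw [hcol, hE0, hg, hEv]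
    revert i
    decide +kernel
  have hH : ∀ k : Fin 6, k ≠ 0 → (g • e k) 0 + (g • e k) 1 = H (e k) e01 := fun k _ => by
    rw [← H_e01]
    nth_rewrite 1 [← hg]
    rw [H_smul]
  have h1 : M 1 1 = 1 := by
    rw [hcol, hEk 1 (by decide), hEv, if_pos rfl, add_comm, hH 1 (by decide), H_e01]
    decide +kernel
  have h1k : ∀ i : Fin 4, M 1 i.succ.succ = 0 := fun i => by
    rw [hcol, hEk _ (Fin.succ_ne_zero _), hEv, if_pos rfl, add_comm, hH _ (Fin.succ_ne_zero _), H_e01]
    revert i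
    decide +kernel
  have hsub : ∀ i k : Fin 4, M i.succ.succ k.succ.succ = sub4 g i k := fun i k => by
    rw [hcol, hEk _ (Fin.succ_ne_zero _), hEv,
      if_neg (by revert i; decide), add_zero, smul_e]
    rfl
  rw [Matrix.det_succ_column_zero, Finset.sum_eq_single 0 (fun i _ hi => by rw [h0, if_neg hi]; simp)
    (by simp), h0, if_pos rfl] at hdet
  simp only [Fin.val_zero, pow_zero, one_mul, Fin.succAbove_zero] at hdet
  rw [Matrix.det_succ_row_zero, Finset.sum_eq_single 0 (fun i _ hi => by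
      obtain ⟨j, rfl⟩ := Fin.exists_succ_eq_of_ne_zero hi
      rw [Matrix.submatrix_apply]
      show _ * M 1 j.succ.succ * _ = 0
      rw [h1k]; simp) (by simp)] at hdet
  simp only [Fin.val_zero, pow_zero, one_mul, Fin.succAbove_zero, Matrix.submatrix_submatrix,
    Matrix.submatrix_apply] at hdet
  rw [show (Fin.succ (0 : Fin 5)) = (1 : Fin 6) from rfl, h1, one_mul] at hdet
  rw [← hdet]
  congr 1
  ext i k
  exact (hsub i k).symm

/-- The induced element. -/
def toSU4 (g : StabK e01) : Cfsg.SU 4 FF 2 :=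
  suMk (sub4 g.1) (det_sub4 g.2.2) fun u v => by
    rw [sub4_mulVec, sub4_mulVec, H_tail (orth_smul g.2.2 (ext4_orth u)) (orth_smul g.2.2 (ext4_orth v)),
      H_smul, ← H_tail (ext4_orth u) (ext4_orth v), tail4_ext4, tail4_ext4]

/-- The induced homomorphism. -/
def hom4 : StabK e01 →* Cfsg.SU 4 FF 2 := MonoidHom.mk' toSU4 fun g k =>
  Cfsg.Agent.Classical.Unitary.SU_ext fun y => by
    rw [Cfsg.Agent.Classical.Unitary.mat_mul, ← Matrix.mulVec_mulVec]
    simp only [toSU4, suMk_mulVec]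
    rw [sub4_mulVec, sub4_mulVec k.1 y, sub4_mulVec_tail g.2.2 (orth_smul k.2.2 (ext4_orth y))]
    exact congrArg tail4 (mul_smul g.1 k.1 (ext4 y))

theorem hom4_injective : Function.Injective hom4 := by
  rw [← MonoidHom.ker_eq_bot_iff, eq_bot_iff]
  intro g hg
  refine Subgroup.mem_bot.2 (Subtype.ext (rad_e01_trivial ⟨g.2.2, fun y hy => ?_⟩ g.2.1))
  have h : sub4 g.1 *ᵥ tail4 y = tail4 y := by
    have := congrArg (fun s : Cfsg.SU 4 FF 2 => mat s *ᵥ tail4 y) (MonoidHom.mem_ker.1 hg)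
    simpa [hom4, toSU4, suMk_mulVec, Cfsg.Agent.Classical.Unitary.mat_one] using this
  rw [sub4_mulVec_tail g.2.2 hy] at h
  refine ⟨(g.1 • y) 0 + y 0, ?_⟩
  have e1 := e01_orth_eq (orth_smul g.2.2 hy)
  rw [h] at e1
  have e2 := e01_orth_eq hy
  funext i
  have f1 := congrFun e1 i
  have f2 := congrFun e2 i
  simp only [Pi.add_apply, Pi.smul_apply, smul_eq_mul] at f1 f2 ⊢
  linear_combination f1 - f2 - char_two (y 0 * e01 i)

theorem card_SU4 : Nat.card (Cfsg.SU 4 FF 2) = 25920 := by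
  have h := Cfsg.Agent.Classical.Unitary.natCard_SU_mul (n := 4) (q := 2) (F := FF) hF (by norm_num)
  rw [Cfsg.Agent.Classical.Unitary.natCard_GU hF] at h
  simp [Finset.prod_range_succ, Nat.even_iff] at h
  omega

theorem hom4_bijective : Function.Bijective hom4 :=
  hom4_injective.bijective_of_nat_card_le (by rw [card_SU4, card_StabK, card_stab_e01])

theorem stab_e01_equiv : Nonempty (StabK e01 ≃* Cfsg.PSU 4 FF 2) := by
  have hc : Subgroup.center (Cfsg.SU 4 FF 2) = ⊥ := Subgroup.eq_bot_of_card_eq _ (by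
    rw [Cfsg.Agent.Classical.Unitary.natCard_center hF (by norm_num)]; rfl)
  exact ⟨(MulEquiv.ofBijective hom4 hom4_bijective).trans
    ((QuotientGroup.quotientMulEquivOfEq hc).trans QuotientGroup.quotientBot).symm⟩

theorem stab_e01_simple : IsSimpleGroup (StabK e01) := by
  obtain ⟨e⟩ := stab_e01_equiv
  haveI := Cfsg.Agent.Classical.Unitary.isSimpleGroup_PSU (n := 4) (q := 2) (F := FF) hF (by norm_num)
    (by norm_num)
  exact e.isSimpleGroup

/-- A diagonal element of the stabiliser without antilinear centraliser. -/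
def dS : S := diagS ⟨![1, 1, .w, .w, .w, 1], by decide +kernel⟩

theorem dS_mem : dS ∈ StabK e01 := by
  refine ⟨good_K0.le (D_le_N0 (diagS_mem _)), ?_⟩
  funext i
  rw [dS, diagS_smul]
  fin_cases i <;> simp [e01]

theorem no_antilinear (g : V → V) (hsm : ∀ u, g (FF.w • u) = FF.w2 • g u)
    (hd : ∀ u, g (dS • u) = dS • g u) : g (e 2) = 0 := by
  have h : dS • e 2 = FF.w • e 2 := by
    funext i
    rw [dS, diagS_smul]
    fin_cases i <;> simp
  have h' := hd (e 2)
  rw [h, hsm] at h'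
  funext i
  have hi := congrFun h' i
  rw [dS, diagS_smul, Pi.smul_apply, smul_eq_mul] at hi
  generalize g (e 2) i = a at hi
  revert hi; revert a i
  decide +kernel

/-! ### The vector of weight six -/

theorem fv0 : fv 0 = 1 := rfl

/-- The parameters of four generators. -/
def pc (k : Fin 4) : V := fun i => if i = 1 ∨ i = k.succ.succ then .w2 else 1

/-- The parameters of the radical elements. -/
def cOf (b : Fin 4 → Bool) : V :=
  mulC fv (bif b 0 then pc 0 else 0) (mulC fv (bif b 1 then pc 1 else 0)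
    (mulC fv (bif b 2 then pc 2 else 0) (bif b 3 then pc 3 else 0)))

set_option maxRecDepth 100000 in
theorem rad_fv_list : ∀ c : V, H c fv = 0 → H c c + c 0 + c 0 ^ 2 = 0 →
    InO FF.w (radMap fv c ![1, .w, 0, 0, 0, 0]) → InO FF.w (radMap fv c ![1, 0, .w2, 0, 0, 0]) →
    ∃ b, c = cOf b := by
  decide +kernel

theorem cOf_facts : Function.Injective cOf ∧
    (∀ b b', mulC fv (cOf b) (cOf b') = mulC fv (cOf b') (cOf b)) ∧ ∀ b, mulC fv (cOf b) (cOf b) = 0 := by
  decide +kernel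

theorem cmap_mem_list {g : S} (hg : g ∈ Rad fv) (hG : g ∈ G FF.w) : ∃ b, cmap g = cOf b := by
  obtain ⟨h1, h2, h3⟩ := cmap_facts fv0 hg
  have hin : ∀ x, InO FF.w x → InO FF.w (radMap fv (cmap g) x) := fun x hx => by
    rw [← h3]; exact (hG x).2 hx
  exact rad_fv_list _ h1 h2 (hin _ (by decide +kernel)) (hin _ (by decide +kernel))

/-- The parameter of the first witness. -/
def c0 : V := ![0, 0, .w, .w, .w, .w]

/-- The matrix of the first witness. -/
def tMat : Matrix (Fin 6) (Fin 6) FF := Matrix.of fun i k => radMap fv c0 (e k) i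

/-- The first witness. -/
def t0 : S := suMk tMat (by decide +kernel) (Model.pres_of hF tMat (by decide +kernel))

set_option maxRecDepth 100000 in
theorem tMat_facts : (∀ x : V, InO FF.w (tMat *ᵥ x) ↔ InO FF.w x) ∧ tMat *ᵥ fv = fv ∧
    (∀ y : V, H y fv = 0 → tMat *ᵥ y = y + H y c0 • fv) ∧ tMat *ᵥ e 0 + e 0 = c0 ∧ tMat * tMat = 1 := by
  decide +kernel

theorem t0_mem : t0 ∈ Rad fv ∧ t0 ∈ G FF.w ∧ cmap t0 = c0 ∧ t0 * t0 = 1 := by
  obtain ⟨h1, h2, h3, h4, h5⟩ := tMat_facts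
  exact ⟨⟨h2, fun y hy => ⟨_, h3 y hy⟩⟩, h1, h4, S_ext fun x => by
    rw [mul_smul, smul_def, smul_def, one_smul, show mat t0 = tMat from rfl, Matrix.mulVec_mulVec, h5,
      Matrix.one_mulVec]⟩

theorem permS_fv (σ : Equiv.Perm (Fin 6)) : permS σ • fv = fv := funext fun i => by rw [permS_smul]; rfl

theorem permS_G (σ : Equiv.Perm (Fin 6)) (j : FF) : permS σ ∈ G j := Mon_le_G j ⟨_, _, isMon_mkMon _ _⟩

theorem cmap_conj {σ : Equiv.Perm (Fin 6)} (hσ : σ 0 = 0) (g : S) :
    cmap (permS σ * g * (permS σ)⁻¹) = permS σ • cmap g := by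
  have h : permS σ • e 0 = e 0 := by
    rw [permS, mkMon_smul, monV_single, hσ]; rfl
  have h' : (permS σ)⁻¹ • e 0 = e 0 := by rw [inv_smul_eq_iff, h]
  rw [cmap, cmap, mul_smul, mul_smul, h', smul_addV, h]

/-- The generators. -/
def gen (k : Fin 4) : S := ⁅permS (Equiv.swap 1 k.succ.succ), t0⁆

theorem gen_values : ∀ k : Fin 4,
    mulC fv (fun i => c0 ((Equiv.swap (1 : Fin 6) k.succ.succ).symm i)) c0 = pc k := by
  decide +kernel

theorem gen_mem (k : Fin 4) : gen k ∈ Rad fv ∧ gen k ∈ K0 ∧ cmap (gen k) = pc k := by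
  obtain ⟨hr, hG, hc, hsq⟩ := t0_mem
  have hr' := Rad_conj (permS_fv (Equiv.swap 1 k.succ.succ)) hr
  have he : gen k = permS (Equiv.swap 1 k.succ.succ) * t0 * (permS (Equiv.swap 1 k.succ.succ))⁻¹ * t0 := by
    rw [gen, commutatorElement_def, inv_eq_of_mul_eq_one_right hsq]
  refine ⟨he ▸ mul_mem hr' hr, Subgroup.commutator_mem_commutator (permS_G _ _) hG, ?_⟩
  rw [he, cmap_mul fv0 hr' hr, hc, cmap_conj (Equiv.swap_apply_of_ne_of_ne (by decide)
    (Fin.succ_ne_zero _).symm), hc, ← gen_values k]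
  congr 1
  funext i
  rw [permS_smul]

/-- The elementary group of order sixteen. -/
def T : Subgroup S := Rad fv ⊓ K0

/-- The products of the generators. -/
def elT (b : Fin 4 → Bool) : S :=
  (bif b 0 then gen 0 else 1) * ((bif b 1 then gen 1 else 1) * ((bif b 2 then gen 2 else 1) *
    (bif b 3 then gen 3 else 1)))

theorem elT_spec (b : Fin 4 → Bool) : elT b ∈ T ∧ cmap (elT b) = cOf b := by
  have h : ∀ k, (bif b k then gen k else 1) ∈ T ∧
      cmap (bif b k then gen k else 1) = bif b k then pc k else 0 := fun k => by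
    cases b k
    · exact ⟨one_mem _, cmap_one⟩
    · exact ⟨⟨(gen_mem k).1, (gen_mem k).2.1⟩, (gen_mem k).2.2⟩
  refine ⟨mul_mem (h 0).1 (mul_mem (h 1).1 (mul_mem (h 2).1 (h 3).1)), ?_⟩
  rw [elT, cmap_mul fv0 (h 0).1.1 (mul_mem (h 1).1 (mul_mem (h 2).1 (h 3).1)).1,
    cmap_mul fv0 (h 1).1.1 (mul_mem (h 2).1 (h 3).1).1, cmap_mul fv0 (h 2).1.1 (h 3).1.1,
    (h 0).2, (h 1).2, (h 2).2, (h 3).2]
  rfl

theorem exists_elT {t : S} (ht : t ∈ T) : ∃ b, t = elT b := by
  obtain ⟨b, hb⟩ := cmap_mem_list ht.1 (K0_le_G ht.2)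
  exact ⟨b, cmap_inj fv0 ht.1 (elT_spec b).1.1 (hb.trans (elT_spec b).2.symm)⟩

theorem card_T : Nat.card T = 16 := by
  have h : (Fin 4 → Bool) ≃ T := Equiv.ofBijective (fun b => ⟨elT b, (elT_spec b).1⟩)
    ⟨fun a b e => cOf_facts.1 (by
        rw [← (elT_spec a).2, ← (elT_spec b).2, show elT a = elT b from congrArg Subtype.val e]),
      fun ⟨t, ht⟩ => by
        obtain ⟨b, hb⟩ := exists_elT ht
        exact ⟨b, Subtype.ext hb.symm⟩⟩
  rw [← Nat.card_congr h]
  simp

theorem T_comm {a b : S} (ha : a ∈ T) (hb : b ∈ T) : a * b = b * a := by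
  refine cmap_inj fv0 (mul_mem ha hb).1 (mul_mem hb ha).1 ?_
  obtain ⟨i, hi⟩ := cmap_mem_list ha.1 (K0_le_G ha.2)
  obtain ⟨j, hj⟩ := cmap_mem_list hb.1 (K0_le_G hb.2)
  rw [cmap_mul fv0 ha.1 hb.1, cmap_mul fv0 hb.1 ha.1, hi, hj, cOf_facts.2.1]

theorem T_sq {a : S} (ha : a ∈ T) : a * a = 1 := by
  refine cmap_inj fv0 (mul_mem ha ha).1 (one_mem _) ?_
  obtain ⟨i, hi⟩ := cmap_mem_list ha.1 (K0_le_G ha.2)
  rw [cmap_mul fv0 ha.1 ha.1, hi, cOf_facts.2.2, cmap_one]

theorem K0_normal {g k : S} (hg : g ∈ G FF.w) (hk : k ∈ K0) : g * k * g⁻¹ ∈ K0 := by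
  have h : K0.map (MulAut.conj g).toMonoidHom ≤ K0 := by
    rw [K0, Subgroup.map_commutator]
    have hle : (G FF.w).map (MulAut.conj g).toMonoidHom ≤ G FF.w := by
      rintro _ ⟨x, hx, rfl⟩; exact mul_mem (mul_mem hg hx) (inv_mem hg)
    exact Subgroup.commutator_mono hle hle
  exact h ⟨k, hk, rfl⟩

theorem T_conj {g t : S} (hg : g ∈ G FF.w) (hgv : g • fv = fv) (ht : t ∈ T) : g * t * g⁻¹ ∈ T :=
  ⟨Rad_conj hgv ht.1, K0_normal hg ht.2⟩

theorem T_le : T ≤ StabK fv := fun _ ht => ⟨ht.2, ht.1.1⟩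

/-- The alternating group. -/
def altK : alternatingGroup (Fin 6) →* S := permHom.comp (alternatingGroup (Fin 6)).subtype

theorem altK_mem (σ : alternatingGroup (Fin 6)) : altK σ ∈ StabK fv :=
  ⟨good_K0.le (mkMon_mem_N0 (Equiv.Perm.mem_alternatingGroup.1 σ.2) _), permS_fv σ.1⟩

theorem cOf_perm : ∀ (b : Fin 4 → Bool) (k : Fin 6), e k + e 0 = cOf b → k = 0 := by decide +kernel

theorem eq_one_of_permS_mem {σ : Equiv.Perm (Fin 6)} (h : permS σ ∈ T) : σ = 1 := by
  obtain ⟨b, hb⟩ := cmap_mem_list h.1 (K0_le_G h.2)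
  have he : permS σ • e 0 = e (σ 0) := by rw [permS, mkMon_smul, monV_single]; rfl
  rw [cmap, he] at hb
  have h0 := cOf_perm b _ hb
  have h1 : permS σ = 1 := cmap_inj fv0 h.1 (one_mem _) (by rw [cmap, he, h0, cmap_one, V_add_self])
  exact ((h1 ▸ isMon_mkMon σ ⟨1, by simp⟩ : IsMon 1 σ 1).unique isMon_one).1

theorem StabK_fv_eq {x : S} (hx : x ∈ StabK fv) : ∃ t ∈ T, ∃ σ, x = t * altK σ := by
  let f : T × alternatingGroup (Fin 6) → StabK fv := fun p => ⟨p.1.1 * altK p.2, mul_mem (T_le p.1.2) (altK_mem p.2)⟩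
  have hf : Function.Injective f := by
    rintro ⟨⟨t, ht⟩, σ⟩ ⟨⟨t', ht'⟩, σ'⟩ h
    have h' : t * altK σ = t' * altK σ' := congrArg Subtype.val h
    have hm : permS ((σ * σ'⁻¹ : alternatingGroup (Fin 6)) : Equiv.Perm (Fin 6)) ∈ T := by
      have : altK (σ * σ'⁻¹) = t⁻¹ * t' := by
        rw [map_mul, map_inv, mul_inv_eq_iff_eq_mul, mul_assoc, ← h', inv_mul_cancel_left]
      exact show altK (σ * σ'⁻¹) ∈ T from this ▸ mul_mem (inv_mem ht) ht'
    obtain rfl : σ = σ' := mul_inv_eq_one.1 (Subtype.ext (eq_one_of_permS_mem hm))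
    obtain rfl := mul_right_cancel h'
    rfl
  obtain ⟨⟨t, σ⟩, h⟩ := (hf.bijective_of_nat_card_le (by
    rw [Nat.card_prod, card_T, nat_card_alternatingGroup, card_StabK, card_stab_fv, Nat.card_fin]
    rfl)).2 ⟨x, hx⟩
  exact ⟨t.1, t.2, σ, (congrArg Subtype.val h).symm⟩

/-- Normal 2-subgroups of the stabiliser lie in the elementary group. -/
theorem le_T {P : Subgroup S} (hP : P ≤ StabK fv) (h2 : IsPGroup 2 P)
    (hn : ∀ x ∈ StabK fv, ∀ p ∈ P, x * p * x⁻¹ ∈ P) : P ≤ T := by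
  haveI : Fact (Nat.Prime 2) := ⟨Nat.prime_two⟩
  have hT2 : IsPGroup 2 T := IsPGroup.of_card (n := 4) card_T
  have hPT : P ≤ Subgroup.normalizer (T : Set S) := by
    intro p hp
    rw [Subgroup.mem_normalizer_iff]
    refine fun t => ⟨fun ht => T_conj (K0_le_G (hP hp).1) (hP hp).2 ht, fun ht => ?_⟩
    have h := T_conj (inv_mem (K0_le_G (hP hp).1)) (inv_mem (hP hp)).2 ht
    simpa [mul_assoc] using h
  have h2' : IsPGroup 2 ↥(P ⊔ T) := IsPGroup.to_sup_of_normal_right' h2 hT2 hPT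
  have hle : P ⊔ T ≤ StabK fv := sup_le hP T_le
  set L := (P ⊔ T).comap altK with hL
  haveI : L.Normal := ⟨fun a ha σ => by
    have hnormal : ∀ x ∈ StabK fv, ∀ y ∈ P ⊔ T, x * y * x⁻¹ ∈ P ⊔ T := by
      intro x hx y hy
      have : (P ⊔ T).map (MulAut.conj x).toMonoidHom ≤ P ⊔ T := by
        rw [Subgroup.map_sup]
        refine sup_le_sup ?_ ?_
        · rintro _ ⟨p, hp, rfl⟩; exact hn x hx p hp
        · rintro _ ⟨t, ht, rfl⟩; exact T_conj (K0_le_G hx.1) hx.2 ht
      exact this ⟨y, hy, rfl⟩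
    rw [hL, Subgroup.mem_comap, map_mul, map_mul, map_inv]
    exact hnormal _ (altK_mem σ) _ ha⟩
  haveI := alternatingGroup.isSimpleGroup (α := Fin 6) (by simp)
  rcases IsSimpleGroup.eq_bot_or_eq_top_of_normal L inferInstance with h | h
  · intro p hp
    obtain ⟨t, ht, σ, rfl⟩ := StabK_fv_eq (hP hp)
    have : σ ∈ L := by
      rw [hL, Subgroup.mem_comap]
      exact (Subgroup.mul_mem_cancel_left _ (Subgroup.mem_sup_right ht)).1 (Subgroup.mem_sup_left hp)
    rw [h, Subgroup.mem_bot] at this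
    rw [this, map_one, mul_one]
    exact ht
  · exfalso
    have hall : StabK fv ≤ P ⊔ T := fun x hx => by
      obtain ⟨t, ht, σ, rfl⟩ := StabK_fv_eq hx
      exact mul_mem (Subgroup.mem_sup_right ht) (show σ ∈ L from h ▸ Subgroup.mem_top σ)
    obtain ⟨n, hn⟩ := IsPGroup.iff_card.1 h2'
    have hc := le_antisymm hall hle
    rw [← hc, card_StabK, card_stab_fv] at hn
    have h45 : 45 ∣ 2 ^ n := hn ▸ (by norm_num)
    have h5 : 5 ∣ 2 := (Nat.prime_five).dvd_of_dvd_pow ((by norm_num : (5 : ℕ) ∣ 45).trans h45)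
    norm_num at h5

theorem perm_centralizer : ∀ π : Equiv.Perm (Fin 6), π * Model.σ1 = Model.σ1 * π →
    π * Model.σ2 = Model.σ2 * π → π = 1 := by
  decide +kernel

theorem sign_σ : Equiv.Perm.sign Model.σ1 = 1 ∧ Equiv.Perm.sign Model.σ2 = 1 := by decide +kernel

/-- In the larger stabiliser, normal 2-subgroups still lie in the elementary group. -/
theorem le_T_of_G {P : Subgroup S} (hP : ∀ p ∈ P, p ∈ G FF.w ∧ p • fv = fv) (h2 : IsPGroup 2 P)
    (hn : ∀ x ∈ G FF.w, x • fv = fv → ∀ p ∈ P, x * p * x⁻¹ ∈ P) : P ≤ T := by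
  have hPK : P ⊓ K0 ≤ T := le_T (fun p hp => ⟨hp.2, (hP p hp.1).2⟩) (h2.to_le inf_le_left)
    fun x hx p hp => ⟨hn x (K0_le_G hx.1) hx.2 p hp.1, K0_normal (K0_le_G hx.1) hp.2⟩
  suffices h : P ≤ K0 from fun p hp => hPK ⟨hp, h hp⟩
  intro p hp
  by_contra hpK
  set s := permS (Equiv.swap (0 : Fin 6) 1) with hs
  have hsK : s ∉ K0 := fun h => by
    obtain ⟨σ, d, hd, hsign⟩ := good_K0.mon ⟨h, (⟨_, _, isMon_mkMon _ _⟩ : s ∈ Mon)⟩
    rw [(hd.unique (isMon_mkMon _ _)).1, Equiv.Perm.sign_swap (by decide)] at hsign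
    exact absurd hsign (by decide)
  have hsG : s ∈ G FF.w := permS_G _ _
  have hidx : (K0.subgroupOf (G FF.w)).index = 2 := by
    have h := Subgroup.card_mul_index (K0.subgroupOf (G FF.w))
    rw [Nat.card_congr (Subgroup.subgroupOfEquivOfLe K0_le_G).toEquiv, good_K0.card] at h
    have h' := (card_G_le (j := FF.w) (by decide)).1
    have h0 : (K0.subgroupOf (G FF.w)).index ≠ 0 := Subgroup.index_ne_zero_of_finite
    have h1 : (K0.subgroupOf (G FF.w)).index ≠ 1 := fun h1 => hsK (by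
      rw [Subgroup.index_eq_one, Subgroup.subgroupOf_eq_top] at h1
      exact h1 hsG)
    omega
  have hkK : s * p⁻¹ ∈ K0 := by
    have h := (Subgroup.mul_mem_iff_of_index_two hidx (a := ⟨s, hsG⟩) (b := (⟨p, (hP p hp).1⟩ : G FF.w)⁻¹)).2
    simp only [Subgroup.inv_mem_iff, Subgroup.mem_subgroupOf] at h
    exact h ⟨fun e => absurd e hsK, fun e => absurd e hpK⟩
  obtain ⟨t, ht, ρ, hk⟩ := StabK_fv_eq (x := s * p⁻¹)
    ⟨hkK, by show (s * p⁻¹) • fv = fv; rw [mul_smul, (hP p⁻¹ (inv_mem hp)).2, permS_fv]⟩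
  have key : ∀ σ, Equiv.Perm.sign σ = 1 →
      (ρ.1⁻¹ * Equiv.swap 0 1) * σ = σ * (ρ.1⁻¹ * Equiv.swap (0 : Fin 6) 1) := by
    intro σ hσ
    set x := permS σ with hx
    have hxK : x ∈ StabK fv := altK_mem ⟨σ, Equiv.Perm.mem_alternatingGroup.2 hσ⟩
    have hc : p * x * p⁻¹ * x⁻¹ ∈ T := by
      refine hPK ⟨?_, K0.mul_mem (K0_normal (hP p hp).1 hxK.1) (K0.inv_mem hxK.1)⟩
      rw [show p * x * p⁻¹ * x⁻¹ = p * (x * p⁻¹ * x⁻¹) by group]
      exact mul_mem hp (hn x (K0_le_G hxK.1) hxK.2 _ (inv_mem hp))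
    set c := p * x * p⁻¹ * x⁻¹ with hcdef
    have hρ := altK_mem ρ
    have e1 : s * x * s⁻¹ = t * (altK ρ * c * (altK ρ)⁻¹) * ((altK ρ * x * (altK ρ)⁻¹) * t⁻¹) := by
      rw [show s = t * altK ρ * p by rw [← hk, inv_mul_cancel_right], hcdef]
      group
    have hy : altK ρ * x * (altK ρ)⁻¹ ∈ StabK fv := mul_mem (mul_mem hρ hxK) (inv_mem hρ)
    have hm : s * x * s⁻¹ * (altK ρ * x * (altK ρ)⁻¹)⁻¹ ∈ T := by
      rw [e1, show t * (altK ρ * c * (altK ρ)⁻¹) * ((altK ρ * x * (altK ρ)⁻¹) * t⁻¹) *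
        (altK ρ * x * (altK ρ)⁻¹)⁻¹ = (t * (altK ρ * c * (altK ρ)⁻¹)) *
        ((altK ρ * x * (altK ρ)⁻¹) * t⁻¹ * (altK ρ * x * (altK ρ)⁻¹)⁻¹) by group]
      exact mul_mem (mul_mem ht (T_conj (K0_le_G hρ.1) hρ.2 hc)) (T_conj (K0_le_G hy.1) hy.2 (inv_mem ht))
    have hm' : permHom (Equiv.swap (0 : Fin 6) 1 * σ * (Equiv.swap (0 : Fin 6) 1)⁻¹ * (ρ.1 * σ * ρ.1⁻¹)⁻¹) ∈ T := by
      rw [map_mul, map_mul, map_mul, map_inv, map_inv, map_mul, map_mul, map_inv]
      exact hm
    have := mul_inv_eq_one.1 (eq_one_of_permS_mem hm')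
    calc (ρ.1⁻¹ * Equiv.swap 0 1) * σ
        = ρ.1⁻¹ * (Equiv.swap (0 : Fin 6) 1 * σ * (Equiv.swap (0 : Fin 6) 1)⁻¹) * Equiv.swap (0 : Fin 6) 1 := by
          group
      _ = _ := by rw [this]; group
  have h1 := perm_centralizer _ (key _ sign_σ.1) (key _ sign_σ.2)
  have h2 := ρ.2
  rw [inv_mul_eq_one.1 h1, Equiv.Perm.mem_alternatingGroup, Equiv.Perm.sign_swap (by decide)] at h2
  exact absurd h2 (by decide)

end Cfsg.Agent.LargeExtra.Fischer
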