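import Cfsg.Agent.Lib.LargeExtra.Fischer.Frame
import Cfsg.Agent.Lib.LargeExtra.Fischer.Stab
import Cfsg.Agent.Lib.LargeExtra.MonsterPair
import Cfsg.Agent.Lib.LargeExtra.Center
import Cfsg.Agent.Lib.Forms.Aut42

/-!
The large Fischer setting: the two orbits on involutions, the position of the conjugates of the central
involution and the two stabilisers.
-/

set_option autoImplicit false

namespace Cfsg.Agent.LargeExtra.Fischer

open Cfsg.Agent.InvChar.Coset
open Cfsg.Agent.Components.UnitarySix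
open Cfsg.Agent.MonsterOrbits (bigQ mem_bigQ ctr_bigQ)
open Cfsg.Agent.MonsterPair (imgQ imgC imgQ_sq imgQ_le imgQ_conj card_inf_mul)
open scoped commutatorElement Matrix

local notation "GW" => Cfsg.Agent.Components.UnitarySix.G FF.w

theorem InO_wt_ne_zero {x : V} (h : Iso x) : x ≠ 0 := fun e => by
  subst e
  simp [Iso, wt] at h

theorem Iso_iff {x : V} : Iso x ↔ x ≠ 0 ∧ H x x = 0 := by
  refine ⟨fun h => ⟨InO_wt_ne_zero h, ?_⟩, fun h => orbit_iso h.1 h.2⟩
  rw [H_self]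
  rcases h with h | h | h <;> rw [h] <;> decide +kernel

theorem InO_Iso {x : V} (h : InO FF.w x) : Iso x := Iso_of_InO (by decide) h

theorem e01_InO : InO FF.w e01 := Or.inl wt_e01

variable {G : Type*} [Group G] [Finite G] {z : G} {Q : Subgroup (Cz z)} [Q.Normal] {M : Subgroup (Cz z)}

namespace Frame

variable (F : Frame z Q M)

theorem act_add (c : Cz z) (u v : V) : F.act c (u + v) = F.act c u + F.act c v := by
  obtain ⟨a, rfl⟩ := F.surj u
  obtain ⟨b, rfl⟩ := F.surj v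
  rw [← F.φ_mul, ← F.conj, ← F.conj, ← F.conj, map_mul (MulAut.conjNormal c), F.φ_mul]

theorem act_zero (c : Cz z) : F.act c 0 = 0 := (left_eq_add (a := F.act c 0)).1 (by rw [← F.act_add, add_zero])

theorem act_ne_zero (c : Cz z) {v : V} (h : v ≠ 0) : F.act c v ≠ 0 := fun e => h
  ((F.act c).injective (e.trans (F.act_zero c).symm))

theorem act_H (c : Cz z) {v : V} (h : H v v = 0) : H (F.act c v) (F.act c v) = 0 := by
  obtain ⟨a, rfl⟩ := F.surj v
  rw [← F.conj, ← F.form, ← map_mul, (F.form a).2 h, map_one]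

theorem act_Iso (c : Cz z) {v : V} (h : Iso v) : Iso (F.act c v) := by
  rw [Iso_iff] at h ⊢
  exact ⟨F.act_ne_zero c h.1, F.act_H c h.2⟩

theorem normalM (F : Frame z Q M) : M.Normal := Subgroup.normal_of_index_eq_two F.idx

theorem act_K0 (c : Cz z) {k : S} (hk : k ∈ K0) : ∃ k' ∈ K0, ∀ v, F.act c (k • v) = k' • F.act c v := by
  obtain ⟨m, hm, he⟩ := F.of_K0 k hk
  obtain ⟨k', hk', he'⟩ := F.mem_M _ (F.normalM.conj_mem m hm c)
  refine ⟨k', hk', fun v => ?_⟩
  rw [← he, ← he', ← Equiv.Perm.mul_apply, ← map_mul, ← Equiv.Perm.mul_apply, ← map_mul, inv_mul_cancel_right]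

theorem InO_act (c : Cz z) {v : V} (h : InO FF.w v) : InO FF.w (F.act c v) := by
  obtain ⟨⟨k, hk⟩, rfl⟩ := (orbit_K0 v).2 h
  obtain ⟨k', hk', he⟩ := F.act_K0 c hk
  show InO FF.w (F.act c (k • e01))
  rw [he]
  refine (K0_le_G hk' _).2 ?_
  rcases iso_cases (F.act_Iso c (InO_Iso e01_InO)) with h' | h'
  · exact h'
  exfalso
  -- otherwise the small orbit would cover the large one
  have hsurj : ∀ y : V, O1 y → ∃ x, InO FF.w x ∧ F.act c x = y := by
    intro y hy
    obtain ⟨k1, hk1, hy1⟩ := exists_K0_fv hy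
    obtain ⟨k2, hk2, hy2⟩ := exists_K0_fv h'
    obtain ⟨k3, hk3, he3⟩ := F.act_K0 c⁻¹ (mul_mem hk1 (inv_mem hk2))
    refine ⟨k3 • e01, (K0_le_G hk3 _).2 e01_InO, (F.act c).symm_apply_eq.1 ?_ |>.symm⟩
    have : k3 • e01 = k3 • F.act c⁻¹ (F.act c e01) := by
      rw [← Equiv.Perm.mul_apply, ← map_mul, inv_mul_cancel, map_one]; rfl
    rw [this, ← he3, map_inv, ← hy2, mul_smul, inv_smul_smul, hy1]
    rfl
  have := Nat.card_le_card_of_surjective
    (fun x : {x : V // InO FF.w x} => (if h : O1 (F.act c x.1) then (⟨_, h⟩ : {y : V // O1 y}) else ⟨fv, O1_fv⟩))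
    fun ⟨y, hy⟩ => by
      obtain ⟨x, hx, he'⟩ := hsurj y hy
      refine ⟨⟨x, hx⟩, ?_⟩
      simp only [he']
      rw [dif_pos hy]
  rw [card_O1, card_InO] at this
  omega

theorem InO_act_iff (c : Cz z) {v : V} : InO FF.w (F.act c v) ↔ InO FF.w v := by
  refine ⟨fun h => ?_, F.InO_act c⟩
  have := F.InO_act c⁻¹ h
  rwa [← Equiv.Perm.mul_apply, ← map_mul, inv_mul_cancel, map_one] at this

/-- The frame seen from another position. -/
def twist {k : S} (hk : k ∈ K0) : Frame z Q M where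
  φ a := k • F.φ a
  φ_mul a b := by rw [F.φ_mul, smul_addV]
  surj v := by
    obtain ⟨a, ha⟩ := F.surj (k⁻¹ • v)
    exact ⟨a, by show k • F.φ a = v; rw [ha, smul_inv_smul]⟩
  zero a := by
    rw [← F.zero]
    refine ⟨fun h => MulAction.injective k ?_, fun h => ?_⟩
    · show k • F.φ a = k • (0 : V)
      rw [h, smul_def, Matrix.mulVec_zero]
    · rw [h, smul_def, Matrix.mulVec_zero]
  form a := by rw [H_smul]; exact F.form a
  act := MonoidHom.mk' (fun c => (MulAction.toPerm k).permCongr (F.act c)) fun c d => by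
    ext v
    simp [Equiv.permCongr_apply, Equiv.Perm.mul_apply]
  conj c a := by
    show k • F.φ _ = k • F.act c (k⁻¹ • (k • F.φ a))
    rw [inv_smul_smul, F.conj]
  ker c := by
    rw [← F.ker c]
    exact (MulAction.toPerm k).permCongr.injective.eq_iff' (by ext v; simp [Equiv.permCongr_apply])
  le := F.le
  idx := F.idx
  mem_M m hm := by
    obtain ⟨k', hk', he⟩ := F.mem_M m hm
    refine ⟨k * k' * k⁻¹, mul_mem (mul_mem hk hk') (inv_mem hk), fun v => ?_⟩
    show k • F.act m (k⁻¹ • v) = _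
    rw [he, mul_smul, mul_smul]
  of_K0 k' hk' := by
    obtain ⟨m, hm, he⟩ := F.of_K0 (k⁻¹ * k' * k) (mul_mem (mul_mem (inv_mem hk) hk') hk)
    refine ⟨m, hm, fun v => ?_⟩
    show k • F.act m (k⁻¹ • v) = _
    rw [he, mul_smul, mul_smul, smul_inv_smul, smul_inv_smul]
  semi c := by
    rcases F.semi c with h | h
    · refine Or.inl fun v => ?_
      show k • F.act c (k⁻¹ • (FF.w • v)) = FF.w • (k • F.act c (k⁻¹ • v))
      rw [smul_smulV, h, smul_smulV]
    · refine Or.inr fun v => ?_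
      show k • F.act c (k⁻¹ • (FF.w • v)) = FF.w2 • (k • F.act c (k⁻¹ • v))
      rw [smul_smulV, h, smul_smulV]
  lin c hc u v := by
    show H (k • F.act c (k⁻¹ • u)) (k • F.act c (k⁻¹ • v)) = _
    rw [H_smul, F.lin c ?_, H_smul]
    intro x
    have h := hc (k • x)
    change k • F.act c (k⁻¹ • (FF.w • (k • x))) = FF.w • (k • F.act c (k⁻¹ • (k • x))) at h
    rw [smul_smulV, inv_smul_smul, ← smul_smulV k] at h
    exact MulAction.injective k h

/-- An element of the kernel of the coordinates. -/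
theorem eq_or_mul_z (hS : Cfsg.IsExtraspecialCentralizerSetting z Q 6) {a b : Q} (h : F.φ a = F.φ b) :
    ((b : Cz z) : G) = ((a : Cz z) : G) ∨ ((b : Cz z) : G) = ((a : Cz z) : G) * z := by
  have hc : a⁻¹ * b ∈ Subgroup.center Q := by
    rw [← F.zero]
    have h1 : F.φ 1 = 0 := (F.zero 1).2 (one_mem _)
    have h2 : F.φ a + F.φ (a⁻¹ * b) = F.φ b := by rw [← F.φ_mul, mul_inv_cancel_left]
    rw [← h] at h2
    exact add_eq_left.1 h2
  rcases (Cfsg.Agent.MonsterOrbits.mem_center_iff' hS).1 hc with e | e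
  · left; exact (inv_mul_eq_one.1 e).symm
  · right; exact inv_mul_eq_iff_eq_mul.1 e

end Frame

/-- An involution of the extraspecial group other than the central one. -/
theorem iso_of_invol (hS : Cfsg.IsExtraspecialCentralizerSetting z Q 6) (F : Frame z Q M) {a : Q}
    (h2 : orderOf (a : Cz z) = 2) (hz : ((a : Cz z) : G) ≠ z) : Iso (F.φ a) := by
  rw [Iso_iff]
  refine ⟨fun h => ?_, (F.form a).1 (Subtype.ext ?_)⟩
  · rcases (Cfsg.Agent.MonsterOrbits.mem_center_iff' hS).1 ((F.zero a).1 h) with e | e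
    · rw [show (a : Cz z) = 1 from Subtype.ext e, orderOf_one] at h2
      exact absurd h2 (by norm_num)
    · exact hz e
  · show (a : Cz z) * a = 1
    rw [← pow_two, ← h2, pow_orderOf_eq_one]

theorem invol_of_iso (hS : Cfsg.IsExtraspecialCentralizerSetting z Q 6) (F : Frame z Q M) {a : Q}
    (h : Iso (F.φ a)) : orderOf (a : Cz z) = 2 ∧ ((a : Cz z) : G) ≠ z := by
  rw [Iso_iff] at h
  have hc : a ∉ Subgroup.center Q := fun hc => h.1 ((F.zero a).2 hc)
  rw [Cfsg.Agent.MonsterOrbits.mem_center_iff' hS] at hc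
  push Not at hc
  refine ⟨orderOf_eq_prime ?_ fun e => hc.1 (congrArg Subtype.val e), hc.2⟩
  rw [pow_two]
  exact congrArg Subtype.val ((F.form a).2 h.2)

/-- The same coordinates give conjugates. -/
theorem conj_of_eq (hS : Cfsg.IsExtraspecialCentralizerSetting z Q 6) (F : Frame z Q M) {a b : Q}
    (ha : Iso (F.φ a)) (h : F.φ a = F.φ b) : ∃ q : Cz z, q ∈ Q ∧ q * (a : Cz z) * q⁻¹ = b := by
  rcases F.eq_or_mul_z hS h with e | e
  · exact ⟨1, one_mem _, by rw [one_mul, inv_one, mul_one]; exact Subtype.ext e.symm⟩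
  · have hctr := ctr_bigQ hS
    obtain ⟨h2, hz⟩ := invol_of_iso hS F ha
    obtain ⟨q, hq, hqe⟩ := Cfsg.Agent.MonsterOrbits.exists_swap hS (y := ((a : Cz z) : G)) ⟨_, a.2, rfl⟩
      (fun e1 => by rw [show (a : Cz z) = 1 from Subtype.ext e1, orderOf_one] at h2; exact absurd h2 (by norm_num))
      hz
    obtain ⟨hqC, hqQ⟩ := mem_bigQ.1 hq
    refine ⟨⟨q, hqC⟩, hqQ, Subtype.ext ?_⟩
    show q * ((a : Cz z) : G) * q⁻¹ = ((b : Cz z) : G)
    rw [hqe, e]
    exact (hctr.comm ⟨_, a.2, rfl⟩).symm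

/-- Vectors of the same kind give conjugates. -/
theorem conj_of_kind (hS : Cfsg.IsExtraspecialCentralizerSetting z Q 6) (F : Frame z Q M) {a b : Q}
    (h : (InO FF.w (F.φ a) ∧ InO FF.w (F.φ b)) ∨ (O1 (F.φ a) ∧ O1 (F.φ b))) :
    ∃ c : Cz z, c * (a : Cz z) * c⁻¹ = b := by
  obtain ⟨k, hk, he⟩ : ∃ k ∈ K0, k • F.φ a = F.φ b := by
    rcases h with ⟨ha, hb⟩ | ⟨ha, hb⟩
    · obtain ⟨⟨k1, hk1⟩, he1⟩ := (orbit_K0 _).2 ha
      obtain ⟨⟨k2, hk2⟩, he2⟩ := (orbit_K0 _).2 hb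
      refine ⟨k2 * k1⁻¹, mul_mem hk2 (inv_mem hk1), ?_⟩
      rw [← he1, ← he2]
      show (k2 * k1⁻¹) • k1 • e01 = k2 • e01
      rw [mul_smul, inv_smul_smul]
    · obtain ⟨k1, hk1, he1⟩ := exists_K0_fv ha
      obtain ⟨k2, hk2, he2⟩ := exists_K0_fv hb
      refine ⟨k2 * k1⁻¹, mul_mem hk2 (inv_mem hk1), ?_⟩
      rw [← he1, ← he2, mul_smul, inv_smul_smul]
  obtain ⟨m, -, hm⟩ := F.of_K0 k hk
  have ha : Iso (F.φ a) := h.elim (fun h => InO_Iso h.1) fun h => h.1.1
  have h' : F.φ (MulAut.conjNormal m a) = F.φ b := by rw [F.conj, hm, he]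
  obtain ⟨q, -, hq⟩ := conj_of_eq hS F (by rw [F.conj]; exact F.act_Iso m ha) h'
  refine ⟨q * m, ?_⟩
  rw [← hq, MulAut.conjNormal_apply]
  group

/-- A frame putting a given involution in standard position. -/
theorem exists_twist (F : Frame z Q M) {a : Q} (h : Iso (F.φ a)) :
    ∃ F' : Frame z Q M, (InO FF.w (F.φ a) → F'.φ a = e01) ∧ (O1 (F.φ a) → F'.φ a = fv) := by
  rcases iso_cases h with h' | h'
  · obtain ⟨⟨k, hk⟩, he⟩ := (orbit_K0 _).2 h'
    refine ⟨F.twist (inv_mem hk), fun _ => ?_, fun hO => absurd h' hO.2⟩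
    show k⁻¹ • F.φ a = e01
    rw [← he]
    exact inv_smul_smul k e01
  · obtain ⟨k, hk, he⟩ := exists_K0_fv h'
    refine ⟨F.twist (inv_mem hk), fun hI => absurd hI h'.2, fun _ => ?_⟩
    show k⁻¹ • F.φ a = fv
    rw [← he, inv_smul_smul]

/-! ### The map from the model into the quotient -/

theorem exists_lift (F : Frame z Q M) : ∃ L : K0 →* Cz z ⧸ Q, Function.Injective L ∧
    L.range = M.map (QuotientGroup.mk' Q) ∧
    ∀ (k : K0) (c : Cz z), (c : Cz z ⧸ Q) = L k ↔ ∀ v, F.act c v = k.1 • v := by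
  choose m hm hme using F.of_K0
  have key : ∀ (k : K0) (c : Cz z), (c : Cz z ⧸ Q) = (m k.1 k.2 : Cz z ⧸ Q) ↔ ∀ v, F.act c v = k.1 • v := by
    intro k c
    rw [QuotientGroup.eq, ← F.ker, map_mul, map_inv, inv_mul_eq_one]
    exact ⟨fun e v => by rw [e, hme], fun e => Equiv.ext fun v => by rw [e, hme]⟩
  let L : K0 →* Cz z ⧸ Q := MonoidHom.mk' (fun k => (m k.1 k.2 : Cz z ⧸ Q)) fun k k' => by
    show _ = ((m k.1 k.2 * m k'.1 k'.2 : Cz z) : Cz z ⧸ Q)
    refine ((key (k * k') _).2 fun v => ?_).symm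
    rw [map_mul, Equiv.Perm.mul_apply, hme, hme]
    exact (mul_smul _ _ _).symm
  refine ⟨L, fun k k' e => Subtype.ext (S_ext fun v => ?_), le_antisymm ?_ ?_, key⟩
  · have e' : (m k.1 k.2 : Cz z ⧸ Q) = (m k'.1 k'.2 : Cz z ⧸ Q) := e
    rw [key] at e'
    rw [← e', hme]
  · rintro _ ⟨k, rfl⟩
    exact ⟨_, hm k.1 k.2, rfl⟩
  · rintro _ ⟨c, hc, rfl⟩
    obtain ⟨k, hk, he⟩ := F.mem_M c hc
    exact ⟨⟨k, hk⟩, ((key ⟨k, hk⟩ c).2 he).symm⟩

theorem index_map (F : Frame z Q M) : (M.map (QuotientGroup.mk' Q)).index = 2 := by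
  rw [Subgroup.index_map_eq _ (QuotientGroup.mk'_surjective Q) (by rw [QuotientGroup.ker_mk']; exact F.le)]
  exact F.idx

/-! ### The pair -/

section Pair

variable (hS : Cfsg.IsExtraspecialCentralizerSetting z Q 6) (F : Frame z Q M) {g : G}
  (hgQ : g * z * g⁻¹ ∈ bigQ Q) (hgz : g * z * g⁻¹ ≠ z) {a : Q} (ha : ((a : Cz z) : G) = g * z * g⁻¹)

include hS in
theorem mem_imgC_iff (hI : Iso (F.φ a)) (c : Cz z) :
    (c : Cz z ⧸ Q) ∈ imgC Q ((a : Cz z) : G) ↔ F.act c (F.φ a) = F.φ a := by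
  constructor
  · rintro ⟨d, hd, he⟩
    have hcq : c⁻¹ * d ∈ Q := QuotientGroup.eq.1 he.symm
    have hd' : MulAut.conjNormal d a = a := Subtype.ext (Subtype.ext (by
      rw [MulAut.conjNormal_apply]
      show (d : G) * ((a : Cz z) : G) * (d : G)⁻¹ = ((a : Cz z) : G)
      rw [Subgroup.mem_centralizer_singleton_iff.1 (Subgroup.mem_subgroupOf.1 hd).2, mul_inv_cancel_right]))
    conv_rhs => rw [← hd', F.conj, show d = c * (c⁻¹ * d) by group, map_mul, Equiv.Perm.mul_apply,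
      (F.ker _).2 hcq]
    rfl
  · intro h
    obtain ⟨q, hq, hqe⟩ := conj_of_eq hS F (a := MulAut.conjNormal c a) (b := a)
      (by rw [F.conj, h]; exact hI) (by rw [F.conj, h])
    refine ⟨q * c, Subgroup.mem_subgroupOf.2 ⟨(q * c).2, ?_⟩, ?_⟩
    · show ((q * c : Cz z) : G) ∈ Subgroup.centralizer ({((a : Cz z) : G)} : Set G)
      rw [Subgroup.mem_centralizer_singleton_iff, ← mul_inv_eq_iff_eq_mul]
      rw [MulAut.conjNormal_apply] at hqe
      have h' := congrArg Subtype.val hqe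
      simpa [mul_assoc] using h'
    · show ((q * c : Cz z) : Cz z ⧸ Q) = (c : Cz z ⧸ Q)
      rw [QuotientGroup.mk_mul, (QuotientGroup.eq_one_iff q).2 hq, one_mul]

/-- The part of the other group inside the model. -/
def partK (L : K0 →* Cz z ⧸ Q) (g : G) : Subgroup S := ((imgQ Q g).comap L).map K0.subtype

include hS hgQ hgz ha in
theorem partK_spec (hI : Iso (F.φ a)) (L : K0 →* Cz z ⧸ Q)
    (hL : ∀ (k : K0) (c : Cz z), (c : Cz z ⧸ Q) = L k ↔ ∀ v, F.act c v = k.1 • v) (hinj : Function.Injective L) :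
    partK L g ≤ StabK (F.φ a) ∧ IsPGroup 2 (partK L g) ∧
      ∀ x ∈ StabK (F.φ a), ∀ p ∈ partK L g, x * p * x⁻¹ ∈ partK L g := by
  have hC : ∀ k : K0, L k ∈ imgC Q ((a : Cz z) : G) ↔ k.1 • F.φ a = F.φ a := fun k => by
    obtain ⟨c, hc⟩ := QuotientGroup.mk_surjective (L k)
    rw [← hc, mem_imgC_iff hS F hI, (hL k c).1 hc]
  refine ⟨?_, fun p => ⟨1, ?_⟩, ?_⟩
  · rintro _ ⟨k, hk, rfl⟩
    exact ⟨k.2, (hC k).1 (ha ▸ imgQ_le hS hgQ hgz hk)⟩
  · obtain ⟨p, k, hk, rfl⟩ := p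
    refine Subtype.ext ?_
    show k.1 ^ (2 ^ 1) = 1
    have h := imgQ_sq hS hgQ hgz _ hk
    rw [← map_mul, ← map_one L] at h
    rw [pow_one, pow_two]
    exact congrArg Subtype.val (hinj h)
  · rintro x ⟨hx, hxv⟩ _ ⟨k, hk, rfl⟩
    refine ⟨(⟨x, hx⟩ : K0) * k * (⟨x, hx⟩ : K0)⁻¹, ?_, rfl⟩
    show L ((⟨x, hx⟩ : K0) * k * (⟨x, hx⟩ : K0)⁻¹) ∈ imgQ Q g
    rw [map_mul, map_mul, map_inv]
    exact imgQ_conj hS hgQ hgz _ (ha ▸ (hC ⟨x, hx⟩).2 hxv) _ hk

include hS hgQ hgz in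
theorem card_imgQ_le (L : K0 →* Cz z ⧸ Q)
    (hinj : Function.Injective L) (hr : L.range = M.map (QuotientGroup.mk' Q))
    (hidx : (M.map (QuotientGroup.mk' Q)).index = 2) :
    Nat.card (imgQ Q g) ≤ 2 * Nat.card (partK L g) ∧
      (Nat.card (imgQ Q g) ≤ Nat.card (partK L g) ∨ ¬ imgQ Q g ≤ M.map (QuotientGroup.mk' Q)) ∧
      32 ≤ Nat.card (imgQ Q g) ∧
      2 ^ 12 ≤ Nat.card ↥(bigQ Q ⊓ (bigQ Q).map (MulAut.conj g).toMonoidHom) * Nat.card (imgQ Q g) ∧
      Nat.card ↥(bigQ Q ⊓ (bigQ Q).map (MulAut.conj g).toMonoidHom) ≤ 2 ^ 7 := by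
  set Mb := M.map (QuotientGroup.mk' Q)
  obtain ⟨h1, h2⟩ := card_inf_mul hS hgQ hgz (by norm_num)
  have hcomap : Nat.card (partK L g) = Nat.card ↥(imgQ Q g ⊓ Mb) := by
    rw [partK, Subgroup.card_map_of_injective K0.subtype_injective,
      ← Subgroup.card_map_of_injective (K := (imgQ Q g).comap L) hinj, Subgroup.map_comap_eq, hr, inf_comm]
  have hmul := (Mb.subgroupOf (imgQ Q g)).card_mul_index
  haveI : Mb.Normal := Subgroup.normal_of_index_eq_two hidx
  have hdvd : (Mb.subgroupOf (imgQ Q g)).index ∣ 2 := hidx ▸ Subgroup.relIndex_dvd_index_of_normal Mb _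
  have hk : Nat.card (Mb.subgroupOf (imgQ Q g)) = Nat.card (partK L g) := by
    rw [hcomap, ← Subgroup.inf_subgroupOf_left, Nat.card_congr (Subgroup.subgroupOfEquivOfLe inf_le_left).toEquiv]
  rw [hk] at hmul
  refine ⟨?_, ?_, ?_, h1, h2⟩
  · rw [← hmul, mul_comm]
    exact Nat.mul_le_mul_right _ (Nat.le_of_dvd two_pos hdvd)
  · by_cases hle : imgQ Q g ≤ Mb
    · left
      rw [hcomap, inf_eq_left.2 hle]
    · exact Or.inr hle
  · have := Nat.mul_le_mul_right (Nat.card (imgQ Q g)) h2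
    have : 2 ^ 12 ≤ 2 ^ 7 * Nat.card (imgQ Q g) := h1.trans this
    omega

include hS F hgQ hgz ha in
/-- The conjugates of the central involution lie in the large orbit. -/
theorem O1_of_conj : O1 (F.φ a) := by
  have hI : Iso (F.φ a) := by
    refine iso_of_invol hS F ?_ (ha ▸ hgz)
    rw [← orderOf_injective (Cz z).subtype Subtype.val_injective]
    show orderOf ((a : Cz z) : G) = 2
    rw [ha, ← hS.1]
    exact orderOf_injective (MulAut.conj g).toMonoidHom (MulAut.conj g).injective z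
  rcases iso_cases hI with h | h
  swap
  · exact h
  exfalso
  obtain ⟨F', hF', -⟩ := exists_twist F hI
  obtain ⟨L, hinj, hr, hL⟩ := exists_lift F'
  have hv := hF' h
  have hI' : Iso (F'.φ a) := hv ▸ InO_Iso e01_InO
  obtain ⟨hP, h2, hn⟩ := partK_spec hS F' hgQ hgz ha hI' L hL hinj
  rw [hv] at hP hn
  haveI := stab_e01_simple
  haveI : ((partK L g).subgroupOf (StabK e01)).Normal :=
    ⟨fun p hp x => Subgroup.mem_subgroupOf.2 (hn x x.2 p (Subgroup.mem_subgroupOf.1 hp))⟩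
  have hbot : partK L g = ⊥ := by
    rcases IsSimpleGroup.eq_bot_or_eq_top_of_normal ((partK L g).subgroupOf (StabK e01)) inferInstance with e | e
    · rw [Subgroup.subgroupOf_eq_bot] at e
      exact e.eq_bot_of_le hP
    · exfalso
      have hc : Nat.card (partK L g) = 25920 := by
        rw [← card_stab_e01, ← card_StabK, le_antisymm hP (Subgroup.subgroupOf_eq_top.1 e)]
      haveI : Fact (Nat.Prime 2) := ⟨Nat.prime_two⟩
      obtain ⟨n, hn'⟩ := IsPGroup.iff_card.1 h2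
      rw [hc] at hn'
      have h5 : 5 ∣ 2 := (Nat.prime_five).dvd_of_dvd_pow (hn' ▸ (by norm_num : (5 : ℕ) ∣ 25920))
      norm_num at h5
  have := card_imgQ_le hS hgQ hgz L hinj hr (index_map F')
  rw [hbot, Subgroup.card_bot] at this
  omega

include hS hgQ hgz ha in
/-- The structure at a conjugate of the central involution. -/
theorem pair_structure (hv : F.φ a = fv) :
    Nat.card (imgQ Q g) = 32 ∧
    Nat.card ↥(bigQ Q ⊓ (bigQ Q).map (MulAut.conj g).toMonoidHom) = 2 ^ 7 ∧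
    ∀ _ : ((imgQ Q g).subgroupOf (imgC Q ((a : Cz z) : G))).Normal,
      Nonempty (↥(imgC Q ((a : Cz z) : G)) ⧸ (imgQ Q g).subgroupOf (imgC Q ((a : Cz z) : G)) ≃*
        alternatingGroup (Fin 6)) := by
  obtain ⟨L, hinj, hr, hL⟩ := exists_lift F
  have hI : Iso (F.φ a) := hv ▸ O1_fv.1
  obtain ⟨hP, h2, hn⟩ := partK_spec hS F hgQ hgz ha hI L hL hinj
  rw [hv] at hP hn
  have hT := le_T hP h2 hn
  have hPc := Subgroup.card_le_of_le hT
  rw [card_T] at hPc
  obtain ⟨c1, c2, c3, c4, c5⟩ := card_imgQ_le hS hgQ hgz L hinj hr (index_map F)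
  have hE32 : Nat.card (imgQ Q g) = 32 := by omega
  have hout : ¬ imgQ Q g ≤ M.map (QuotientGroup.mk' Q) := c2.resolve_left (by omega)
  have hPT : partK L g = T := Subgroup.eq_of_le_of_card_ge hT (by rw [card_T]; omega)
  refine ⟨hE32, ?_, fun hN => ?_⟩
  · rw [hE32] at c4
    omega
  set X := imgC Q ((a : Cz z) : G) with hX
  set E := imgQ Q g with hE
  have hEX : E ≤ X := by rw [hE, hX, ha]; exact imgQ_le hS hgQ hgz
  have hLX : ∀ k : K0, L k ∈ X ↔ k.1 • fv = fv := fun k => by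
    obtain ⟨c, hc⟩ := QuotientGroup.mk_surjective (L k)
    rw [← hc, hX, mem_imgC_iff hS F hI, (hL k c).1 hc, hv]
  let j : alternatingGroup (Fin 6) →* X := MonoidHom.codRestrict
    (L.comp (altK.codRestrict K0 fun σ => (altK_mem σ).1)) X fun σ => (hLX _).2 (altK_mem σ).2
  let ψ := (QuotientGroup.mk' (E.subgroupOf X)).comp j
  have hψi : Function.Injective ψ := by
    rw [injective_iff_map_eq_one]
    intro σ hσ
    have h1 : L ⟨altK σ, (altK_mem σ).1⟩ ∈ E := Subgroup.mem_subgroupOf.1 ((QuotientGroup.eq_one_iff (j σ)).1 hσ)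
    have h2 : altK σ ∈ T := hPT ▸ ⟨⟨altK σ, (altK_mem σ).1⟩, h1, rfl⟩
    exact Subtype.ext (eq_one_of_permS_mem h2)
  have hψs : Function.Surjective ψ := by
    have hin : ∀ x : X, (x : Cz z ⧸ Q) ∈ M.map (QuotientGroup.mk' Q) → ∃ σ, ψ σ = QuotientGroup.mk x := by
      rintro ⟨x, hx⟩ hxM
      rw [← hr] at hxM
      obtain ⟨⟨k, hk⟩, rfl⟩ := hxM
      obtain ⟨t, ht, σ, rfl⟩ := StabK_fv_eq ⟨hk, (hLX ⟨k, hk⟩).1 hx⟩
      refine ⟨σ, (QuotientGroup.eq.2 ?_).symm⟩
      rw [Subgroup.mem_subgroupOf]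
      show (L ⟨t * altK σ, hk⟩)⁻¹ * L ⟨altK σ, (altK_mem σ).1⟩ ∈ E
      have ht' : L ⟨t, ht.2⟩ ∈ E := by
        rw [← hPT] at ht
        obtain ⟨k', hk', he⟩ := ht
        rwa [show (⟨t, _⟩ : K0) = k' from Subtype.ext he.symm]
      have e : (L ⟨t * altK σ, hk⟩)⁻¹ * L ⟨altK σ, (altK_mem σ).1⟩ =
          L ⟨altK σ, (altK_mem σ).1⟩⁻¹ * (L ⟨t, ht.2⟩)⁻¹ * L ⟨altK σ, (altK_mem σ).1⟩ := by
        rw [show (⟨t * altK σ, hk⟩ : K0) = ⟨t, ht.2⟩ * ⟨altK σ, (altK_mem σ).1⟩ from rfl, map_mul, map_inv,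
          _root_.mul_inv_rev]
      rw [e]
      have := hN.conj_mem ⟨(L ⟨t, ht.2⟩)⁻¹, hEX (inv_mem ht')⟩ (Subgroup.mem_subgroupOf.2 (inv_mem ht')) (j σ)⁻¹
      rw [Subgroup.mem_subgroupOf] at this
      simpa [j, map_inv] using this
    intro y
    obtain ⟨x, rfl⟩ := QuotientGroup.mk_surjective y
    by_cases hxM : (x : Cz z ⧸ Q) ∈ M.map (QuotientGroup.mk' Q)
    · exact hin x hxM
    · obtain ⟨e, heE, heM⟩ := SetLike.not_le_iff_exists.1 hout
      have hxe : (x : Cz z ⧸ Q) * e ∈ M.map (QuotientGroup.mk' Q) :=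
        (Subgroup.mul_mem_iff_of_index_two (index_map F)).2 (iff_of_false hxM heM)
      obtain ⟨σ, hσ⟩ := hin (x * ⟨e, hEX heE⟩) hxe
      refine ⟨σ, hσ.trans ?_⟩
      rw [QuotientGroup.mk_mul, (QuotientGroup.eq_one_iff _).2
        (Subgroup.mem_subgroupOf.2 (show ((⟨e, hEX heE⟩ : X) : Cz z ⧸ Q) ∈ E from heE)), mul_one]
  exact ⟨(MulEquiv.ofBijective ψ ⟨hψi, hψs⟩).symm⟩

include hS F hgQ hgz ha in
/-- The elements outside the subgroup of index two are semilinear but not linear. -/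
theorem antilinear {c : Cz z} (hc : c ∉ M) : ∀ v, F.act c (FF.w • v) = FF.w2 • F.act c v := by
  refine (F.semi c).resolve_left fun hlin => ?_
  -- in standard position
  have hO := O1_of_conj hS F hgQ hgz ha
  obtain ⟨k0, hk0, he0⟩ := exists_K0_fv hO
  set F' := F.twist (inv_mem hk0) with hF'
  have hv : F'.φ a = fv := by show k0⁻¹ • F.φ a = fv; rw [← he0, inv_smul_smul]
  have hlin' : ∀ v, F'.act c (FF.w • v) = FF.w • F'.act c v := fun v => by
    show k0⁻¹ • F.act c (k0⁻¹⁻¹ • (FF.w • v)) = FF.w • (k0⁻¹ • F.act c (k0⁻¹⁻¹ • v))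
    rw [smul_smulV, hlin, smul_smulV]
  clear_value F'
  clear hlin hO
  -- the matrix
  have hsm : ∀ (l : FF) v, F'.act c (l • v) = l • F'.act c v := fun l v => by
    cases l
    · rw [show (FF.zero : FF) = 0 from rfl, zero_smul, zero_smul]; exact F'.act_zero c
    · rw [show (FF.one : FF) = 1 from rfl, one_smul, one_smul]
    · exact hlin' v
    · rw [show FF.w2 = 1 + FF.w from by decide, add_smul, add_smul, one_smul, one_smul, F'.act_add, hlin']
  let lm : V →ₗ[FF] V := { toFun := F'.act c, map_add' := F'.act_add c, map_smul' := hsm }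
  set A := LinearMap.toMatrix' lm
  have hA : ∀ v, A *ᵥ v = F'.act c v := fun v => LinearMap.toMatrix'_mulVec lm v
  have hcc : c * c ∈ M := Subgroup.mul_self_mem_of_index_two F'.idx c
  have hdet : A.det = 1 := by
    obtain ⟨k, -, hk⟩ := F'.mem_M _ hcc
    have h2 : A * A = Cfsg.Agent.Classical.Unitary.mat k := Cfsg.Agent.Classical.Unitary.mat_ext fun v => by
      rw [← Matrix.mulVec_mulVec, hA, hA, ← smul_def, ← hk, map_mul, Equiv.Perm.mul_apply]
    have h3 : A.det * A.det = 1 := by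
      rw [← Matrix.det_mul, h2]
      exact (k : Matrix.SpecialLinearGroup (Fin 6) FF).2
    revert h3
    generalize A.det = d
    revert d
    decide
  let r : S := Cfsg.Agent.Classical.Unitary.suMk A hdet fun u v => by rw [hA, hA]; exact F'.lin c hlin' u v
  have hr : ∀ v, r • v = F'.act c v := fun v => by
    rw [smul_def]; exact (Cfsg.Agent.Classical.Unitary.suMk_mulVec A hdet _ v).trans (hA v)
  have hrG : r ∈ GW := fun v => by rw [hr]; exact F'.InO_act_iff c
  have hrK : r ∉ K0 := fun hrK => by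
    obtain ⟨m, hm, hme⟩ := F'.of_K0 r hrK
    have : m⁻¹ * c ∈ Q := (F'.ker _).1 (by
      rw [map_mul, map_inv, inv_mul_eq_one]
      exact Equiv.ext fun v => by rw [hme, hr])
    exact hc (by simpa using M.mul_mem hm (F'.le this))
  -- every element acts linearly
  have hall : ∀ d : Cz z, ∃ x ∈ GW, ∀ v, F'.act d v = x • v := by
    intro d
    by_cases hd : d ∈ M
    · obtain ⟨k, hk, he⟩ := F'.mem_M d hd
      exact ⟨k, K0_le_G hk, he⟩
    · have hm : d * c⁻¹ ∈ M := (Subgroup.mul_mem_iff_of_index_two F'.idx).2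
        (iff_of_false hd fun h => hc (by simpa using inv_mem h))
      obtain ⟨k, hk, he⟩ := F'.mem_M _ hm
      refine ⟨k * r, mul_mem (K0_le_G hk) hrG, fun v => ?_⟩
      rw [mul_smul, hr, ← he, ← Equiv.Perm.mul_apply, ← map_mul, inv_mul_cancel_right]
  -- the whole group of the form is realised
  have hsurj : ∀ x ∈ GW, ∃ d : Cz z, ∀ v, F'.act d v = x • v := by
    have hle := (card_G_le (j := FF.w) (by decide)).1
    have hidx : (K0.subgroupOf (GW)).index = 2 := by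
      have h := Subgroup.card_mul_index (K0.subgroupOf (GW))
      rw [Nat.card_congr (Subgroup.subgroupOfEquivOfLe K0_le_G).toEquiv, good_K0.card] at h
      have h0 : (K0.subgroupOf (GW)).index ≠ 0 := Subgroup.index_ne_zero_of_finite
      have h1 : (K0.subgroupOf (GW)).index ≠ 1 := fun h1 => hrK (by
        rw [Subgroup.index_eq_one, Subgroup.subgroupOf_eq_top] at h1
        exact h1 hrG)
      omega
    intro x hx
    by_cases hxK : x ∈ K0
    · obtain ⟨m, -, hm⟩ := F'.of_K0 x hxK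
      exact ⟨m, hm⟩
    · have h : x * r⁻¹ ∈ K0 := by
        have h := (Subgroup.mul_mem_iff_of_index_two hidx (a := (⟨x, hx⟩ : GW))
          (b := (⟨r, hrG⟩ : GW)⁻¹)).2
        simp only [Subgroup.inv_mem_iff, Subgroup.mem_subgroupOf] at h
        exact h ⟨fun e => absurd e hxK, fun e => absurd e hrK⟩
      obtain ⟨m, -, hm⟩ := F'.of_K0 _ h
      refine ⟨m * c, fun v => ?_⟩
      rw [map_mul, Equiv.Perm.mul_apply, hm, ← hr, mul_smul, inv_smul_smul]
  have hI : Iso (F'.φ a) := hv ▸ O1_fv.1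
  let P : Subgroup S :=
    { carrier := {x | ∃ d : Cz z, (d : Cz z ⧸ Q) ∈ imgQ Q g ∧ ∀ v, F'.act d v = x • v}
      one_mem' := ⟨1, one_mem _, fun v => by rw [map_one, one_smul]; rfl⟩
      mul_mem' := fun ⟨d, hd, he⟩ ⟨d', hd', he'⟩ => ⟨d * d', mul_mem hd hd', fun v => by
        rw [map_mul, Equiv.Perm.mul_apply, he', he, mul_smul]⟩
      inv_mem' := fun {x} ⟨d, hd, he⟩ => ⟨d⁻¹, inv_mem hd, fun v => by
        rw [map_inv]
        refine (F'.act d).symm_apply_eq.2 ?_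
        rw [he, smul_inv_smul]⟩ }
  have hPv : ∀ p ∈ P, p ∈ GW ∧ p • fv = fv := by
    rintro p ⟨d, hd, he⟩
    refine ⟨fun v => by rw [← he]; exact F'.InO_act_iff d, ?_⟩
    have h1 := ha ▸ imgQ_le hS hgQ hgz hd
    rw [mem_imgC_iff hS F' hI, hv, he] at h1
    exact h1
  have hP2 : IsPGroup 2 P := by
    rintro ⟨p, d, hd, he⟩
    refine ⟨1, Subtype.ext ?_⟩
    show p ^ (2 ^ 1) = 1
    rw [pow_one, pow_two]
    refine S_ext fun v => ?_
    have h := imgQ_sq hS hgQ hgz _ hd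
    rw [← QuotientGroup.mk_mul, QuotientGroup.eq_one_iff, ← F'.ker, map_mul] at h
    rw [mul_smul, ← he, ← he, one_smul, ← Equiv.Perm.mul_apply, h]; rfl
  have hPn : ∀ x ∈ GW, x • fv = fv → ∀ p ∈ P, x * p * x⁻¹ ∈ P := by
    rintro x hx hxv p ⟨d, hd, he⟩
    obtain ⟨e, hex⟩ := hsurj x hx
    refine ⟨e * d * e⁻¹, ?_, fun v => ?_⟩
    · rw [QuotientGroup.mk_mul, QuotientGroup.mk_mul, QuotientGroup.mk_inv]
      refine imgQ_conj hS hgQ hgz _ (ha ▸ ?_) _ hd
      rw [mem_imgC_iff hS F' hI, hv, hex, hxv]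
    · rw [map_mul, map_mul, map_inv, Equiv.Perm.mul_apply, Equiv.Perm.mul_apply, mul_smul, mul_smul, hex, he]
      congr 2
      refine (F'.act e).symm_apply_eq.2 ?_
      rw [hex, smul_inv_smul]
  have hPT := le_T_of_G hPv hP2 hPn
  -- so the other group lies in the subgroup of index two
  obtain ⟨L, hinj, hLr, hL⟩ := exists_lift F'
  obtain ⟨hP, h2, hn⟩ := partK_spec hS F' hgQ hgz ha hI L hL hinj
  rw [hv] at hP hn
  have hPc := Subgroup.card_le_of_le (le_T hP h2 hn)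
  rw [card_T] at hPc
  obtain ⟨-, c2, c3, -, -⟩ := card_imgQ_le hS hgQ hgz L hinj hLr (index_map F')
  refine (c2.resolve_left (by omega)) fun e he => ?_
  obtain ⟨d, rfl⟩ := QuotientGroup.mk_surjective e
  obtain ⟨x, -, hx⟩ := hall d
  have hxK : x ∈ K0 := (hPT ⟨d, he, hx⟩).2
  rw [← hLr]
  exact ⟨⟨x, hxK⟩, ((hL ⟨x, hxK⟩ d).2 hx).symm⟩

end Pair

/-- The stabiliser of an involution not conjugate to the central one. -/
theorem stab_iso (hS : Cfsg.IsExtraspecialCentralizerSetting z Q 6) (F : Frame z Q M) {t : Q}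
    (hv : F.φ t = e01) (hanti : ∀ c : Cz z, c ∉ M → ∀ v, F.act c (FF.w • v) = FF.w2 • F.act c v)
    (S' : Subgroup (Cz z)) (hS' : ∀ h, h ∈ S' ↔ F.act h e01 = e01) :
    Nonempty (↥(S'.map (QuotientGroup.mk' Q)) ≃*
      Cfsg.isometryGroup (ZMod 2) (Cfsg.quadFormMinus 2 (ZMod 2) 1 1)) := by
  classical
  obtain ⟨L, hinj, hr, hL⟩ := exists_lift F
  set X := S'.map (QuotientGroup.mk' Q) with hX
  have hQS : Q ≤ S' := fun q hq => (hS' q).2 (by rw [(F.ker q).2 hq]; rfl)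
  have hmem : ∀ c : Cz z, (c : Cz z ⧸ Q) ∈ X ↔ F.act c e01 = e01 := fun c => by
    rw [← hS' c]
    constructor
    · rintro ⟨d, hd, he⟩
      have := S'.mul_mem hd (hQS (QuotientGroup.eq.1 he))
      rwa [mul_inv_cancel_left] at this
    · exact fun h => ⟨c, h, rfl⟩
  have hLX : ∀ k : K0, L k ∈ X ↔ k.1 • e01 = e01 := fun k => by
    obtain ⟨c, hc⟩ := QuotientGroup.mk_surjective (L k)
    rw [← hc, hmem, (hL k c).1 hc]
  set Mb := M.map (QuotientGroup.mk' Q) with hMb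
  haveI : Mb.Normal := Subgroup.normal_of_index_eq_two (index_map F)
  set N := Mb.subgroupOf X with hN
  -- the normal subgroup is the stabiliser in the model
  let j : StabK e01 →* N :=
    MonoidHom.codRestrict
      (MonoidHom.codRestrict (L.comp (Subgroup.inclusion (show StabK e01 ≤ K0 from inf_le_left))) X
        fun k => (hLX _).2 k.2.2)
      N fun k => Subgroup.mem_subgroupOf.2 (hr.le ⟨_, rfl⟩)
  have hj : Function.Bijective j := by
    refine ⟨fun k k' e => Subtype.ext ?_, fun ⟨⟨x, hx⟩, hxN⟩ => ?_⟩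
    · have e' : L ⟨k.1, k.2.1⟩ = L ⟨k'.1, k'.2.1⟩ := congrArg (fun y : N => ((y : X) : Cz z ⧸ Q)) e
      exact congrArg (fun y : K0 => (y : S)) (hinj e')
    · obtain ⟨k, hk⟩ : x ∈ L.range := hr.ge (Subgroup.mem_subgroupOf.1 hxN)
      subst hk
      exact ⟨⟨k.1, k.2, (hLX k).1 hx⟩, rfl⟩
  obtain ⟨η⟩ := stab_e01_equiv
  let ε : N ≃* Cfsg.PSU 4 FF 2 := (MulEquiv.ofBijective j hj).symm.trans η
  obtain ⟨ζ⟩ := Cfsg.Agent.Forms.Aut42.mulAut_equiv (K := FF) rfl
  let χ : X →* MulAut N := MulAut.conjNormal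
  haveI := stab_e01_simple
  have hχ : Function.Injective χ := by
    rw [injective_iff_map_eq_one]
    rintro ⟨x, hx⟩ h1
    obtain ⟨c, rfl⟩ := QuotientGroup.mk_surjective x
    have hcomm : ∀ k : StabK e01, (c : Cz z ⧸ Q) * L ⟨k.1, k.2.1⟩ = L ⟨k.1, k.2.1⟩ * (c : Cz z ⧸ Q) := by
      intro k
      have h2 := congrArg (fun y : N => ((y : X) : Cz z ⧸ Q)) (DFunLike.congr_fun h1 (j k))
      simp only [χ, MulAut.conjNormal_apply, MulAut.one_apply] at h2
      exact mul_inv_eq_iff_eq_mul.1 h2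
    by_cases hcM : c ∈ M
    · obtain ⟨k, hk⟩ : (c : Cz z ⧸ Q) ∈ L.range := hr.ge ⟨c, hcM, rfl⟩
      have hk' : k.1 • e01 = e01 := (hLX k).1 (hk ▸ hx)
      have hc : (⟨k.1, k.2, hk'⟩ : StabK e01) ∈ Subgroup.center (StabK e01) := by
        refine Subgroup.mem_center_iff.2 fun k2 => Subtype.ext ?_
        have := hcomm k2
        rw [← hk, ← map_mul, ← map_mul] at this
        exact (congrArg Subtype.val (hinj this)).symm
      have hbot : Subgroup.center (StabK e01) = ⊥ := by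
        rcases IsSimpleGroup.eq_bot_or_eq_top_of_normal (Subgroup.center (StabK e01)) inferInstance with e | e
        · exact e
        · exfalso
          haveI : IsMulCommutative (StabK e01) := ⟨⟨fun p q =>
            (Subgroup.mem_center_iff.1 (e ▸ Subgroup.mem_top q) p)⟩⟩
          obtain ⟨p, hp⟩ := exists_prime_orderOf_dvd_card' (G := StabK e01) 2
            (by rw [card_StabK, card_stab_e01]; norm_num)
          have htop := (IsSimpleGroup.eq_bot_or_eq_top_of_normal (Subgroup.zpowers p)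
            ⟨fun n hn y => by rwa [mul_comm' y n, mul_inv_cancel_right]⟩).resolve_left
            (fun e' => by rw [Subgroup.zpowers_eq_bot] at e'; simp [e'] at hp)
          have := congrArg (fun U : Subgroup (StabK e01) => Nat.card U) htop
          simp only [Nat.card_zpowers, hp, Subgroup.card_top, card_StabK, card_stab_e01] at this
          norm_num at this
      rw [hbot, Subgroup.mem_bot] at hc
      refine Subtype.ext ?_
      show (c : Cz z ⧸ Q) = 1
      rw [← hk, show k = 1 from Subtype.ext (congrArg (fun y : StabK e01 => (y : S)) hc), map_one]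
    · exfalso
      have hd : ∀ u, F.act c (dS • u) = dS • F.act c u := fun u => by
        obtain ⟨d, hd⟩ := QuotientGroup.mk_surjective (L ⟨dS, dS_mem.1⟩)
        have := hcomm ⟨dS, dS_mem⟩
        rw [← hd, ← QuotientGroup.mk_mul, ← QuotientGroup.mk_mul, QuotientGroup.eq, ← F.ker, map_mul, map_inv,
          inv_mul_eq_one, map_mul, map_mul] at this
        have h2 := DFunLike.congr_fun this u
        rw [Equiv.Perm.mul_apply, Equiv.Perm.mul_apply, (hL _ d).1 hd, (hL _ d).1 hd] at h2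
        exact h2
      have h3 := no_antilinear (F.act c) (hanti c hcM) hd
      exact F.act_ne_zero c (fun e => absurd (congrFun e 2) (by decide)) h3
  -- the cardinal
  have hcardN : Nat.card N = 25920 := by
    rw [← Nat.card_congr (Equiv.ofBijective j hj), card_StabK, card_stab_e01]
  obtain ⟨c, hc⟩ : ∃ c : Cz z, c ∉ M := by
    by_contra hne
    push Not at hne
    have := F.idx
    rw [Subgroup.index_eq_one.2 (eq_top_iff.2 fun c _ => hne c)] at this
    omega
  have hcardX : 51840 ≤ Nat.card X := by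
    obtain ⟨⟨k, hk⟩, hk'⟩ := (orbit_K0 _).2 (F.InO_act c e01_InO)
    obtain ⟨m, hm, hme⟩ := F.of_K0 _ (inv_mem hk)
    have hx : ((m * c : Cz z) : Cz z ⧸ Q) ∈ X := by
      rw [hmem, map_mul, Equiv.Perm.mul_apply, hme, ← hk']
      exact inv_smul_smul k e01
    have hxM : ((m * c : Cz z) : Cz z ⧸ Q) ∉ Mb := fun h => hc (by
      obtain ⟨d, hd, he⟩ := h
      have h1 := M.mul_mem hd (F.le (QuotientGroup.eq.1 he))
      rw [mul_inv_cancel_left] at h1
      have := M.mul_mem (inv_mem hm) h1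
      rwa [inv_mul_cancel_left] at this)
    have hi : N.index ≠ 1 := fun e => by
      rw [Subgroup.index_eq_one] at e
      exact hxM (Subgroup.mem_subgroupOf.1 (e ▸ Subgroup.mem_top (⟨_, hx⟩ : X) : (⟨_, hx⟩ : X) ∈ N))
    have h0 : N.index ≠ 0 := Subgroup.index_ne_zero_of_finite
    have h := N.card_mul_index
    rw [hcardN] at h
    rw [← h]
    omega
  have hO : Nat.card (Cfsg.isometryGroup (ZMod 2) (Cfsg.quadFormMinus 2 (ZMod 2) 1 1)) = 51840 :=
    (Cfsg.Agent.S0288.result (F := ZMod 2) (ZMod.card 2) 3 (by norm_num) 1 1 Cfsg.Agent.SuzukiType.anis).trans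
      (by decide)
  let Φ : X →* Cfsg.isometryGroup (ZMod 2) (Cfsg.quadFormMinus 2 (ZMod 2) 1 1) :=
    ((MulAut.congr ε).trans ζ).toMonoidHom.comp χ
  have hΦ : Function.Injective Φ := ((MulAut.congr ε).trans ζ).injective.comp hχ
  haveI : Finite (Cfsg.isometryGroup (ZMod 2) (Cfsg.quadFormMinus 2 (ZMod 2) 1 1)) :=
    Nat.finite_of_card_ne_zero (by rw [hO]; norm_num)
  exact ⟨MulEquiv.ofBijective Φ (hΦ.bijective_of_nat_card_le (by rw [hO]; exact hcardX))⟩

end Cfsg.Agent.LargeExtra.Fischer
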