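import Cfsg.Agent.Lib.LargeExtra.Fischer.Main
import Cfsg.Agent.Lib.LargeExtra.Fischer.Facts

/-!
The stabiliser of a conjugate of the central involution does not lift to the centralizer: the fusion with the
extraspecial group of the conjugate would give an invariant complement in the orthogonal space.
-/

set_option autoImplicit false

namespace Cfsg.Agent.LargeExtra.Fischer

open Cfsg.Agent.InvChar.Coset
open Cfsg.Agent.Components.UnitarySix
open Cfsg.Agent.MonsterOrbits (bigQ mem_bigQ ctr_bigQ card_bigQ)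
open Cfsg.Agent.MonsterPair (imgQ imgC)
open scoped commutatorElement Matrix

/-- An element of the stabiliser. -/
abbrev stA (σ : alternatingGroup (Fin 6)) : StabK fv := ⟨altK σ, altK_mem σ⟩

/-- An element of the module inside the stabiliser. -/
abbrev stT {t : S} (ht : t ∈ T) : StabK fv := ⟨t, T_le ht⟩

theorem stab_perfect : commutator (StabK fv) = ⊤ := by
  haveI := alternatingGroup.isSimpleGroup (α := Fin 6) (by simp)
  have hA6 : commutator (alternatingGroup (Fin 6)) = ⊤ := by
    rcases IsSimpleGroup.eq_bot_or_eq_top_of_normal (commutator (alternatingGroup (Fin 6))) inferInstance with h | h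
    · exfalso
      rw [_root_.commutator_def, Subgroup.commutator_eq_bot_iff_le_centralizer] at h
      have hne : sA * tA ≠ tA * sA := by decide +kernel
      exact hne (Subgroup.mem_centralizer_iff.1 (h (Subgroup.mem_top tA)) sA (Subgroup.mem_top _))
    · exact h
  set C := commutator (StabK fv)
  have hA : ∀ σ, stA σ ∈ C := fun σ => by
    let j : alternatingGroup (Fin 6) →* StabK fv := altK.codRestrict _ altK_mem
    have h : (commutator (alternatingGroup (Fin 6))).map j ≤ C := by
      rw [_root_.commutator_def, Subgroup.map_commutator]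
      exact Subgroup.commutator_mono le_top le_top
    exact h ⟨σ, hA6 ▸ Subgroup.mem_top σ, rfl⟩
  have hrel : stT (gen_T 1) ∈ C := by
    have h := Subgroup.commutator_mem_commutator (Subgroup.mem_top (stA (cyc3 0 1 2)))
      (Subgroup.mem_top (stT (gen_T 0)))
    rw [← _root_.commutator_def] at h
    convert h using 1
    refine Subtype.ext ?_
    show gen 1 = altK (cyc3 0 1 2) * gen 0 * (altK (cyc3 0 1 2))⁻¹ * (gen 0)⁻¹
    rw [gen_relation, mul_inv_cancel_right]
  have h0 : stT (gen_T 0) ∈ C := by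
    obtain ⟨σ, hσ⟩ := gen_conj 1
    have h := Subgroup.Normal.conj_mem (inferInstance : C.Normal) _ hrel (stA σ)⁻¹
    convert h using 1
    refine Subtype.ext ?_
    show gen 0 = (altK σ)⁻¹ * gen 1 * (altK σ)⁻¹⁻¹
    rw [← hσ]; group
  have hg : ∀ k, gen k ∈ C.map (StabK fv).subtype := fun k => by
    obtain ⟨σ, hσ⟩ := gen_conj k
    exact ⟨stA σ * stT (gen_T 0) * (stA σ)⁻¹, Subgroup.Normal.conj_mem (inferInstance : C.Normal) _ h0 _, hσ⟩
  refine eq_top_iff.2 fun x _ => ?_
  obtain ⟨t, ht, σ, hx⟩ := StabK_fv_eq x.2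
  have hst : stT ht ∈ C := by
    obtain ⟨b, hb⟩ := exists_elT ht
    subst hb
    obtain ⟨y, hy, he⟩ := elT_mem_closure b hg
    exact (show y = stT ht from Subtype.ext he) ▸ hy
  exact (show x = stT ht * stA σ from Subtype.ext hx) ▸ mul_mem hst (hA σ)

variable {G : Type*} [Group G] [Finite G] {z : G} {Q : Subgroup (Cz z)} [Q.Normal] {M : Subgroup (Cz z)}

namespace Frame

variable (F : Frame z Q M)

theorem φ_one : F.φ 1 = 0 := (F.zero 1).2 (one_mem _)

theorem act_mul_smul {c d : Cz z} {k l : S} (hc : ∀ v, F.act c v = k • v) (hd : ∀ v, F.act d v = l • v) (v : V) :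
    F.act (c * d) v = (k * l) • v := by
  rw [map_mul, Equiv.Perm.mul_apply, hd, hc, mul_smul]

/-- The matrix of an element of the subgroup of index two. -/
noncomputable def toS (F : Frame z Q M) : M →* S :=
  MonoidHom.mk' (fun m => (F.mem_M m.1 m.2).choose) fun m n => S_ext fun v => by
    rw [← (F.mem_M (m * n).1 (m * n).2).choose_spec.2 v]
    exact F.act_mul_smul (F.mem_M m.1 m.2).choose_spec.2 (F.mem_M n.1 n.2).choose_spec.2 v

theorem toS_mem (m : M) : F.toS m ∈ K0 := (F.mem_M m.1 m.2).choose_spec.1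

theorem toS_spec (m : M) (v : V) : F.act m v = F.toS m • v := (F.mem_M m.1 m.2).choose_spec.2 v

theorem toS_eq {m : M} {k : S} (h : ∀ v, F.act m v = k • v) : F.toS m = k :=
  S_ext fun v => by rw [← toS_spec, h]

theorem toS_eq_one {m : M} : F.toS m = 1 ↔ (m : Cz z) ∈ Q := by
  rw [← F.ker]
  refine ⟨fun h => Equiv.ext fun v => ?_, fun h => F.toS_eq fun v => ?_⟩
  · rw [toS_spec, h, one_smul]; rfl
  · rw [h, one_smul]; rfl

end Frame

section Pair

variable (hS : Cfsg.IsExtraspecialCentralizerSetting z Q 6) (F : Frame z Q M) {g : G}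
  (hgQ : g * z * g⁻¹ ∈ bigQ Q) (hgz : g * z * g⁻¹ ≠ z) {a : Q} (ha : ((a : Cz z) : G) = g * z * g⁻¹)

include hS in
theorem bigQ_large : 32 ≤ Nat.card (bigQ Q) := by
  rw [card_bigQ, hS.2.2.2.1]; norm_num

include hS hgQ hgz in
/-- The situation is symmetric. -/
theorem symm_pair : g⁻¹ * z * g⁻¹⁻¹ ∈ bigQ Q ∧ g⁻¹ * z * g⁻¹⁻¹ ≠ z := by
  have P := Pair.mk' (ctr_bigQ hS) hgQ hgz
  obtain ⟨q, hq, he⟩ := P.z_mem' (bigQ_large hS)
  refine ⟨?_, fun e => hgz ?_⟩
  · have e' : g * q * g⁻¹ = z := he
    have h' : g⁻¹ * z * g⁻¹⁻¹ = q :=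
      calc g⁻¹ * z * g⁻¹⁻¹ = g⁻¹ * (g * q * g⁻¹) * g⁻¹⁻¹ := by rw [e']
        _ = q := by group
    rw [h']; exact hq
  · calc g * z * g⁻¹ = g * (g⁻¹ * z * g⁻¹⁻¹) * g⁻¹ := by rw [e]
      _ = z := by group

include hS hgQ hgz ha in
theorem partK_eq (hv : F.φ a = fv) {L : K0 →* Cz z ⧸ Q} (hinj : Function.Injective L)
    (hr : L.range = M.map (QuotientGroup.mk' Q))
    (hL : ∀ (k : K0) (c : Cz z), (c : Cz z ⧸ Q) = L k ↔ ∀ v, F.act c v = k.1 • v) : partK L g = T := by
  have hI : Iso (F.φ a) := hv ▸ O1_fv.1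
  obtain ⟨hP, h2, hn⟩ := partK_spec hS F hgQ hgz ha hI L hL hinj
  rw [hv] at hP hn
  have hT := le_T hP h2 hn
  obtain ⟨c1, c2, c3, -, -⟩ := card_imgQ_le hS hgQ hgz L hinj hr (index_map F)
  exact Subgroup.eq_of_le_of_card_ge hT (by rw [card_T]; omega)

include hS hgQ hgz ha in
/-- Elements of the module come from the other extraspecial group. -/
theorem exists_T_elt (hv : F.φ a = fv) {t : S} (ht : t ∈ T) :
    ∃ u : Cz z, (u : G) ∈ (bigQ Q).map (MulAut.conj g).toMonoidHom ∧ ∀ v, F.act u v = t • v := by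
  obtain ⟨L, hinj, hr, hL⟩ := exists_lift F
  rw [← partK_eq hS F hgQ hgz ha hv hinj hr hL] at ht
  obtain ⟨k, hk, rfl⟩ := ht
  obtain ⟨u, hu, he⟩ := (Subgroup.mem_comap.1 hk : L k ∈ imgQ Q g)
  exact ⟨u, (Subgroup.mem_subgroupOf.1 hu).1, (hL k u).1 he⟩

include hS hgQ hgz ha in
/-- Elements of the other extraspecial group give elements of the module. -/
theorem mem_T_of_other (hv : F.φ a = fv) {c : Cz z} (hc : (c : G) ∈ (bigQ Q).map (MulAut.conj g).toMonoidHom)
    {k : S} (hk : k ∈ K0) (he : ∀ v, F.act c v = k • v) : k ∈ T := by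
  obtain ⟨L, hinj, hr, hL⟩ := exists_lift F
  rw [← partK_eq hS F hgQ hgz ha hv hinj hr hL]
  exact ⟨⟨k, hk⟩, Subgroup.mem_comap.2 ⟨c, Subgroup.mem_subgroupOf.2 ⟨hc, c.2⟩, (hL ⟨k, hk⟩ c).2 he⟩, rfl⟩

include hS hgQ hgz ha in
/-- The intersection is small. -/
theorem InD_of_mem (hv : F.φ a = fv) {d : Q}
    (hd : ((d : Cz z) : G) ∈ (bigQ Q).map (MulAut.conj g).toMonoidHom) : InD (F.φ d) := by
  refine InD_of_fix _ fun b => ?_
  obtain ⟨ht, hc⟩ := elT_spec b
  obtain ⟨u, hu, he⟩ := exists_T_elt hS F hgQ hgz ha hv ht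
  have P := Pair.mk' (ctr_bigQ hS) hgQ hgz
  have h3 := (cmap_facts fv0 ht.1).2.2
  rw [← hc, ← h3, ← he, ← F.conj]
  rcases P.h'.comm_cases hu hd with h | h
  · left
    congr 1
    refine Subtype.ext ((MulAut.conjNormal_apply _ _).trans (Subtype.ext ?_))
    exact mul_inv_eq_one.1 h
  · right
    rw [← hv, add_comm, ← F.φ_mul]
    congr 1
    refine Subtype.ext ((MulAut.conjNormal_apply _ _).trans (Subtype.ext ?_))
    show (u : G) * ((d : Cz z) : G) * (u : G)⁻¹ = ((a : Cz z) : G) * ((d : Cz z) : G)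
    rw [ha, ← h, commutatorElement_def, inv_mul_cancel_right]

include hS hgQ hgz ha in
/-- The intersection covers all allowed vectors. -/
theorem exists_inter (hv : F.φ a = fv) {v : V} (h : InD v) :
    ∃ d : Q, ((d : Cz z) : G) ∈ (bigQ Q).map (MulAut.conj g).toMonoidHom ∧ F.φ d = v := by
  classical
  obtain ⟨-, h128, -⟩ := pair_structure hS F hgQ hgz ha hv
  set D := bigQ Q ⊓ (bigQ Q).map (MulAut.conj g).toMonoidHom with hD
  by_contra hne
  push Not at hne
  let q : D → Q := fun x => ⟨⟨x.1, (mem_bigQ.1 x.2.1).1⟩, (mem_bigQ.1 x.2.1).2⟩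
  choose σ hσ using F.surj
  let f : D → {w : V // InD w ∧ w ≠ v} × Bool := fun x =>
    (⟨F.φ (q x), InD_of_mem hS F hgQ hgz ha hv x.2.2, fun e => hne (q x) x.2.2 e⟩, decide (q x = σ (F.φ (q x))))
  have hf : Function.Injective f := by
    intro x y e
    obtain ⟨e1, e2⟩ := Prod.ext_iff.1 e
    have e1' : F.φ (q x) = F.φ (q y) := congrArg Subtype.val e1
    have e2' : decide (q x = σ (F.φ (q x))) = decide (q y = σ (F.φ (q y))) := e2
    rw [decide_eq_decide] at e2'
    suffices hqq : q x = q y from Subtype.ext (congrArg (fun r : Q => ((r : Cz z) : G)) hqq)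
    by_cases hx : q x = σ (F.φ (q x))
    · rw [hx, e2'.1 hx, e1']
    · have hy : q y ≠ σ (F.φ (q y)) := fun h' => hx (e2'.2 h')
      rw [← e1'] at hy
      have c1 := F.eq_or_mul_z hS (hσ (F.φ (q x)))
      have c2 := F.eq_or_mul_z hS ((hσ (F.φ (q x))).trans e1')
      refine Subtype.ext (Subtype.ext ?_)
      rw [c1.resolve_left fun e' => hx (Subtype.ext (Subtype.ext e')),
        c2.resolve_left fun e' => hy (Subtype.ext (Subtype.ext e'))]
  have hcard := Nat.card_le_card_of_injective f hf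
  have h63 : Nat.card {w : V // InD w ∧ w ≠ v} + 1 ≤ 64 := by
    rw [← card_InD, Nat.card_eq_fintype_card, Nat.card_eq_fintype_card]
    exact Fintype.card_lt_of_injective_of_notMem (fun w => (⟨w.1, w.2.1⟩ : {w : V // InD w}))
      (fun p r e => Subtype.ext (congrArg (fun t : {w : V // InD w} => t.1) e)) (b := ⟨v, h⟩)
      (by rintro ⟨w, e⟩; exact w.2.2 (congrArg Subtype.val e))
  rw [Nat.card_prod, h128, Nat.card_eq_fintype_card (α := Bool), Fintype.card_bool] at hcard
  omega

end Pair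

section Lift

variable (hS : Cfsg.IsExtraspecialCentralizerSetting z Q 6) (F : Frame z Q M)
  (ι : StabK fv →* Cz z) (hι : ∀ k v, F.act (ι k) v = k.1 • v)

include hS hι in
/-- A lift centralises the involutions above the vector. -/
theorem lift_comm {a : Q} (hv : F.φ a = fv) (k : StabK fv) :
    (ι k : G) * ((a : Cz z) : G) = ((a : Cz z) : G) * (ι k : G) := by
  have hmove : ∀ j, MulAut.conjNormal (ι j) a = a ∨ ((MulAut.conjNormal (ι j) a : Q) : Cz z).1 = ((a : Cz z) : G) * z :=
    fun j => by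
      refine (F.eq_or_mul_z hS (a := a) (b := MulAut.conjNormal (ι j) a)
        (by rw [F.conj, hι, hv]; exact j.2.2.symm)).imp_left fun e => Subtype.ext (Subtype.ext e)
  have hfix : ∀ j l, (MulAut.conjNormal (ι l) a = a ↔ MulAut.conjNormal (ι j) a = a) →
      MulAut.conjNormal (ι j) a = MulAut.conjNormal (ι l) a := fun j l hiff => by
    by_cases h : MulAut.conjNormal (ι j) a = a
    · rw [h, hiff.2 h]
    · exact Subtype.ext (Subtype.ext (((hmove j).resolve_left h).trans
        ((hmove l).resolve_left fun e => h (hiff.1 e)).symm))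
  let Kf : Subgroup (StabK fv) :=
    { carrier := {j | MulAut.conjNormal (ι j) a = a}
      one_mem' := by simp
      mul_mem' := fun {j l} hj hl => by
        show MulAut.conjNormal (ι (j * l)) a = a
        rw [map_mul, map_mul, MulAut.mul_apply, hl, hj]
      inv_mem' := fun {j} hj => by
        show MulAut.conjNormal (ι j⁻¹) a = a
        rw [map_inv, map_inv]
        exact (MulAut.conjNormal (ι j)).symm_apply_eq.2 hj.symm }
  suffices hle : commutator (StabK fv) ≤ Kf by
    have h : MulAut.conjNormal (ι k) a = a := hle (stab_perfect ▸ Subgroup.mem_top k)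
    have h1 := congrArg (fun r : Q => ((r : Cz z) : G)) h
    simp only [MulAut.conjNormal_apply] at h1
    exact mul_inv_eq_iff_eq_mul.1 h1
  have hidx : Kf.index ≤ 2 := by
    by_cases hall : Kf = ⊤
    · rw [hall, Subgroup.index_top]; omega
    obtain ⟨j0, hj0⟩ : ∃ j, j ∉ Kf := by
      by_contra hh; push Not at hh; exact hall (eq_top_iff.2 fun j _ => hh j)
    refine le_of_eq (Subgroup.index_eq_two_iff_exists_notMem_and.2 ⟨j0⁻¹, fun h => hj0 (by simpa using inv_mem h), fun l => ?_⟩)
    by_cases hl : l ∈ Kf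
    · exact Or.inr hl
    left
    have he := hfix j0 l (iff_of_false hl hj0)
    show MulAut.conjNormal (ι (l * j0⁻¹)) a = a
    have h2 : MulAut.conjNormal (ι (j0⁻¹ * l)) a = a := by
      rw [map_mul, map_mul, MulAut.mul_apply, map_inv, map_inv]
      exact (MulAut.conjNormal (ι j0)).symm_apply_eq.2 he.symm
    have : Kf.Normal → l * j0⁻¹ ∈ Kf := fun hn => by simpa [mul_assoc] using hn.conj_mem _ (show j0⁻¹ * l ∈ Kf from h2) j0
    refine this ⟨fun n hn x => ?_⟩
    show MulAut.conjNormal (ι (x * n * x⁻¹)) a = a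
    by_cases hx : MulAut.conjNormal (ι x⁻¹) a = a
    · rw [map_mul, map_mul, MulAut.mul_apply, hx, map_mul, map_mul, MulAut.mul_apply, hn]
      rw [map_inv, map_inv] at hx
      exact ((MulAut.conjNormal (ι x)).symm_apply_eq.1 hx).symm
    · have hnx : MulAut.conjNormal (ι n) (MulAut.conjNormal (ι x⁻¹) a) = MulAut.conjNormal (ι x⁻¹) a := by
        rw [← MulAut.mul_apply, ← map_mul, ← map_mul]
        exact hfix _ _ (iff_of_false hx fun h => hx (by
          rw [map_mul, map_mul, MulAut.mul_apply] at h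
          have h' := (MulAut.conjNormal (ι n)).injective (h.trans hn.symm)
          exact h'))
      rw [map_mul, map_mul, MulAut.mul_apply, map_mul, map_mul, MulAut.mul_apply, hnx, ← MulAut.mul_apply,
        ← map_mul, ← map_mul, mul_inv_cancel, map_one, map_one]
      rfl
  exact commutator_le_of_index_le_two Kf hidx
where
  commutator_le_of_index_le_two {P : Type _} [Group P] [Finite P] (K : Subgroup P) (h : K.index ≤ 2) :
      commutator P ≤ K := by
    rcases Nat.lt_or_ge K.index 2 with h1 | h2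
    · have : K.index = 1 := by
        have h0 : K.index ≠ 0 := Subgroup.index_ne_zero_of_finite
        omega
      rw [Subgroup.index_eq_one.1 this]; exact le_top
    · have hi : K.index = 2 := by omega
      haveI := Subgroup.normal_of_index_eq_two hi
      rw [_root_.commutator_def, Subgroup.commutator_le]
      intro x _ y _
      rw [commutatorElement_def]
      by_cases hx : x ∈ K <;> by_cases hy : y ∈ K <;>
        simp [Subgroup.mul_mem_iff_of_index_two hi, hx, hy]

end Lift

/-- An element conjugated. -/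
theorem conj_mem_Cz {h : G} {c : Cz z} (hc : (c : G) * (h * z * h⁻¹) = (h * z * h⁻¹) * c) :
    h⁻¹ * (c : G) * h ∈ Cz z := by
  rw [Subgroup.mem_centralizer_singleton_iff]
  calc h⁻¹ * (c : G) * h * z = h⁻¹ * ((c : G) * (h * z * h⁻¹)) * h := by group
    _ = _ := by rw [hc]; group

end Cfsg.Agent.LargeExtra.Fischer
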