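import Cfsg.Agent.Lib.LargeExtra.Fischer.NoLift

/-!
The stabiliser of the weight six vector does not lift to the centralizer of the central involution.
-/

set_option autoImplicit false

namespace Cfsg.Agent.LargeExtra.Fischer

open Cfsg.Agent.InvChar.Coset
open Cfsg.Agent.Components.UnitarySix
open Cfsg.Agent.MonsterOrbits (bigQ mem_bigQ ctr_bigQ)
open scoped commutatorElement Matrix

variable {G : Type*} [Group G] [Finite G] {z : G} {Q : Subgroup (Cz z)} [Q.Normal] {M : Subgroup (Cz z)}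

/-- The lift moved by an element. -/
def conjHom (ι : StabK fv →* Cz z) (h : G)
    (hc : ∀ k, (ι k : G) * (h * z * h⁻¹) = (h * z * h⁻¹) * (ι k : G)) : StabK fv →* Cz z :=
  MonoidHom.mk' (fun k => ⟨h⁻¹ * (ι k : G) * h, conj_mem_Cz (hc k)⟩) fun k l => Subtype.ext (by
    show h⁻¹ * (ι (k * l) : G) * h = h⁻¹ * (ι k : G) * h * (h⁻¹ * (ι l : G) * h)
    rw [map_mul, Subgroup.coe_mul]; group)

theorem H_stab {k : S} (hk : k • fv = fv) (v : V) : H (k • v) fv = H v fv :=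
  (congrArg (H (k • v)) hk).symm.trans (H_smul k v fv)

theorem T_inv_eq {t : S} (ht : t ∈ T) : t⁻¹ = t := inv_eq_of_mul_eq_one_right (T_sq ht)

theorem mem_map_conj {h x : G} {U : Subgroup G} (hx : h⁻¹ * x * h ∈ U) :
    x ∈ U.map (MulAut.conj h).toMonoidHom :=
  ⟨_, hx, by simp [mul_assoc]⟩

theorem conj_mem_of_map {h x : G} {U : Subgroup G} (hx : x ∈ U.map (MulAut.conj h).toMonoidHom) :
    h⁻¹ * x * h ∈ U := by
  obtain ⟨y, hy, rfl⟩ := hx
  simpa [mul_assoc] using hy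

theorem mem_Q_of_coe {c : Cz z} (h : (c : G) ∈ bigQ Q) : c ∈ Q := (mem_bigQ.1 h).2

section Pulled

variable (hS : Cfsg.IsExtraspecialCentralizerSetting z Q 6) (F : Frame z Q M)
  (ι : StabK fv →* Cz z) (hι : ∀ k v, F.act (ι k) v = k.1 • v)
  {h : G} (hc : ∀ k, (ι k : G) * (h * z * h⁻¹) = (h * z * h⁻¹) * (ι k : G))
  (hQ1 : h * z * h⁻¹ ∈ bigQ Q) (hne : h * z * h⁻¹ ≠ z)
  {a : Q} (ha : ((a : Cz z) : G) = h * z * h⁻¹) (hv : F.φ a = fv)
  (F1 : Frame z Q M) {a1 : Q} (ha1 : ((a1 : Cz z) : G) = h⁻¹ * z * h⁻¹⁻¹) (hv1 : F1.φ a1 = fv)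

include hv1 ha1 in
theorem exists_rho : ∃ ρ : StabK fv →* StabK fv, ∀ k v, F1.act (conjHom ι h hc k) v = (ρ k).1 • v := by
  haveI := F1.normalM
  have hM : ∀ k, conjHom ι h hc k ∈ M := by
    intro k
    have hk : commutator (StabK fv) ≤ M.comap (conjHom ι h hc) := by
      rw [_root_.commutator_def, Subgroup.commutator_le]
      intro x _ y _
      rw [Subgroup.mem_comap, map_commutatorElement, commutatorElement_def]
      by_cases hx : conjHom ι h hc x ∈ M <;> by_cases hy : conjHom ι h hc y ∈ M <;>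
        simp [Subgroup.mul_mem_iff_of_index_two F1.idx, hx, hy]
    exact hk (stab_perfect ▸ Subgroup.mem_top k)
  have hfix : ∀ k, F1.act (conjHom ι h hc k) fv = fv := by
    intro k
    suffices he : MulAut.conjNormal (conjHom ι h hc k) a1 = a1 by
      have h1 := F1.conj (conjHom ι h hc k) a1
      rw [he, hv1] at h1
      exact h1.symm
    refine Subtype.ext ((MulAut.conjNormal_apply _ _).trans (Subtype.ext ?_))
    show h⁻¹ * (ι k : G) * h * ((a1 : Cz z) : G) * (h⁻¹ * (ι k : G) * h)⁻¹ = ((a1 : Cz z) : G)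
    rw [ha1, inv_inv, mul_inv_eq_iff_eq_mul]
    calc h⁻¹ * (ι k : G) * h * (h⁻¹ * z * h) = h⁻¹ * ((ι k : G) * z) * h := by group
      _ = h⁻¹ * (z * (ι k : G)) * h := by rw [Subgroup.mem_centralizer_singleton_iff.1 (ι k).2]
      _ = _ := by group
  refine ⟨(F1.toS.comp ((conjHom ι h hc).codRestrict M hM)).codRestrict _ fun k => ⟨F1.toS_mem _, ?_⟩,
    fun k v => F1.toS_spec ⟨_, hM k⟩ v⟩
  show F1.toS ⟨_, hM k⟩ • fv = fv
  rw [← F1.toS_spec]; exact hfix k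

variable (ρ : StabK fv →* StabK fv) (hρ : ∀ k v, F1.act (conjHom ι h hc k) v = (ρ k).1 • v)

include hS hι hQ1 hne ha hv ha1 hv1 hρ in
theorem rho_T {t : S} (ht : t ∈ T) : (ρ (stT ht)).1 ∈ T := by
  obtain ⟨u, hu, hue⟩ := exists_T_elt hS F hQ1 hne ha hv ht
  obtain ⟨hQ1', hne'⟩ := symm_pair hS hQ1 hne
  have hcq : u⁻¹ * ι (stT ht) ∈ Q := by
    rw [← F.ker, map_mul, map_inv, inv_mul_eq_one]
    exact Equiv.ext fun v => by rw [hue, hι]
  have P := Pair.mk' (ctr_bigQ hS) hQ1 hne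
  have hu' : h⁻¹ * (u : G) * h ∈ bigQ Q := conj_mem_of_map hu
  obtain ⟨hu1, hu2⟩ := mem_bigQ.1 hu'
  have hd : h⁻¹ * ((u⁻¹ * ι (stT ht) : Cz z) : G) * h ∈ Cz z := by
    refine conj_mem_Cz ?_
    have e1 : (u : G) * (h * z * h⁻¹) = h * z * h⁻¹ * (u : G) := P.h'.comm hu
    show (u : G)⁻¹ * (ι (stT ht) : G) * (h * z * h⁻¹) = h * z * h⁻¹ * ((u : G)⁻¹ * (ι (stT ht) : G))
    have e2 : (u : G)⁻¹ * (h * z * h⁻¹) = h * z * h⁻¹ * (u : G)⁻¹ := by
      rw [inv_mul_eq_iff_eq_mul, ← mul_assoc, e1, mul_inv_cancel_right]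
    calc (u : G)⁻¹ * (ι (stT ht) : G) * (h * z * h⁻¹)
        = (u : G)⁻¹ * ((ι (stT ht) : G) * (h * z * h⁻¹)) := by group
      _ = (u : G)⁻¹ * (h * z * h⁻¹) * (ι (stT ht) : G) := by rw [hc]; group
      _ = _ := by rw [e2]; group
  have hmul : conjHom ι h hc (stT ht) = (⟨_, hu1⟩ : Cz z) * ⟨_, hd⟩ := Subtype.ext (by
    show h⁻¹ * (ι (stT ht) : G) * h = h⁻¹ * (u : G) * h * (h⁻¹ * ((u : G)⁻¹ * (ι (stT ht) : G)) * h)
    group)
  refine mem_T_of_other hS F1 hQ1' hne' ha1 hv1 (c := ⟨_, hd⟩) ?_ (ρ (stT ht)).2.1 fun v => ?_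
  · refine mem_map_conj ?_
    rw [inv_inv]
    show h * (h⁻¹ * ((u⁻¹ * ι (stT ht) : Cz z) : G) * h) * h⁻¹ ∈ bigQ Q
    rw [show h * (h⁻¹ * ((u⁻¹ * ι (stT ht) : Cz z) : G) * h) * h⁻¹ = ((u⁻¹ * ι (stT ht) : Cz z) : G) by group]
    exact mem_bigQ.2 ⟨_, hcq⟩
  · rw [← hρ, hmul, map_mul, (F1.ker _).2 hu2, one_mul]

include hS hι hc hQ1 hne ha1 hv1 hρ in
/-- The module cannot be pulled inside the extraspecial group. -/
theorem no_complement (hker : ∀ (t : S) (ht : t ∈ T), ρ (stT ht) = 1) : False := by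
  classical
  haveI := alternatingGroup.isSimpleGroup (α := Fin 6) (by simp)
  obtain ⟨hQ1', hne'⟩ := symm_pair hS hQ1 hne
  -- the vectors
  have hin : ∀ t (ht : t ∈ T), conjHom ι h hc (stT ht) ∈ Q := fun t ht => by
    rw [← F1.ker]
    refine Equiv.ext fun v => ?_
    rw [hρ, hker t ht]
    exact one_smul S v
  let x : ∀ t, t ∈ T → Q := fun t ht => ⟨conjHom ι h hc (stT ht), hin t ht⟩
  let w : ∀ t, t ∈ T → V := fun t ht => F1.φ (x t ht)
  have hwmul : ∀ t s (ht : t ∈ T) (hs : s ∈ T), w (t * s) (mul_mem ht hs) = w t ht + w s hs := fun t s ht hs => by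
    show F1.φ _ = F1.φ _ + F1.φ _
    rw [← F1.φ_mul]
    congr 1
    refine Subtype.ext ?_
    show conjHom ι h hc (stT (mul_mem ht hs)) = conjHom ι h hc (stT ht) * conjHom ι h hc (stT hs)
    rw [← map_mul]; rfl
  have hwcongr : ∀ {t s : S} (ht : t ∈ T) (hs : s ∈ T), t = s → w t ht = w s hs := by
    rintro t s ht hs rfl; rfl
  have hwconj : ∀ (k : StabK fv) t (ht : t ∈ T) (hkt : k.1 * t * k.1⁻¹ ∈ T),
      w (k.1 * t * k.1⁻¹) hkt = (ρ k).1 • w t ht := fun k t ht hkt => by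
    show F1.φ _ = _ • F1.φ _
    rw [← hρ, ← F1.conj]
    congr 1
    refine Subtype.ext ?_
    rw [MulAut.conjNormal_apply]
    show conjHom ι h hc (stT hkt) = conjHom ι h hc k * conjHom ι h hc (stT ht) * (conjHom ι h hc k)⁻¹
    rw [← map_inv, ← map_mul, ← map_mul]
    rfl
  -- only the trivial element lands on the line
  have hline : ∀ t (ht : t ∈ T), InD (w t ht) → t = 1 := fun t ht hD => by
    obtain ⟨d, hd, hdφ⟩ := exists_inter hS F1 hQ1' hne' ha1 hv1 hD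
    have hmem : h⁻¹ * (ι (stT ht) : G) * h ∈ (bigQ Q).map (MulAut.conj h⁻¹).toMonoidHom := by
      have P := Pair.mk' (ctr_bigQ hS) hQ1' hne'
      rcases F1.eq_or_mul_z hS hdφ with e | e
      · exact (show h⁻¹ * (ι (stT ht) : G) * h = ((d : Cz z) : G) from e) ▸ hd
      · exact (show h⁻¹ * (ι (stT ht) : G) * h = ((d : Cz z) : G) * z from e) ▸
          mul_mem hd (P.z_mem' (bigQ_large hS))
    have h1 := conj_mem_of_map hmem
    rw [show h⁻¹⁻¹ * (h⁻¹ * (ι (stT ht) : G) * h) * h⁻¹ = (ι (stT ht) : G) by group] at h1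
    have h2 := (F.ker _).2 (mem_Q_of_coe (Q := Q) h1)
    refine S_ext fun v => ?_
    rw [one_smul]
    exact (hι (stT ht) v).symm.trans (by rw [h2]; rfl)
  -- the products with the vector
  have hreal : ∀ t (ht : t ∈ T), H (w t ht) fv = 0 ∨ H (w t ht) fv = 1 := fun t ht => by
    have hxx : x t ht * x t ht = 1 := Subtype.ext (by
      show conjHom ι h hc (stT ht) * conjHom ι h hc (stT ht) = 1
      rw [← map_mul, show stT ht * stT ht = 1 from Subtype.ext (T_sq ht), map_one])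
    have haa : a1 * a1 = 1 := (F1.form a1).2 (by rw [hv1]; decide +kernel)
    have hcom : x t ht * a1 = a1 * x t ht := Subtype.ext (Subtype.ext (by
      show h⁻¹ * (ι (stT ht) : G) * h * ((a1 : Cz z) : G) = ((a1 : Cz z) : G) * (h⁻¹ * (ι (stT ht) : G) * h)
      rw [ha1, inv_inv]
      calc h⁻¹ * (ι (stT ht) : G) * h * (h⁻¹ * z * h) = h⁻¹ * ((ι (stT ht) : G) * z) * h := by group
        _ = h⁻¹ * (z * (ι (stT ht) : G)) * h := by
          rw [Subgroup.mem_centralizer_singleton_iff.1 (ι (stT ht)).2]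
        _ = _ := by group))
    have hsq : x t ht * a1 * (x t ht * a1) = 1 := by
      calc x t ht * a1 * (x t ht * a1) = x t ht * (a1 * x t ht) * a1 := by group
        _ = x t ht * x t ht * (a1 * a1) := by rw [← hcom]; group
        _ = 1 := by rw [hxx, haa, one_mul]
    have h0 := (F1.form _).1 hxx
    have h1 := (F1.form _).1 hsq
    rw [F1.φ_mul, hv1, H_addL, H_addR, H_addR, h0, show H fv fv = 0 by decide +kernel,
      show H fv (F1.φ (x t ht)) = H (F1.φ (x t ht)) fv ^ 2 from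
        (Cfsg.Agent.Classical.Unitary.H_conj hF (F1.φ (x t ht)) fv).symm] at h1
    have key : ∀ l : FF, 0 + l + (l ^ 2 + 0) = 0 → l = 0 ∨ l = 1 := by decide
    exact key _ h1
  have hwgen : ∀ k, H (w (gen k) (gen_T k)) fv = H (w (gen 0) (gen_T 0)) fv := fun k => by
    obtain ⟨σ, hσ⟩ := gen_conj k
    have h1 : w (gen k) (gen_T k) = (ρ (stA σ)).1 • w (gen 0) (gen_T 0) := by
      rw [← hwconj (stA σ) _ (gen_T 0) (by show altK σ * gen 0 * (altK σ)⁻¹ ∈ T; exact altK_conj_T σ (gen_T 0))]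
      exact hwcongr _ _ hσ.symm
    rw [h1]
    exact H_stab (ρ (stA σ)).2.2 _
  have hperp0 : H (w (gen 0) (gen_T 0)) fv = 0 := by
    have h1 : w (gen 1 * gen 0) (mul_mem (gen_T 1) (gen_T 0)) = (ρ (stA (cyc3 0 1 2))).1 • w (gen 0) (gen_T 0) := by
      rw [← hwconj (stA (cyc3 0 1 2)) _ (gen_T 0) (by
        show altK _ * gen 0 * (altK _)⁻¹ ∈ T; exact altK_conj_T _ (gen_T 0))]
      exact hwcongr _ _ gen_relation.symm
    rw [hwmul _ _ (gen_T 1) (gen_T 0)] at h1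
    have h2 := congrArg (fun v => H v fv) h1
    simp only [H_addL, hwgen 1] at h2
    rw [H_stab (ρ (stA (cyc3 0 1 2))).2.2, char_two] at h2
    exact h2.symm
  let U : Subgroup S :=
    { carrier := {t | ∃ ht : t ∈ T, H (w t ht) fv = 0}
      one_mem' := ⟨one_mem _, by
        have : w 1 (one_mem _) = 0 := by
          show F1.φ _ = 0
          rw [show x 1 (one_mem _) = 1 from Subtype.ext (by
            show conjHom ι h hc (stT (one_mem T)) = 1
            rw [show stT (one_mem T) = 1 from rfl, map_one]), F1.φ_one]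
        rw [this]; decide +kernel⟩
      mul_mem' := fun ⟨ht, h1⟩ ⟨hs, h2⟩ => ⟨mul_mem ht hs, by rw [hwmul _ _ ht hs, H_addL, h1, h2, add_zero]⟩
      inv_mem' := fun {t} ⟨ht, h1⟩ => ⟨inv_mem ht, by rw [hwcongr _ ht (T_inv_eq ht)]; exact h1⟩ }
  have hperp : ∀ t (ht : t ∈ T), H (w t ht) fv = 0 := fun t ht => by
    obtain ⟨b, hb⟩ := exists_elT ht
    have : elT b ∈ U := elT_mem_closure b fun k => ⟨gen_T k, (hwgen k).trans hperp0⟩
    subst hb
    exact this.2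
  -- the image of the alternating group
  let ρA : alternatingGroup (Fin 6) →* StabK fv := ρ.comp (altK.codRestrict _ altK_mem)
  have hρsplit : ∀ k : StabK fv, ∃ σ, ρ k = ρA σ := fun k => by
    obtain ⟨t, ht, σ, hk⟩ := StabK_fv_eq k.2
    exact ⟨σ, by rw [show k = stT ht * stA σ from Subtype.ext hk, map_mul, hker t ht, one_mul]; rfl⟩
  have hinj : Function.Injective ρA := by
    rw [← MonoidHom.ker_eq_bot_iff]
    refine (IsSimpleGroup.eq_bot_or_eq_top_of_normal ρA.ker inferInstance).resolve_right fun htop => ?_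
    have hall : ∀ k, ρ k = 1 := fun k => by
      obtain ⟨σ, e⟩ := hρsplit k
      rw [e]; exact MonoidHom.mem_ker.1 (htop ▸ Subgroup.mem_top σ)
    have h1 := hwmul _ _ (gen_T 1) (gen_T 0)
    have h2 : w (gen 1 * gen 0) (mul_mem (gen_T 1) (gen_T 0)) = w (gen 0) (gen_T 0) := by
      have := hwconj (stA (cyc3 0 1 2)) _ (gen_T 0) (by
        show altK _ * gen 0 * (altK _)⁻¹ ∈ T; exact altK_conj_T _ (gen_T 0))
      rw [hall] at this
      rw [hwcongr _ (mul_mem (gen_T 1) (gen_T 0)) gen_relation] at this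
      rw [this]
      exact one_smul S _
    have hz1 : w (gen 1) (gen_T 1) = 0 := add_eq_right.1 (h1.symm.trans h2)
    have : gen 1 = 1 := hline _ (gen_T 1) (by rw [hz1]; decide +kernel)
    obtain ⟨σ, hσ⟩ := gen_conj 1
    rw [← hσ, mul_inv_eq_one, mul_eq_left] at this
    exact gen_ne_one this
  have htriv : ∀ σ, (ρA σ).1 ∈ T → σ = 1 := by
    have hle : (T.subgroupOf (StabK fv)).comap ρA = ⊥ := by
      haveI : (T.subgroupOf (StabK fv)).Normal := ⟨fun t ht k => by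
        rw [Subgroup.mem_subgroupOf] at ht ⊢
        exact T_conj (K0_le_G k.2.1) k.2.2 ht⟩
      refine (IsSimpleGroup.eq_bot_or_eq_top_of_normal _ (Subgroup.normal_comap ρA)).resolve_right fun htop => ?_
      have := Nat.card_le_card_of_injective
        (fun σ : alternatingGroup (Fin 6) =>
          (⟨(ρA σ).1, Subgroup.mem_subgroupOf.1 (Subgroup.mem_comap.1 (htop ▸ Subgroup.mem_top σ))⟩ : T))
        (fun p q e => hinj (Subtype.ext (congrArg (fun y : T => y.1) e)))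
      rw [card_T, nat_card_alternatingGroup, Nat.card_fin] at this
      exact absurd this (by decide)
    intro σ hσ
    have : σ ∈ (T.subgroupOf (StabK fv)).comap ρA := Subgroup.mem_comap.2 (Subgroup.mem_subgroupOf.2 hσ)
    rwa [hle, Subgroup.mem_bot] at this
  have hlabel : ∀ π, ∃ σ, ∃ t ∈ T, (ρA σ).1 = t * altK π := by
    choose tt htt π hπ using fun σ => StabK_fv_eq (ρA σ).2
    have hπi : Function.Injective π := by
      intro p q e
      have h2 : (ρA (p * q⁻¹)).1 ∈ T := by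
        rw [map_mul, map_inv]
        show (ρA p).1 * (ρA q).1⁻¹ ∈ T
        rw [hπ p, hπ q, e, mul_inv_rev, mul_assoc, mul_inv_cancel_left]
        exact mul_mem (htt p) (inv_mem (htt q))
      exact mul_inv_eq_one.1 (htriv _ h2)
    intro p
    obtain ⟨σ, rfl⟩ := (Finite.injective_iff_surjective.1 hπi) p
    exact ⟨σ, _, htt σ, hπ σ⟩
  -- normalise the element of order three
  obtain ⟨σs, ts, hts, hs⟩ := hlabel sA
  have hconj : ∀ u : T, (u : S)⁻¹ * (altK sA * u * (altK sA)⁻¹) ∈ T := fun u =>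
    mul_mem (inv_mem u.2) (altK_conj_T _ u.2)
  let fc : T → T := fun u => ⟨_, hconj u⟩
  have hfc : Function.Injective fc := by
    intro p q e
    have e' : p.1⁻¹ * (altK sA * p.1 * (altK sA)⁻¹) = q.1⁻¹ * (altK sA * q.1 * (altK sA)⁻¹) :=
      congrArg Subtype.val e
    have h1 : q.1 * p.1⁻¹ = 1 := by
      refine sA_fpf (mul_mem q.2 (inv_mem p.2)) ?_
      rw [← mul_inv_eq_iff_eq_mul]
      calc altK sA * (q.1 * p.1⁻¹) * (altK sA)⁻¹
          = (altK sA * q.1 * (altK sA)⁻¹) * (altK sA * p.1 * (altK sA)⁻¹)⁻¹ := by group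
        _ = q.1 * (q.1⁻¹ * (altK sA * q.1 * (altK sA)⁻¹)) * (p.1 * (p.1⁻¹ * (altK sA * p.1 * (altK sA)⁻¹)))⁻¹ := by
          group
        _ = _ := by
          rw [e']
          group
    exact Subtype.ext (mul_inv_eq_one.1 h1).symm
  obtain ⟨⟨u, hu⟩, hue⟩ := (Finite.injective_iff_surjective.1 hfc) ⟨ts, hts⟩
  have hue' : u⁻¹ * (altK sA * u * (altK sA)⁻¹) = ts := congrArg Subtype.val hue
  obtain ⟨σt, tt, htt, ht'⟩ := hlabel tA
  set tb := u * tt * (altK tA * u⁻¹ * (altK tA)⁻¹) with htb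
  have htbT : tb ∈ T := mul_mem (mul_mem hu htt) (altK_conj_T _ (inv_mem hu))
  obtain ⟨b, hb⟩ := exists_elT htbT
  -- the set
  let W : Set V := {v | ∃ t ht, u • w t ht = v}
  have hWinv : ∀ (σ : alternatingGroup (Fin 6)) v, v ∈ W → (u * (ρA σ).1 * u⁻¹) • v ∈ W := by
    rintro σ _ ⟨t, ht, rfl⟩
    refine ⟨altK σ * t * (altK σ)⁻¹, altK_conj_T σ ht, ?_⟩
    rw [hwconj (stA σ) t ht (altK_conj_T σ ht), mul_smul, mul_smul, inv_smul_smul]
    rfl
  have hsW : ∀ v ∈ W, permV sT v ∈ W := fun v hv => by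
    have he : u * (ρA σs).1 * u⁻¹ = altK sA := by rw [hs, ← hue']; group
    rw [← sA_smul, ← he]
    exact hWinv σs v hv
  have hWperp : ∀ v ∈ W, H v fv = 0 := by
    rintro _ ⟨t, ht, rfl⟩
    rw [← (T_le hu).2, H_smul]
    exact hperp t ht
  have htW : ∀ v ∈ W, radMap fv (cOf b) (permV tT v) ∈ W := fun v hv => by
    have he : u * (ρA σt).1 * u⁻¹ = tb * altK tA := by rw [ht', htb]; group
    rw [← tA_smul, ← (elT_spec b).2, ← (cmap_facts fv0 (elT_spec b).1.1).2.2, ← mul_smul, ← hb, ← he]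
    exact hWinv σt v hv
  have hWU : ∀ v ∈ W, InU v = true := fun v hv => by
    have h0 := hWperp v hv
    set p := v 0 + v 1 + v 2 with hp
    set q := v 3 + v 4 + v 5 with hq
    have hpq : p + q = 0 := by
      rw [hp, hq, ← h0]
      simp only [Cfsg.hermForm, fv, Fin.sum_univ_six, one_pow, mul_one]
      ring
    have hsum : v + permV sT v + permV sT (permV sT v) = p • fv := by
      have hqp : q = p := (show ∀ a c : FF, a + c = 0 → c = a by decide) p q hpq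
      funext i
      have hpq' : v 0 + v 1 + v 2 = v 3 + v 4 + v 5 := by rw [← hp, ← hq, hqp]
      fin_cases i <;> simp [permV, sT, fv, hp] <;> first | linear_combination -hpq' | linear_combination (0 : FF)
    obtain ⟨t, ht, rfl⟩ := hv
    obtain ⟨t1, ht1, e1⟩ := hsW _ ⟨t, ht, rfl⟩
    obtain ⟨t2, ht2, e2⟩ := hsW _ ⟨t1, ht1, e1⟩
    rw [← e2, ← e1, ← smul_addV, ← smul_addV, ← hwmul _ _ ht ht1, ← hwmul _ _ (mul_mem ht ht1) ht2] at hsum
    have hu' : u • (p • fv) = p • fv := by rw [smul_smulV, (T_le hu).2]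
    have h3 : w _ (mul_mem (mul_mem ht ht1) ht2) = p • fv := MulAction.injective u (hsum.trans hu'.symm)
    have h4 : t * t1 * t2 = 1 := hline _ _ (h3 ▸ InD_line p)
    have hp0 : p = 0 := by
      have h5 := h3
      rw [hwcongr _ (one_mem _) h4] at h5
      have h6 : w 1 (one_mem _) = 0 := add_eq_left.1 (by
        rw [← hwmul 1 1 (one_mem _) (one_mem _)]; exact hwcongr _ _ (mul_one 1))
      rw [h6] at h5
      exact (congrFun h5 0).symm.trans (Pi.zero_apply _) |> fun e => by simpa [fv] using e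
    have hq0 : q = 0 := by rw [hp0, zero_add] at hpq; exact hpq
    simp only [InU, Bool.and_eq_true, decide_eq_true_eq]
    exact ⟨hp0, hq0⟩
  have hstb : ∀ n, ∀ v ∈ W, stb (cOf b) n v = true := by
    intro n
    induction n with
    | zero => exact hWU
    | succ n ih =>
      intro v hv
      simp only [stb, Bool.and_eq_true]
      exact ⟨⟨ih v hv, ih _ (htW v hv)⟩, ih _ (hsW v hv)⟩
  have h0 := eq_zero_of_stb (hstb 4 _ ⟨gen 0, gen_T 0, rfl⟩)
  have hw0 : w (gen 0) (gen_T 0) = 0 := MulAction.injective u (h0.trans (by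
    show (0 : V) = u • (0 : V)
    rw [smul_def, Matrix.mulVec_zero]))
  exact gen_ne_one (hline _ _ (by rw [hw0]; decide +kernel))

end Pulled

/-- There is no lift of the stabiliser. -/
theorem no_lift (hS : Cfsg.IsExtraspecialCentralizerSetting z Q 6) (F : Frame z Q M)
    (ι : StabK fv →* Cz z) (hι : ∀ k v, F.act (ι k) v = k.1 • v) : False := by
  classical
  obtain ⟨-, -, -, -, g0, ⟨hq0, hqQ⟩, hg0⟩ := id hS
  -- a conjugate of the central involution at the vector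
  obtain ⟨k, hk, hke⟩ := exists_K0_fv (O1_of_conj hS F (g := g0) ⟨_, hqQ, rfl⟩ hg0 (a := ⟨⟨_, hq0⟩, hqQ⟩) rfl)
  obtain ⟨m, -, hm⟩ := F.of_K0 k⁻¹ (inv_mem hk)
  set g := (m : G) * g0 with hg
  set a : Q := MulAut.conjNormal m ⟨⟨_, hq0⟩, hqQ⟩ with hadef
  have hv : F.φ a = fv := by rw [hadef, F.conj, hm, ← hke, inv_smul_smul]
  have ha : ((a : Cz z) : G) = g * z * g⁻¹ := by
    rw [hadef, MulAut.conjNormal_apply]
    show (m : G) * (g0 * z * g0⁻¹) * (m : G)⁻¹ = _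
    rw [hg]; group
  have hgQ : g * z * g⁻¹ ∈ bigQ Q := ha ▸ ⟨_, a.2, rfl⟩
  have hgz : g * z * g⁻¹ ≠ z := fun e => hg0 (by
    calc g0 * z * g0⁻¹ = (m : G)⁻¹ * (g * z * g⁻¹) * (m : G) := by rw [hg]; group
      _ = (m : G)⁻¹ * (z * (m : G)) := by rw [e, mul_assoc]
      _ = z := by rw [← Subgroup.mem_centralizer_singleton_iff.1 m.2, inv_mul_cancel_left])
  obtain ⟨hQ1', hne'⟩ := symm_pair hS hgQ hgz
  obtain ⟨hx, hxQ⟩ := mem_bigQ.1 hQ1'
  set a1 : Q := ⟨⟨_, hx⟩, hxQ⟩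
  have hO1 : O1 (F.φ a1) := O1_of_conj hS F hQ1' hne' rfl
  obtain ⟨F1, -, hF1⟩ := exists_twist F hO1.1
  have hv1 := hF1 hO1
  -- the two moving elements
  obtain ⟨q, hq⟩ := F.surj v0
  set g' := ((q : Cz z) : G) * g with hg'
  set a' : Q := MulAut.conjNormal (q : Cz z) a with ha'def
  have hv' : F.φ a' = fv := by rw [ha'def, F.conj, (F.ker _).2 q.2]; exact hv
  have ha' : ((a' : Cz z) : G) = g' * z * g'⁻¹ := by
    rw [ha'def, MulAut.conjNormal_apply]
    show ((q : Cz z) : G) * ((a : Cz z) : G) * ((q : Cz z) : G)⁻¹ = _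
    rw [ha, hg']; group
  have hqz := Subgroup.mem_centralizer_singleton_iff.1 (q : Cz z).2
  have hgQ' : g' * z * g'⁻¹ ∈ bigQ Q := ha' ▸ ⟨_, a'.2, rfl⟩
  have hgz' : g' * z * g'⁻¹ ≠ z := fun e => hgz (by
    calc g * z * g⁻¹ = ((q : Cz z) : G)⁻¹ * (g' * z * g'⁻¹) * ((q : Cz z) : G) := by rw [hg']; group
      _ = ((q : Cz z) : G)⁻¹ * (z * ((q : Cz z) : G)) := by rw [e, mul_assoc]
      _ = z := by rw [← hqz, inv_mul_cancel_left])
  have ha1' : ((a1 : Cz z) : G) = g'⁻¹ * z * g'⁻¹⁻¹ := by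
    show g⁻¹ * z * g⁻¹⁻¹ = _
    calc g⁻¹ * z * g⁻¹⁻¹ = g⁻¹ * (((q : Cz z) : G)⁻¹ * (((q : Cz z) : G) * z)) * g := by group
      _ = g⁻¹ * (((q : Cz z) : G)⁻¹ * (z * ((q : Cz z) : G))) * g := by rw [hqz]
      _ = _ := by rw [hg']; group
  have hc : ∀ k, (ι k : G) * (g * z * g⁻¹) = g * z * g⁻¹ * (ι k : G) := fun k =>
    ha ▸ lift_comm hS F ι hι hv k
  have hc' : ∀ k, (ι k : G) * (g' * z * g'⁻¹) = g' * z * g'⁻¹ * (ι k : G) := fun k =>
    ha' ▸ lift_comm hS F ι hι hv' k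
  obtain ⟨ρ, hρ⟩ := exists_rho ι hc F1 (a1 := a1) rfl hv1
  obtain ⟨ρ', hρ'⟩ := exists_rho ι hc' F1 ha1' hv1
  have hT := fun t (ht : t ∈ T) => rho_T hS F ι hι hc hgQ hgz ha hv F1 (a1 := a1) rfl hv1 ρ hρ ht
  have hT' := fun t (ht : t ∈ T) => rho_T hS F ι hι hc' hgQ' hgz' ha' hv' F1 ha1' hv1 ρ' hρ' ht
  -- the two maps agree modulo the module
  let dd : StabK fv → Cz z := fun k =>
    conjHom ι g' hc' k * (conjHom ι g hc k)⁻¹
  have hdd : ∀ k, ((dd k : Cz z) : G) =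
      g⁻¹ * (((q : Cz z) : G)⁻¹ * (ι k : G) * ((q : Cz z) : G) * (ι k : G)⁻¹) * g := fun k => by
    show g'⁻¹ * (ι k : G) * g' * (g⁻¹ * (ι k : G) * g)⁻¹ = _
    rw [hg']; group
  have hddQ : ∀ k, ((q : Cz z) : G)⁻¹ * (ι k : G) * ((q : Cz z) : G) * (ι k : G)⁻¹ ∈ bigQ Q := fun k => by
    refine mem_bigQ.2 ⟨((q : Cz z)⁻¹ * ι k * (q : Cz z) * (ι k)⁻¹).2, ?_⟩
    show (q : Cz z)⁻¹ * ι k * (q : Cz z) * (ι k)⁻¹ ∈ Q
    rw [mul_assoc (q : Cz z)⁻¹, mul_assoc (q : Cz z)⁻¹]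
    exact mul_mem (inv_mem q.2) ((inferInstance : Q.Normal).conj_mem _ q.2 _)
  have hddact : ∀ k v, F1.act (dd k) v = ((ρ' k).1 * (ρ k).1⁻¹) • v := fun k v => by
    show F1.act (conjHom ι g' hc' k * (conjHom ι g hc k)⁻¹) v = _
    rw [← map_inv, map_mul, Equiv.Perm.mul_apply, hρ', hρ, map_inv, mul_smul]
    rfl
  have hddT : ∀ k, (ρ' k).1 * (ρ k).1⁻¹ ∈ T := fun k => by
    refine mem_T_of_other hS F1 hQ1' hne' (a := a1) rfl hv1 (c := dd k) ?_
      (mul_mem (ρ' k).2.1 (inv_mem (ρ k).2.1)) (hddact k)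
    refine mem_map_conj ?_
    rw [hdd, inv_inv]
    convert hddQ k using 1
    group
  have hdiff : ∃ t, ∃ ht : t ∈ T, (ρ' (stT ht)).1 ≠ (ρ (stT ht)).1 := by
    obtain ⟨b, hb⟩ := v0_moves
    refine ⟨elT b, (elT_spec b).1, fun e => hb ?_⟩
    set k := stT (elT_spec b).1
    have h1 : dd k ∈ Q := by
      rw [← F1.ker]
      refine Equiv.ext fun v => ?_
      rw [hddact, e, mul_inv_cancel, one_smul]; rfl
    let d : Q := ⟨(q : Cz z)⁻¹ * ι k * (q : Cz z) * (ι k)⁻¹, mem_Q_of_coe (hddQ k)⟩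
    have hd : ((d : Cz z) : G) ∈ (bigQ Q).map (MulAut.conj g).toMonoidHom := by
      refine mem_map_conj ?_
      show g⁻¹ * (((q : Cz z) : G)⁻¹ * (ι k : G) * ((q : Cz z) : G) * (ι k : G)⁻¹) * g ∈ bigQ Q
      rw [← hdd]
      exact mem_bigQ.2 ⟨_, h1⟩
    have h2 := InD_of_mem hS F hgQ hgz ha hv hd
    have h3 : F.φ d = v0 + radMap fv (cOf b) v0 := by
      rw [show d = q⁻¹ * MulAut.conjNormal (ι k) q from Subtype.ext (by
        show (q : Cz z)⁻¹ * ι k * (q : Cz z) * (ι k)⁻¹ = (q : Cz z)⁻¹ * (MulAut.conjNormal (ι k) q : Cz z)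
        rw [MulAut.conjNormal_apply]; group), F.φ_mul, F.conj, hι, hq,
        show F.φ q⁻¹ = v0 by
          refine (neg_eq_of_add_eq_zero_right (a := F.φ q) ?_).symm.trans ?_
          · rw [← F.φ_mul, mul_inv_cancel, F.φ_one]
          · rw [hq]; exact neg_eq_of_add_eq_zero_right (V_add_self v0),
        show k.1 • v0 = radMap fv (cOf b) v0 by
          rw [← (elT_spec b).2, ← (cmap_facts fv0 (elT_spec b).1.1).2.2]]
    exact h3 ▸ h2
  -- one of them kills the module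
  by_cases hz : ∀ t (ht : t ∈ T), ρ (stT ht) = 1
  · exact no_complement hS F ι hι hc hgQ hgz F1 (a1 := a1) rfl hv1 ρ hρ hz
  push Not at hz
  obtain ⟨t1, ht1, hne1⟩ := hz
  let Kr : Subgroup S :=
    { carrier := {t | ∃ ht : t ∈ T, ρ (stT ht) = 1}
      one_mem' := ⟨one_mem _, map_one ρ⟩
      mul_mem' := fun ⟨h1, e1⟩ ⟨h2, e2⟩ => ⟨mul_mem h1 h2, by
        rw [show stT (mul_mem h1 h2) = stT h1 * stT h2 from rfl, map_mul, e1, e2, one_mul]⟩
      inv_mem' := fun ⟨h1, e1⟩ => ⟨inv_mem h1, by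
        rw [show stT (inv_mem h1) = (stT h1)⁻¹ from rfl, map_inv, e1, inv_one]⟩ }
  have hinjT : ∀ t (ht : t ∈ T), ρ (stT ht) = 1 → t = 1 := fun t ht e => by
    by_contra hne
    obtain ⟨_, h1⟩ := T_le_of_inv (L := Kr) (fun σ s hs ⟨_, e'⟩ => ⟨altK_conj_T σ hs, by
      rw [show stT (altK_conj_T σ hs) = stA σ * stT hs * (stA σ)⁻¹ from rfl, map_mul, map_mul, e', map_inv,
        mul_one, mul_inv_cancel]⟩) ht ⟨ht, e⟩ hne ht1
    exact hne1 h1
  have hbij : Function.Surjective (fun t : T => (⟨(ρ (stT t.2)).1, hT _ t.2⟩ : T)) := by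
    refine Finite.injective_iff_surjective.1 fun p r e => Subtype.ext ?_
    have e' : ρ (stT p.2) = ρ (stT r.2) := Subtype.ext (congrArg (fun y : T => y.1) e)
    refine mul_inv_eq_one.1 (hinjT _ (mul_mem p.2 (inv_mem r.2)) ?_)
    rw [show stT (mul_mem p.2 (inv_mem r.2)) = stT p.2 * (stT r.2)⁻¹ from rfl, map_mul, map_inv, e',
      mul_inv_cancel]
  obtain ⟨⟨y, hy⟩, hye⟩ := hbij ⟨(ρ' (stT (gen_T 0))).1, hT' _ (gen_T 0)⟩
  have hye' : ρ (stT hy) = ρ' (stT (gen_T 0)) := Subtype.ext (congrArg (fun y : T => y.1) hye)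
  have hconjeq : ∀ σ t (ht : t ∈ T), ρ' (stA σ * stT ht * (stA σ)⁻¹) =
      ρ (stA σ) * ρ' (stT ht) * (ρ (stA σ))⁻¹ := fun σ t ht => by
    refine Subtype.ext ?_
    rw [map_mul, map_mul, map_inv]
    show (ρ' (stA σ)).1 * (ρ' (stT ht)).1 * (ρ' (stA σ)).1⁻¹ = (ρ (stA σ)).1 * (ρ' (stT ht)).1 * (ρ (stA σ)).1⁻¹
    set τ := (ρ' (stA σ)).1 * (ρ (stA σ)).1⁻¹ with hτ
    have hX : (ρ (stA σ)).1 * (ρ' (stT ht)).1 * (ρ (stA σ)).1⁻¹ ∈ T :=
      T_conj (K0_le_G (ρ (stA σ)).2.1) (ρ (stA σ)).2.2 (hT' _ ht)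
    calc (ρ' (stA σ)).1 * (ρ' (stT ht)).1 * (ρ' (stA σ)).1⁻¹
        = τ * ((ρ (stA σ)).1 * (ρ' (stT ht)).1 * (ρ (stA σ)).1⁻¹) * τ⁻¹ := by rw [hτ]; group
      _ = _ := by rw [T_comm (hddT _) hX, mul_inv_cancel_right]
  rcases eq_gen_of_fixed hy (fun σ hσ => by
    have h1 : ρ (stT (altK_conj_T σ hy)) = ρ (stT hy) := by
      rw [show stT (altK_conj_T σ hy) = stA σ * stT hy * (stA σ)⁻¹ from rfl, map_mul, map_mul, map_inv, hye',
        ← hconjeq, show stA σ * stT (gen_T 0) * (stA σ)⁻¹ = stT (gen_T 0) from Subtype.ext hσ]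
    refine mul_inv_eq_one.1 (hinjT _ (mul_mem (altK_conj_T σ hy) (inv_mem hy)) ?_)
    rw [show stT (mul_mem (altK_conj_T σ hy) (inv_mem hy)) = stT (altK_conj_T σ hy) * (stT hy)⁻¹ from rfl,
      map_mul, map_inv, h1, mul_inv_cancel]) with e | e
  · -- the second kills everything
    have h0 : ρ' (stT (gen_T 0)) = 1 := by
      rw [← hye', show stT hy = 1 from Subtype.ext e, map_one]
    refine no_complement hS F ι hι hc' hgQ' hgz' F1 ha1' hv1 ρ' hρ' fun t ht => ?_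
    let Kr' : Subgroup S := ((ρ'.ker).map (StabK fv).subtype)
    obtain ⟨b, hb⟩ := exists_elT ht
    subst hb
    obtain ⟨x, hx, hxe⟩ := elT_mem_closure b (L := Kr') fun j => by
      obtain ⟨σ, hσ⟩ := gen_conj j
      exact ⟨stA σ * stT (gen_T 0) * (stA σ)⁻¹, MonoidHom.mem_ker.2 (by
        rw [hconjeq, h0, mul_one, mul_inv_cancel]), hσ⟩
    exact (show x = stT ht from Subtype.ext hxe) ▸ MonoidHom.mem_ker.1 hx
  · -- both agree
    have h0 : ρ' (stT (gen_T 0)) = ρ (stT (gen_T 0)) := by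
      rw [← hye', show stT hy = stT (gen_T 0) from Subtype.ext e]
    let E : Subgroup S :=
      { carrier := {t | ∃ ht : t ∈ T, ρ' (stT ht) = ρ (stT ht)}
        one_mem' := ⟨one_mem _, (map_one ρ').trans (map_one ρ).symm⟩
        mul_mem' := fun ⟨h1, e1⟩ ⟨h2, e2⟩ => ⟨mul_mem h1 h2, by
          rw [show stT (mul_mem h1 h2) = stT h1 * stT h2 from rfl, map_mul, map_mul, e1, e2]⟩
        inv_mem' := fun ⟨h1, e1⟩ => ⟨inv_mem h1, by
          rw [show stT (inv_mem h1) = (stT h1)⁻¹ from rfl, map_inv, map_inv, e1]⟩ }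
    obtain ⟨t, ht, hne⟩ := hdiff
    refine hne ?_
    obtain ⟨b, hb⟩ := exists_elT ht
    subst hb
    obtain ⟨_, h⟩ := elT_mem_closure b (L := E) fun j => by
      obtain ⟨σ, hσ⟩ := gen_conj j
      refine ⟨gen_T j, ?_⟩
      rw [show stT (gen_T j) = stA σ * stT (gen_T 0) * (stA σ)⁻¹ from Subtype.ext hσ.symm, hconjeq, h0, map_mul,
        map_mul, map_inv]
    exact congrArg Subtype.val h

end Cfsg.Agent.LargeExtra.Fischer
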