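import Cfsg.Agent.Lib.LargeExtra.Fischer.Fi22Centralizer

/-!
Preparations for an extension of index two of a group of large Fischer type: commutator subgroup of the
centralizer, central elements, generation of the extraspecial group.
-/

set_option autoImplicit false
set_option linter.style.haveILetI false

namespace Cfsg.Agent.LargeExtra.Fischer

open Cfsg.Agent.InvChar.Coset
open Cfsg.Agent.Components.UnitarySix
open Cfsg.Agent.MonsterOrbits (bigQ mem_bigQ ctr_bigQ mem_center_iff')
open Cfsg.Agent.LargeExtra.PairGraph (Pg Pg_conj IsMathieuSub mathieu)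
open scoped commutatorElement

/-- The property transports. -/
theorem HasUnitaryInvolution.congr {A B : Type*} [Group A] [Group B] (e : A ≃* B) (h : HasUnitaryInvolution A) :
    HasUnitaryInvolution B := by
  obtain ⟨d, hd, hq, ⟨K, iF, iT, hK, hn, ⟨eK⟩⟩, g, hg, hne⟩ := h
  have hmap : (Subgroup.centralizer ({d} : Set A)).map e.toMonoidHom = Subgroup.centralizer ({e d} : Set B) := by
    ext y
    obtain ⟨a, rfl⟩ := e.surjective y
    rw [Subgroup.mem_map_equiv, e.symm_apply_apply, Subgroup.mem_centralizer_singleton_iff,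
      Subgroup.mem_centralizer_singleton_iff, ← map_mul, ← map_mul, e.injective.eq_iff]
  let eC : ↥(Subgroup.centralizer ({d} : Set A)) ≃* ↥(Subgroup.centralizer ({e d} : Set B)) :=
    (e.subgroupMap _).trans (MulEquiv.subgroupCongr hmap)
  have hz : ((Subgroup.zpowers d).subgroupOf (Subgroup.centralizer ({d} : Set A))).map eC.toMonoidHom =
      (Subgroup.zpowers (e d)).subgroupOf (Subgroup.centralizer ({e d} : Set B)) := by
    ext y
    obtain ⟨a, rfl⟩ := eC.surjective y
    rw [Subgroup.mem_map_equiv, eC.symm_apply_apply, Subgroup.mem_subgroupOf, Subgroup.mem_subgroupOf,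
      show Subgroup.zpowers (e d) = (Subgroup.zpowers d).map e.toMonoidHom from
        (MonoidHom.map_zpowers e.toMonoidHom d).symm]
    exact (Subgroup.mem_map_iff_mem e.injective).symm
  haveI hn' : ((Subgroup.zpowers (e d)).subgroupOf (Subgroup.centralizer ({e d} : Set B))).Normal :=
    hz ▸ hn.map _ eC.surjective
  refine ⟨e d, by rw [MulEquiv.orderOf_eq, hd], Components.Basic.quasisimple_of_mulEquiv eC hq,
    ⟨K, iF, iT, hK, hn', ⟨(QuotientGroup.congr _ _ eC hz).symm.trans eK⟩⟩, e g, ?_, ?_⟩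
  · rw [← map_inv, ← map_mul, ← map_mul, ← hmap]
    exact ⟨_, hg, rfl⟩
  · rw [← map_inv, ← map_mul, ← map_mul]
    exact fun h => hne (e.injective h)

variable {G : Type*} [Group G] [Finite G] {z : G} {Q : Subgroup (Cz z)} [Q.Normal] {M : Subgroup (Cz z)}
variable (hS : Cfsg.IsExtraspecialCentralizerSetting z Q 6) {F : Frame z Q M} {W : Four F} {I : Inner W}

include hS in
/-- An involution of the extraspecial group that is not conjugate to the central one lies in the small orbit. -/
theorem InO_of_not_conj (F : Frame z Q M) {a : Q} (ha : orderOf (a : Cz z) = 2) (hn : ¬ IsConj z (inQ Q a)) :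
    InO FF.w (F.φ a) := by
  have hne : inQ Q a ≠ z := fun e => hn (by rw [e])
  refine (iso_cases (iso_of_invol hS F (a := a) ha hne)).resolve_right fun h => hn ?_
  obtain ⟨g, ⟨hq, hqQ⟩, hgne⟩ := hS.2.2.2.2
  let s : Q := ⟨⟨_, hq⟩, hqQ⟩
  have hs := O1_of_conj hS F (g := g) (a := s) ⟨_, hqQ, rfl⟩ hgne rfl
  obtain ⟨c, hc⟩ := conj_of_kind hS F (a := s) (b := a) (Or.inr ⟨hs, h⟩)
  exact (isConj_iff.2 ⟨g, rfl⟩).trans (isConj_iff.2 ⟨c, congrArg Subtype.val hc⟩)

include hS in
/-- Elements centralizing the centralizer of the four-group lie in it. -/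
theorem Four.central_C (W : Four F) {x : Cz z} (X : Scal F x) (d : IsMathieuSub z (AG hS F X)) {r : G}
    (hr : ∀ c ∈ W.C, r * c = c * r) : r ∈ W.E := by
  obtain ⟨m, hm, hmne, hmz⟩ := W.exists_mover hS X d
  obtain ⟨-, ⟨eU⟩⟩ := W.quasisimple hS hm hmne hmz
  have hrC : r ∈ W.C := (W.mem_C hS).2
    ⟨hr _ (W.E_le_C hS W.t_mem), hr _ (W.E_le_C hS W.u_mem)⟩
  haveI : IsSimpleGroup (Cfsg.PSU 6 FF 2) :=
    Cfsg.Agent.Classical.Unitary.isSimpleGroup_PSU (show Fintype.card FF = 2 ^ 2 from rfl) (by norm_num) (by norm_num)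
  haveI : Nontrivial (W.C ⧸ W.E') := eU.toEquiv.nontrivial
  haveI : IsSimpleGroup (W.C ⧸ W.E') :=
    IsSimpleGroup.isSimpleGroup_of_surjective eU.symm.toMonoidHom eU.symm.surjective
  have hcen : Subgroup.center W.C ≤ W.E' := by
    have hn : ((Subgroup.center W.C).map (QuotientGroup.mk' W.E')).Normal :=
      (inferInstance : (Subgroup.center W.C).Normal).map _ (QuotientGroup.mk'_surjective _)
    rcases hn.eq_bot_or_eq_top with h | h
    · rwa [Subgroup.map_eq_bot_iff, QuotientGroup.ker_mk'] at h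
    · obtain ⟨-, hout⟩ := W.quotient_equiv hS hm hmne hmz
      refine absurd ?_ hout
      obtain ⟨a, ha, e⟩ := h.ge (Subgroup.mem_top (QuotientGroup.mk ⟨m, hm⟩ : W.C ⧸ W.E'))
      obtain ⟨b, hb⟩ := QuotientGroup.mk_surjective (W.zb hS)
      rw [← e, ← hb]
      show (QuotientGroup.mk a : W.C ⧸ W.E') * QuotientGroup.mk b = QuotientGroup.mk b * QuotientGroup.mk a
      rw [← QuotientGroup.mk_mul, ← QuotientGroup.mk_mul, Subgroup.mem_center_iff.1 ha b]
  exact Subgroup.mem_subgroupOf.1 (hcen (show (⟨r, hrC⟩ : W.C) ∈ _ from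
    Subgroup.mem_center_iff.2 fun c => Subtype.ext (hr _ c.2).symm))

variable (H : Fi22Data hS I)
include H

theorem Fi22Data.commutator_eq : commutator W.L = I.K0 := by
  refine le_antisymm ?_ ?_
  · rw [_root_.commutator_def, Subgroup.commutator_le]
    intro a _ b _
    rw [commutatorElement_def]
    simp [Subgroup.mul_mem_iff_of_index_two (show I.K0.index = 2 from I.idx)]
    tauto
  · haveI := H.qs.1
    intro k hk
    have h : (⟨k, hk⟩ : I.K0) ∈ commutator I.K0 :=
      (Group.IsPerfect.commutator_eq_top (G := I.K0)).ge (Subgroup.mem_top _)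
    have h' : I.K0.subtype ⟨k, hk⟩ ∈ (commutator I.K0).map I.K0.subtype := ⟨_, h, rfl⟩
    rw [_root_.commutator_def, Subgroup.map_commutator] at h'
    exact Subgroup.commutator_mono le_top le_top h'

/-- Elements centralizing the subgroup of index two lie in the first cyclic group. -/
theorem Fi22Data.central {x : Cz z} (X : Scal F x) (d : IsMathieuSub z (AG hS F X)) {r : G}
    (hr : ∀ k ∈ I.K, r * k = k * r) : r = 1 ∨ r = inQ Q W.t := by
  have hrE : r ∈ W.E := W.central_C hS X d fun c hc => hr c (I.hC hc)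
  obtain ⟨q, hq, rfl⟩ := hrE
  obtain ⟨k, hk, hne, -, -⟩ := I.exists_move hS X d
  have hkt := W.mem_L.1 (I.le hk)
  rcases W.mem_qs hS hq with rfl | rfl | rfl | rfl
  · exact Or.inl (map_one _)
  · exact Or.inr rfl
  · exact absurd (by rw [← hr k hk, mul_inv_cancel_right]) hne
  · refine absurd (mul_inv_eq_iff_eq_mul.2 ?_) hne
    have e := hr k hk
    rw [map_mul, mul_assoc, ← mul_assoc k, hkt, mul_assoc (inQ Q W.t)] at e
    exact (mul_left_cancel e).symm

omit H in
include hS in
/-- An element centralizing the centralizer of the first member in the extraspecial group and one further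
member centralizes all of it. -/
theorem centralizes_image {W : Four F} {Y : Type*} [Group Y] (f : G →* Y) {b : Y}
    (ht : ∀ q : Q, q * W.t = W.t * q → b * f (inQ Q q) = f (inQ Q q) * b)
    {qw : Q} (hqw : qw * W.t ≠ W.t * qw) (hb : b * f (inQ Q qw) = f (inQ Q qw) * b) :
    ∀ q : Q, b * f (inQ Q q) = f (inQ Q q) * b := by
  intro q
  by_cases h : q * W.t = W.t * q
  · exact ht q h
  have hd : ∀ a : FF, a + a ^ 2 = 0 ∨ a + a ^ 2 = 1 := by decide
  have htr : ∀ r : Q, trH (F.φ r) (F.φ W.t) = 0 ∨ trH (F.φ r) (F.φ W.t) = 1 := fun r => by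
    rw [W.ht, trH, H_e01_symm]; exact hd _
  have h1 := (htr q).resolve_left fun e => h ((commute_iff_trace hS F _ _).2 e)
  have h2 := (htr qw).resolve_left fun e => hqw ((commute_iff_trace hS F _ _).2 e)
  have h3 : (qw⁻¹ * q) * W.t = W.t * (qw⁻¹ * q) := by
    refine (commute_iff_trace hS F _ _).2 ?_
    rw [F.φ_mul, φ_inv' F, trH] at *
    rw [H_addL, H_addR, show ∀ a b c d : FF, a + b + (c + d) = (a + c) + (b + d) from fun _ _ _ _ => by ring,
      h1, h2]
    decide
  have h4 := ht _ h3
  rw [map_mul, map_inv, map_mul, map_inv] at h4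
  calc b * f (inQ Q q) = b * f (inQ Q qw) * ((f (inQ Q qw))⁻¹ * f (inQ Q q)) := by group
    _ = f (inQ Q qw) * (b * ((f (inQ Q qw))⁻¹ * f (inQ Q q))) := by rw [hb, mul_assoc]
    _ = f (inQ Q qw) * ((f (inQ Q qw))⁻¹ * f (inQ Q q) * b) := by rw [h4]
    _ = _ := by group

end Cfsg.Agent.LargeExtra.Fischer
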