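import Cfsg.Prelude.Def_Sporadic_a

/-!
An elementary abelian group of exponent two with a set of 276 members meeting every pencil in the pattern of
the pairs of 24 points: reconstruction of the points and of the Steiner system.
-/

set_option autoImplicit false

namespace Cfsg.Agent.LargeExtra.PairGraph

open Cfsg Finset
open scoped Pointwise symmDiff

variable {W : Type*} [AddCommGroup W] [DecidableEq W]

/-- The members whose translate is a member. -/
def Sc (P : Finset W) (c : W) : Finset W := P.filter fun x => x + c ∈ P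

/-- The hypotheses. -/
structure IsPairs (P : Finset W) : Prop where
  two : ∀ x : W, x + x = 0
  zero : (0 : W) ∉ P
  card : P.card = 276
  pencil : ∀ c, c ≠ 0 → c ∉ P → (Sc P c).card = 36 ∧ ∀ a ∈ Sc P c,
    ((Sc P c).filter fun x => a + x ∈ P).card = 4 ∧ ∀ x ∈ Sc P c, a + x ∈ P → a + x + c ∈ P

/-- The clique of two neighbours. -/
def K (P : Finset W) (t u : W) : Finset W :=
  insert t (insert u (P.filter fun c => t + c ∈ P ∧ u + c ∈ P ∧ c ≠ t + u))

/-- Points. -/
def IsPt (P : Finset W) (k : Finset W) : Prop := ∃ t ∈ P, ∃ u ∈ P, t + u ∈ P ∧ K P t u = k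

theorem K_comm (P : Finset W) (t u : W) : K P t u = K P u t := by
  ext c
  simp only [K, mem_insert, mem_filter, add_comm u t]
  tauto

theorem mem_K_left (P : Finset W) (t u : W) : t ∈ K P t u := mem_insert_self _ _

theorem mem_K_right (P : Finset W) (t u : W) : u ∈ K P t u := mem_insert_of_mem (mem_insert_self _ _)

variable {P : Finset W} (h : IsPairs P)
include h

theorem cancel (a b : W) : a + (a + b) = b := by rw [← add_assoc, h.two, zero_add]

theorem cancel' (a b : W) : a + b + b = a := by rw [add_assoc, h.two, add_zero]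

theorem ne_of_adj {a b : W} (hab : a + b ∈ P) : a ≠ b := fun e => h.zero (by rwa [e, h.two] at hab)

theorem ne_zero {a : W} (ha : a ∈ P) : a ≠ 0 := fun e => h.zero (e ▸ ha)

theorem sum_ne {a b : W} (hne : a ≠ b) : a + b ≠ 0 := fun e => hne (by
  calc a = a + b + b := (cancel' h a b).symm
    _ = b := by rw [e, zero_add])

/-- The common neighbours of two members that are not neighbours. -/
theorem common {a b : W} (ha : a ∈ P) (hb : b ∈ P) (hne : a ≠ b) (hn : a + b ∉ P) :
    (P.filter fun t => a + t ∈ P ∧ b + t ∈ P).card = 4 ∧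
      ∀ t ∈ P, a + t ∈ P → b + t ∈ P → t + (a + b) ∈ P := by
  obtain ⟨-, hp⟩ := h.pencil _ (sum_ne h hne) hn
  have haS : a ∈ Sc P (a + b) := mem_filter.2 ⟨ha, by rwa [cancel h]⟩
  obtain ⟨h4, hcl⟩ := hp a haS
  have hS : ∀ t, a + t ∈ P → b + t ∈ P → a + t ∈ Sc P (a + b) := fun t h1 h2 =>
    mem_filter.2 ⟨h1, by rwa [show a + t + (a + b) = (a + a) + (b + t) by abel, h.two, zero_add]⟩
  refine ⟨?_, fun t ht h1 h2 => ?_⟩
  · rw [← h4]
    refine card_bij (fun t _ => a + t) (fun t ht => ?_) (fun _ _ _ _ e => add_left_cancel e) fun y hy => ?_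
    · obtain ⟨ht, h1, h2⟩ := mem_filter.1 ht
      exact mem_filter.2 ⟨hS t h1 h2, by rwa [cancel h]⟩
    · obtain ⟨hy, hay⟩ := mem_filter.1 hy
      obtain ⟨hyP, hyc⟩ := mem_filter.1 hy
      refine ⟨a + y, mem_filter.2 ⟨hay, by rwa [cancel h], ?_⟩, cancel h a y⟩
      rwa [show b + (a + y) = y + (a + b) by abel]
  · have := hcl _ (hS t h1 h2) (by rwa [cancel h])
    rwa [cancel h] at this

theorem common_cases {a b : W} (ha : a ∈ P) (hb : b ∈ P) (hne : a ≠ b) (hn : a + b ∉ P) {t : W} (ht : t ∈ P)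
    (h1 : a + t ∈ P) (h2 : b + t ∈ P) {c : W} (hc : c ∈ P) (h3 : a + c ∈ P) (h4 : b + c ∈ P) :
    c = t ∨ c = a + t ∨ c = b + t ∨ c = t + (a + b) := by
  obtain ⟨hcard, hcl⟩ := common h ha hb hne hn
  have h5 := hcl t ht h1 h2
  have hsub : ({t, a + t, b + t, t + (a + b)} : Finset W) ⊆ P.filter fun s => a + s ∈ P ∧ b + s ∈ P := by
    intro s hs
    simp only [mem_insert, mem_singleton] at hs
    rcases hs with e | e | e | e <;> subst e
    · exact mem_filter.2 ⟨ht, h1, h2⟩
    · exact mem_filter.2 ⟨h1, by rwa [cancel h], by rwa [show b + (a + t) = t + (a + b) by abel]⟩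
    · exact mem_filter.2 ⟨h2, by rwa [show a + (b + t) = t + (a + b) by abel], by rwa [cancel h]⟩
    · refine mem_filter.2 ⟨h5, ?_, ?_⟩
      · rwa [show a + (t + (a + b)) = (a + a) + (b + t) by abel, h.two, zero_add]
      · rwa [show b + (t + (a + b)) = (b + b) + (a + t) by abel, h.two, zero_add]
  have hne0 : a + b ≠ 0 := sum_ne h hne
  have e1 : t ≠ a + t := fun e => ne_zero h ha (add_eq_right.1 e.symm)
  have e2 : t ≠ b + t := fun e => ne_zero h hb (add_eq_right.1 e.symm)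
  have e3 : t ≠ t + (a + b) := fun e => hne0 (add_eq_left.1 e.symm)
  have e4 : a + t ≠ b + t := fun e => hne (add_right_cancel e)
  have e5 : a + t ≠ t + (a + b) := fun e => ne_zero h hb (by
    rw [show t + (a + b) = a + t + b by abel] at e; exact add_eq_left.1 e.symm)
  have e6 : b + t ≠ t + (a + b) := fun e => ne_zero h ha (by
    rw [show t + (a + b) = b + t + a by abel] at e; exact add_eq_left.1 e.symm)
  have h4' : ({t, a + t, b + t, t + (a + b)} : Finset W).card = 4 := by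
    rw [card_insert_of_notMem (by simp [e1, e2, e3]), card_insert_of_notMem (by simp [e4, e5]),
      card_insert_of_notMem (by simp [e6]), card_singleton]
  have heq := eq_of_subset_of_card_le hsub (by omega)
  have : c ∈ P.filter fun s => a + s ∈ P ∧ b + s ∈ P := mem_filter.2 ⟨hc, h3, h4⟩
  rw [← heq] at this
  simpa using this

/-! ### The neighbourhood of a member -/

/-- Every member is a common neighbour of two members that are not neighbours. -/
theorem exists_base {t : W} (ht : t ∈ P) :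
    ∃ x ∈ P, ∃ y ∈ P, t + x ∈ P ∧ t + y ∈ P ∧ x ≠ y ∧ x + y ∉ P := by
  obtain ⟨u, hu, hut, hn⟩ : ∃ u ∈ P, t ≠ u ∧ t + u ∉ P := by
    by_contra hcon
    push Not at hcon
    have hs : ∑ _x ∈ P.erase t, (1 : ZMod 2) = 0 :=
      sum_involution (fun x _ => t + x) (fun _ _ => by decide)
        (fun x hx _ e => ne_zero h ht (by simpa using e))
        (fun x hx => mem_erase.2 ⟨fun e => ne_zero h (mem_erase.1 hx).2 (by simpa using e),
          hcon x (mem_erase.1 hx).2 (Ne.symm (mem_erase.1 hx).1)⟩)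
        (fun x _ => cancel h t x)
    rw [sum_const, card_erase_of_mem ht, h.card, nsmul_one] at hs
    rw [ZMod.natCast_eq_zero_iff_even] at hs
    exact absurd hs (by decide)
  obtain ⟨hcard, hcl⟩ := common h ht hu hut hn
  obtain ⟨x, hx⟩ := card_pos.1 (show 0 < _ by rw [hcard]; norm_num)
  obtain ⟨hxP, h1, h2⟩ := mem_filter.1 hx
  refine ⟨x, hxP, x + (t + u), hcl x hxP h1 h2, h1, ?_, fun e => sum_ne h hut (add_eq_left.1 e.symm),
    by rwa [cancel h]⟩
  rwa [show t + (x + (t + u)) = (t + t) + (u + x) by abel, h.two, zero_add]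

theorem pair_rule {t a b : W} (ht : t ∈ P) (ha : a ∈ P) (hb : b ∈ P) (hta : t + a ∈ P) (htb : t + b ∈ P)
    (hne : a ≠ b) (hn : a + b ∉ P) : t + (a + b) ∈ P :=
  (common h ha hb hne hn).2 t ht (by rwa [add_comm]) (by rwa [add_comm])

theorem third {t a b c : W} (ht : t ∈ P) (ha : a ∈ P) (hb : b ∈ P) (hc : c ∈ P) (hta : t + a ∈ P)
    (htb : t + b ∈ P) (htc : t + c ∈ P) (hne : a ≠ b) (hn : a + b ∉ P) (hca : a + c ∈ P) (hcb : b + c ∈ P) :
    c = t + a ∨ c = t + b := by
  rcases common_cases h ha hb hne hn ht (by rwa [add_comm]) (by rwa [add_comm]) hc hca hcb with e | e | e | e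
  · exact absurd e.symm (ne_of_adj h htc)
  · exact Or.inl (e.trans (add_comm _ _))
  · exact Or.inr (e.trans (add_comm _ _))
  · exact absurd (by rwa [e, cancel h] at htc) hn

theorem rule {t a b c : W} (ht : t ∈ P) (ha : a ∈ P) (hb : b ∈ P) (hc : c ∈ P) (hta : t + a ∈ P)
    (htb : t + b ∈ P) (htc : t + c ∈ P) (hne : a ≠ b) (hn : a + b ∉ P)
    (hca : c ≠ a) (hcb : c ≠ b) (hca' : c ≠ t + a) (hcb' : c ≠ t + b) :
    a + c ∈ P ↔ t + (a + c) ∉ P := by
  constructor
  · intro h1 h2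
    have h3 : b + c ∉ P := fun h3 => (third h ht ha hb hc hta htb htc hne hn h1 h3).elim hca' hcb'
    have h4 := pair_rule h ht hb hc htb htc (Ne.symm hcb) h3
    have h5 : t + a + (t + b) ∉ P := by
      rwa [show t + a + (t + b) = (t + t) + (a + b) by abel, h.two, zero_add]
    rcases third h ht hta htb hc (by rwa [cancel h]) (by rwa [cancel h]) htc
      (fun e => hne (add_left_cancel e)) h5 (by rwa [add_assoc]) (by rwa [add_assoc]) with e | e
    · exact hca (e.trans (cancel h t a))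
    · exact hcb (e.trans (cancel h t b))
  · intro h2
    by_contra h1
    exact h2 (pair_rule h ht ha hc hta htc (Ne.symm hca) h1)

theorem dich {t u c : W} (ht : t ∈ P) (hu : u ∈ P) (hc : c ∈ P) (htu : t + u ∈ P) (htc : t + c ∈ P)
    (hne : c ≠ u) (hne' : c ≠ t + u) : u + c ∈ P ↔ t + (u + c) ∉ P := by
  obtain ⟨a, ha, hta, hua, hn⟩ : ∃ a ∈ P, t + a ∈ P ∧ u ≠ a ∧ u + a ∉ P := by
    obtain ⟨x, hx, y, hy, htx, hty, hxy, hn⟩ := exists_base h ht
    have hn' : t + x + (t + y) ∉ P := by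
      rwa [show t + x + (t + y) = (t + t) + (x + y) by abel, h.two, zero_add]
    by_cases e1 : u = x
    · exact ⟨y, hy, hty, e1 ▸ hxy, e1 ▸ hn⟩
    by_cases e2 : u = y
    · exact ⟨x, hx, htx, e2 ▸ hxy.symm, by rw [e2, add_comm]; exact hn⟩
    by_cases e3 : u = t + x
    · exact ⟨t + y, hty, by rwa [cancel h], fun e => hxy (add_left_cancel (e3 ▸ e)), e3 ▸ hn'⟩
    by_cases e4 : u = t + y
    · exact ⟨t + x, htx, by rwa [cancel h], fun e => hxy (add_left_cancel (e4 ▸ e)).symm,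
        by rw [e4, add_comm]; exact hn'⟩
    have hr := rule h ht hx hy hu htx hty htu hxy hn e1 e2 e3 e4
    by_cases hxu : x + u ∈ P
    · exact ⟨t + x, htx, by rwa [cancel h], e3, by rw [show u + (t + x) = t + (x + u) by abel]; exact hr.1 hxu⟩
    · exact ⟨x, hx, htx, e1, by rwa [add_comm]⟩
  by_cases e1 : c = a
  · subst e1
    exact iff_of_false hn fun h' => h' (pair_rule h ht hu hc htu htc hua hn)
  by_cases e2 : c = t + a
  · subst e2
    refine iff_of_true ?_ ?_
    · rw [show u + (t + a) = t + (u + a) by abel]; exact pair_rule h ht hu ha htu hta hua hn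
    · rwa [show t + (u + (t + a)) = (t + t) + (u + a) by abel, h.two, zero_add]
  exact rule h ht hu ha hc htu hta htc hua hn hne e1 hne' e2

theorem mem_K {t u v : W} (hu : u ∈ P) (htu : t + u ∈ P) (hv : v ∈ K P t u) (hvt : v ≠ t) :
    v ∈ P ∧ t + v ∈ P := by
  simp only [K, mem_insert, mem_filter] at hv
  rcases hv with e | rfl | ⟨h1, h2, -⟩
  · exact absurd e hvt
  · exact ⟨hu, htu⟩
  · exact ⟨h1, h2⟩

theorem K_sub {t u v : W} (ht : t ∈ P) (hu : u ∈ P) (hv : v ∈ P) (htu : t + u ∈ P) (htv : t + v ∈ P)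
    (huv : u + v ∈ P) (hvn : v ≠ t + u) : K P t v ⊆ K P t u := by
  intro w hw
  simp only [K, mem_insert, mem_filter] at hw ⊢
  rcases hw with e | rfl | ⟨hwP, htw, hvw, hwn⟩
  · exact Or.inl e
  · exact Or.inr (Or.inr ⟨hv, htv, huv, hvn⟩)
  by_cases hwu : w = u
  · exact Or.inr (Or.inl hwu)
  have hwn' : w ≠ t + u := fun e => by
    rw [e, show v + (t + u) = t + (u + v) by abel] at hvw
    exact (dich h ht hu hv htu htv (ne_of_adj h huv).symm hvn).1 huv hvw
  refine Or.inr (Or.inr ⟨hwP, htw, ?_, hwn'⟩)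
  by_contra hnu
  rcases third h ht hu hwP hv htu htw htv (Ne.symm hwu) hnu huv (by rwa [add_comm]) with e | e
  · exact hvn e
  · exact hwn (by rw [e, cancel h])

theorem K_eq {t u v : W} (ht : t ∈ P) (hu : u ∈ P) (htu : t + u ∈ P) (hv : v ∈ K P t u) (hvt : v ≠ t) :
    K P t v = K P t u := by
  obtain ⟨hvP, htv⟩ := mem_K h hu htu hv hvt
  by_cases hvu : v = u
  · rw [hvu]
  simp only [K, mem_insert, mem_filter] at hv
  obtain ⟨-, -, huv, hvn⟩ := (hv.resolve_left hvt).resolve_left hvu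
  refine Subset.antisymm (K_sub h ht hu hvP htu htv huv hvn)
    (K_sub h ht hvP hu htv htu (by rwa [add_comm]) fun e => hvn ?_)
  rw [e, cancel h]

theorem two_members {k : Finset W} (hk : IsPt P k) {a b : W} (ha : a ∈ k) (hb : b ∈ k) (hab : a ≠ b) :
    a ∈ P ∧ b ∈ P ∧ a + b ∈ P ∧ K P a b = k := by
  obtain ⟨t, ht, u, hu, htu, rfl⟩ := hk
  by_cases e1 : a = t
  · subst e1
    obtain ⟨h1, h2⟩ := mem_K h hu htu hb hab.symm
    exact ⟨ht, h1, h2, K_eq h ht hu htu hb hab.symm⟩
  obtain ⟨h1, h2⟩ := mem_K h hu htu ha e1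
  have e := K_eq h ht hu htu ha e1
  have hat : a + t ∈ P := by rwa [add_comm]
  rw [← e, K_comm] at hb
  obtain ⟨h3, h4⟩ := mem_K h ht hat hb hab.symm
  exact ⟨h1, h3, h4, (K_eq h h1 ht hat hb hab.symm).trans ((K_comm P a t).trans e)⟩

theorem pt_subset {k : Finset W} (hk : IsPt P k) : k ⊆ P := by
  obtain ⟨t, ht, u, hu, htu, rfl⟩ := hk
  intro c hc
  by_cases e : c = t
  · exact e ▸ ht
  · exact (mem_K h hu htu hc e).1

theorem points_at {t u : W} (ht : t ∈ P) (hu : u ∈ P) (htu : t + u ∈ P) {k : Finset W} (hk : IsPt P k)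
    (htk : t ∈ k) : k = K P t u ∨ k = K P t (t + u) := by
  obtain ⟨v, hv, hvt⟩ : ∃ v ∈ k, v ≠ t := by
    obtain ⟨a, -, b, -, hab, rfl⟩ := hk
    by_cases e : a = t
    · exact ⟨b, mem_K_right P a b, fun e' => ne_of_adj h hab (e.trans e'.symm)⟩
    · exact ⟨a, mem_K_left P a b, e⟩
  obtain ⟨-, hvP, htv, hK⟩ := two_members h hk htk hv hvt.symm
  rw [← hK]
  by_cases e1 : v = u
  · exact Or.inl (by rw [e1])
  by_cases e2 : v = t + u
  · exact Or.inr (by rw [e2])
  have hd := dich h ht hu hvP htu htv e1 e2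
  by_cases huv : u + v ∈ P
  · refine Or.inl (K_eq h ht hu htu (v := v) ?_ hvt)
    simp [K, hvP, htv, huv, e2]
  · refine Or.inr (K_eq h ht htu (by rwa [cancel h]) (v := v) ?_ hvt)
    have : t + (u + v) ∈ P := not_not.1 fun h' => huv (hd.2 h')
    simp [K, hvP, htv, add_assoc, this, cancel h, e1]

theorem two_cliques {t u : W} (ht : t ∈ P) (hu : u ∈ P) : K P t u ≠ K P t (t + u) := fun e => by
  have hm := e.ge (mem_K_right P t (t + u))
  simp only [K, mem_insert, mem_filter] at hm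
  rcases hm with e' | e' | ⟨-, -, -, e'⟩
  · exact ne_zero h hu (add_eq_left.1 e')
  · exact ne_zero h ht (add_eq_right.1 e')
  · exact e' rfl

theorem exists_meet {k l : Finset W} (hk : IsPt P k) (hl : IsPt P l) : ∃ w, w ∈ k ∧ w ∈ l := by
  obtain ⟨t, ht, t', ht', htt, hkK⟩ := id hk
  obtain ⟨u, hu, u', hu', huu, hlK⟩ := id hl
  have htk : t ∈ k := hkK ▸ mem_K_left P t t'
  have hul : u ∈ l := hlK ▸ mem_K_left P u u'
  by_cases h1 : t ∈ l
  · exact ⟨t, htk, h1⟩
  by_cases h2 : u ∈ k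
  · exact ⟨u, h2, hul⟩
  have hne : t ≠ u := fun e => h1 (e ▸ hul)
  by_cases hn : t + u ∈ P
  · have e1 := (points_at h ht hu hn hk htk).resolve_left fun e => h2 (e ▸ mem_K_right P t u)
    have e2 := (points_at h hu ht (by rwa [add_comm]) hl hul).resolve_left fun e => h1 (e ▸ mem_K_right P u t)
    exact ⟨t + u, e1 ▸ mem_K_right P t (t + u), e2 ▸ (add_comm t u ▸ mem_K_right P u (u + t))⟩
  obtain ⟨hcard, hcl⟩ := common h ht hu hne hn
  obtain ⟨w0, hw0⟩ := card_pos.1 (show 0 < _ by rw [hcard]; norm_num)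
  obtain ⟨hw0P, h3, h4⟩ := mem_filter.1 hw0
  have h5 := hcl w0 hw0P h3 h4
  obtain ⟨w, hwP, htw, huw, hwk⟩ : ∃ w ∈ P, t + w ∈ P ∧ u + w ∈ P ∧ k = K P t w := by
    rcases points_at h ht hw0P h3 hk htk with e | e
    · exact ⟨w0, hw0P, h3, h4, e⟩
    · exact ⟨t + w0, h3, by rwa [cancel h], by rwa [show u + (t + w0) = w0 + (t + u) by abel], e⟩
  rcases points_at h hu hwP huw hl hul with e | e
  · exact ⟨w, hwk ▸ mem_K_right P t w, e ▸ mem_K_right P u w⟩
  · refine ⟨u + w, hwk ▸ ?_, e ▸ mem_K_right P u (u + w)⟩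
    have h6 : t + (u + w) ∈ P := by
      rw [show t + (u + w) = w + (t + u) by abel]; exact hcl w hwP htw huw
    have h7 : w + (u + w) ∈ P := by rwa [show w + (u + w) = (w + w) + u by abel, h.two, zero_add]
    have h8 : u + w ≠ t + w := fun e => hne (add_right_cancel e).symm
    simp [K, huw, h6, h7, h8]

theorem meet_unique {k l : Finset W} (hk : IsPt P k) (hl : IsPt P l) (hkl : k ≠ l) {a b : W} (h1 : a ∈ k)
    (h2 : a ∈ l) (h3 : b ∈ k) (h4 : b ∈ l) : a = b := by
  by_contra hab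
  exact hkl ((two_members h hk h1 h3 hab).2.2.2.symm.trans (two_members h hl h2 h4 hab).2.2.2)

end Cfsg.Agent.LargeExtra.PairGraph
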