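import Cfsg.Agent.Lib.LargeExtra.Fischer.PairGraph

/-!
The 24 points, their Steiner system and the action of the symmetries.
-/

set_option autoImplicit false

namespace Cfsg.Agent.LargeExtra.PairGraph

open Cfsg Finset
open scoped Pointwise symmDiff

variable {W : Type*} [AddCommGroup W] [DecidableEq W]

/-- All the points. -/
def pts (P : Finset W) : Finset (Finset W) :=
  ((P ×ˢ P).filter fun p => p.1 + p.2 ∈ P).image fun p => K P p.1 p.2

/-- The type of points. -/
abbrev Pt (P : Finset W) := {k // k ∈ pts P}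

theorem mem_pts {P : Finset W} {k : Finset W} : k ∈ pts P ↔ IsPt P k := by
  simp [pts, IsPt, and_assoc]

theorem Pt.isPt {P : Finset W} (p : Pt P) : IsPt P p.1 := mem_pts.1 p.2

/-- The member shared by two points. -/
def edge {P : Finset W} (p q : Pt P) : W := if p = q then 0 else (p.1 ∩ q.1).sum id

variable {P : Finset W} (h : IsPairs P)
include h

theorem inter_eq {p q : Pt P} (hne : p ≠ q) {w : W} (hp : w ∈ p.1) (hq : w ∈ q.1) : p.1 ∩ q.1 = {w} := by
  refine eq_singleton_iff_unique_mem.2 ⟨mem_inter.2 ⟨hp, hq⟩, fun v hv => ?_⟩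
  exact meet_unique h p.isPt q.isPt (fun e => hne (Subtype.ext e)) (mem_inter.1 hv).1 (mem_inter.1 hv).2 hp hq

theorem edge_eq {p q : Pt P} (hne : p ≠ q) {w : W} (hp : w ∈ p.1) (hq : w ∈ q.1) : edge p q = w := by
  rw [edge, if_neg hne, inter_eq h hne hp hq, sum_singleton]; rfl

theorem edge_spec {p q : Pt P} (hne : p ≠ q) : edge p q ∈ p.1 ∧ edge p q ∈ q.1 ∧ edge p q ∈ P := by
  obtain ⟨w, hp, hq⟩ := exists_meet h p.isPt q.isPt
  rw [edge_eq h hne hp hq]
  exact ⟨hp, hq, pt_subset h p.isPt hp⟩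

theorem exists_adj {t : W} (ht : t ∈ P) : ∃ u ∈ P, t + u ∈ P := by
  obtain ⟨x, hx, -, -, htx, -⟩ := exists_base h ht
  exact ⟨x, hx, htx⟩

theorem two_points {t : W} (ht : t ∈ P) :
    ∃ p q : Pt P, p ≠ q ∧ t ∈ p.1 ∧ t ∈ q.1 ∧ ∀ r : Pt P, t ∈ r.1 → r = p ∨ r = q := by
  obtain ⟨u, hu, htu⟩ := exists_adj h ht
  have h1 : IsPt P (K P t u) := ⟨t, ht, u, hu, htu, rfl⟩
  have h2 : IsPt P (K P t (t + u)) := ⟨t, ht, t + u, htu, by rwa [cancel h], rfl⟩
  refine ⟨⟨_, mem_pts.2 h1⟩, ⟨_, mem_pts.2 h2⟩, fun e => two_cliques h ht hu (congrArg Subtype.val e),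
    mem_K_left _ _ _, mem_K_left _ _ _, fun r hr => ?_⟩
  exact (points_at h ht hu htu r.isPt hr).imp Subtype.ext Subtype.ext

theorem edge_comm (p q : Pt P) : edge p q = edge q p := by
  by_cases e : p = q
  · rw [e]
  · obtain ⟨w, hp, hq⟩ := exists_meet h p.isPt q.isPt
    rw [edge_eq h e hp hq, edge_eq h (Ne.symm e) hq hp]

theorem edge_cocycle (p q r : Pt P) : edge p q + edge q r = edge p r := by
  by_cases e1 : p = q
  · subst e1; rw [edge, if_pos rfl, zero_add]
  by_cases e2 : q = r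
  · subst e2; rw [edge_comm h, show edge q q = 0 from if_pos rfl, add_zero, edge_comm h]
  by_cases e3 : p = r
  · subst e3; rw [edge_comm h q, h.two, show edge p p = 0 from if_pos rfl]
  obtain ⟨ht1, ht2, htP⟩ := edge_spec h e1
  obtain ⟨hu1, hu2, huP⟩ := edge_spec h e2
  set t := edge p q
  set u := edge q r
  have hne : t ≠ u := fun e => by
    obtain ⟨a, b, -, -, -, hall⟩ := two_points h htP
    rcases hall p ht1 with x1 | x1 <;> rcases hall q ht2 with x2 | x2 <;>
      rcases hall r (e ▸ hu2) with x3 | x3 <;>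
      first
        | exact e1 (x1.trans x2.symm)
        | exact e2 (x2.trans x3.symm)
        | exact e3 (x1.trans x3.symm)
  obtain ⟨-, -, htu, hK⟩ := two_members h q.isPt ht2 hu1 hne
  have hp : p.1 = K P t (t + u) :=
    (points_at h htP huP htu p.isPt ht1).resolve_left fun e => e1 (Subtype.ext (e.trans hK))
  have hr : r.1 = K P u (u + t) :=
    (points_at h huP htP (by rwa [add_comm]) r.isPt hu2).resolve_left fun e =>
      e2 (Subtype.ext ((K_comm P u t ▸ e).trans hK).symm)
  refine (edge_eq h e3 ?_ ?_).symm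
  · rw [hp]; exact mem_K_right _ _ _
  · rw [hr, add_comm t u]; exact mem_K_right _ _ _

theorem pts_nonempty : Nonempty (Pt P) := by
  obtain ⟨t, ht⟩ := card_pos.1 (show 0 < P.card by rw [h.card]; norm_num)
  obtain ⟨p, -⟩ := two_points h ht
  exact ⟨p⟩

/-- The base point. -/
noncomputable def base : Pt P := Classical.choice (pts_nonempty h)

/-- The sum over a set of points. -/
noncomputable def theta (S : Finset (Pt P)) : W := ∑ p ∈ S, edge (base h) p

theorem theta_pair {p q : Pt P} (hne : p ≠ q) : theta h {p, q} = edge p q := by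
  rw [theta, sum_pair hne, edge_comm h _ p, edge_cocycle h]

theorem theta_symmDiff (S T : Finset (Pt P)) : theta h (S ∆ T) = theta h S + theta h T := by
  rw [theta, theta, theta, ← sum_union_inter,
    show S ∪ T = (S ∆ T).disjUnion (S ∩ T) (disjoint_symmDiff_inf S T) by
      rw [disjUnion_eq_union]; exact (symmDiff_sup_inf S T).symm,
    sum_disjUnion, add_assoc, h.two, add_zero]

theorem theta_union {S T : Finset (Pt P)} (hd : Disjoint S T) : theta h (S ∪ T) = theta h S + theta h T :=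
  sum_union hd

theorem pair_mem {s : Finset (Pt P)} (hs : s.card = 2) :
    theta h s ∈ P ∧ ∀ p, p ∈ s ↔ theta h s ∈ p.1 := by
  obtain ⟨a, b, hab, rfl⟩ := card_eq_two.1 hs
  rw [theta_pair h hab]
  obtain ⟨ha, hb, hP⟩ := edge_spec h hab
  refine ⟨hP, fun p => ⟨fun hp => ?_, fun hp => ?_⟩⟩
  · simp only [mem_insert, mem_singleton] at hp
    rcases hp with rfl | rfl <;> assumption
  · obtain ⟨x, y, -, -, -, hall⟩ := two_points h hP
    simp only [mem_insert, mem_singleton]
    rcases hall p hp with x1 | x1 <;> rcases hall a ha with x2 | x2 <;> rcases hall b hb with x3 | x3 <;>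
      first
        | exact Or.inl (x1.trans x2.symm)
        | exact Or.inr (x1.trans x3.symm)
        | exact absurd (x2.trans x3.symm) hab

theorem pair_inj {s s' : Finset (Pt P)} (hs : s.card = 2) (hs' : s'.card = 2)
    (e : theta h s = theta h s') : s = s' :=
  Finset.ext fun p => by rw [(pair_mem h hs).2 p, (pair_mem h hs').2 p, e]

theorem pair_surj {t : W} (ht : t ∈ P) : ∃ s : Finset (Pt P), s.card = 2 ∧ theta h s = t := by
  obtain ⟨p, q, hne, hp, hq, -⟩ := two_points h ht
  exact ⟨{p, q}, card_pair hne, by rw [theta_pair h hne, edge_eq h hne hp hq]⟩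

theorem card_pts : Fintype.card (Pt P) = 24 := by
  have hb : (powersetCard 2 (univ : Finset (Pt P))).card = 276 := by
    rw [← h.card]
    refine card_bij (fun s _ => theta h s) (fun s hs => (pair_mem h (mem_powersetCard.1 hs).2).1)
      (fun s hs s' hs' => pair_inj h (mem_powersetCard.1 hs).2 (mem_powersetCard.1 hs').2) fun t ht => ?_
    obtain ⟨s, hs, e⟩ := pair_surj h ht
    exact ⟨s, mem_powersetCard.2 ⟨subset_univ _, hs⟩, e⟩
  rw [card_powersetCard, card_univ, Nat.choose_two_right] at hb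
  generalize Fintype.card (Pt P) = n at hb ⊢
  rcases lt_trichotomy n 24 with hn | hn | hn
  · have : n * (n - 1) ≤ 23 * 22 := Nat.mul_le_mul (by omega) (by omega)
    omega
  · exact hn
  · have : 25 * 24 ≤ n * (n - 1) := Nat.mul_le_mul (by omega) (by omega)
    omega

theorem four {S : Finset (Pt P)} (hS : S.card = 4) : theta h S ≠ 0 ∧ theta h S ∉ P := by
  obtain ⟨s, hsS, hs⟩ := exists_subset_card_eq (show 2 ≤ S.card by omega)
  have hs' : (S \ s).card = 2 := by rw [card_sdiff_of_subset hsS, hS, hs]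
  have hth : theta h S = theta h s + theta h (S \ s) := by
    rw [← theta_union h disjoint_sdiff, union_sdiff_of_subset hsS]
  obtain ⟨ha, hap⟩ := pair_mem h hs
  obtain ⟨hb, hbp⟩ := pair_mem h hs'
  refine ⟨fun e => ?_, fun hP => ?_⟩
  · have e' : theta h s = theta h (S \ s) := by
      by_contra hne
      exact sum_ne h hne (hth.symm.trans e)
    obtain ⟨p, hp⟩ := card_pos.1 (show 0 < s.card by omega)
    exact (mem_sdiff.1 ((pair_inj h hs hs' e') ▸ hp)).2 hp
  · rw [hth] at hP
    let k : Pt P := ⟨_, mem_pts.2 ⟨_, ha, _, hb, hP, rfl⟩⟩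
    exact (mem_sdiff.1 ((hbp k).2 (mem_K_right _ _ _))).2 ((hap k).2 (mem_K_left _ _ _))

theorem small {S : Finset (Pt P)} (he : Even S.card) (h6 : S.card ≤ 6) (h0 : theta h S = 0) : S = ∅ := by
  rw [← card_eq_zero]
  by_contra hne
  obtain ⟨m, hm⟩ := he
  rcases (show S.card = 2 ∨ S.card = 4 ∨ S.card = 6 by omega) with e | e | e
  · exact h.zero (h0 ▸ (pair_mem h e).1)
  · exact (four h e).1 h0
  · obtain ⟨s, hsS, hs⟩ := exists_subset_card_eq (show 2 ≤ S.card by omega)
    have hs' : (S \ s).card = 4 := by rw [card_sdiff_of_subset hsS, e, hs]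
    rw [← union_sdiff_of_subset hsS, theta_union h disjoint_sdiff] at h0
    refine (four h hs').2 ?_
    have : theta h (S \ s) = theta h s := by
      by_contra hne'
      exact sum_ne h (Ne.symm hne') h0
    rw [this]
    exact (pair_mem h hs).1

theorem even_symmDiff {S T : Finset (Pt P)} (hS : Even S.card) (hT : Even T.card) : Even (S ∆ T).card := by
  have h1 := card_union_add_card_inter S T
  have h2 : (S ∆ T).card + (S ∩ T).card = (S ∪ T).card := by
    rw [← card_union_of_disjoint (show Disjoint (S ∆ T) (S ∩ T) from disjoint_symmDiff_inf S T)]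
    exact congrArg Finset.card (symmDiff_sup_inf S T)
  obtain ⟨a, ha⟩ := hS
  obtain ⟨b, hb⟩ := hT
  exact ⟨a + b - (S ∩ T).card, by
    have := card_le_card (inter_subset_left : S ∩ T ⊆ S)
    have := card_le_card (inter_subset_right : S ∩ T ⊆ T)
    omega⟩

theorem card_symmDiff_le (S T : Finset (Pt P)) : (S ∆ T).card + 2 * (S ∩ T).card = S.card + T.card := by
  have h1 := card_union_add_card_inter S T
  have h2 : (S ∆ T).card + (S ∩ T).card = (S ∪ T).card := by
    rw [← card_union_of_disjoint (show Disjoint (S ∆ T) (S ∩ T) from disjoint_symmDiff_inf S T)]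
    exact congrArg Finset.card (symmDiff_sup_inf S T)
  omega

/-- The blocks. -/
def blocks : Set (Finset (Pt P)) := {S | S.card = 8 ∧ theta h S = 0}

/-- The tetrads with a given sum cover the points. -/
theorem tetrads {c : W} (hc0 : c ≠ 0) (hcP : c ∉ P) (p : Pt P) :
    ∃ T : Finset (Pt P), T.card = 4 ∧ theta h T = c ∧ p ∈ T := by
  set 𝒯 := (powersetCard 4 (univ : Finset (Pt P))).filter fun T => theta h T = c
  have hmem : ∀ {T}, T ∈ 𝒯 ↔ T.card = 4 ∧ theta h T = c := fun {T} => by
    rw [mem_filter, mem_powersetCard]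
    exact ⟨fun e => ⟨e.1.2, e.2⟩, fun e => ⟨⟨subset_univ _, e.1⟩, e.2⟩⟩
  have hcard : (𝒯.sigma fun T => powersetCard 2 T).card = 36 := by
    rw [← (h.pencil c hc0 hcP).1]
    refine card_bij (fun x _ => theta h x.2) ?_ ?_ ?_
    · rintro ⟨T, s⟩ hx
      obtain ⟨hT, hs⟩ := mem_sigma.1 hx
      obtain ⟨hsT, hs2⟩ := mem_powersetCard.1 hs
      obtain ⟨hT4, hTc⟩ := hmem.1 hT
      refine mem_filter.2 ⟨(pair_mem h hs2).1, ?_⟩
      have hu : theta h T = theta h s + theta h (T \ s) := by
        rw [← theta_union h disjoint_sdiff, union_sdiff_of_subset hsT]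
      rw [← hTc, hu, cancel h]
      exact (pair_mem h (show (T \ s).card = 2 by rw [card_sdiff_of_subset hsT, hT4, hs2])).1
    · rintro ⟨T, s⟩ hx ⟨T', s'⟩ hx' e
      obtain ⟨hT, hs⟩ := mem_sigma.1 hx
      obtain ⟨hT', hs'⟩ := mem_sigma.1 hx'
      obtain ⟨hsT, hs2⟩ := mem_powersetCard.1 hs
      obtain ⟨hsT', hs2'⟩ := mem_powersetCard.1 hs'
      obtain rfl : s = s' := pair_inj h hs2 hs2' e
      obtain ⟨hT4, hTc⟩ := hmem.1 hT
      obtain ⟨hT4', hTc'⟩ := hmem.1 hT'
      have hle : (T ∆ T').card ≤ 6 := by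
        have h1 := card_symmDiff_le h T T'
        have h2 : s.card ≤ (T ∩ T').card := card_le_card (subset_inter hsT hsT')
        change s.card = 2 at hs2
        change T.card = 4 at hT4
        change T'.card = 4 at hT4'
        omega
      have h0 := small h (even_symmDiff h (by rw [hT4]; decide) (by rw [hT4']; decide)) hle
        (by rw [theta_symmDiff, hTc, hTc', h.two])
      obtain rfl : T = T' := symmDiff_eq_bot.1 h0
      rfl
    · intro a ha
      obtain ⟨haP, hac⟩ := mem_filter.1 ha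
      obtain ⟨s, hs, hsa⟩ := pair_surj h haP
      obtain ⟨s', hs', hsb⟩ := pair_surj h hac
      have hd : Disjoint s s' := disjoint_left.2 fun k hk hk' => by
        have h1 := ((pair_mem h hs).2 k).1 hk
        have h2 := ((pair_mem h hs').2 k).1 hk'
        rw [hsa] at h1
        rw [hsb] at h2
        have h3 := (two_members h k.isPt h1 h2 fun e => hc0 (add_eq_left.1 e.symm)).2.2.1
        rw [cancel h] at h3
        exact hcP h3
      refine ⟨⟨s ∪ s', s⟩, mem_sigma.2 ⟨hmem.2 ⟨?_, ?_⟩, mem_powersetCard.2 ⟨subset_union_left, hs⟩⟩, hsa⟩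
      · rw [card_union_of_disjoint hd, hs, hs']
      · rw [theta_union h hd, hsa, hsb, cancel h]
  have h6 : 𝒯.card = 6 := by
    rw [card_sigma, sum_congr rfl fun T hT => show (powersetCard 2 T).card = 6 by
      rw [card_powersetCard, (hmem.1 hT).1]; rfl, sum_const, smul_eq_mul] at hcard
    omega
  have hdis : (𝒯 : Set (Finset (Pt P))).PairwiseDisjoint id := by
    intro T hT T' hT' hne
    obtain ⟨hT4, hTc⟩ := hmem.1 hT
    obtain ⟨hT4', hTc'⟩ := hmem.1 hT'
    refine disjoint_left.2 fun k hk hk' => hne (symmDiff_eq_bot.1 (small h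
      (even_symmDiff h (by rw [hT4]; decide) (by rw [hT4']; decide)) ?_
      (by rw [theta_symmDiff, hTc, hTc', h.two])))
    have h1 := card_symmDiff_le h T T'
    have h2 : 0 < (T ∩ T').card := card_pos.2 ⟨k, mem_inter.2 ⟨hk, hk'⟩⟩
    omega
  have huniv : 𝒯.biUnion id = univ := by
    refine eq_univ_of_card _ ?_
    rw [card_biUnion hdis, sum_congr rfl fun T hT => show (id T).card = 4 from (hmem.1 hT).1, sum_const, h6,
      card_pts h]
    rfl
  obtain ⟨T, hT, hp⟩ := mem_biUnion.1 (huniv.ge (mem_univ p))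
  exact ⟨T, (hmem.1 hT).1, (hmem.1 hT).2, hp⟩

theorem steiner : IsSteinerSystem 5 8 (blocks h) := by
  refine ⟨fun b hb => hb.1, fun F hF => ?_⟩
  obtain ⟨p, hp⟩ := card_pos.1 (show 0 < F.card by omega)
  have hT : (F.erase p).card = 4 := by rw [card_erase_of_mem hp, hF]
  obtain ⟨hc0, hcP⟩ := four h hT
  obtain ⟨T', hT', hTc, hpT⟩ := tetrads h hc0 hcP p
  have hd : Disjoint (F.erase p) T' := disjoint_left.2 fun k hk hk' => by
    have h1 := card_symmDiff_le h (F.erase p) T'
    have h2 : 0 < (F.erase p ∩ T').card := card_pos.2 ⟨k, mem_inter.2 ⟨hk, hk'⟩⟩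
    have h3 := small h (even_symmDiff h (by rw [hT]; decide) (by rw [hT']; decide)) (by omega)
      (by rw [theta_symmDiff, hTc, h.two])
    rw [← symmDiff_eq_bot.1 h3] at hpT
    exact (notMem_erase p F) hpT
  have hFsub : F ⊆ F.erase p ∪ T' := fun k hk => by
    by_cases e : k = p
    · exact mem_union_right _ (e ▸ hpT)
    · exact mem_union_left _ (mem_erase.2 ⟨e, hk⟩)
  refine ⟨F.erase p ∪ T', ⟨⟨?_, ?_⟩, hFsub⟩, fun b hb => ?_⟩
  · rw [card_union_of_disjoint hd, hT, hT']
  · rw [theta_union h hd, hTc, h.two]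
  · obtain ⟨⟨hb8, hb0⟩, hFb⟩ := hb
    have h1 := card_symmDiff_le h b (F.erase p ∪ T')
    have hu : (F.erase p ∪ T').card = 8 := by rw [card_union_of_disjoint hd, hT, hT']
    have h2 : 5 ≤ (b ∩ (F.erase p ∪ T')).card := hF ▸ card_le_card (subset_inter hFb hFsub)
    refine symmDiff_eq_bot.1 (small h (even_symmDiff h (by rw [hb8]; decide) (by rw [hu]; decide)) (by omega) ?_)
    rw [theta_symmDiff, hb0, theta_union h hd, hTc, h.two, zero_add]

/-! ### Symmetries -/

section Action

variable {N : Type*} [Group N] (ρ : N →* Equiv.Perm W) (hadd : ∀ n x y, ρ n (x + y) = ρ n x + ρ n y)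
  (hP : ∀ n, ∀ x ∈ P, ρ n x ∈ P)

include hadd hP in
theorem K_map (n : N) {t u w : W} (hw : w ∈ K P t u) : ρ n w ∈ K P (ρ n t) (ρ n u) := by
  simp only [K, mem_insert, mem_filter] at hw ⊢
  rcases hw with e | e | ⟨h1, h2, h3, h4⟩
  · exact Or.inl (e ▸ rfl)
  · exact Or.inr (Or.inl (e ▸ rfl))
  · exact Or.inr (Or.inr ⟨hP n _ h1, by rw [← hadd]; exact hP n _ h2, by rw [← hadd]; exact hP n _ h3,
      by rw [← hadd]; exact fun e => h4 ((ρ n).injective e)⟩)

include hadd hP in
theorem K_image (n : N) (t u : W) : (K P t u).image (ρ n) = K P (ρ n t) (ρ n u) := by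
  have hinv : ∀ x, ρ n⁻¹ (ρ n x) = x := fun x => by
    rw [← Equiv.Perm.mul_apply, ← map_mul, inv_mul_cancel, map_one]; rfl
  ext w
  refine ⟨fun hw => ?_, fun hw => mem_image.2 ⟨ρ n⁻¹ w, ?_, ?_⟩⟩
  · obtain ⟨v, hv, rfl⟩ := mem_image.1 hw
    exact K_map h ρ hadd hP n hv
  · have := K_map h ρ hadd hP n⁻¹ hw
    rwa [hinv, hinv] at this
  · rw [← Equiv.Perm.mul_apply, ← map_mul, mul_inv_cancel, map_one]; rfl

include hadd hP in
theorem pt_image (n : N) (p : Pt P) : p.1.image (ρ n) ∈ pts P := by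
  obtain ⟨t, ht, u, hu, htu, e⟩ := p.isPt
  exact mem_pts.2 ⟨ρ n t, hP n t ht, ρ n u, hP n u hu, by rw [← hadd]; exact hP n _ htu,
    by rw [← K_image h ρ hadd hP n, e]⟩

/-- The action on points. -/
def ptAct : N →* Equiv.Perm (Pt P) where
  toFun n :=
    { toFun := fun p => ⟨p.1.image (ρ n), pt_image h ρ hadd hP n p⟩
      invFun := fun p => ⟨p.1.image (ρ n⁻¹), pt_image h ρ hadd hP n⁻¹ p⟩
      left_inv := fun p => Subtype.ext (by
        show (p.1.image (ρ n)).image (ρ n⁻¹) = p.1
        rw [image_image, ← Equiv.Perm.coe_mul, ← map_mul, inv_mul_cancel, map_one, Equiv.Perm.coe_one, image_id])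
      right_inv := fun p => Subtype.ext (by
        show (p.1.image (ρ n⁻¹)).image (ρ n) = p.1
        rw [image_image, ← Equiv.Perm.coe_mul, ← map_mul, mul_inv_cancel, map_one, Equiv.Perm.coe_one, image_id]) }
  map_one' := Equiv.ext fun p => Subtype.ext (by
    show p.1.image (ρ 1) = p.1
    rw [map_one, Equiv.Perm.coe_one, image_id])
  map_mul' n m := Equiv.ext fun p => Subtype.ext (by
    show p.1.image (ρ (n * m)) = (p.1.image (ρ m)).image (ρ n)
    rw [image_image, ← Equiv.Perm.coe_mul, ← map_mul])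

include hadd in
theorem ρ_zero (n : N) : ρ n 0 = 0 := by
  have := hadd n 0 0
  rw [add_zero] at this
  exact left_eq_add.1 this

theorem edge_act (n : N) (p q : Pt P) :
    edge (ptAct h ρ hadd hP n p) (ptAct h ρ hadd hP n q) = ρ n (edge p q) := by
  by_cases e : p = q
  · subst e; rw [edge, if_pos rfl, edge, if_pos rfl, ρ_zero h ρ hadd]
  · obtain ⟨hp, hq, -⟩ := edge_spec h e
    exact edge_eq h (fun e' => e ((ptAct h ρ hadd hP n).injective e')) (mem_image_of_mem _ hp)
      (mem_image_of_mem _ hq)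

theorem theta_act (n : N) {S : Finset (Pt P)} (hS : Even S.card) :
    theta h (S.image (ptAct h ρ hadd hP n)) = ρ n (theta h S) := by
  have hstep : ∀ p, edge (base h) (ptAct h ρ hadd hP n p) =
      edge (base h) (ptAct h ρ hadd hP n (base h)) + ρ n (edge (base h) p) := fun p => by
    rw [← edge_act h ρ hadd hP, edge_cocycle h]
  rw [theta, sum_image fun x _ y _ e => (ptAct h ρ hadd hP n).injective e, sum_congr rfl fun p _ => hstep p,
    sum_add_distrib, sum_const]
  obtain ⟨m, hm⟩ := hS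
  rw [hm, add_smul, h.two, zero_add, theta]
  exact (map_sum (AddMonoidHom.mk' (ρ n) (hadd n)) _ S).symm

theorem ptAct_mem (n : N) : ptAct h ρ hadd hP n ∈ setSystemAut (blocks h) := by
  rw [MulAction.mem_stabilizer_set]
  intro b
  show b.image (ptAct h ρ hadd hP n) ∈ blocks h ↔ b ∈ blocks h
  simp only [blocks, Set.mem_ofPred_eq, card_image_of_injective _ (ptAct h ρ hadd hP n).injective]
  refine and_congr_right fun hb => ?_
  rw [theta_act h ρ hadd hP n (by rw [hb]; decide)]
  exact ⟨fun e => (ρ n).injective (e.trans (ρ_zero h ρ hadd n).symm), fun e => by rw [e, ρ_zero h ρ hadd]⟩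

/-- The map to the automorphisms. -/
def autHom : N →* setSystemAut (blocks h) :=
  (ptAct h ρ hadd hP).codRestrict _ (ptAct_mem h ρ hadd hP)

theorem pair_fix (n : N) {s : Finset (Pt P)} (hs : s.card = 2) :
    s.image (ptAct h ρ hadd hP n) = s ↔ ρ n (theta h s) = theta h s := by
  rw [← theta_act h ρ hadd hP n (by rw [hs]; decide)]
  exact ⟨fun e => by rw [e], fun e =>
    pair_inj h (by rw [card_image_of_injective _ (ptAct h ρ hadd hP n).injective, hs]) hs e⟩

theorem autHom_ker (n : N) : autHom h ρ hadd hP n = 1 ↔ ρ n = 1 := by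
  constructor
  · intro e
    have e' : ptAct h ρ hadd hP n = 1 := congrArg Subtype.val e
    have hfix : ∀ t ∈ P, ρ n t = t := fun t ht => by
      obtain ⟨s, hs, rfl⟩ := pair_surj h ht
      exact (pair_fix h ρ hadd hP n hs).1 (by rw [e', Equiv.Perm.coe_one, image_id])
    refine Equiv.ext fun c => ?_
    show ρ n c = c
    by_cases hc : c ∈ P
    · exact hfix c hc
    by_cases hc0 : c = 0
    · rw [hc0, ρ_zero h ρ hadd]
    obtain ⟨a, ha⟩ := card_pos.1 (show 0 < (Sc P c).card by rw [(h.pencil c hc0 hc).1]; norm_num)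
    obtain ⟨ha1, ha2⟩ := mem_filter.1 ha
    conv_lhs => rw [← cancel h a c, hadd, hfix a ha1, hfix _ ha2]
    exact cancel h a c
  · intro e
    refine Subtype.ext (Equiv.ext fun p => Subtype.ext ?_)
    show p.1.image (ρ n) = p.1
    rw [e, Equiv.Perm.coe_one, image_id]

end Action

end Cfsg.Agent.LargeExtra.PairGraph
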